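import Mathlib
import Cfsg.Prelude.Def_GeometricClasses

/-!
# The standard group `4 ∘ 2^{1+4}` in `GL₄(F)` (two-qubit Pauli group) : definitions

`pw v` (`v : V4 = (ZMod 2)^4`) is the Pauli word `X1^a Z1^b X2^c Z2^d`; `R0 i hi` is the group
`{i^k • pw v}` (order 64), `N0 i hi` its normalizer in `GL₄(F)`.
-/

set_option autoImplicit false
open scoped MatrixGroups

namespace Cfsg.Agent.Helper99.P4

open Matrix

abbrev V4 := ZMod 2 × ZMod 2 × ZMod 2 × ZMod 2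

variable {F : Type*} [Field F]

def mX1 : Matrix (Fin 4) (Fin 4) F := !![0,0,1,0; 0,0,0,1; 1,0,0,0; 0,1,0,0]
def mZ1 : Matrix (Fin 4) (Fin 4) F := !![1,0,0,0; 0,1,0,0; 0,0,-1,0; 0,0,0,-1]
def mX2 : Matrix (Fin 4) (Fin 4) F := !![0,1,0,0; 1,0,0,0; 0,0,0,1; 0,0,1,0]
def mZ2 : Matrix (Fin 4) (Fin 4) F := !![1,0,0,0; 0,-1,0,0; 0,0,1,0; 0,0,0,-1]

/-- the Pauli word `X1^a Z1^b X2^c Z2^d` -/
def pw (v : V4) : Matrix (Fin 4) (Fin 4) F :=
  mX1 ^ v.1.val * mZ1 ^ v.2.1.val * mX2 ^ v.2.2.1.val * mZ2 ^ v.2.2.2.val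

/-- the sign `(-1)^t` -/
def sg (t : ZMod 2) : F := if t = 0 then 1 else -1

/-- the commutator pairing on `V4` -/
def bil (u v : V4) : ZMod 2 := u.1 * v.2.1 + u.2.1 * v.1 + u.2.2.1 * v.2.2.2 + u.2.2.2 * v.2.2.1

/-- the product cocycle on `V4` -/
def eps (u v : V4) : ZMod 2 := u.2.1 * v.1 + u.2.2.2 * v.2.2.1

section rel

theorem mX1_sq : (mX1 : Matrix (Fin 4) (Fin 4) F) * mX1 = 1 := by
  ext i j; fin_cases i <;> fin_cases j <;> simp [mX1, Matrix.mul_apply, Fin.sum_univ_four]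
theorem mZ1_sq : (mZ1 : Matrix (Fin 4) (Fin 4) F) * mZ1 = 1 := by
  ext i j; fin_cases i <;> fin_cases j <;> simp [mZ1, Matrix.mul_apply, Fin.sum_univ_four]
theorem mX2_sq : (mX2 : Matrix (Fin 4) (Fin 4) F) * mX2 = 1 := by
  ext i j; fin_cases i <;> fin_cases j <;> simp [mX2, Matrix.mul_apply, Fin.sum_univ_four]
theorem mZ2_sq : (mZ2 : Matrix (Fin 4) (Fin 4) F) * mZ2 = 1 := by
  ext i j; fin_cases i <;> fin_cases j <;> simp [mZ2, Matrix.mul_apply, Fin.sum_univ_four]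
theorem mZ1_mX1 : (mZ1 : Matrix (Fin 4) (Fin 4) F) * mX1 = -(mX1 * mZ1) := by
  ext i j; fin_cases i <;> fin_cases j <;> simp [mX1, mZ1, Matrix.mul_apply, Fin.sum_univ_four]
theorem mZ2_mX2 : (mZ2 : Matrix (Fin 4) (Fin 4) F) * mX2 = -(mX2 * mZ2) := by
  ext i j; fin_cases i <;> fin_cases j <;> simp [mX2, mZ2, Matrix.mul_apply, Fin.sum_univ_four]
theorem mX1_mX2 : (mX2 : Matrix (Fin 4) (Fin 4) F) * mX1 = mX1 * mX2 := by
  ext i j; fin_cases i <;> fin_cases j <;> simp [mX1, mX2, Matrix.mul_apply, Fin.sum_univ_four]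
theorem mX1_mZ2 : (mZ2 : Matrix (Fin 4) (Fin 4) F) * mX1 = mX1 * mZ2 := by
  ext i j; fin_cases i <;> fin_cases j <;> simp [mX1, mZ2, Matrix.mul_apply, Fin.sum_univ_four]
theorem mZ1_mX2 : (mX2 : Matrix (Fin 4) (Fin 4) F) * mZ1 = mZ1 * mX2 := by
  ext i j; fin_cases i <;> fin_cases j <;> simp [mZ1, mX2, Matrix.mul_apply, Fin.sum_univ_four]
theorem mZ1_mZ2 : (mZ2 : Matrix (Fin 4) (Fin 4) F) * mZ1 = mZ1 * mZ2 := by
  ext i j; fin_cases i <;> fin_cases j <;> simp [mZ1, mZ2, Matrix.mul_apply, Fin.sum_univ_four]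

end rel

section basic

def A1 (a b : ZMod 2) : Matrix (Fin 4) (Fin 4) F := mX1 ^ a.val * mZ1 ^ b.val
def A2 (c d : ZMod 2) : Matrix (Fin 4) (Fin 4) F := mX2 ^ c.val * mZ2 ^ d.val

theorem pw_eq (v : V4) : (pw v : Matrix (Fin 4) (Fin 4) F) = A1 v.1 v.2.1 * A2 v.2.2.1 v.2.2.2 := by
  simp only [pw, A1, A2, Matrix.mul_assoc]

theorem A2_A1 (a b c d : ZMod 2) : (A2 c d : Matrix (Fin 4) (Fin 4) F) * A1 a b = A1 a b * A2 c d := by
  have h1 : Commute (mX2 : Matrix (Fin 4) (Fin 4) F) mX1 := mX1_mX2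
  have h2 : Commute (mX2 : Matrix (Fin 4) (Fin 4) F) mZ1 := mZ1_mX2
  have h3 : Commute (mZ2 : Matrix (Fin 4) (Fin 4) F) mX1 := mX1_mZ2
  have h4 : Commute (mZ2 : Matrix (Fin 4) (Fin 4) F) mZ1 := mZ1_mZ2
  exact (((h1.pow_pow _ _).mul_right (h2.pow_pow _ _)).mul_left
    ((h3.pow_pow _ _).mul_right (h4.pow_pow _ _)))

theorem zmod2_cases (x : ZMod 2) : x = 0 ∨ x = 1 := by revert x; decide
theorem z2_11 : (1 : ZMod 2) + 1 = 0 := by decide
theorem z2_10 : (1 : ZMod 2) ≠ 0 := by decide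
theorem z2_v1 : (1 : ZMod 2).val = 1 := by decide
theorem z2_v0 : (0 : ZMod 2).val = 0 := by decide

theorem sg_zero : (sg 0 : F) = 1 := by simp [sg]
theorem sg_one : (sg 1 : F) = -1 := by simp [sg, z2_10]

theorem sg_add (x y : ZMod 2) : (sg (x + y) : F) = sg x * sg y := by
  rcases zmod2_cases x with rfl | rfl <;> rcases zmod2_cases y with rfl | rfl <;>
    simp [sg_zero, sg_one, z2_11]

theorem sg_mul_self (x : ZMod 2) : (sg x : F) * sg x = 1 := by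
  rcases zmod2_cases x with rfl | rfl <;> simp [sg_zero, sg_one]

theorem sg_eq (x : ZMod 2) : (sg x : F) = 1 ∨ (sg x : F) = -1 := by
  rcases zmod2_cases x with rfl | rfl <;> simp [sg_zero, sg_one]

theorem A1_mul (a b a' b' : ZMod 2) :
    (A1 a b : Matrix (Fin 4) (Fin 4) F) * A1 a' b' = (sg (b * a') : F) • A1 (a + a') (b + b') := by
  rcases zmod2_cases a with rfl | rfl <;> rcases zmod2_cases b with rfl | rfl <;>
  rcases zmod2_cases a' with rfl | rfl <;> rcases zmod2_cases b' with rfl | rfl <;>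
  simp only [A1, z2_v0, z2_v1, z2_11, pow_zero, pow_one, mul_zero, mul_one, one_mul, add_zero, zero_add,
    sg_zero, sg_one, one_smul] <;>
  (ext i j; fin_cases i <;> fin_cases j <;>
    simp [mX1, mZ1, Matrix.mul_apply, Fin.sum_univ_four])

theorem A2_mul (a b a' b' : ZMod 2) :
    (A2 a b : Matrix (Fin 4) (Fin 4) F) * A2 a' b' = (sg (b * a') : F) • A2 (a + a') (b + b') := by
  rcases zmod2_cases a with rfl | rfl <;> rcases zmod2_cases b with rfl | rfl <;>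
  rcases zmod2_cases a' with rfl | rfl <;> rcases zmod2_cases b' with rfl | rfl <;>
  simp only [A2, z2_v0, z2_v1, z2_11, pow_zero, pow_one, mul_zero, mul_one, one_mul, add_zero, zero_add,
    sg_zero, sg_one, one_smul] <;>
  (ext i j; fin_cases i <;> fin_cases j <;>
    simp [mX2, mZ2, Matrix.mul_apply, Fin.sum_univ_four])

/-- product rule for Pauli words -/
theorem pw_mul (u v : V4) :
    (pw u : Matrix (Fin 4) (Fin 4) F) * pw v = (sg (eps u v) : F) • pw (u + v) := by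
  rw [pw_eq, pw_eq, pw_eq]
  have h : (A1 u.1 u.2.1 * A2 u.2.2.1 u.2.2.2 : Matrix (Fin 4) (Fin 4) F) *
      (A1 v.1 v.2.1 * A2 v.2.2.1 v.2.2.2)
      = (A1 u.1 u.2.1 * A1 v.1 v.2.1) * (A2 u.2.2.1 u.2.2.2 * A2 v.2.2.1 v.2.2.2) := by
    rw [Matrix.mul_assoc, ← Matrix.mul_assoc (A2 _ _), A2_A1]
    simp only [Matrix.mul_assoc]
  rw [h, A1_mul, A2_mul, Matrix.smul_mul, Matrix.mul_smul, smul_smul, ← sg_add]
  rfl

theorem pw_zero : (pw 0 : Matrix (Fin 4) (Fin 4) F) = 1 := by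
  simp [pw]

theorem eps_add_eps (u v : V4) : eps u v + eps v u = bil u v := by
  simp only [eps, bil]; ring

/-- commutation rule for Pauli words -/
theorem pw_comm (u v : V4) :
    (pw u : Matrix (Fin 4) (Fin 4) F) * pw v = (sg (bil u v) : F) • (pw v * pw u) := by
  rw [pw_mul, pw_mul v u, smul_smul, ← eps_add_eps, sg_add, mul_assoc, sg_mul_self, mul_one,
    add_comm v u]

theorem add_self_V4 (v : V4) : v + v = 0 := by
  revert v; decide

theorem pw_mul_self (v : V4) :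
    (pw v : Matrix (Fin 4) (Fin 4) F) * pw v = (sg (eps v v) : F) • 1 := by
  rw [pw_mul, add_self_V4, pw_zero]

theorem pw_mul_inv (v : V4) :
    (pw v : Matrix (Fin 4) (Fin 4) F) * ((sg (eps v v) : F) • pw v) = 1 := by
  rw [Matrix.mul_smul, pw_mul_self, smul_smul, sg_mul_self, one_smul]

theorem pw_inv_mul (v : V4) :
    ((sg (eps v v) : F) • pw v) * (pw v : Matrix (Fin 4) (Fin 4) F) = 1 := by
  rw [Matrix.smul_mul, pw_mul_self, smul_smul, sg_mul_self, one_smul]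

/-- Pauli words as elements of `GL₄(F)` -/
def pwG (v : V4) : GL (Fin 4) F := ⟨pw v, (sg (eps v v) : F) • pw v, pw_mul_inv v, pw_inv_mul v⟩

@[simp] theorem pwG_val (v : V4) : ((pwG v : GL (Fin 4) F) : Matrix (Fin 4) (Fin 4) F) = pw v := rfl

end basic

section group

theorem i_pow_four {i : F} (hi : i ^ 2 = -1) : i ^ 4 = 1 := by
  have : i ^ 4 = (i ^ 2) ^ 2 := by ring
  rw [this, hi]; ring

theorem sg_eq_pow {i : F} (hi : i ^ 2 = -1) (t : ZMod 2) : (sg t : F) = i ^ (2 * t.val) := by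
  rcases zmod2_cases t with rfl | rfl
  · simp [sg_zero, z2_v0]
  · simp [sg_one, z2_v1, hi]

/-- the standard group `4 ∘ 2^{1+4}` : all `i^k • pw v` -/
def R0 (i : F) (hi : i ^ 2 = -1) : Subgroup (GL (Fin 4) F) where
  carrier := {g | ∃ (k : ℕ) (v : V4), (g : Matrix (Fin 4) (Fin 4) F) = i ^ k • pw v}
  one_mem' := ⟨0, 0, by simp [pw_zero]⟩
  mul_mem' := by
    rintro a b ⟨k, u, ha⟩ ⟨l, v, hb⟩
    refine ⟨k + l + 2 * (eps u v).val, u + v, ?_⟩
    rw [Units.val_mul, ha, hb, Matrix.smul_mul, Matrix.mul_smul, pw_mul, smul_smul, smul_smul,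
      sg_eq_pow hi, ← pow_add, ← pow_add]
  inv_mem' := by
    rintro a ⟨k, u, ha⟩
    refine ⟨3 * k + 2 * (eps u u).val, u, ?_⟩
    have h1 : (a : Matrix (Fin 4) (Fin 4) F) * (i ^ (3 * k + 2 * (eps u u).val) • pw u) = 1 := by
      rw [ha, Matrix.smul_mul, Matrix.mul_smul, pw_mul_self, smul_smul, smul_smul, pow_add,
        ← sg_eq_pow hi]
      have : i ^ k * (i ^ (3 * k) * sg (eps u u)) * sg (eps u u) = 1 := by
        rw [mul_assoc, mul_assoc (i ^ (3 * k)), sg_mul_self, mul_one, ← pow_add]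
        have : k + 3 * k = 4 * k := by ring
        rw [this, pow_mul, i_pow_four hi, one_pow]
      rw [this, one_smul]
    have h2 : ((a⁻¹ : GL (Fin 4) F) : Matrix (Fin 4) (Fin 4) F) =
        ((a⁻¹ : GL (Fin 4) F) : Matrix (Fin 4) (Fin 4) F) *
          ((a : Matrix (Fin 4) (Fin 4) F) * (i ^ (3 * k + 2 * (eps u u).val) • pw u)) := by
      rw [h1, Matrix.mul_one]
    rw [h2, ← Matrix.mul_assoc, ← Units.val_mul, inv_mul_cancel, Units.val_one, Matrix.one_mul]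

theorem mem_R0_iff {i : F} (hi : i ^ 2 = -1) (g : GL (Fin 4) F) :
    g ∈ R0 i hi ↔ ∃ (k : ℕ) (v : V4), (g : Matrix (Fin 4) (Fin 4) F) = i ^ k • pw v := Iff.rfl

/-- the normalizer of the standard group -/
def N0 (i : F) (hi : i ^ 2 = -1) : Subgroup (GL (Fin 4) F) := Cfsg.Geo.subgroupNormalizer (R0 i hi)

theorem pwG_mem_R0 {i : F} (hi : i ^ 2 = -1) (v : V4) : (pwG v : GL (Fin 4) F) ∈ R0 i hi :=
  ⟨0, v, by simp⟩

end group

section explicit

/-- controlled-Z -/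
def CZm : Matrix (Fin 4) (Fin 4) F := !![1,0,0,0; 0,1,0,0; 0,0,1,0; 0,0,0,-1]
/-- `M0 ⊗ M0`, `M0 = !![1,1; i,-i]` (cube `= 8 i`, trace `-2 i`) -/
def MMm (i : F) : Matrix (Fin 4) (Fin 4) F := !![1,1,1,1; i,-i,i,-i; i,i,-i,-i; -1,1,1,-1]
/-- `M0 ⊗ 1` (cube `= 2 + 2 i`, trace `2 - 2 i`) -/
def M1m (i : F) : Matrix (Fin 4) (Fin 4) F := !![1,0,1,0; 0,1,0,1; i,0,-i,0; 0,i,0,-i]
/-- a Clifford element of order 5 mod scalars (fifth power `= 32 i`, trace `-2 i`) -/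
def G5m (i : F) : Matrix (Fin 4) (Fin 4) F := !![1,1,i,-i; 1,-1,i,i; 1,1,-i,i; 1,-1,-i,-i]

end explicit

/-- the abstract properties of a subgroup `R ≤ GL₄(F)` of shape `4 ∘ 2^{1+4}` used for the normal
form -/
structure IsPauliLike (i : F) (R : Subgroup (GL (Fin 4) F)) : Prop where
  i_mem : ∃ g ∈ R, (g : Matrix (Fin 4) (Fin 4) F) = i • 1
  sq : ∀ g ∈ R, (g : Matrix (Fin 4) (Fin 4) F) * g = 1 ∨ (g : Matrix (Fin 4) (Fin 4) F) * g = -1
  comm : ∀ g ∈ R, ∀ h ∈ R, (g : Matrix (Fin 4) (Fin 4) F) * h = h * g ∨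
    (g : Matrix (Fin 4) (Fin 4) F) * h = -((h : Matrix (Fin 4) (Fin 4) F) * g)
  scalar : ∀ g ∈ R, ∀ z : F, (g : Matrix (Fin 4) (Fin 4) F) = z • 1 → z ^ 4 = 1
  commutant : ∀ M : Matrix (Fin 4) (Fin 4) F,
    (∀ g ∈ R, M * (g : Matrix (Fin 4) (Fin 4) F) = g * M) → ∃ c : F, M = c • 1

end Cfsg.Agent.Helper99.P4
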