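import Mathlib

set_option autoImplicit false

namespace Cfsg.Agent.Helper99.SemiCompl

open Module Polynomial

variable {F V : Type*} [Field F] [AddCommGroup V] [Module F V]

/-- an endomorphism with `f^r = c`, `c ≠ 0`, `r ≠ 0` in `F`, is semisimple: invariant subspaces
have invariant complements. -/
theorem exists_invariant_compl (r : ℕ) (hr : (r : F) ≠ 0) (f : Module.End F V) (c : F) (hc : c ≠ 0)
    (hf : f ^ r = c • (1 : Module.End F V)) (U : Submodule F V) (hU : U.map f ≤ U) :
    ∃ W : Submodule F V, IsCompl U W ∧ W.map f ≤ W := by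
  have hsep : (X ^ r - C c : F[X]).Separable := separable_X_pow_sub_C c hr hc
  have haeval : aeval f (X ^ r - C c : F[X]) = 0 := by
    rw [map_sub, map_pow, aeval_X, aeval_C, hf, Algebra.algebraMap_eq_smul_one, sub_self]
  have hss : f.IsSemisimple :=
    Module.End.isSemisimple_of_squarefree_aeval_eq_zero hsep.squarefree haeval
  rw [Module.End.isSemisimple_iff] at hss
  have hU' : U ∈ Module.End.invtSubmodule f := by
    rw [Module.End.mem_invtSubmodule]
    exact Submodule.map_le_iff_le_comap.mp hU
  obtain ⟨W, hW, hcompl⟩ := hss U hU'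
  refine ⟨W, hcompl, ?_⟩
  rw [Module.End.mem_invtSubmodule] at hW
  exact Submodule.map_le_iff_le_comap.mpr hW

end Cfsg.Agent.Helper99.SemiCompl
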