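import Mathlib

set_option autoImplicit false

namespace Cfsg.Agent.Helper99

open Module LinearMap

section Core
variable {F V : Type*} [Field F] [AddCommGroup V] [Module F V]

/-- the orthogonal of an invariant subspace is invariant (isometry with scalar square) -/
theorem orthogonal_invt (B : LinearMap.BilinForm F V) (X : V →ₗ[F] V) (z : F) (hz : z ≠ 0)
    (hXB : ∀ u v, B (X u) (X v) = B u v) (hXX : ∀ v, X (X v) = z • v)
    {C : Submodule F V} (hC : C ∈ Module.End.invtSubmodule X) :
    B.orthogonal C ∈ Module.End.invtSubmodule X := by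
  rw [Module.End.mem_invtSubmodule] at hC ⊢
  intro m hm
  rw [Submodule.mem_comap, LinearMap.BilinForm.mem_orthogonal_iff]
  intro n hn
  have h1 : n = X (z⁻¹ • X n) := by
    rw [map_smul, hXX, smul_smul, inv_mul_cancel₀ hz, one_smul]
  rw [h1, hXB]
  exact hm _ (C.smul_mem _ (hC hn))

/-- relative nondegeneracy passes to the orthogonal of a nondegenerate piece -/
theorem nondeg_inf_orthogonal [FiniteDimensional F V] (B : LinearMap.BilinForm F V) (hB : B.IsRefl)
    {C M : Submodule F V} (hCM : C ≤ M) (hC : Disjoint C (B.orthogonal C))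
    (hM : Disjoint M (B.orthogonal M)) :
    Disjoint (M ⊓ B.orthogonal C) (B.orthogonal (M ⊓ B.orthogonal C)) := by
  have hcompl : IsCompl C (B.orthogonal C) :=
    (LinearMap.BilinForm.isCompl_orthogonal_iff_disjoint hB).mpr hC
  rw [Submodule.disjoint_def] at hM ⊢
  intro u hu1 hu2
  obtain ⟨huM, huC⟩ := Submodule.mem_inf.mp hu1
  apply hM u huM
  rw [LinearMap.BilinForm.mem_orthogonal_iff]
  intro m hm
  have hmtop : m ∈ C ⊔ B.orthogonal C := by rw [hcompl.sup_eq_top]; trivial
  obtain ⟨c, hc, m', hm', rfl⟩ := Submodule.mem_sup.mp hmtop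
  have hm'M : m' ∈ M := by
    have : m' = (c + m') - c := by abel
    rw [this]
    exact M.sub_mem hm (hCM hc)
  rw [map_add, LinearMap.add_apply]
  rw [LinearMap.BilinForm.mem_orthogonal_iff] at huC hu2
  rw [huC c hc, hu2 m' (Submodule.mem_inf.mpr ⟨hm'M, hm'⟩), add_zero]

/-- Orthogonal splitting induction: an additive predicate that holds on some nonzero invariant
nondegenerate piece of every nonzero invariant nondegenerate subspace holds on all invariant
nondegenerate subspaces. -/
theorem orth_induction [FiniteDimensional F V] (B : LinearMap.BilinForm F V) (hB : B.IsRefl)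
    (X : V →ₗ[F] V) (z : F) (hz : z ≠ 0)
    (hXB : ∀ u v, B (X u) (X v) = B u v) (hXX : ∀ v, X (X v) = z • v)
    (Pr : Submodule F V → Prop) (h0 : Pr ⊥)
    (hadd : ∀ M₁ M₂ : Submodule F V, Pr M₁ → Pr M₂ → (∀ u ∈ M₁, ∀ v ∈ M₂, B u v = 0) →
      Disjoint M₁ M₂ → Pr (M₁ ⊔ M₂))
    (hatom : ∀ M : Submodule F V, M ∈ Module.End.invtSubmodule X → Disjoint M (B.orthogonal M) →
      M ≠ ⊥ → ∃ C : Submodule F V, C ≤ M ∧ C ≠ ⊥ ∧ C ∈ Module.End.invtSubmodule X ∧
        Disjoint C (B.orthogonal C) ∧ Pr C) :
    ∀ M : Submodule F V, M ∈ Module.End.invtSubmodule X → Disjoint M (B.orthogonal M) → Pr M := by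
  have key : ∀ d : ℕ, ∀ M : Submodule F V, finrank F M = d → M ∈ Module.End.invtSubmodule X →
      Disjoint M (B.orthogonal M) → Pr M := by
    intro d
    induction d using Nat.strong_induction_on with
    | _ d ih =>
      intro M hd hMinv hMnd
      by_cases hbot : M = ⊥
      · rw [hbot]; exact h0
      obtain ⟨C, hCM, hCbot, hCinv, hCnd, hPC⟩ := hatom M hMinv hMnd hbot
      have hcompl : IsCompl C (B.orthogonal C) :=
        (LinearMap.BilinForm.isCompl_orthogonal_iff_disjoint hB).mpr hCnd
      set M' := M ⊓ B.orthogonal C with hM'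
      have hM'inv : M' ∈ Module.End.invtSubmodule X :=
        Module.End.invtSubmodule.inf_mem hMinv (orthogonal_invt B X z hz hXB hXX hCinv)
      have hM'nd : Disjoint M' (B.orthogonal M') := nondeg_inf_orthogonal B hB hCM hCnd hMnd
      have hsup : C ⊔ M' = M := by
        rw [hM', inf_comm, ← sup_inf_assoc_of_le _ hCM, hcompl.sup_eq_top, top_inf_eq]
      have hdisj : Disjoint C M' := Disjoint.mono_right inf_le_right hcompl.disjoint
      have hfr := Submodule.finrank_sup_add_finrank_inf_eq C M'
      rw [hsup, hdisj.eq_bot, finrank_bot, add_zero, hd] at hfr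
      have hCpos : 1 ≤ finrank F C := Submodule.one_le_finrank_iff.mpr hCbot
      have hlt : finrank F M' < d := by omega
      have hPM' := ih _ hlt M' rfl hM'inv hM'nd
      rw [← hsup]
      refine hadd C M' hPC hPM' ?_ hdisj
      intro u hu v hv
      have := (Submodule.mem_inf.mp hv).2
      rw [LinearMap.BilinForm.mem_orthogonal_iff] at this
      exact this u hu
  intro M
  exact key _ M rfl

end Core

end Cfsg.Agent.Helper99
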