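import Mathlib
import Cfsg.Agent.Helper59.ElusiveCyc

set_option autoImplicit false

/-!
# Endomorphisms with `y ^ r = 1` permuting the summands of a direct decomposition: basic tools
-/

namespace Cfsg.Agent.Helper99.RDecomp

open Module Polynomial
open Cfsg.Agent.Helper59.InvChain Cfsg.Agent.Helper59.Elusive

universe u v

variable {F : Type u} [Field F] {V : Type v} [AddCommGroup V] [Module F V]

/-- the averaging operator `T = 1 + y + ... + y^(r-1)` -/
noncomputable def avg (r : ℕ) (y : Module.End F V) : Module.End F V := ∑ k ∈ Finset.range r, y ^ k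

theorem avg_apply (r : ℕ) (y : Module.End F V) (v : V) :
    avg r y v = ∑ k ∈ Finset.range r, (y ^ k) v := by
  unfold avg
  rw [LinearMap.sum_apply]

theorem mul_avg (r : ℕ) (y : Module.End F V) (hy : y ^ r = 1) : y * avg r y = avg r y := by
  unfold avg
  rw [Finset.mul_sum]
  have h1 : ∀ k ∈ Finset.range r, y * y ^ k = y ^ (k + 1) := fun k _ => (pow_succ' y k).symm
  rw [Finset.sum_congr rfl h1]
  cases r with
  | zero => simp
  | succ r =>
    rw [Finset.sum_range_succ, Finset.sum_range_succ', hy, pow_zero]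

theorem avg_mem_fixSp (r : ℕ) (y : Module.End F V) (hy : y ^ r = 1) (v : V) :
    avg r y v ∈ fixSp y := by
  rw [mem_fixSp, ← Module.End.mul_apply, mul_avg r y hy]

theorem avg_of_mem_fixSp (r : ℕ) (y : Module.End F V) {v : V} (hv : v ∈ fixSp y) :
    avg r y v = (r : F) • v := by
  rw [avg_apply]
  have h1 : ∀ k, (y ^ k) v = v := by
    intro k
    induction k with
    | zero => simp
    | succ k ih => rw [pow_succ, Module.End.mul_apply, mem_fixSp.mp hv, ih]
  rw [Finset.sum_congr rfl (fun k _ => h1 k), Finset.sum_const, Finset.card_range,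
    Nat.cast_smul_eq_nsmul]

theorem avg_pow_mul (r : ℕ) (y : Module.End F V) (hy : y ^ r = 1) (k : ℕ) :
    avg r y * y ^ k = avg r y := by
  have hc : Commute (avg r y) y := by
    unfold avg
    apply Commute.sum_left
    intro j _
    exact (Commute.pow_self y j)
  induction k with
  | zero => simp
  | succ k ih =>
    rw [pow_succ, ← mul_assoc, ih, hc.eq, mul_avg r y hy]

theorem avg_mem_of_inv (r : ℕ) (y : Module.End F V) {S : Submodule F V} (hS : Inv y S) {v : V}
    (hv : v ∈ S) : avg r y v ∈ S := by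
  rw [avg_apply]
  apply Submodule.sum_mem
  intro k _
  have h : ∀ k, (y ^ k) v ∈ S := by
    intro k
    induction k with
    | zero => simpa using hv
    | succ k ih =>
      rw [pow_succ', Module.End.mul_apply]
      exact hS.apply_mem ih
  exact h k

/-- for an invariant subspace `S`, `S ⊓ Fix = T(S)` -/
theorem inf_fixSp_eq_map_avg (r : ℕ) (hr : (r : F) ≠ 0) (y : Module.End F V) (hy : y ^ r = 1)
    {S : Submodule F V} (hS : Inv y S) : S ⊓ fixSp y = S.map (avg r y) := by
  apply le_antisymm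
  · rintro v ⟨hvS, hvF⟩
    refine ⟨(r : F)⁻¹ • v, S.smul_mem _ hvS, ?_⟩
    rw [map_smul, avg_of_mem_fixSp r y hvF, smul_smul, inv_mul_cancel₀ hr, one_smul]
  · rintro _ ⟨v, hv, rfl⟩
    exact ⟨avg_mem_of_inv r y hS hv, avg_mem_fixSp r y hy v⟩


section finrank

variable [FiniteDimensional F V] {ι : Type*} [DecidableEq ι]

theorem finrank_biSup (D : ι → Submodule F V) (hind : iSupIndep D) (s : Finset ι) :
    finrank F ↥(⨆ i ∈ s, D i) = ∑ i ∈ s, finrank F ↥(D i) := by
  induction s using Finset.induction_on with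
  | empty => simp
  | insert i s hi ih =>
    rw [Finset.iSup_insert, Finset.sum_insert hi, ← ih]
    have hdis : Disjoint (D i) (⨆ j ∈ s, D j) := by
      have := hind.disjoint_biSup (x := i) (y := (s : Set ι)) (by simpa using hi)
      simpa using this
    have := Submodule.finrank_sup_add_finrank_inf_eq (D i) (⨆ j ∈ s, D j)
    rw [hdis.eq_bot, finrank_bot, add_zero] at this
    exact this

theorem finrank_sup_of_disjoint {A B : Submodule F V} (h : Disjoint A B) :
    finrank F ↥(A ⊔ B) = finrank F ↥A + finrank F ↥B := by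
  have := Submodule.finrank_sup_add_finrank_inf_eq A B
  rw [h.eq_bot, finrank_bot, add_zero] at this
  exact this

end finrank



section perm

variable {ι : Type*} (y : Module.End F V) (D : ι → Submodule F V) (σ : Equiv.Perm ι)

theorem map_pow_eq (hσ : ∀ j, (D j).map y = D (σ j)) (k : ℕ) (j : ι) :
    (D j).map (y ^ k) = D ((σ ^ k) j) := by
  induction k with
  | zero =>
    rw [pow_zero, pow_zero, Equiv.Perm.one_apply]
    exact Submodule.map_id _
  | succ k ih =>
    rw [pow_succ', pow_succ', Module.End.mul_eq_comp, Submodule.map_comp, ih, hσ]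
    rfl

theorem sigma_pow_fix (hσ : ∀ j, (D j).map y = D (σ j)) (hind : iSupIndep D)
    (hne : ∀ j, D j ≠ ⊥) (r : ℕ) (hy : y ^ r = 1) (j : ι) : (σ ^ r) j = j := by
  apply hind.injective hne
  rw [← map_pow_eq y D σ hσ r j, hy]
  exact Submodule.map_id _

theorem sigma_pow_ne (hσ : ∀ j, (D j).map y = D (σ j)) (hind : iSupIndep D)
    (hne : ∀ j, D j ≠ ⊥) (r : ℕ) (hr : r.Prime) (hy : y ^ r = 1) (j : ι) (hj : σ j ≠ j)
    (k : ℕ) (hk0 : 0 < k) (hkr : k < r) : (σ ^ k) j ≠ j := by
  intro heq
  have h1 : Function.IsPeriodicPt (⇑σ) k j := by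
    unfold Function.IsPeriodicPt Function.IsFixedPt
    rw [Equiv.Perm.iterate_eq_pow]; exact heq
  have h2 : Function.IsPeriodicPt (⇑σ) r j := by
    unfold Function.IsPeriodicPt Function.IsFixedPt
    rw [Equiv.Perm.iterate_eq_pow]; exact sigma_pow_fix y D σ hσ hind hne r hy j
  have h3 := h1.gcd h2
  have h4 : Nat.gcd k r = 1 :=
    Nat.Coprime.symm ((Nat.Prime.coprime_iff_not_dvd hr).mpr (Nat.not_dvd_of_pos_of_lt hk0 hkr))
  rw [h4] at h3
  exact hj h3

/-- the averaging operator is injective on a summand moved by `σ` -/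
theorem avg_inj_of_ne [DecidableEq ι] (hσ : ∀ j, (D j).map y = D (σ j)) (hind : iSupIndep D)
    (hne : ∀ j, D j ≠ ⊥) (r : ℕ) (hr : r.Prime) (hy : y ^ r = 1) (j : ι) (hj : σ j ≠ j)
    (d : V) (hd : d ∈ D j) (h0 : avg r y d = 0) : d = 0 := by
  obtain ⟨r', rfl⟩ : ∃ r', r = r' + 1 := ⟨r - 1, by have := hr.pos; omega⟩
  rw [avg_apply, Finset.sum_range_succ', pow_zero, Module.End.one_apply] at h0
  have hrest : ∑ k ∈ Finset.range r', (y ^ (k + 1)) d ∈ ⨆ i, ⨆ (_ : i ≠ j), D i := by
    apply Submodule.sum_mem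
    intro k hk'
    rw [Finset.mem_range] at hk'
    have h1 : (y ^ (k + 1)) d ∈ D ((σ ^ (k + 1)) j) := by
      rw [← map_pow_eq y D σ hσ (k + 1) j]
      exact Submodule.mem_map_of_mem hd
    exact Submodule.mem_iSup_of_mem _ (Submodule.mem_iSup_of_mem
      (sigma_pow_ne y D σ hσ hind hne _ hr hy j hj (k + 1) (by omega) (by omega)) h1)
  have hd2 : d ∈ ⨆ i, ⨆ (_ : i ≠ j), D i := by
    have : d = -∑ k ∈ Finset.range r', (y ^ (k + 1)) d := by
      rw [eq_neg_iff_add_eq_zero, add_comm]; exact h0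
    rw [this]
    exact Submodule.neg_mem _ hrest
  have hdis : Disjoint (D j) (⨆ i, ⨆ (_ : i ≠ j), D i) := hind j
  have := hdis.le_bot ⟨hd, hd2⟩
  simpa using this

end perm


end Cfsg.Agent.Helper99.RDecomp
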