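import Mathlib
import Cfsg.Agent.Helper99.RDecompA

set_option autoImplicit false

namespace Cfsg.Agent.Helper99.RDecomp

open Module Polynomial
open Cfsg.Agent.Helper59.InvChain Cfsg.Agent.Helper59.Elusive

universe u v

variable {F : Type u} [Field F] {V : Type v} [AddCommGroup V] [Module F V] [FiniteDimensional F V]

/-- data: `y ^ r = 1`, `r` prime invertible in `F`, all invariant subspaces of the `Φ_r`-part have
dimension divisible by `c`. -/
structure Setup (r : ℕ) (y : Module.End F V) (c : ℕ) : Prop where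
  prime : r.Prime
  ne_zero : (r : F) ≠ 0
  pow_eq : y ^ r = 1
  c_pos : 0 < c
  dvd : ∀ U : Submodule F V, Inv y U → U ≤ cycSp r y → c ∣ finrank F ↥U

variable {r : ℕ} {y : Module.End F V} {c : ℕ}

theorem Setup.split (h : Setup r y c) (U : Submodule F V) (hU : Inv y U) :
    finrank F ↥U = finrank F ↥(U ⊓ fixSp y) + finrank F ↥(U ⊓ cycSp r y) := by
  have : Fact r.Prime := ⟨h.prime⟩
  exact finrank_inv_split r h.ne_zero y h.pow_eq U hU

theorem Setup.dvd_inf (h : Setup r y c) (U : Submodule F V) (hU : Inv y U) :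
    c ∣ finrank F ↥(U ⊓ cycSp r y) :=
  h.dvd _ (inv_inf hU (inv_cycSp r y)) inf_le_right

theorem Setup.total (h : Setup r y c) :
    finrank F V = finrank F ↥(fixSp y) + finrank F ↥(cycSp r y) := by
  have : Fact r.Prime := ⟨h.prime⟩
  exact finrank_fix_add_cyc r h.ne_zero y h.pow_eq

theorem inv_of_map_eq {y : Module.End F V} {U : Submodule F V} (h : U.map y = U) : Inv y U := by
  unfold Cfsg.Agent.Helper59.InvChain.Inv; rw [h]

section caseA

variable {ι : Type*} [Fintype ι] [DecidableEq ι]

/-- if fewer than `a` fixed dimensions are available, no summand is moved -/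
theorem sigma_eq_of_fix_lt (h : Setup r y c) (D : ι → Submodule F V) {a : ℕ}
    (hdim : ∀ j, finrank F ↥(D j) = a) (ha : 0 < a) (hind : iSupIndep D)
    (σ : Equiv.Perm ι) (hσ : ∀ j, (D j).map y = D (σ j))
    (hf : finrank F ↥(fixSp y) < a) : ∀ j, σ j = j := by
  by_contra hcon
  push Not at hcon
  obtain ⟨j, hj⟩ := hcon
  have hne : ∀ j, D j ≠ ⊥ := by
    intro j hbot
    have := hdim j
    rw [hbot, finrank_bot] at this
    omega
  have hinj : Function.Injective ((avg r y).domRestrict (D j)) := by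
    rw [← LinearMap.ker_eq_bot, LinearMap.ker_eq_bot']
    intro d hd0
    exact Subtype.ext (avg_inj_of_ne y D σ hσ hind hne r h.prime h.pow_eq j hj d.1 d.2 hd0)
  have h1 := LinearMap.finrank_range_of_inj hinj
  have h2 : LinearMap.range ((avg r y).domRestrict (D j)) ≤ fixSp y := by
    rintro _ ⟨d, rfl⟩
    exact avg_mem_fixSp r y h.pow_eq d.1
  have h3 := Submodule.finrank_mono h2
  rw [h1, hdim j] at h3
  omega

theorem caseA (h : Setup r y c) (D : ι → Submodule F V) {a : ℕ}
    (hdim : ∀ j, finrank F ↥(D j) = a) (ha : 0 < a) (hind : iSupIndep D) (hsup : iSup D = ⊤)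
    (σ : Equiv.Perm ι) (hσ : ∀ j, (D j).map y = D (σ j))
    (hf : finrank F ↥(fixSp y) < c) (hca : c ≤ a) :
    finrank F ↥(fixSp y) = Fintype.card ι * (a % c) := by
  have hfix := sigma_eq_of_fix_lt h D hdim ha hind σ hσ (by omega)
  have hinv : ∀ j, Inv y (D j) := fun j => inv_of_map_eq (by rw [hσ j, hfix j])
  -- dimension bookkeeping
  have hsF : ∑ j, finrank F ↥(D j ⊓ fixSp y) ≤ finrank F ↥(fixSp y) := by
    have hind' : iSupIndep (fun j => D j ⊓ fixSp y) := hind.mono (fun j => inf_le_left)
    have := finrank_biSup (fun j => D j ⊓ fixSp y) hind' Finset.univ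
    rw [← this]
    apply Submodule.finrank_mono
    simp only [Finset.mem_univ, iSup_pos]
    exact iSup_le fun j => inf_le_right
  have hsC : ∑ j, finrank F ↥(D j ⊓ cycSp r y) ≤ finrank F ↥(cycSp r y) := by
    have hind' : iSupIndep (fun j => D j ⊓ cycSp r y) := hind.mono (fun j => inf_le_left)
    have := finrank_biSup (fun j => D j ⊓ cycSp r y) hind' Finset.univ
    rw [← this]
    apply Submodule.finrank_mono
    simp only [Finset.mem_univ, iSup_pos]
    exact iSup_le fun j => inf_le_right
  have htot : ∑ j, finrank F ↥(D j) = finrank F V := by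
    have := finrank_biSup D hind Finset.univ
    have h0 : (⨆ i ∈ (Finset.univ : Finset ι), D i) = iSup D := by simp
    rw [h0, hsup, finrank_top] at this
    exact this.symm
  have hsplit : ∑ j, finrank F ↥(D j) =
      ∑ j, finrank F ↥(D j ⊓ fixSp y) + ∑ j, finrank F ↥(D j ⊓ cycSp r y) := by
    rw [← Finset.sum_add_distrib]
    exact Finset.sum_congr rfl (fun j _ => h.split (D j) (hinv j))
  have hT := h.total
  have hsFeq : ∑ j, finrank F ↥(D j ⊓ fixSp y) = finrank F ↥(fixSp y) := by omega
  have heach : ∀ j, finrank F ↥(D j ⊓ fixSp y) = a % c := by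
    intro j
    have h1 := h.split (D j) (hinv j)
    obtain ⟨m, hm⟩ := h.dvd_inf (D j) (hinv j)
    rw [hdim j, hm] at h1
    have h2 : finrank F ↥(D j ⊓ fixSp y) ≤ finrank F ↥(fixSp y) := Submodule.finrank_mono inf_le_right
    have h3 : finrank F ↥(D j ⊓ fixSp y) < c := by omega
    rw [h1, Nat.add_mul_mod_self_left, Nat.mod_eq_of_lt h3]
  rw [← hsFeq, Finset.sum_congr rfl (fun j _ => heach j), Finset.sum_const, Finset.card_univ,
    smul_eq_mul]

end caseA

end Cfsg.Agent.Helper99.RDecomp
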