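import Mathlib
import Cfsg.Agent.Helper99.RDecompB

set_option autoImplicit false

/-!
# Necessary conditions: orbits of summands under an element of prime order `r`
-/

namespace Cfsg.Agent.Helper99.RDecomp

open Module Polynomial
open Cfsg.Agent.Helper59.InvChain Cfsg.Agent.Helper59.Elusive

universe u v

variable {F : Type u} [Field F] {V : Type v} [AddCommGroup V] [Module F V] [FiniteDimensional F V]

variable {r : ℕ} {y : Module.End F V} {c : ℕ}

section orbit

variable {ι : Type*} [DecidableEq ι]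

/-- the `σ`-orbit of `j` (as the image of the first `r` powers) -/
def orb (σ : Equiv.Perm ι) (r : ℕ) (j : ι) : Finset ι :=
  (Finset.range r).image (fun k => (σ ^ k) j)

theorem mem_orb {σ : Equiv.Perm ι} {r : ℕ} {j i : ι} : i ∈ orb σ r j ↔ ∃ k < r, (σ ^ k) j = i := by
  simp [orb]

theorem self_mem_orb (σ : Equiv.Perm ι) {r : ℕ} (hr : 0 < r) (j : ι) : j ∈ orb σ r j :=
  mem_orb.mpr ⟨0, hr, by simp⟩

theorem orb_card_le (σ : Equiv.Perm ι) (r : ℕ) (j : ι) : (orb σ r j).card ≤ r := by
  unfold orb
  exact Finset.card_image_le.trans (by rw [Finset.card_range])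

theorem apply_mem_orb {σ : Equiv.Perm ι} {r : ℕ} (hr : 0 < r) {j : ι} (hj : (σ ^ r) j = j) {i : ι}
    (hi : i ∈ orb σ r j) : σ i ∈ orb σ r j := by
  obtain ⟨k, hk, rfl⟩ := mem_orb.mp hi
  by_cases hk1 : k + 1 < r
  · exact mem_orb.mpr ⟨k + 1, hk1, by rw [pow_succ', Equiv.Perm.mul_apply]⟩
  · have : k + 1 = r := by omega
    refine mem_orb.mpr ⟨0, hr, ?_⟩
    rw [pow_zero, Equiv.Perm.one_apply, ← Equiv.Perm.mul_apply, ← pow_succ', this, hj]

theorem symm_apply_mem_orb {σ : Equiv.Perm ι} {r : ℕ} (hr : 0 < r) {j : ι} (hj : (σ ^ r) j = j)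
    {i : ι} (hi : σ i ∈ orb σ r j) : i ∈ orb σ r j := by
  obtain ⟨k, hk, hki⟩ := mem_orb.mp hi
  rcases Nat.eq_zero_or_pos k with rfl | hkpos
  · -- σ i = j = σ^r j
    rw [pow_zero, Equiv.Perm.one_apply] at hki
    refine mem_orb.mpr ⟨r - 1, by omega, ?_⟩
    apply σ.injective
    rw [← Equiv.Perm.mul_apply, ← pow_succ', Nat.sub_add_cancel hr, hj, hki]
  · refine mem_orb.mpr ⟨k - 1, by omega, ?_⟩
    apply σ.injective
    rw [← Equiv.Perm.mul_apply, ← pow_succ', Nat.sub_add_cancel hkpos, hki]

theorem orb_card_eq {σ : Equiv.Perm ι} {r : ℕ} {j : ι}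
    (hne : ∀ k, 0 < k → k < r → (σ ^ k) j ≠ j) : (orb σ r j).card = r := by
  unfold orb
  rw [Finset.card_image_of_injOn, Finset.card_range]
  intro k hk l hl hkl
  simp only [Finset.coe_range, Set.mem_Iio] at hk hl
  simp only at hkl
  by_contra hne'
  rcases Nat.lt_or_gt_of_ne hne' with h | h
  · apply hne (l - k) (by omega) (by omega)
    have : σ ^ l = σ ^ k * σ ^ (l - k) := by rw [← pow_add]; congr 1; omega
    rw [this, Equiv.Perm.mul_apply] at hkl
    exact ((σ ^ k).injective hkl).symm
  · apply hne (k - l) (by omega) (by omega)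
    have : σ ^ k = σ ^ l * σ ^ (k - l) := by rw [← pow_add]; congr 1; omega
    rw [this, Equiv.Perm.mul_apply] at hkl
    exact (σ ^ l).injective hkl

end orbit

section caseB

variable {ι : Type*} [Fintype ι] [DecidableEq ι]

/-- the span of an orbit of summands is invariant -/
theorem inv_orbSup (D : ι → Submodule F V) (σ : Equiv.Perm ι) (hσ : ∀ j, (D j).map y = D (σ j))
    (s : Finset ι) (hs : ∀ i ∈ s, σ i ∈ s) : Inv y (⨆ i ∈ s, D i) := by
  unfold Cfsg.Agent.Helper59.InvChain.Inv
  rw [Submodule.map_iSup]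
  apply iSup_le
  intro i
  rw [Submodule.map_iSup]
  apply iSup_le
  intro hi
  rw [hσ i]
  exact le_iSup₂_of_le (σ i) (hs i hi) le_rfl

/-- the averaging operator maps the span of the orbit of `j` into `T (D j)` -/
theorem map_avg_orbSup_le (hy : y ^ r = 1) (D : ι → Submodule F V) (σ : Equiv.Perm ι)
    (hσ : ∀ j, (D j).map y = D (σ j)) (j : ι) :
    (⨆ i ∈ orb σ r j, D i).map (avg r y) ≤ (D j).map (avg r y) := by
  rw [Submodule.map_iSup]
  apply iSup_le
  intro i
  rw [Submodule.map_iSup]
  apply iSup_le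
  intro hi
  obtain ⟨k, -, rfl⟩ := mem_orb.mp hi
  rw [← map_pow_eq y D σ hσ k j, ← Submodule.map_comp, ← Module.End.mul_eq_comp,
    avg_pow_mul r y hy]

theorem caseB1 (h : Setup r y c) (D : ι → Submodule F V) {a : ℕ}
    (hdim : ∀ j, finrank F ↥(D j) = a) (ha : 0 < a) (hind : iSupIndep D) (hsup : iSup D = ⊤)
    (σ : Equiv.Perm ι) (hσ : ∀ j, (D j).map y = D (σ j))
    (hac : a < c) (hcyc : finrank F ↥(cycSp r y) = c) : a * (r - 1) ≤ c := by
  have hne : ∀ j, D j ≠ ⊥ := by
    intro j hbot
    have := hdim j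
    rw [hbot, finrank_bot] at this
    omega
  by_cases hall : ∀ j, σ j = j
  · exfalso
    have hinv : ∀ j, Inv y (D j) := fun j => inv_of_map_eq (by rw [hσ j, hall j])
    have hle : ∀ j, D j ≤ fixSp y := by
      intro j
      have h1 := h.split (D j) (hinv j)
      obtain ⟨m, hm⟩ := h.dvd_inf (D j) (hinv j)
      rw [hdim j] at h1
      have hm0 : m = 0 := by
        by_contra hm0
        have : c ≤ c * m := Nat.le_mul_of_pos_right c (Nat.pos_of_ne_zero hm0)
        omega
      rw [hm, hm0, mul_zero, add_zero] at h1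
      have h2 : D j ⊓ fixSp y = D j :=
        Submodule.eq_of_le_of_finrank_eq inf_le_left (by rw [← h1, hdim j])
      rw [← h2]
      exact inf_le_right
    have htop : fixSp y = ⊤ := by
      rw [eq_top_iff, ← hsup]
      exact iSup_le hle
    have hT := h.total
    rw [htop, finrank_top, hcyc] at hT
    have := h.c_pos
    omega
  · push Not at hall
    obtain ⟨j, hj⟩ := hall
    have hpow := sigma_pow_fix y D σ hσ hind hne r h.pow_eq j
    have hcard : (orb σ r j).card = r :=
      orb_card_eq (sigma_pow_ne y D σ hσ hind hne r h.prime h.pow_eq j hj)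
    set S : Submodule F V := ⨆ i ∈ orb σ r j, D i with hS
    have hSdim : finrank F ↥S = r * a := by
      rw [hS, finrank_biSup D hind, Finset.sum_congr rfl (fun i _ => hdim i), Finset.sum_const,
        hcard, smul_eq_mul]
    have hSinv : Inv y S :=
      inv_orbSup D σ hσ _ (fun i hi => apply_mem_orb h.prime.pos hpow hi)
    have hSfix : finrank F ↥(S ⊓ fixSp y) ≤ a := by
      rw [inf_fixSp_eq_map_avg r h.ne_zero y h.pow_eq hSinv]
      calc finrank F ↥(S.map (avg r y)) ≤ finrank F ↥((D j).map (avg r y)) :=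
            Submodule.finrank_mono (map_avg_orbSup_le h.pow_eq D σ hσ j)
        _ ≤ finrank F ↥(D j) := Submodule.finrank_map_le _ _
        _ = a := hdim j
    have hsplit := h.split S hSinv
    have hScyc : finrank F ↥(S ⊓ cycSp r y) ≤ c := by
      rw [← hcyc]; exact Submodule.finrank_mono inf_le_right
    have hr1 := h.prime.one_lt
    have : a * (r - 1) + a = r * a := by
      obtain ⟨r', rfl⟩ : ∃ r', r = r' + 1 := ⟨r - 1, by omega⟩
      simp only [Nat.add_sub_cancel]
      ring
    omega

end caseB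

section caseB2

variable {ι : Type*} [Fintype ι] [DecidableEq ι]

theorem pow_apply_mem (D : ι → Submodule F V) (σ : Equiv.Perm ι)
    (hσ : ∀ j, (D j).map y = D (σ j)) (k : ℕ) (j : ι) {d : V} (hd : d ∈ D j) :
    (y ^ k) d ∈ D ((σ ^ k) j) := by
  rw [← map_pow_eq y D σ hσ k j]
  exact Submodule.mem_map_of_mem hd

theorem caseB2_aux (h : Setup r y c) (hroot : ∀ κ : F, κ ^ r = 1 → κ = 1)
    (D : ι → Submodule F V) (hdim : ∀ j, finrank F ↥(D j) = 1) (hind : iSupIndep D)
    (σ : Equiv.Perm ι) (hσ : ∀ j, (D j).map y = D (σ j)) :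
    ∀ n : ℕ, ∀ s : Finset ι, s.card = n → (∀ i ∈ s, σ i ∈ s) →
      s.card ≤ r * finrank F ↥((⨆ i ∈ s, D i) ⊓ fixSp y) := by
  have hne : ∀ j, D j ≠ ⊥ := by
    intro j hbot
    have := hdim j
    rw [hbot, finrank_bot] at this
    omega
  intro n
  induction n using Nat.strong_induction_on with
  | _ n ih =>
    intro s hsn hs
    rcases s.eq_empty_or_nonempty with rfl | ⟨i0, hi0⟩
    · simp
    have hpow := sigma_pow_fix y D σ hσ hind hne r h.pow_eq i0
    have hrpos := h.prime.pos
    set O := orb σ r i0 with hO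
    have hOs : O ⊆ s := by
      intro i hi
      obtain ⟨k, -, rfl⟩ := mem_orb.mp hi
      have : ∀ k, (σ ^ k) i0 ∈ s := by
        intro k
        induction k with
        | zero => simpa using hi0
        | succ k ihk =>
          rw [pow_succ', Equiv.Perm.mul_apply]
          exact hs _ ihk
      exact this k
    set s' := s \ O with hs'
    have hs'inv : ∀ i ∈ s', σ i ∈ s' := by
      intro i hi
      rw [hs', Finset.mem_sdiff] at hi ⊢
      refine ⟨hs i hi.1, fun hcon => hi.2 (symm_apply_mem_orb hrpos hpow hcon)⟩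
    have hOne : O.Nonempty := ⟨i0, self_mem_orb σ hrpos i0⟩
    have hcard : s'.card + O.card = s.card := by
      rw [hs', Finset.card_sdiff_of_subset hOs]
      have := Finset.card_le_card hOs
      omega
    have hOpos : 0 < O.card := Finset.card_pos.mpr hOne
    have hIH := ih s'.card (by omega) s' rfl hs'inv
    -- the two pieces
    set WO : Submodule F V := ⨆ i ∈ O, D i with hWO
    set Ws' : Submodule F V := ⨆ i ∈ s', D i with hWs'
    have hunion : s = O ∪ s' := by
      rw [hs', Finset.union_sdiff_of_subset hOs]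
    have hW : (⨆ i ∈ s, D i) = WO ⊔ Ws' := by
      conv_lhs => rw [hunion]
      rw [Finset.iSup_union]
    have hdisj : Disjoint WO Ws' := by
      rw [disjoint_iff, ← Submodule.finrank_eq_zero]
      have h1 := Submodule.finrank_sup_add_finrank_inf_eq WO Ws'
      have e : ∀ u : Finset ι, finrank F ↥(⨆ i ∈ u, D i) = u.card := by
        intro u
        rw [finrank_biSup D hind, Finset.sum_congr rfl (fun i _ => hdim i)]
        simp
      have e1 : finrank F ↥WO = O.card := e O
      have e2 : finrank F ↥Ws' = s'.card := e s'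
      have e3 : finrank F ↥(WO ⊔ Ws') = s.card := by rw [← hW]; exact e s
      rw [e1, e2, e3] at h1
      omega
    have hdisjF : Disjoint (WO ⊓ fixSp y) (Ws' ⊓ fixSp y) :=
      hdisj.mono inf_le_left inf_le_left
    have hle : (WO ⊓ fixSp y) ⊔ (Ws' ⊓ fixSp y) ≤ (⨆ i ∈ s, D i) ⊓ fixSp y := by
      rw [hW]
      exact sup_le (inf_le_inf_right _ le_sup_left) (inf_le_inf_right _ le_sup_right)
    have hfr := Submodule.finrank_mono hle
    rw [finrank_sup_of_disjoint hdisjF] at hfr
    -- the orbit piece contains a nonzero fixed vector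
    have hWOpos : 1 ≤ finrank F ↥(WO ⊓ fixSp y) := by
      rw [Submodule.one_le_finrank_iff]
      obtain ⟨d, hd, hd0⟩ := Submodule.exists_mem_ne_zero_of_ne_bot (hne i0)
      have hmem : avg r y d ∈ WO ⊓ fixSp y := by
        refine ⟨?_, avg_mem_fixSp r y h.pow_eq d⟩
        rw [avg_apply]
        apply Submodule.sum_mem
        intro k hk
        rw [Finset.mem_range] at hk
        have h1 := pow_apply_mem D σ hσ k i0 hd
        exact Submodule.mem_iSup_of_mem _ (Submodule.mem_iSup_of_mem (mem_orb.mpr ⟨k, hk, rfl⟩) h1)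
      have hnz : avg r y d ≠ 0 := by
        by_cases hfix : σ i0 = i0
        · -- invariant line
          have h1 : y d ∈ D i0 := by
            have := pow_apply_mem D σ hσ 1 i0 hd
            rwa [pow_one, pow_one, hfix] at this
          obtain ⟨κ, hκ⟩ : ∃ κ : F, κ • d = y d := by
            have h2 := (finrank_eq_one_iff_of_nonzero' (⟨d, hd⟩ : ↥(D i0))
              (by intro h0; exact hd0 (congrArg Subtype.val h0))).mp (hdim i0) ⟨y d, h1⟩
            obtain ⟨κ, hκ⟩ := h2
            exact ⟨κ, congrArg Subtype.val hκ⟩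
          have hpowd : ∀ k, (y ^ k) d = κ ^ k • d := by
            intro k
            induction k with
            | zero => simp
            | succ k ihk =>
              rw [pow_succ', Module.End.mul_apply, ihk, map_smul, ← hκ, smul_smul, pow_succ]
          have h3 : κ ^ r • d = d := by rw [← hpowd, h.pow_eq, Module.End.one_apply]
          have h4 : κ ^ r = 1 := by
            have h5 : (κ ^ r - 1) • d = 0 := by rw [sub_smul, h3, one_smul, sub_self]
            rcases smul_eq_zero.mp h5 with h6 | h6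
            · exact sub_eq_zero.mp h6
            · exact absurd h6 hd0
          have h5 : κ = 1 := hroot κ h4
          have h6 : d ∈ fixSp y := by rw [mem_fixSp, ← hκ, h5, one_smul]
          rw [avg_of_mem_fixSp r y h6]
          exact smul_ne_zero h.ne_zero hd0
        · intro h0
          exact hd0 (avg_inj_of_ne y D σ hσ hind hne r h.prime h.pow_eq i0 hfix d hd h0)
      intro hbot
      rw [hbot, Submodule.mem_bot] at hmem
      exact hnz hmem
    have hOr := orb_card_le σ r i0
    calc s.card = s'.card + O.card := hcard.symm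
      _ ≤ r * finrank F ↥(Ws' ⊓ fixSp y) + r := Nat.add_le_add hIH hOr
      _ = r * (finrank F ↥(Ws' ⊓ fixSp y) + 1) := by ring
      _ ≤ r * finrank F ↥((⨆ i ∈ s, D i) ⊓ fixSp y) := Nat.mul_le_mul_left r (by omega)

theorem caseB2 (h : Setup r y c) (hroot : ∀ κ : F, κ ^ r = 1 → κ = 1)
    (D : ι → Submodule F V) (hdim : ∀ j, finrank F ↥(D j) = 1) (hind : iSupIndep D)
    (hsup : iSup D = ⊤)
    (σ : Equiv.Perm ι) (hσ : ∀ j, (D j).map y = D (σ j)) :
    Fintype.card ι ≤ r * finrank F ↥(fixSp y) := by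
  have := caseB2_aux h hroot D hdim hind σ hσ _ Finset.univ rfl (fun i _ => Finset.mem_univ _)
  have h0 : (⨆ i ∈ (Finset.univ : Finset ι), D i) = iSup D := by simp
  rw [h0, hsup, top_inf_eq, Finset.card_univ] at this
  exact this

end caseB2

end Cfsg.Agent.Helper99.RDecomp
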