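import Mathlib
import Cfsg.Agent.Helper99.RDecompC
import Cfsg.Agent.Helper99.SemiCompl

set_option autoImplicit false

namespace Cfsg.Agent.Helper99.RDecomp

open Module Polynomial
open Cfsg.Agent.Helper59.InvChain Cfsg.Agent.Helper59.Elusive

universe u v

variable {F : Type u} [Field F] {V : Type v} [AddCommGroup V] [Module F V]

section cons

theorem indep_cons {t : ℕ} (D0 : Submodule F V) (D' : Fin t → Submodule F V)
    (h' : iSupIndep D') (hdis : Disjoint D0 (⨆ j, D' j)) :
    iSupIndep (Fin.cons D0 D' : Fin (t + 1) → Submodule F V) := by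
  rw [iSupIndep_def]
  intro i
  refine Fin.cases ?_ (fun i' => ?_) i
  · rw [Fin.cons_zero]
    refine hdis.mono_right ?_
    apply iSup₂_le
    intro j hj
    obtain ⟨j', rfl⟩ := Fin.exists_succ_eq.mpr hj
    rw [Fin.cons_succ]
    exact le_iSup D' j'
  · rw [Fin.cons_succ]
    have hle : (⨆ (j : Fin (t + 1)) (_ : j ≠ i'.succ), (Fin.cons D0 D' : Fin (t + 1) → Submodule F V) j)
        ≤ (⨆ (j' : Fin t) (_ : j' ≠ i'), D' j') ⊔ D0 := by
      apply iSup₂_le
      intro j hj
      refine Fin.cases ?_ (fun j' => ?_) j hj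
      · intro _
        rw [Fin.cons_zero]
        exact le_sup_right
      · intro hj'
        rw [Fin.cons_succ]
        refine le_sup_of_le_left (le_iSup₂_of_le j' ?_ le_rfl)
        intro hcon
        exact hj' (by rw [hcon])
    refine Disjoint.mono_right hle ?_
    apply Disjoint.disjoint_sup_right_of_disjoint_sup_left (h' i')
    refine (hdis.symm).mono_left ?_
    apply sup_le (le_iSup D' i')
    exact iSup₂_le fun j' _ => le_iSup D' j'

theorem iSup_cons {t : ℕ} (D0 : Submodule F V) (D' : Fin t → Submodule F V) :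
    (⨆ j, (Fin.cons D0 D' : Fin (t + 1) → Submodule F V) j) = D0 ⊔ ⨆ j, D' j := by
  apply le_antisymm
  · apply iSup_le
    intro j
    refine Fin.cases ?_ (fun j' => ?_) j
    · rw [Fin.cons_zero]; exact le_sup_left
    · rw [Fin.cons_succ]; exact le_sup_of_le_right (le_iSup D' j')
  · apply sup_le
    · have := le_iSup (Fin.cons D0 D' : Fin (t + 1) → Submodule F V) 0
      rwa [Fin.cons_zero] at this
    · apply iSup_le
      intro j'
      have := le_iSup (Fin.cons D0 D' : Fin (t + 1) → Submodule F V) j'.succ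
      rwa [Fin.cons_succ] at this

end cons

variable [FiniteDimensional F V] {r : ℕ} {y : Module.End F V} {c : ℕ}

/-- relative complement inside `M` -/
theorem exists_rel_compl {A M : Submodule F V} (hAM : A ≤ M) (A'' : Submodule F V)
    (hc : IsCompl A A'') : Disjoint A (A'' ⊓ M) ∧ A ⊔ A'' ⊓ M = M := by
  refine ⟨hc.disjoint.mono_right inf_le_left, ?_⟩
  rw [← sup_inf_assoc_of_le A'' hAM, hc.sup_eq_top, top_inf_eq]

theorem Setup.sup_parts (h : Setup r y c) (W : Submodule F V) (hW : Inv y W) :
    (W ⊓ fixSp y) ⊔ (W ⊓ cycSp r y) = W := by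
  have : Fact r.Prime := ⟨h.prime⟩
  have hdis : Disjoint (W ⊓ fixSp y) (W ⊓ cycSp r y) := by
    rw [disjoint_iff]
    apply le_antisymm _ bot_le
    rw [← disjoint_fix_cyc r h.ne_zero y]
    exact inf_le_inf inf_le_right inf_le_right
  apply Submodule.eq_of_le_of_finrank_eq (sup_le inf_le_left inf_le_left)
  rw [finrank_sup_of_disjoint hdis, ← h.split W hW]

theorem Setup.disjoint_parts (h : Setup r y c) {A B : Submodule F V} (hA : A ≤ fixSp y)
    (hB : B ≤ cycSp r y) : Disjoint A B := by
  have : Fact r.Prime := ⟨h.prime⟩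
  rw [disjoint_iff]
  apply le_antisymm _ bot_le
  rw [← disjoint_fix_cyc r h.ne_zero y]
  exact inf_le_inf hA hB

theorem exists_inv_decomp (h : Setup r y c) (hp : HP (cyclotomic r F) c) (a : ℕ) :
    ∀ t : ℕ, ∀ W : Submodule F V, Inv y W → finrank F ↥W = t * a →
      t * (a % c) ≤ finrank F ↥(W ⊓ fixSp y) →
      ∃ D : Fin t → Submodule F V, (∀ j, Inv y (D j)) ∧ (∀ j, finrank F ↥(D j) = a) ∧
        iSupIndep D ∧ iSup D = W := by
  have hcpos := h.c_pos
  intro t
  induction t with
  | zero =>
    intro W _ hdim _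
    rw [zero_mul] at hdim
    have hW : W = ⊥ := Submodule.finrank_eq_zero.mp hdim
    refine ⟨fun _ => ⊥, fun j => j.elim0, fun j => j.elim0, iSupIndep_subsingleton _, ?_⟩
    rw [hW]
    exact iSup_of_empty _
  | succ t ih =>
    intro W hW hdim hfix
    set ℓ := a % c with hℓ
    set a' := a / c with ha'
    have hdecomp : a = a' * c + ℓ := (Nat.div_add_mod' a c).symm
    have hsplit := h.split W hW
    obtain ⟨m, hm⟩ := h.dvd_inf W hW
    set fW := finrank F ↥(W ⊓ fixSp y) with hfW
    -- fW = (t+1) ℓ + u c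
    have hmle : m ≤ (t + 1) * a' := by
      by_contra hcon
      push Not at hcon
      have h1 : ((t + 1) * a' + 1) * c ≤ m * c := Nat.mul_le_mul_right c hcon
      have h2 : (t + 1) * a = (t + 1) * a' * c + (t + 1) * ℓ := by rw [hdecomp]; ring
      have h3 : ℓ < c := Nat.mod_lt _ hcpos
      nlinarith [h1, h2, hsplit, hdim, hm, hfix, mul_comm c m]
    set u := (t + 1) * a' - m with hu
    have hfWeq : fW = (t + 1) * ℓ + u * c := by
      have h2 : (t + 1) * a = (t + 1) * a' * c + (t + 1) * ℓ := by rw [hdecomp]; ring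
      have h4 : u * c + m * c = (t + 1) * a' * c := by
        rw [hu, ← add_mul, Nat.sub_add_cancel hmle]
      nlinarith [h2, h4, hsplit, hdim, hm, mul_comm c m]
    set u0 := min a' u with hu0
    have hu0a : u0 ≤ a' := min_le_left _ _
    have hu0u : u0 ≤ u := min_le_right _ _
    -- A inside W ⊓ Fix
    obtain ⟨sA, hsA, hAall⟩ := chain y (X - 1 : F[X]) 1 one_pos HP_X_sub_one (W ⊓ fixSp y)
      (inv_inf hW (inv_fixSp y)) (fun v hv => hv.2)
    rw [mul_one] at hsA
    have hf0le : ℓ + u0 * c ≤ sA := by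
      rw [← hsA, ← hfW, hfWeq]
      have : u0 * c ≤ u * c := Nat.mul_le_mul_right c hu0u
      nlinarith
    obtain ⟨A, hAle, hAinv, hAdim⟩ := hAall _ hf0le
    rw [mul_one] at hAdim
    -- B inside W ⊓ Cyc
    obtain ⟨sB, hsB, hBall⟩ := chain y (cyclotomic r F) c hcpos hp (W ⊓ cycSp r y)
      (inv_inf hW (inv_cycSp r y)) (fun v hv => hv.2)
    have hsBm : sB = m := by
      have : sB * c = c * m := by rw [← hsB, hm]
      rw [mul_comm c m] at this
      exact Nat.eq_of_mul_eq_mul_right hcpos this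
    have hBle' : a' - u0 ≤ sB := by
      rw [hsBm]
      rcases le_total a' u with hle | hle
      · have : u0 = a' := min_eq_left hle
        omega
      · have : u0 = u := min_eq_right hle
        have h5 : a' ≤ (t + 1) * a' := Nat.le_mul_of_pos_left a' (Nat.succ_pos t)
        omega
    obtain ⟨B, hBle, hBinv, hBdim⟩ := hBall _ hBle'
    -- complements
    obtain ⟨A'', hA''⟩ := Submodule.exists_isCompl A
    obtain ⟨hdAA', hsAA'⟩ := exists_rel_compl hAle A'' hA''
    set A' := A'' ⊓ (W ⊓ fixSp y) with hA'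
    have hA'fix : A' ≤ fixSp y := inf_le_right.trans inf_le_right
    have hA'inv : Inv y A' := inv_of_le_fixSp hA'fix
    obtain ⟨B'', hB''c, hB''inv⟩ := Cfsg.Agent.Helper99.SemiCompl.exists_invariant_compl r h.ne_zero
      y 1 one_ne_zero (by rw [h.pow_eq, one_smul]) B hBinv
    obtain ⟨hdBB', hsBB'⟩ := exists_rel_compl hBle B'' hB''c
    set B' := B'' ⊓ (W ⊓ cycSp r y) with hB'
    have hB'inv : Inv y B' := inv_inf hB''inv (inv_inf hW (inv_cycSp r y))
    have hB'cyc : B' ≤ cycSp r y := inf_le_right.trans inf_le_right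
    -- dimensions
    have hA'dim : finrank F ↥A + finrank F ↥A' = fW := by
      rw [← finrank_sup_of_disjoint hdAA', hsAA']
    have hB'dim : finrank F ↥B + finrank F ↥B' = c * m := by
      rw [← finrank_sup_of_disjoint hdBB', hsBB', hm]
    set D0 := A ⊔ B with hD0
    set W' := A' ⊔ B' with hW'
    have hAfix : A ≤ fixSp y := hAle.trans inf_le_right
    have hBcyc : B ≤ cycSp r y := hBle.trans inf_le_right
    have hD0dim : finrank F ↥D0 = a := by
      rw [hD0, finrank_sup_of_disjoint (h.disjoint_parts hAfix hBcyc), hAdim, hBdim, hdecomp]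
      have : (a' - u0) * c + u0 * c = a' * c := by rw [← add_mul, Nat.sub_add_cancel hu0a]
      omega
    have hW'dim : finrank F ↥W' = t * a := by
      rw [hW', finrank_sup_of_disjoint (h.disjoint_parts hA'fix hB'cyc)]
      have h2 : (t + 1) * a = t * a + a := by ring
      rw [hAdim] at hA'dim
      rw [hBdim] at hB'dim
      have : (a' - u0) * c + u0 * c = a' * c := by rw [← add_mul, Nat.sub_add_cancel hu0a]
      omega
    have hsupW : D0 ⊔ W' = W := by
      rw [hD0, hW']
      have : A ⊔ B ⊔ (A' ⊔ B') = (A ⊔ A') ⊔ (B ⊔ B') := by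
        simp only [sup_assoc, sup_left_comm, sup_comm]
      rw [this, hsAA', hsBB', h.sup_parts W hW]
    have hdisW : Disjoint D0 W' := by
      rw [disjoint_iff, ← Submodule.finrank_eq_zero]
      have h1 := Submodule.finrank_sup_add_finrank_inf_eq D0 W'
      rw [hsupW, hdim, hD0dim, hW'dim] at h1
      have h2 : (t + 1) * a = t * a + a := by ring
      omega
    have hW'inv : Inv y W' := inv_sup hA'inv hB'inv
    have hW'fix : t * ℓ ≤ finrank F ↥(W' ⊓ fixSp y) := by
      have h1 : A' ≤ W' ⊓ fixSp y := le_inf le_sup_left hA'fix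
      have h2 := Submodule.finrank_mono h1
      rw [hAdim] at hA'dim
      have h3 : (t + 1) * ℓ = t * ℓ + ℓ := by ring
      have : u0 * c ≤ u * c := Nat.mul_le_mul_right c hu0u
      omega
    obtain ⟨D', hD'inv, hD'dim, hD'ind, hD'sup⟩ := ih W' hW'inv hW'dim hW'fix
    refine ⟨Fin.cons D0 D', ?_, ?_, ?_, ?_⟩
    · intro j
      refine Fin.cases ?_ (fun j' => ?_) j
      · rw [Fin.cons_zero]; exact inv_sup hAinv hBinv
      · rw [Fin.cons_succ]; exact hD'inv j'
    · intro j
      refine Fin.cases ?_ (fun j' => ?_) j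
      · rw [Fin.cons_zero]; exact hD0dim
      · rw [Fin.cons_succ]; exact hD'dim j'
    · apply indep_cons D0 D' hD'ind
      have : (⨆ j, D' j) = W' := hD'sup
      rw [this]
      exact hdisW
    · have : (⨆ j, D' j) = W' := hD'sup
      show (⨆ j, (Fin.cons D0 D' : Fin (t + 1) → Submodule F V) j) = W
      rw [iSup_cons, this, hsupW]

end Cfsg.Agent.Helper99.RDecomp
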