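import Mathlib
import Cfsg.Agent.Helper99.RDecompD
import Cfsg.Agent.Helper99.OrthInduction

set_option autoImplicit false
set_option linter.unusedSectionVars false

/-!
# Alternating forms: relative nondegeneracy, planes, even dimension
-/

namespace Cfsg.Agent.Helper99.SpStruct

open Module Polynomial
open Cfsg.Agent.Helper59.InvChain Cfsg.Agent.Helper59.Elusive
open Cfsg.Agent.Helper99.RDecomp

universe u v

variable {F : Type u} [Field F] {V : Type v} [AddCommGroup V] [Module F V]

/-- relative nondegeneracy -/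
def Nd (B : LinearMap.BilinForm F V) (W : Submodule F V) : Prop := Disjoint W (B.orthogonal W)

/-- orthogonality of two subspaces -/
def Orth (B : LinearMap.BilinForm F V) (U W : Submodule F V) : Prop :=
  ∀ u ∈ U, ∀ w ∈ W, B u w = 0

variable {B : LinearMap.BilinForm F V}

theorem nd_iff {W : Submodule F V} :
    Nd B W ↔ ∀ u ∈ W, (∀ w ∈ W, B w u = 0) → u = 0 := by
  unfold Nd
  rw [Submodule.disjoint_def]
  constructor
  · intro h u hu hu'
    exact h u hu (by rw [LinearMap.BilinForm.mem_orthogonal_iff]; exact hu')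
  · intro h u hu hu'
    rw [LinearMap.BilinForm.mem_orthogonal_iff] at hu'
    exact h u hu hu'

theorem nd_bot : Nd B (⊥ : Submodule F V) := by
  unfold Nd
  exact disjoint_bot_left

theorem Orth.symm (hB : B.IsRefl) {U W : Submodule F V} (h : Orth B U W) : Orth B W U :=
  fun w hw u hu => hB _ _ (h u hu w hw)

theorem orth_iff_le {U W : Submodule F V} : Orth B U W ↔ W ≤ B.orthogonal U := by
  constructor
  · intro h w hw
    rw [LinearMap.BilinForm.mem_orthogonal_iff]
    intro u hu
    exact h u hu w hw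
  · intro h u hu w hw
    have := h hw
    rw [LinearMap.BilinForm.mem_orthogonal_iff] at this
    exact this u hu

theorem Orth.mono {U W U' W' : Submodule F V} (h : Orth B U W) (hU : U' ≤ U) (hW : W' ≤ W) :
    Orth B U' W' := fun u hu w hw => h u (hU hu) w (hW hw)

theorem Orth.sup_left {U₁ U₂ W : Submodule F V} (h₁ : Orth B U₁ W) (h₂ : Orth B U₂ W) :
    Orth B (U₁ ⊔ U₂) W := by
  intro u hu w hw
  obtain ⟨a, ha, b, hb, rfl⟩ := Submodule.mem_sup.mp hu
  rw [map_add, LinearMap.add_apply, h₁ a ha w hw, h₂ b hb w hw, add_zero]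

theorem Orth.sup_right {U W₁ W₂ : Submodule F V} (h₁ : Orth B U W₁) (h₂ : Orth B U W₂) :
    Orth B U (W₁ ⊔ W₂) := by
  intro u hu w hw
  obtain ⟨a, ha, b, hb, rfl⟩ := Submodule.mem_sup.mp hw
  rw [map_add, h₁ u hu a ha, h₂ u hu b hb, add_zero]

theorem Orth.iSup_right {ι : Sort*} {U : Submodule F V} {W : ι → Submodule F V}
    (h : ∀ i, Orth B U (W i)) : Orth B U (⨆ i, W i) := by
  rw [orth_iff_le]
  exact iSup_le fun i => orth_iff_le.mp (h i)

theorem Orth.disjoint {U W : Submodule F V} (h : Orth B U W) (hU : Nd B U) :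
    Disjoint U W := by
  rw [Submodule.disjoint_def]
  intro x hxU hxW
  exact nd_iff.mp hU x hxU (fun w hw => h w hw x hxW)

/-- orthogonal sum of nondegenerate subspaces is nondegenerate -/
theorem Nd.sup (hB : B.IsRefl) {U W : Submodule F V} (hU : Nd B U) (hW : Nd B W)
    (h : Orth B U W) : Nd B (U ⊔ W) := by
  rw [nd_iff]
  intro x hx hx'
  obtain ⟨a, ha, b, hb, rfl⟩ := Submodule.mem_sup.mp hx
  have ha0 : a = 0 := by
    apply nd_iff.mp hU a ha
    intro u hu
    have := hx' u (Submodule.mem_sup_left hu)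
    rwa [map_add, h u hu b hb, add_zero] at this
  have hb0 : b = 0 := by
    apply nd_iff.mp hW b hb
    intro w hw
    have := hx' w (Submodule.mem_sup_right hw)
    rwa [map_add, h.symm hB w hw a ha, zero_add] at this
  rw [ha0, hb0, add_zero]

variable [FiniteDimensional F V]

theorem Nd.isCompl (hB : B.IsRefl) {C : Submodule F V} (hC : Nd B C) :
    IsCompl C (B.orthogonal C) :=
  (LinearMap.BilinForm.isCompl_orthogonal_iff_disjoint hB).mpr hC

/-- splitting off a nondegenerate piece -/
theorem Nd.sup_inf_orth (hB : B.IsRefl) {C M : Submodule F V} (hCM : C ≤ M) (hC : Nd B C) :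
    C ⊔ (M ⊓ B.orthogonal C) = M ∧ Disjoint C (M ⊓ B.orthogonal C) := by
  have hcompl := hC.isCompl hB
  refine ⟨?_, Disjoint.mono_right inf_le_right hcompl.disjoint⟩
  rw [inf_comm, ← sup_inf_assoc_of_le _ hCM, hcompl.sup_eq_top, top_inf_eq]

theorem Nd.finrank_inf_orth (hB : B.IsRefl) {C M : Submodule F V} (hCM : C ≤ M) (hC : Nd B C) :
    finrank F ↥C + finrank F ↥(M ⊓ B.orthogonal C) = finrank F ↥M := by
  obtain ⟨h1, h2⟩ := hC.sup_inf_orth hB hCM
  rw [← finrank_sup_of_disjoint h2, h1]

theorem Nd.inf_orth (hB : B.IsRefl) {C M : Submodule F V} (hCM : C ≤ M) (hC : Nd B C)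
    (hM : Nd B M) : Nd B (M ⊓ B.orthogonal C) :=
  Cfsg.Agent.Helper99.nondeg_inf_orthogonal B hB hCM hC hM

theorem orth_inf_orth {C M : Submodule F V} : Orth B C (M ⊓ B.orthogonal C) :=
  orth_iff_le.mpr inf_le_right

/-- a nondegenerate plane through a given nonzero vector -/
theorem exists_plane (hB : B.IsAlt) {W : Submodule F V} (hW : Nd B W) {u : V} (hu : u ∈ W)
    (hu0 : u ≠ 0) : ∃ P : Submodule F V, P ≤ W ∧ u ∈ P ∧ Nd B P ∧ finrank F ↥P = 2 := by
  have hex : ∃ w ∈ W, B w u ≠ 0 := by
    by_contra hcon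
    push Not at hcon
    exact hu0 (nd_iff.mp hW u hu hcon)
  obtain ⟨w, hw, hwu⟩ := hex
  have huw : B u w ≠ 0 := by
    intro h
    apply hwu
    rw [← hB.neg_eq, h, neg_zero]
  have hli : LinearIndependent F ![u, w] := by
    rw [LinearIndependent.pair_iff]
    intro s t hst
    have h1 : B u (s • u + t • w) = 0 := by rw [hst, map_zero]
    rw [map_add, map_smul, map_smul, hB.self_eq_zero, smul_zero, zero_add, smul_eq_mul] at h1
    have ht : t = 0 := by
      rcases mul_eq_zero.mp h1 with h | h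
      · exact h
      · exact absurd h huw
    have h2 : B w (s • u + t • w) = 0 := by rw [hst, map_zero]
    rw [map_add, map_smul, map_smul, hB.self_eq_zero, smul_zero, add_zero, smul_eq_mul] at h2
    have hs : s = 0 := by
      rcases mul_eq_zero.mp h2 with h | h
      · exact h
      · exact absurd h hwu
    exact ⟨hs, ht⟩
  refine ⟨Submodule.span F (Set.range ![u, w]), ?_, ?_, ?_, ?_⟩
  · rw [Submodule.span_le]
    rintro _ ⟨j, rfl⟩
    fin_cases j
    · exact hu
    · exact hw
  · exact Submodule.subset_span ⟨0, rfl⟩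
  · rw [nd_iff]
    intro x hx hx'
    have hrange : Set.range ![u, w] = {u, w} := by
      ext z
      simp only [Set.mem_range, Set.mem_insert_iff, Set.mem_singleton_iff]
      constructor
      · rintro ⟨j, rfl⟩
        fin_cases j
        · left; rfl
        · right; rfl
      · rintro (rfl | rfl)
        · exact ⟨0, rfl⟩
        · exact ⟨1, rfl⟩
    rw [hrange] at hx hx'
    obtain ⟨s, t, rfl⟩ := Submodule.mem_span_pair.mp hx
    have h1 := hx' u (Submodule.subset_span (by simp))
    rw [map_add, map_smul, map_smul, hB.self_eq_zero, smul_zero, zero_add, smul_eq_mul] at h1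
    have ht : t = 0 := by
      rcases mul_eq_zero.mp h1 with h | h
      · exact h
      · exact absurd h huw
    have h2 := hx' w (Submodule.subset_span (by simp))
    rw [map_add, map_smul, map_smul, hB.self_eq_zero, smul_zero, add_zero, smul_eq_mul] at h2
    have hs : s = 0 := by
      rcases mul_eq_zero.mp h2 with h | h
      · exact h
      · exact absurd h hwu
    rw [hs, ht, zero_smul, zero_smul, add_zero]
  · rw [finrank_span_eq_card hli, Fintype.card_fin]

/-- nondegenerate subspaces of every even dimension -/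
theorem exists_nd_sub (hB : B.IsAlt) : ∀ k : ℕ, ∀ W : Submodule F V, Nd B W →
    2 * k ≤ finrank F ↥W → ∃ N : Submodule F V, N ≤ W ∧ Nd B N ∧ finrank F ↥N = 2 * k := by
  intro k
  induction k with
  | zero =>
    intro W _ _
    exact ⟨⊥, bot_le, nd_bot, by simp⟩
  | succ k ih =>
    intro W hW hdim
    have hWne : W ≠ ⊥ := by
      intro h
      rw [h, finrank_bot] at hdim
      omega
    obtain ⟨u, hu, hu0⟩ := Submodule.exists_mem_ne_zero_of_ne_bot hWne
    obtain ⟨P, hPW, -, hPnd, hPdim⟩ := exists_plane hB hW hu hu0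
    have hfr := hPnd.finrank_inf_orth hB.isRefl hPW
    obtain ⟨N', hN'le, hN'nd, hN'dim⟩ := ih (W ⊓ B.orthogonal P)
      (hPnd.inf_orth hB.isRefl hPW hW) (by omega)
    have horth : Orth B P N' := orth_inf_orth.mono le_rfl hN'le
    refine ⟨P ⊔ N', sup_le hPW (hN'le.trans inf_le_left), hPnd.sup hB.isRefl hN'nd horth, ?_⟩
    rw [finrank_sup_of_disjoint (horth.disjoint hPnd), hPdim, hN'dim]
    ring

theorem even_finrank (hB : B.IsAlt) {W : Submodule F V} (hW : Nd B W) : Even (finrank F ↥W) := by
  by_contra hodd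
  rw [Nat.not_even_iff_odd] at hodd
  obtain ⟨k, hk⟩ := hodd
  obtain ⟨N, hNW, hNnd, hNdim⟩ := exists_nd_sub hB k W hW (by omega)
  have hfr := hNnd.finrank_inf_orth hB.isRefl hNW
  have hL := hNnd.inf_orth hB.isRefl hNW hW
  have h1 : finrank F ↥(W ⊓ B.orthogonal N) = 1 := by omega
  have hne : W ⊓ B.orthogonal N ≠ ⊥ := by
    intro h
    rw [h, finrank_bot] at h1
    omega
  obtain ⟨u, hu, hu0⟩ := Submodule.exists_mem_ne_zero_of_ne_bot hne
  obtain ⟨P, hPW, -, -, hPdim⟩ := exists_plane hB hL hu hu0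
  have := Submodule.finrank_mono hPW
  omega

end Cfsg.Agent.Helper99.SpStruct
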