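import Mathlib
import Cfsg.Agent.Helper99.SpStructA
import Cfsg.Agent.Helper99.SemiCompl

set_option autoImplicit false
set_option linter.unusedSectionVars false

/-!
# Isometries of odd prime order of an alternating space: fixed part ⊥ cyclotomic part,
blocks
-/

namespace Cfsg.Agent.Helper99.SpStruct

open Module Polynomial
open Cfsg.Agent.Helper59.InvChain Cfsg.Agent.Helper59.Elusive
open Cfsg.Agent.Helper99.RDecomp

universe u v

variable {F : Type u} [Field F] {V : Type v} [AddCommGroup V] [Module F V] [FiniteDimensional F V]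

/-- the data: a nondegenerate alternating form, an isometry `y` with `y ^ r = 1`. -/
structure SpSetup (B : LinearMap.BilinForm F V) (r : ℕ) (y : Module.End F V) (i : ℕ) : Prop where
  alt : B.IsAlt
  nondeg : B.Nondegenerate
  isom : ∀ u v, B (y u) (y v) = B u v
  setup : Setup r y i
  hp : HP (cyclotomic r F) i

variable {B : LinearMap.BilinForm F V} {r : ℕ} {y : Module.End F V} {i : ℕ}

theorem pow_mem_of_inv {W : Submodule F V} (hW : Inv y W) (k : ℕ) {n : V} (hn : n ∈ W) :
    (y ^ k) n ∈ W := by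
  have := hW.aeval_mem (X ^ k : F[X]) hn
  rwa [map_pow, aeval_X] at this

theorem SpSetup.isom_pow (h : SpSetup B r y i) (k : ℕ) (u v : V) :
    B ((y ^ k) u) ((y ^ k) v) = B u v := by
  induction k with
  | zero => simp
  | succ k ih => rw [pow_succ', Module.End.mul_apply, Module.End.mul_apply, h.isom, ih]

/-- orthogonals of invariant subspaces are invariant -/
theorem SpSetup.inv_orthogonal (h : SpSetup B r y i) {W : Submodule F V} (hW : Inv y W) :
    Inv y (B.orthogonal W) := by
  rw [inv_iff]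
  intro m hm
  rw [LinearMap.BilinForm.mem_orthogonal_iff] at hm ⊢
  intro n hn
  have hr := h.setup.prime.pos
  have h1 : n = y ((y ^ (r - 1)) n) := by
    rw [← Module.End.mul_apply, ← pow_succ', Nat.sub_add_cancel hr, h.setup.pow_eq]
    rfl
  rw [h1, h.isom]
  exact hm _ (pow_mem_of_inv hW _ hn)

theorem aeval_cyclotomic_eq_avg (hr : r.Prime) (y : Module.End F V) :
    aeval y (cyclotomic r F) = avg r y := by
  have : Fact r.Prime := ⟨hr⟩
  rw [cyclotomic_prime, map_sum]
  unfold avg
  apply Finset.sum_congr rfl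
  intro k _
  rw [map_pow, aeval_X]

/-- the fixed part is orthogonal to the cyclotomic part -/
theorem SpSetup.orth_fix_cyc (h : SpSetup B r y i) : Orth B (fixSp y) (cycSp r y) := by
  intro u hu v hv
  have hu' : ∀ k : ℕ, (y ^ k) u = u := by
    intro k
    induction k with
    | zero => simp
    | succ k ih => rw [pow_succ, Module.End.mul_apply, mem_fixSp.mp hu, ih]
  have h1 : ∀ k : ℕ, B u ((y ^ k) v) = B u v := by
    intro k
    conv_lhs => rw [← hu' k]
    exact h.isom_pow k u v
  have h2 : avg r y v = 0 := by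
    rw [← aeval_cyclotomic_eq_avg h.setup.prime]
    exact hv
  have h3 : B u (avg r y v) = (r : F) * B u v := by
    rw [avg_apply, map_sum, Finset.sum_congr rfl (fun k _ => h1 k), Finset.sum_const,
      Finset.card_range, nsmul_eq_mul]
  rw [h2, map_zero] at h3
  rcases mul_eq_zero.mp h3.symm with h4 | h4
  · exact absurd h4 h.setup.ne_zero
  · exact h4

theorem SpSetup.nd_inf_fix (h : SpSetup B r y i) {W : Submodule F V} (hWinv : Inv y W)
    (hW : Nd B W) : Nd B (W ⊓ fixSp y) := by
  rw [nd_iff]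
  intro u hu hu'
  apply nd_iff.mp hW u hu.1
  intro w hw
  rw [← h.setup.sup_parts W hWinv] at hw
  obtain ⟨a, ha, b, hb, rfl⟩ := Submodule.mem_sup.mp hw
  rw [map_add, LinearMap.add_apply, hu' a ha, zero_add]
  exact (h.orth_fix_cyc.symm h.alt.isRefl) b hb.2 u hu.2

theorem SpSetup.nd_inf_cyc (h : SpSetup B r y i) {W : Submodule F V} (hWinv : Inv y W)
    (hW : Nd B W) : Nd B (W ⊓ cycSp r y) := by
  rw [nd_iff]
  intro u hu hu'
  apply nd_iff.mp hW u hu.1
  intro w hw
  rw [← h.setup.sup_parts W hWinv] at hw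
  obtain ⟨a, ha, b, hb, rfl⟩ := Submodule.mem_sup.mp hw
  rw [map_add, LinearMap.add_apply, hu' b hb, add_zero]
  exact h.orth_fix_cyc a ha.2 u hu.2

/-- dimension formula inside a nondegenerate subspace -/
theorem finrank_inf_orth_of_le (hB : B.IsRefl) (hnd : B.Nondegenerate) {U W : Submodule F V}
    (hUW : U ≤ W) (hW : Nd B W) :
    finrank F ↥(W ⊓ B.orthogonal U) + finrank F ↥U = finrank F ↥W := by
  have h1 := LinearMap.BilinForm.finrank_orthogonal hnd U
  have h2 := LinearMap.BilinForm.finrank_orthogonal hnd W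
  have hle : B.orthogonal W ≤ B.orthogonal U := LinearMap.BilinForm.orthogonal_le hUW
  have hcompl := hW.isCompl hB
  have h3 : B.orthogonal W ⊔ (W ⊓ B.orthogonal U) = B.orthogonal U := by
    rw [← sup_inf_assoc_of_le _ hle, sup_comm, hcompl.sup_eq_top, top_inf_eq]
  have h4 : Disjoint (B.orthogonal W) (W ⊓ B.orthogonal U) :=
    (hcompl.disjoint.symm).mono_right inf_le_left
  have h5 := finrank_sup_of_disjoint h4
  rw [h3] at h5
  have h6 := Submodule.finrank_le U
  have h7 := Submodule.finrank_le W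
  have h8 := Submodule.finrank_mono hUW
  omega

/-- the block size -/
def blockSize (i : ℕ) : ℕ := if Even i then i else 2 * i

theorem blockSize_even {i : ℕ} (hi : Even i) : blockSize i = i := by
  unfold blockSize; rw [if_pos hi]

theorem blockSize_odd {i : ℕ} (hi : ¬ Even i) : blockSize i = 2 * i := by
  unfold blockSize; rw [if_neg hi]

theorem even_blockSize (i : ℕ) : Even (blockSize i) := by
  by_cases hi : Even i
  · rw [blockSize_even hi]; exact hi
  · rw [blockSize_odd hi]; exact even_two_mul i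

/-- nondegenerate invariant subspaces of the cyclotomic part have dimension divisible by the
block size -/
theorem SpSetup.blockSize_dvd (h : SpSetup B r y i) {W : Submodule F V} (hWinv : Inv y W)
    (hW : Nd B W) (hWc : W ≤ cycSp r y) : blockSize i ∣ finrank F ↥W := by
  have h1 := h.setup.dvd W hWinv hWc
  by_cases hi : Even i
  · rw [blockSize_even hi]; exact h1
  · rw [blockSize_odd hi]
    have h2 : 2 ∣ finrank F ↥W := (even_finrank h.alt hW).two_dvd
    have hcop : Nat.Coprime 2 i := by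
      rw [Nat.coprime_two_left]
      exact Nat.not_even_iff_odd.mp hi
    exact hcop.mul_dvd_of_dvd_of_dvd h2 h1

/-- block extraction for odd `i`: a hyperbolic pair of irreducibles -/
theorem SpSetup.exists_block_odd (h : SpSetup B r y i) (hi : ¬ Even i) {W : Submodule F V}
    (hWinv : Inv y W) (hW : Nd B W) (hWc : W ≤ cycSp r y) (hne : W ≠ ⊥) :
    ∃ N : Submodule F V, N ≤ W ∧ Inv y N ∧ Nd B N ∧ finrank F ↥N = 2 * i := by
  have hipos := h.setup.c_pos
  have hkill : ∀ u ∈ W, (aeval y (cyclotomic r F)) u = 0 := fun u hu => hWc hu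
  obtain ⟨m, hm⟩ := h.setup.dvd W hWinv hWc
  have hWpos : 0 < finrank F ↥W := by
    rw [Nat.pos_iff_ne_zero]
    intro h0
    exact hne (Submodule.finrank_eq_zero.mp h0)
  have hile : 1 * i ≤ finrank F ↥W := by
    rw [one_mul]
    exact Nat.le_of_dvd hWpos ⟨m, hm⟩
  obtain ⟨U₀, hU₀W, hU₀inv, hU₀dim⟩ := chain_exists y (cyclotomic r F) i h.hp W hWinv hkill 1 hile
  rw [one_mul] at hU₀dim
  -- U₀ is totally isotropic
  have hRinv : Inv y (U₀ ⊓ B.orthogonal U₀) := inv_inf hU₀inv (h.inv_orthogonal hU₀inv)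
  obtain ⟨m', hm'⟩ := h.setup.dvd (U₀ ⊓ B.orthogonal U₀) hRinv (inf_le_left.trans (hU₀W.trans hWc))
  have hRle : finrank F ↥(U₀ ⊓ B.orthogonal U₀) ≤ i := by
    rw [← hU₀dim]; exact Submodule.finrank_mono inf_le_left
  have hiso : U₀ ≤ B.orthogonal U₀ := by
    rcases Nat.eq_zero_or_pos m' with h0 | hpos
    · exfalso
      rw [h0, mul_zero] at hm'
      have hnd : Nd B U₀ := by
        unfold Nd
        rw [disjoint_iff]
        exact Submodule.finrank_eq_zero.mp hm'
      have := even_finrank h.alt hnd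
      rw [hU₀dim] at this
      exact hi this
    · have h1 : i ≤ i * m' := Nat.le_mul_of_pos_right i hpos
      have h2 : finrank F ↥(U₀ ⊓ B.orthogonal U₀) = finrank F ↥U₀ := by omega
      have h3 : U₀ ⊓ B.orthogonal U₀ = U₀ := Submodule.eq_of_le_of_finrank_eq inf_le_left h2
      intro x hx
      rw [← h3] at hx
      exact hx.2
  -- M = W ⊓ U₀^⊥ and an invariant complement
  set M := W ⊓ B.orthogonal U₀ with hM
  have hMinv : Inv y M := inv_inf hWinv (h.inv_orthogonal hU₀inv)
  have hMdim : finrank F ↥M + finrank F ↥U₀ = finrank F ↥W :=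
    finrank_inf_orth_of_le h.alt.isRefl h.nondeg hU₀W hW
  obtain ⟨C'', hC''c, hC''inv⟩ := Cfsg.Agent.Helper99.SemiCompl.exists_invariant_compl r
    h.setup.ne_zero y 1 one_ne_zero (by rw [h.setup.pow_eq, one_smul]) M hMinv
  obtain ⟨hdMU, hsMU⟩ := exists_rel_compl (show M ≤ W from inf_le_left) C'' hC''c
  set U' := C'' ⊓ W with hU'
  have hU'inv : Inv y U' := inv_inf hC''inv hWinv
  have hU'dim : finrank F ↥M + finrank F ↥U' = finrank F ↥W := by
    rw [← finrank_sup_of_disjoint hdMU, hsMU]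
  have hU₀M : U₀ ≤ M := le_inf hU₀W hiso
  have hdis : Disjoint U₀ U' := hdMU.mono_left hU₀M
  refine ⟨U₀ ⊔ U', sup_le hU₀W inf_le_right, inv_sup hU₀inv hU'inv, ?_, ?_⟩
  · rw [nd_iff]
    intro x hx hx'
    obtain ⟨a, ha, b, hb, rfl⟩ := Submodule.mem_sup.mp hx
    -- b ∈ M
    have hbM : b ∈ M := by
      refine Submodule.mem_inf.mpr ⟨hb.2, ?_⟩
      rw [LinearMap.BilinForm.mem_orthogonal_iff]
      intro u₀ hu₀
      have := hx' u₀ (Submodule.mem_sup_left hu₀)
      rw [map_add] at this
      have h0 : B u₀ a = 0 := by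
        have := hiso ha
        rw [LinearMap.BilinForm.mem_orthogonal_iff] at this
        exact this u₀ hu₀
      rwa [h0, zero_add] at this
    have hb0 : b = 0 := by
      have : b ∈ M ⊓ U' := ⟨hbM, hb⟩
      rw [hdMU.eq_bot] at this
      exact (Submodule.mem_bot F).mp this
    rw [hb0, add_zero] at hx' ⊢
    apply nd_iff.mp hW a (hU₀W ha)
    intro w hw
    rw [← hsMU] at hw
    obtain ⟨m₁, hm₁, u₁, hu₁, rfl⟩ := Submodule.mem_sup.mp hw
    rw [map_add, LinearMap.add_apply, hx' u₁ (Submodule.mem_sup_right hu₁), add_zero]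
    have hm₂ : m₁ ∈ B.orthogonal U₀ := (Submodule.mem_inf.mp hm₁).2
    rw [LinearMap.BilinForm.mem_orthogonal_iff] at hm₂
    exact h.alt.isRefl _ _ (hm₂ a ha)
  · rw [finrank_sup_of_disjoint hdis, hU₀dim]
    omega

/-- from block extraction to nondegenerate invariant subspaces of all block-multiple
dimensions -/
theorem SpSetup.exists_blocks (h : SpSetup B r y i) (c : ℕ) (hc : 0 < c)
    (hblock : ∀ W : Submodule F V, Inv y W → Nd B W → W ≤ cycSp r y → W ≠ ⊥ →
      ∃ N : Submodule F V, N ≤ W ∧ Inv y N ∧ Nd B N ∧ finrank F ↥N = c) :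
    ∀ j : ℕ, ∀ W : Submodule F V, Inv y W → Nd B W → W ≤ cycSp r y → j * c ≤ finrank F ↥W →
      ∃ N : Submodule F V, N ≤ W ∧ Inv y N ∧ Nd B N ∧ finrank F ↥N = j * c := by
  intro j
  induction j with
  | zero =>
    intro W _ _ _ _
    exact ⟨⊥, bot_le, inv_bot y, nd_bot, by simp⟩
  | succ j ih =>
    intro W hWinv hW hWc hdim
    have hne : W ≠ ⊥ := by
      intro h0
      rw [h0, finrank_bot] at hdim
      have : 0 < (j + 1) * c := Nat.mul_pos (Nat.succ_pos j) hc
      omega
    obtain ⟨U, hUW, hUinv, hUnd, hUdim⟩ := hblock W hWinv hW hWc hne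
    have hfr := hUnd.finrank_inf_orth h.alt.isRefl hUW
    have hW'inv : Inv y (W ⊓ B.orthogonal U) := inv_inf hWinv (h.inv_orthogonal hUinv)
    have hsucc : (j + 1) * c = j * c + c := by ring
    obtain ⟨N', hN'le, hN'inv, hN'nd, hN'dim⟩ := ih (W ⊓ B.orthogonal U) hW'inv
      (hUnd.inf_orth h.alt.isRefl hUW hW) (inf_le_left.trans hWc) (by omega)
    have horth : Orth B U N' := orth_inf_orth.mono le_rfl hN'le
    refine ⟨U ⊔ N', sup_le hUW (hN'le.trans inf_le_left), inv_sup hUinv hN'inv,
      hUnd.sup h.alt.isRefl hN'nd horth, ?_⟩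
    rw [finrank_sup_of_disjoint (horth.disjoint hUnd), hUdim, hN'dim]
    omega

end Cfsg.Agent.Helper99.SpStruct
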