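import Mathlib
import Cfsg.Agent.Helper99.SpStructB

set_option autoImplicit false
set_option linter.unusedSectionVars false

/-!
# Block extraction for even `i`: polarization and the Frobenius trick
-/

namespace Cfsg.Agent.Helper99.SpStruct

open Module Polynomial
open Cfsg.Agent.Helper59.InvChain Cfsg.Agent.Helper59.Elusive
open Cfsg.Agent.Helper99.RDecomp

universe u v

section general

variable {F : Type u} [Field F] {V : Type v} [AddCommGroup V] [Module F V] [FiniteDimensional F V]
variable {B : LinearMap.BilinForm F V} {r : ℕ} {y : Module.End F V} {i : ℕ}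

theorem SpSetup.pow_mul_inv (h : SpSetup B r y i) (k : ℕ) : y ^ k * (y ^ (r - 1)) ^ k = 1 := by
  have hr := h.setup.prime.pos
  have h1 : y * y ^ (r - 1) = 1 := by
    rw [← pow_succ', Nat.sub_add_cancel hr, h.setup.pow_eq]
  have hc : Commute y (y ^ (r - 1)) := Commute.pow_right (Commute.refl y) _
  rw [← hc.mul_pow, h1, one_pow]

theorem SpSetup.adjoint_pow (h : SpSetup B r y i) (k : ℕ) (u v : V) :
    B ((y ^ k) u) v = B u (((y ^ (r - 1)) ^ k) v) := by
  have h1 : v = (y ^ k) (((y ^ (r - 1)) ^ k) v) := by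
    rw [← Module.End.mul_apply, h.pow_mul_inv k]
    rfl
  conv_lhs => rw [h1]
  exact h.isom_pow k _ _

theorem SpSetup.adjoint_aeval (h : SpSetup B r y i) (g : F[X]) (u v : V) :
    B ((aeval y g) u) v = B u ((aeval (y ^ (r - 1)) g) v) := by
  rw [aeval_eq_sum_range, aeval_eq_sum_range]
  simp only [LinearMap.sum_apply, LinearMap.smul_apply, map_sum, map_smul, smul_eq_mul]
  apply Finset.sum_congr rfl
  intro k _
  rw [h.adjoint_pow]

/-- polarization: a nonzero nondegenerate invariant subspace of the cyclotomic part contains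
`u` with `B u (y u) ≠ 0` (for odd `r`). -/
theorem SpSetup.exists_pairing (h : SpSetup B r y i) (hodd : Odd r) {W : Submodule F V}
    (hWinv : Inv y W) (hW : Nd B W) (hWc : W ≤ cycSp r y) (hne : W ≠ ⊥) :
    ∃ u ∈ W, B u (y u) ≠ 0 := by
  by_contra hcon
  push Not at hcon
  apply hne
  rw [eq_bot_iff]
  intro v hv
  rw [Submodule.mem_bot]
  have hr := h.setup.prime.pos
  have hyinv : ∀ w : V, y ((y ^ (r - 1)) w) = w := by
    intro w
    rw [← Module.End.mul_apply, ← pow_succ', Nat.sub_add_cancel hr, h.setup.pow_eq]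
    rfl
  -- B u (y v) = B u (y⁻¹ v) for u, v ∈ W
  have hkey : ∀ u ∈ W, B u (y v - (y ^ (r - 1)) v) = 0 := by
    intro u hu
    have h1 := hcon (u + v) (W.add_mem hu hv)
    simp only [map_add, LinearMap.add_apply] at h1
    rw [hcon u hu, hcon v hv] at h1
    have h2 : B v (y u) = - B u ((y ^ (r - 1)) v) := by
      rw [← h.alt.neg_eq, neg_inj]
      conv_lhs => rw [← hyinv v]
      exact h.isom _ _
    rw [h2] at h1
    rw [map_sub]
    linear_combination h1
  have hmem : y v - (y ^ (r - 1)) v ∈ W :=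
    W.sub_mem (hWinv.apply_mem hv) (pow_mem_of_inv hWinv _ hv)
  have h3 : y v - (y ^ (r - 1)) v = 0 := nd_iff.mp hW _ hmem hkey
  have h4 : y (y v) = v := by
    have := congrArg y h3
    rw [map_sub, hyinv, map_zero, sub_eq_zero] at this
    exact this
  -- y v = v since r is odd
  obtain ⟨m, hm⟩ := hodd
  have h5 : ∀ j : ℕ, ((y ^ 2) ^ j) v = v := by
    intro j
    induction j with
    | zero => simp
    | succ j ih =>
      have hsq : (y ^ 2) v = v := by rw [pow_two, Module.End.mul_apply, h4]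
      rw [pow_succ, Module.End.mul_apply, hsq, ih]
  have h6 : y v = v := by
    have h7 : (y ^ r) v = v := by rw [h.setup.pow_eq]; rfl
    rw [hm, pow_succ', pow_mul, Module.End.mul_apply, h5] at h7
    exact h7
  have h8 : v ∈ fixSp y ⊓ cycSp r y := ⟨mem_fixSp.mpr h6, hWc hv⟩
  have : Fact r.Prime := ⟨h.setup.prime⟩
  rw [disjoint_fix_cyc r h.setup.ne_zero y] at h8
  exact (Submodule.mem_bot F).mp h8

/-- the cyclic subspace generated by `u` -/
noncomputable def cycSub (y : Module.End F V) (u : V) : Submodule F V :=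
  LinearMap.range ((LinearMap.applyₗ u).comp (aeval y).toLinearMap)

theorem mem_cycSub {y : Module.End F V} {u x : V} :
    x ∈ cycSub y u ↔ ∃ g : F[X], (aeval y g) u = x := by
  unfold cycSub
  rw [LinearMap.mem_range]
  rfl

theorem self_mem_cycSub (y : Module.End F V) (u : V) : u ∈ cycSub y u :=
  mem_cycSub.mpr ⟨1, by simp⟩

theorem apply_mem_cycSub (y : Module.End F V) (u : V) : y u ∈ cycSub y u :=
  mem_cycSub.mpr ⟨X, by simp⟩

theorem inv_cycSub (y : Module.End F V) (u : V) : Inv y (cycSub y u) := by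
  rw [inv_iff]
  intro x hx
  obtain ⟨g, rfl⟩ := mem_cycSub.mp hx
  refine mem_cycSub.mpr ⟨X * g, ?_⟩
  rw [map_mul, aeval_X, Module.End.mul_apply]

theorem cycSub_le (y : Module.End F V) {u : V} {W : Submodule F V} (hW : Inv y W) (hu : u ∈ W) :
    cycSub y u ≤ W := by
  intro x hx
  obtain ⟨g, rfl⟩ := mem_cycSub.mp hx
  exact hW.aeval_mem g hu

theorem finrank_cycSub_le (y : Module.End F V) (u : V) (P : F[X]) (hP : P ≠ 0)
    (hPu : (aeval y P) u = 0) : finrank F ↥(cycSub y u) ≤ P.natDegree := by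
  have hle : cycSub y u ≤ LinearMap.range (cyc y u P.natDegree) := by
    intro x hx
    obtain ⟨g, rfl⟩ := mem_cycSub.mp hx
    have hdeg : (g % P).degree < (P.natDegree : WithBot ℕ) := by
      have := degree_mod_lt g hP
      rwa [degree_eq_natDegree hP] at this
    refine ⟨⟨g % P, mem_degreeLT.mpr hdeg⟩, ?_⟩
    rw [cyc_apply]
    have h1 : g = P * (g / P) + g % P := (EuclideanDomain.div_add_mod g P).symm
    conv_rhs => rw [h1]
    rw [map_add, LinearMap.add_apply, mul_comm, map_mul, Module.End.mul_apply, hPu, map_zero,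
      zero_add]
  calc finrank F ↥(cycSub y u) ≤ finrank F ↥(LinearMap.range (cyc y u P.natDegree)) :=
        Submodule.finrank_mono hle
    _ ≤ finrank F ↥(degreeLT F P.natDegree) := LinearMap.finrank_range_le _
    _ = P.natDegree := by
        rw [LinearEquiv.finrank_eq (degreeLTEquiv F P.natDegree), Module.finrank_fin_fun]

/-- an irreducible factor with nonzero primary part -/
theorem exists_irreducible_ker_ne_bot (y : Module.End F V) :
    ∀ d : ℕ, ∀ g : F[X], g.natDegree = d → g ≠ 0 → ∀ W : Submodule F V, Inv y W → W ≠ ⊥ →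
      (∀ w ∈ W, (aeval y g) w = 0) →
      ∃ P : F[X], Irreducible P ∧ P ∣ g ∧ W ⊓ LinearMap.ker (aeval y P) ≠ ⊥ := by
  intro d
  induction d using Nat.strong_induction_on with
  | _ d ih =>
    intro g hd hg W hWinv hWne hkill
    have hnu : ¬ IsUnit g := by
      intro hu
      apply hWne
      rw [eq_bot_iff]
      intro w hw
      obtain ⟨c, hc, rfl⟩ := Polynomial.isUnit_iff.mp hu
      have := hkill w hw
      rw [aeval_C, Module.algebraMap_end_apply] at this
      rw [Submodule.mem_bot]
      rcases smul_eq_zero.mp this with h0 | h0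
      · exact absurd h0 hc.ne_zero
      · exact h0
    obtain ⟨P, hPirr, hPdvd⟩ := WfDvdMonoid.exists_irreducible_factor hnu hg
    obtain ⟨g', rfl⟩ := hPdvd
    by_cases hker : W ⊓ LinearMap.ker (aeval y P) ≠ ⊥
    · exact ⟨P, hPirr, dvd_mul_right _ _, hker⟩
    · push Not at hker
      have hg' : g' ≠ 0 := right_ne_zero_of_mul hg
      have hkill' : ∀ w ∈ W, (aeval y g') w = 0 := by
        intro w hw
        have h1 : (aeval y g') w ∈ W ⊓ LinearMap.ker (aeval y P) := by
          refine Submodule.mem_inf.mpr ⟨hWinv.aeval_mem g' hw, ?_⟩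
          rw [LinearMap.mem_ker, ← Module.End.mul_apply, ← map_mul]
          exact hkill w hw
        rw [hker] at h1
        exact (Submodule.mem_bot F).mp h1
      have hlt : g'.natDegree < d := by
        rw [← hd, natDegree_mul hPirr.ne_zero hg']
        have := hPirr.natDegree_pos
        omega
      obtain ⟨P', hP'irr, hP'dvd, hP'ne⟩ := ih _ hlt g' rfl hg' W hWinv hWne hkill'
      exact ⟨P', hP'irr, hP'dvd.trans (dvd_mul_left _ _), hP'ne⟩

end general

/-- If the order of `q` modulo `r` is even, `q ^ (i / 2) ≡ -1 (mod r)`. -/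
theorem dvd_pow_half_add_one' {q r i : ℕ} (hr : r.Prime) (hi : i = orderOf (q : ZMod r))
    (hieven : Even i) (hipos : 0 < i) : r ∣ q ^ (i / 2) + 1 := by
  have : Fact r.Prime := ⟨hr⟩
  obtain ⟨j, hj⟩ := hieven
  have hj0 : j ≠ 0 := by omega
  have hij : i / 2 = j := by omega
  set x : ZMod r := (q : ZMod r) ^ j with hx
  have hx2 : x * x = 1 := by
    rw [hx, ← pow_add, ← hj, hi]
    exact pow_orderOf_eq_one _
  have hx1 : x ≠ 1 := by
    rw [hx]
    apply pow_ne_one_of_lt_orderOf hj0
    rw [← hi]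
    omega
  have h0 : (x - 1) * (x + 1) = 0 := by
    calc (x - 1) * (x + 1) = x * x - 1 := by ring
      _ = 0 := by rw [hx2, sub_self]
  have hx' : x + 1 = 0 := by
    rcases mul_eq_zero.mp h0 with h | h
    · exact absurd (sub_eq_zero.mp h) hx1
    · exact h
  rw [← ZMod.natCast_eq_zero_iff, hij]
  push_cast
  exact hx'

section finite

variable {F : Type u} [Field F] [Fintype F] {V : Type v} [AddCommGroup V] [Module F V]
  [FiniteDimensional F V]
variable {B : LinearMap.BilinForm F V} {r : ℕ} {y : Module.End F V}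

theorem aeval_pow_card (y : Module.End F V) (g : F[X]) :
    (aeval y g) ^ (Fintype.card F) = aeval (y ^ Fintype.card F) g := by
  rw [← map_pow, ← FiniteField.expand_card, expand_aeval]

theorem aeval_pow_card_pow (y : Module.End F V) (g : F[X]) (m : ℕ) :
    (aeval y g) ^ (Fintype.card F ^ m) = aeval (y ^ (Fintype.card F ^ m)) g := by
  induction m generalizing y with
  | zero => rw [pow_zero, pow_one, pow_one]
  | succ m ih =>
    rw [pow_succ, pow_mul, ih, aeval_pow_card, ← pow_mul]

/-- in the even case `y⁻¹` is a Frobenius power of `y` -/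
theorem SpSetup.inv_eq_pow (h : SpSetup B r y (orderOf ((Fintype.card F : ℕ) : ZMod r)))
    (hi : Even (orderOf ((Fintype.card F : ℕ) : ZMod r))) :
    y ^ (r - 1) = y ^ (Fintype.card F ^ (orderOf ((Fintype.card F : ℕ) : ZMod r) / 2)) := by
  have hr := h.setup.prime.pos
  obtain ⟨t, ht⟩ := dvd_pow_half_add_one' h.setup.prime rfl hi
    h.setup.c_pos
  set s := Fintype.card F ^ (orderOf ((Fintype.card F : ℕ) : ZMod r) / 2) with hs
  have h1 : y ^ (s + 1) = 1 := by rw [ht, pow_mul, h.setup.pow_eq, one_pow]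
  have h2 : y * y ^ (r - 1) = 1 := by
    rw [← pow_succ', Nat.sub_add_cancel hr, h.setup.pow_eq]
  calc y ^ (r - 1) = y ^ (s + 1) * y ^ (r - 1) := by rw [h1, one_mul]
    _ = y ^ s * (y * y ^ (r - 1)) := by rw [pow_succ, mul_assoc]
    _ = y ^ s := by rw [h2, mul_one]

/-- self-duality: in the even case, `g(y) u = 0` implies `u ⊥ g(y) V`. -/
theorem SpSetup.orth_of_aeval_eq_zero
    (h : SpSetup B r y (orderOf ((Fintype.card F : ℕ) : ZMod r)))
    (hi : Even (orderOf ((Fintype.card F : ℕ) : ZMod r))) (g : F[X]) {u : V}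
    (hu : (aeval y g) u = 0) (v : V) : B u ((aeval y g) v) = 0 := by
  apply h.alt.isRefl
  rw [h.adjoint_aeval, h.inv_eq_pow hi, ← aeval_pow_card_pow]
  have hspos : 0 < Fintype.card F ^ (orderOf ((Fintype.card F : ℕ) : ZMod r) / 2) :=
    pow_pos Fintype.card_pos _
  obtain ⟨s', hs'⟩ : ∃ s', Fintype.card F ^ (orderOf ((Fintype.card F : ℕ) : ZMod r) / 2) =
      s' + 1 := ⟨_, (Nat.succ_pred_eq_of_pos hspos).symm⟩
  rw [hs', pow_succ, Module.End.mul_apply, hu, map_zero, map_zero]

theorem SpSetup.orth_ker_of_coprime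
    (h : SpSetup B r y (orderOf ((Fintype.card F : ℕ) : ZMod r)))
    (hi : Even (orderOf ((Fintype.card F : ℕ) : ZMod r))) {P P' : F[X]} (hcop : IsCoprime P P') :
    Orth B (LinearMap.ker (aeval y P)) (LinearMap.ker (aeval y P')) := by
  intro u hu v hv
  obtain ⟨a, b, hab⟩ := hcop
  have h1 : v = (aeval y P) ((aeval y a) v) := by
    have h2 : (aeval y (a * P + b * P')) v = v := by rw [hab, map_one]; rfl
    rw [map_add, LinearMap.add_apply, map_mul, map_mul, Module.End.mul_apply, Module.End.mul_apply,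
      LinearMap.mem_ker.mp hv, map_zero, add_zero] at h2
    rw [← Module.End.mul_apply, ← map_mul, mul_comm, map_mul, Module.End.mul_apply]
    exact h2.symm
  rw [h1]
  exact h.orth_of_aeval_eq_zero hi P (LinearMap.mem_ker.mp hu) _

theorem SpSetup.nd_inf_ker
    (h : SpSetup B r y (orderOf ((Fintype.card F : ℕ) : ZMod r)))
    (hi : Even (orderOf ((Fintype.card F : ℕ) : ZMod r))) {P P' : F[X]} (hcop : IsCoprime P P')
    {W : Submodule F V} (hWinv : Inv y W) (hW : Nd B W)
    (hkill : ∀ w ∈ W, (aeval y (P * P')) w = 0) : Nd B (W ⊓ LinearMap.ker (aeval y P)) := by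
  rw [nd_iff]
  intro u hu hu'
  apply nd_iff.mp hW u hu.1
  intro w hw
  obtain ⟨a, b, hab⟩ := hcop
  have h2 : w = (aeval y (b * P')) w + (aeval y (a * P)) w := by
    rw [← LinearMap.add_apply, ← map_add, add_comm, hab, map_one]
    rfl
  rw [h2, map_add, LinearMap.add_apply]
  have h3 : (aeval y (b * P')) w ∈ W ⊓ LinearMap.ker (aeval y P) := by
    refine Submodule.mem_inf.mpr ⟨hWinv.aeval_mem _ hw, ?_⟩
    rw [LinearMap.mem_ker, ← Module.End.mul_apply, ← map_mul]
    have h4 : P * (b * P') = b * (P * P') := by ring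
    rw [h4, map_mul, Module.End.mul_apply, hkill w hw, map_zero]
  have h5 : (aeval y (a * P)) w ∈ LinearMap.ker (aeval y P') := by
    rw [LinearMap.mem_ker, ← Module.End.mul_apply, ← map_mul]
    have h4 : P' * (a * P) = a * (P * P') := by ring
    rw [h4, map_mul, Module.End.mul_apply, hkill w hw, map_zero]
  rw [hu' _ h3, zero_add]
  exact ((h.orth_ker_of_coprime hi ⟨a, b, hab⟩).symm h.alt.isRefl) _ h5 u hu.2

/-- block extraction for even `i` -/
theorem SpSetup.exists_block_even
    (h : SpSetup B r y (orderOf ((Fintype.card F : ℕ) : ZMod r)))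
    (hi : Even (orderOf ((Fintype.card F : ℕ) : ZMod r))) (hodd : Odd r) {W : Submodule F V}
    (hWinv : Inv y W) (hW : Nd B W) (hWc : W ≤ cycSp r y) (hne : W ≠ ⊥) :
    ∃ N : Submodule F V, N ≤ W ∧ Inv y N ∧ Nd B N ∧
      finrank F ↥N = orderOf ((Fintype.card F : ℕ) : ZMod r) := by
  set i := orderOf ((Fintype.card F : ℕ) : ZMod r) with hidef
  have hipos := h.setup.c_pos
  -- the primary part
  obtain ⟨P, hPirr, hPdvd, hPne⟩ := exists_irreducible_ker_ne_bot y _ (cyclotomic r F) rfl
    (cyclotomic_ne_zero r F) W hWinv hne (fun w hw => hWc hw)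
  have hPdeg : P.natDegree = i := h.hp.2 P hPirr hPdvd
  obtain ⟨P', hP'⟩ := hPdvd
  have hsq : Squarefree (cyclotomic r F) := by
    have hsep : (X ^ r - 1 : F[X]).Separable := by
      have := Polynomial.separable_X_pow_sub_C (1 : F) h.setup.ne_zero one_ne_zero
      simpa using this
    exact (hsep.of_dvd (cyclotomic.dvd_X_pow_sub_one r F)).squarefree
  have hcop : IsCoprime P P' := by
    rw [hPirr.coprime_iff_not_dvd]
    rintro ⟨P'', hP''⟩
    have h1 : P * P ∣ cyclotomic r F := ⟨P'', by rw [hP', hP'']; ring⟩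
    exact hPirr.not_isUnit (hsq P h1)
  set WP := W ⊓ LinearMap.ker (aeval y P) with hWP
  have hWPinv : Inv y WP := inv_inf hWinv (inv_ker_aeval y P)
  have hWPnd : Nd B WP := h.nd_inf_ker hi hcop hWinv hW (fun w hw => by rw [← hP']; exact hWc hw)
  have hWPc : WP ≤ cycSp r y := inf_le_left.trans hWc
  obtain ⟨u, huWP, hpair⟩ := h.exists_pairing hodd hWPinv hWPnd hWPc hPne
  -- the cyclic subspace
  have hZle : cycSub y u ≤ WP := cycSub_le y hWPinv huWP
  have hZinv := inv_cycSub y u
  have hu0 : u ≠ 0 := by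
    rintro rfl
    apply hpair
    rw [map_zero, LinearMap.zero_apply]
  have hZne : cycSub y u ≠ ⊥ := by
    intro h0
    have := self_mem_cycSub y u
    rw [h0] at this
    exact hu0 ((Submodule.mem_bot F).mp this)
  have hZdim : finrank F ↥(cycSub y u) = i := by
    have h1 := finrank_cycSub_le y u P hPirr.ne_zero (LinearMap.mem_ker.mp huWP.2)
    rw [hPdeg] at h1
    obtain ⟨m, hm⟩ := h.setup.dvd _ hZinv (hZle.trans hWPc)
    have hpos : 0 < finrank F ↥(cycSub y u) := by
      rw [Nat.pos_iff_ne_zero]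
      intro h0
      exact hZne (Submodule.finrank_eq_zero.mp h0)
    rcases Nat.eq_zero_or_pos m with h0 | hmpos
    · rw [h0, mul_zero] at hm; omega
    · have : i ≤ i * m := Nat.le_mul_of_pos_right i hmpos
      omega
  refine ⟨cycSub y u, hZle.trans inf_le_left, hZinv, ?_, hZdim⟩
  -- nondegenerate
  have hRinv : Inv y (cycSub y u ⊓ B.orthogonal (cycSub y u)) :=
    inv_inf hZinv (h.inv_orthogonal hZinv)
  obtain ⟨m', hm'⟩ := h.setup.dvd _ hRinv (inf_le_left.trans (hZle.trans hWPc))
  have hRle : finrank F ↥(cycSub y u ⊓ B.orthogonal (cycSub y u)) ≤ i := by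
    rw [← hZdim]; exact Submodule.finrank_mono inf_le_left
  rcases Nat.eq_zero_or_pos m' with h0 | hpos
  · rw [h0, mul_zero] at hm'
    unfold Nd
    rw [disjoint_iff]
    exact Submodule.finrank_eq_zero.mp hm'
  · exfalso
    have h1 : i ≤ i * m' := Nat.le_mul_of_pos_right i hpos
    have h2 : finrank F ↥(cycSub y u ⊓ B.orthogonal (cycSub y u)) = finrank F ↥(cycSub y u) := by
      omega
    have h3 : cycSub y u ⊓ B.orthogonal (cycSub y u) = cycSub y u :=
      Submodule.eq_of_le_of_finrank_eq inf_le_left h2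
    have h4 : y u ∈ cycSub y u ⊓ B.orthogonal (cycSub y u) := by
      rw [h3]; exact apply_mem_cycSub y u
    have h5 := (Submodule.mem_inf.mp h4).2
    rw [LinearMap.BilinForm.mem_orthogonal_iff] at h5
    exact hpair (h5 u (self_mem_cycSub y u))

end finite

end Cfsg.Agent.Helper99.SpStruct
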