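import Mathlib
import Cfsg.Agent.Helper99.SpStructC

set_option autoImplicit false
set_option linter.unusedSectionVars false

/-!
# Orthogonal invariant decompositions
-/

namespace Cfsg.Agent.Helper99.SpStruct

open Module Polynomial
open Cfsg.Agent.Helper59.InvChain Cfsg.Agent.Helper59.Elusive
open Cfsg.Agent.Helper99.RDecomp

universe u v

variable {F : Type u} [Field F] [Fintype F] {V : Type v} [AddCommGroup V] [Module F V]
  [FiniteDimensional F V]
variable {B : LinearMap.BilinForm F V} {r : ℕ} {y : Module.End F V}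

/-- block extraction, both parities -/
theorem SpSetup.exists_block
    (h : SpSetup B r y (orderOf ((Fintype.card F : ℕ) : ZMod r))) (hodd : Odd r)
    (W : Submodule F V) (hWinv : Inv y W) (hW : Nd B W) (hWc : W ≤ cycSp r y) (hne : W ≠ ⊥) :
    ∃ N : Submodule F V, N ≤ W ∧ Inv y N ∧ Nd B N ∧
      finrank F ↥N = blockSize (orderOf ((Fintype.card F : ℕ) : ZMod r)) := by
  by_cases hi : Even (orderOf ((Fintype.card F : ℕ) : ZMod r))
  · rw [blockSize_even hi]
    exact h.exists_block_even hi hodd hWinv hW hWc hne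
  · rw [blockSize_odd hi]
    exact h.exists_block_odd hi hWinv hW hWc hne

theorem blockSize_pos {i : ℕ} (hi : 0 < i) : 0 < blockSize i := by
  unfold blockSize
  split_ifs <;> omega

/-- the orthogonal analogue of `exists_inv_decomp` -/
theorem SpSetup.exists_orth_decomp
    (h : SpSetup B r y (orderOf ((Fintype.card F : ℕ) : ZMod r))) (hodd : Odd r) (a : ℕ)
    (hae : Even a) :
    ∀ t : ℕ, ∀ W : Submodule F V, Inv y W → Nd B W → finrank F ↥W = t * a →
      t * (a % blockSize (orderOf ((Fintype.card F : ℕ) : ZMod r))) ≤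
        finrank F ↥(W ⊓ fixSp y) →
      ∃ D : Fin t → Submodule F V, (∀ j, Inv y (D j)) ∧ (∀ j, Nd B (D j)) ∧
        (∀ j, finrank F ↥(D j) = a) ∧ (∀ j j', j ≠ j' → Orth B (D j) (D j')) ∧
        iSupIndep D ∧ iSup D = W := by
  set c := blockSize (orderOf ((Fintype.card F : ℕ) : ZMod r)) with hcdef
  have hcpos : 0 < c := blockSize_pos h.setup.c_pos
  have hceven : Even c := even_blockSize _
  have hrefl := h.alt.isRefl
  intro t
  induction t with
  | zero =>
    intro W _ _ hdim _
    rw [zero_mul] at hdim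
    have hW : W = ⊥ := Submodule.finrank_eq_zero.mp hdim
    refine ⟨fun _ => ⊥, fun j => j.elim0, fun j => j.elim0, fun j => j.elim0,
      fun j => j.elim0, iSupIndep_subsingleton _, ?_⟩
    rw [hW]
    exact iSup_of_empty _
  | succ t ih =>
    intro W hW hWnd hdim hfix
    set ℓ := a % c with hℓ
    set a' := a / c with ha'
    have hdecomp : a = a' * c + ℓ := (Nat.div_add_mod' a c).symm
    have hℓeven : Even ℓ := by
      have h1 : Even (a' * c) := hceven.mul_left a'
      rw [hdecomp] at hae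
      exact (Nat.even_add.mp hae).mp h1
    have hsplit := h.setup.split W hW
    have hWfnd := h.nd_inf_fix hW hWnd
    have hWcnd := h.nd_inf_cyc hW hWnd
    have hWcinv : Inv y (W ⊓ cycSp r y) := inv_inf hW (inv_cycSp r y)
    obtain ⟨m, hm⟩ := h.blockSize_dvd hWcinv hWcnd inf_le_right
    rw [← hcdef] at hm
    set fW := finrank F ↥(W ⊓ fixSp y) with hfW
    have hmle : m ≤ (t + 1) * a' := by
      by_contra hcon
      push Not at hcon
      have h1 : ((t + 1) * a' + 1) * c ≤ m * c := Nat.mul_le_mul_right c hcon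
      have h2 : (t + 1) * a = (t + 1) * a' * c + (t + 1) * ℓ := by rw [hdecomp]; ring
      have h3 : ℓ < c := Nat.mod_lt _ hcpos
      nlinarith [h1, h2, hsplit, hdim, hm, hfix, mul_comm c m]
    set u := (t + 1) * a' - m with hu
    have hfWeq : fW = (t + 1) * ℓ + u * c := by
      have h2 : (t + 1) * a = (t + 1) * a' * c + (t + 1) * ℓ := by rw [hdecomp]; ring
      have h4 : u * c + m * c = (t + 1) * a' * c := by
        rw [hu, ← add_mul, Nat.sub_add_cancel hmle]
      nlinarith [h2, h4, hsplit, hdim, hm, mul_comm c m]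
    set u0 := min a' u with hu0
    have hu0a : u0 ≤ a' := min_le_left _ _
    have hu0u : u0 ≤ u := min_le_right _ _
    -- A inside W ⊓ Fix
    have hAeven : Even (ℓ + u0 * c) := hℓeven.add (hceven.mul_left u0)
    obtain ⟨kA, hkA⟩ := hAeven
    have hkA' : ℓ + u0 * c = 2 * kA := by omega
    have hf0le : 2 * kA ≤ finrank F ↥(W ⊓ fixSp y) := by
      rw [← hkA', ← hfW, hfWeq]
      have : u0 * c ≤ u * c := Nat.mul_le_mul_right c hu0u
      nlinarith
    obtain ⟨A, hAle, hAnd, hAdim⟩ := exists_nd_sub h.alt kA (W ⊓ fixSp y) hWfnd hf0le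
    rw [← hkA'] at hAdim
    have hAfix : A ≤ fixSp y := hAle.trans inf_le_right
    have hAinv : Inv y A := inv_of_le_fixSp hAfix
    -- Bk inside W ⊓ Cyc
    have hBle' : (a' - u0) * c ≤ finrank F ↥(W ⊓ cycSp r y) := by
      rw [hm, mul_comm c m]
      apply Nat.mul_le_mul_right
      rcases le_total a' u with hle | hle
      · have : u0 = a' := min_eq_left hle
        omega
      · have : u0 = u := min_eq_right hle
        have h5 : a' ≤ (t + 1) * a' := Nat.le_mul_of_pos_left a' (Nat.succ_pos t)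
        omega
    obtain ⟨Bk, hBle, hBinv, hBnd, hBdim⟩ := h.exists_blocks c hcpos
      (fun W' h1 h2 h3 h4 => h.exists_block hodd W' h1 h2 h3 h4) (a' - u0) (W ⊓ cycSp r y)
      hWcinv hWcnd inf_le_right hBle'
    have hBcyc : Bk ≤ cycSp r y := hBle.trans inf_le_right
    -- D0
    have hAB : Orth B A Bk := h.orth_fix_cyc.mono hAfix hBcyc
    set D0 := A ⊔ Bk with hD0
    have hD0W : D0 ≤ W := sup_le (hAle.trans inf_le_left) (hBle.trans inf_le_left)
    have hD0nd : Nd B D0 := hAnd.sup hrefl hBnd hAB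
    have hD0inv : Inv y D0 := inv_sup hAinv hBinv
    have hD0dim : finrank F ↥D0 = a := by
      rw [hD0, finrank_sup_of_disjoint (hAB.disjoint hAnd), hAdim, hBdim, hdecomp]
      have : (a' - u0) * c + u0 * c = a' * c := by rw [← add_mul, Nat.sub_add_cancel hu0a]
      omega
    -- W'
    set W' := W ⊓ B.orthogonal D0 with hW'
    have hW'inv : Inv y W' := inv_inf hW (h.inv_orthogonal hD0inv)
    have hW'nd : Nd B W' := hD0nd.inf_orth hrefl hD0W hWnd
    have hW'dim : finrank F ↥W' = t * a := by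
      have h1 : finrank F ↥D0 + finrank F ↥W' = finrank F ↥W :=
        hD0nd.finrank_inf_orth hrefl hD0W
      rw [hD0dim, hdim] at h1
      have h2 : (t + 1) * a = t * a + a := by ring
      omega
    obtain ⟨hsupW, hdisW⟩ := hD0nd.sup_inf_orth hrefl hD0W
    have hW'fix : t * ℓ ≤ finrank F ↥(W' ⊓ fixSp y) := by
      have h1 : (W ⊓ fixSp y) ⊓ B.orthogonal A ≤ W' ⊓ fixSp y := by
        intro v hv
        obtain ⟨hvWF, hvA⟩ := Submodule.mem_inf.mp hv
        obtain ⟨hvW, hvF⟩ := Submodule.mem_inf.mp hvWF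
        refine Submodule.mem_inf.mpr ⟨Submodule.mem_inf.mpr ⟨hvW, ?_⟩, hvF⟩
        rw [LinearMap.BilinForm.mem_orthogonal_iff]
        intro d hd
        obtain ⟨a₁, ha₁, b₁, hb₁, rfl⟩ := Submodule.mem_sup.mp hd
        rw [LinearMap.BilinForm.mem_orthogonal_iff] at hvA
        rw [map_add, LinearMap.add_apply, hvA a₁ ha₁, zero_add]
        exact (h.orth_fix_cyc.symm hrefl) b₁ (hBcyc hb₁) v hvF
      have h2 := Submodule.finrank_mono h1
      have h3 : finrank F ↥A + finrank F ↥((W ⊓ fixSp y) ⊓ B.orthogonal A) = fW :=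
        hAnd.finrank_inf_orth hrefl hAle
      rw [hAdim, hfWeq] at h3
      have h4 : (t + 1) * ℓ = t * ℓ + ℓ := by ring
      have : u0 * c ≤ u * c := Nat.mul_le_mul_right c hu0u
      omega
    obtain ⟨D', hD'inv, hD'nd, hD'dim, hD'orth, hD'ind, hD'sup⟩ :=
      ih W' hW'inv hW'nd hW'dim hW'fix
    have hD'le : ∀ j, D' j ≤ W' := fun j => by rw [← hD'sup]; exact le_iSup D' j
    have hD0D' : ∀ j, Orth B D0 (D' j) := fun j => orth_inf_orth.mono le_rfl (hD'le j)
    refine ⟨Fin.cons D0 D', ?_, ?_, ?_, ?_, ?_, ?_⟩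
    · intro j
      refine Fin.cases ?_ (fun j' => ?_) j
      · rw [Fin.cons_zero]; exact hD0inv
      · rw [Fin.cons_succ]; exact hD'inv j'
    · intro j
      refine Fin.cases ?_ (fun j' => ?_) j
      · rw [Fin.cons_zero]; exact hD0nd
      · rw [Fin.cons_succ]; exact hD'nd j'
    · intro j
      refine Fin.cases ?_ (fun j' => ?_) j
      · rw [Fin.cons_zero]; exact hD0dim
      · rw [Fin.cons_succ]; exact hD'dim j'
    · intro j j'
      refine Fin.cases ?_ (fun k => ?_) j <;> refine Fin.cases ?_ (fun k' => ?_) j'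
      · intro hne; exact absurd rfl hne
      · intro _
        rw [Fin.cons_zero, Fin.cons_succ]
        exact hD0D' k'
      · intro _
        rw [Fin.cons_zero, Fin.cons_succ]
        exact (hD0D' k).symm hrefl
      · intro hne
        rw [Fin.cons_succ, Fin.cons_succ]
        exact hD'orth k k' (fun hkk => hne (by rw [hkk]))
    · apply indep_cons D0 D' hD'ind
      have : (⨆ j, D' j) = W' := hD'sup
      rw [this]
      exact hdisW
    · have : (⨆ j, D' j) = W' := hD'sup
      show (⨆ j, (Fin.cons D0 D' : Fin (t + 1) → Submodule F V) j) = W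
      rw [iSup_cons, this, hsupW]

end Cfsg.Agent.Helper99.SpStruct
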