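import Mathlib
import Cfsg.Agent.Helper99.RDecompC

set_option autoImplicit false
set_option linter.unusedSectionVars false

/-!
# Variants of `caseA`, `caseB1` with the divisibility supplied per summand
-/

namespace Cfsg.Agent.Helper99.RDecomp

open Module Polynomial
open Cfsg.Agent.Helper59.InvChain Cfsg.Agent.Helper59.Elusive

universe u v

variable {F : Type u} [Field F] {V : Type v} [AddCommGroup V] [Module F V] [FiniteDimensional F V]
variable {r : ℕ} {y : Module.End F V} {i : ℕ}
variable {ι : Type*} [Fintype ι] [DecidableEq ι]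

theorem caseA_gen (h : Setup r y i) (c : ℕ) (hcpos : 0 < c) (D : ι → Submodule F V) {a : ℕ}
    (hdim : ∀ j, finrank F ↥(D j) = a) (ha : 0 < a) (hind : iSupIndep D) (hsup : iSup D = ⊤)
    (σ : Equiv.Perm ι) (hσ : ∀ j, (D j).map y = D (σ j))
    (hdvd : ∀ j, Inv y (D j) → c ∣ finrank F ↥(D j ⊓ cycSp r y))
    (hf : finrank F ↥(fixSp y) < c) (hca : c ≤ a) :
    finrank F ↥(fixSp y) = Fintype.card ι * (a % c) := by
  have hfix := sigma_eq_of_fix_lt h D hdim ha hind σ hσ (by omega)
  have hinv : ∀ j, Inv y (D j) := fun j => inv_of_map_eq (by rw [hσ j, hfix j])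
  have hsF : ∑ j, finrank F ↥(D j ⊓ fixSp y) ≤ finrank F ↥(fixSp y) := by
    have hind' : iSupIndep (fun j => D j ⊓ fixSp y) := hind.mono (fun j => inf_le_left)
    have := finrank_biSup (fun j => D j ⊓ fixSp y) hind' Finset.univ
    rw [← this]
    apply Submodule.finrank_mono
    simp only [Finset.mem_univ, iSup_pos]
    exact iSup_le fun j => inf_le_right
  have hsC : ∑ j, finrank F ↥(D j ⊓ cycSp r y) ≤ finrank F ↥(cycSp r y) := by
    have hind' : iSupIndep (fun j => D j ⊓ cycSp r y) := hind.mono (fun j => inf_le_left)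
    have := finrank_biSup (fun j => D j ⊓ cycSp r y) hind' Finset.univ
    rw [← this]
    apply Submodule.finrank_mono
    simp only [Finset.mem_univ, iSup_pos]
    exact iSup_le fun j => inf_le_right
  have htot : ∑ j, finrank F ↥(D j) = finrank F V := by
    have := finrank_biSup D hind Finset.univ
    have h0 : (⨆ i ∈ (Finset.univ : Finset ι), D i) = iSup D := by simp
    rw [h0, hsup, finrank_top] at this
    exact this.symm
  have hsplit : ∑ j, finrank F ↥(D j) =
      ∑ j, finrank F ↥(D j ⊓ fixSp y) + ∑ j, finrank F ↥(D j ⊓ cycSp r y) := by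
    rw [← Finset.sum_add_distrib]
    exact Finset.sum_congr rfl (fun j _ => h.split (D j) (hinv j))
  have hT := h.total
  have hsFeq : ∑ j, finrank F ↥(D j ⊓ fixSp y) = finrank F ↥(fixSp y) := by omega
  have heach : ∀ j, finrank F ↥(D j ⊓ fixSp y) = a % c := by
    intro j
    have h1 := h.split (D j) (hinv j)
    obtain ⟨m, hm⟩ := hdvd j (hinv j)
    rw [hdim j, hm] at h1
    have h2 : finrank F ↥(D j ⊓ fixSp y) ≤ finrank F ↥(fixSp y) := Submodule.finrank_mono inf_le_right
    have h3 : finrank F ↥(D j ⊓ fixSp y) < c := by omega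
    rw [h1, Nat.add_mul_mod_self_left, Nat.mod_eq_of_lt h3]
  rw [← hsFeq, Finset.sum_congr rfl (fun j _ => heach j), Finset.sum_const, Finset.card_univ,
    smul_eq_mul]

theorem caseB1_gen (h : Setup r y i) (c : ℕ) (hcpos : 0 < c) (D : ι → Submodule F V) {a : ℕ}
    (hdim : ∀ j, finrank F ↥(D j) = a) (ha : 0 < a) (hind : iSupIndep D) (hsup : iSup D = ⊤)
    (σ : Equiv.Perm ι) (hσ : ∀ j, (D j).map y = D (σ j))
    (hdvd : ∀ j, Inv y (D j) → c ∣ finrank F ↥(D j ⊓ cycSp r y))
    (hac : a < c) (hcyc : finrank F ↥(cycSp r y) = c) : a * (r - 1) ≤ c := by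
  have hne : ∀ j, D j ≠ ⊥ := by
    intro j hbot
    have := hdim j
    rw [hbot, finrank_bot] at this
    omega
  by_cases hall : ∀ j, σ j = j
  · exfalso
    have hinv : ∀ j, Inv y (D j) := fun j => inv_of_map_eq (by rw [hσ j, hall j])
    have hle : ∀ j, D j ≤ fixSp y := by
      intro j
      have h1 := h.split (D j) (hinv j)
      obtain ⟨m, hm⟩ := hdvd j (hinv j)
      rw [hdim j] at h1
      have hm0 : m = 0 := by
        by_contra hm0
        have : c ≤ c * m := Nat.le_mul_of_pos_right c (Nat.pos_of_ne_zero hm0)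
        omega
      rw [hm, hm0, mul_zero, add_zero] at h1
      have h2 : D j ⊓ fixSp y = D j :=
        Submodule.eq_of_le_of_finrank_eq inf_le_left (by rw [← h1, hdim j])
      rw [← h2]
      exact inf_le_right
    have htop : fixSp y = ⊤ := by
      rw [eq_top_iff, ← hsup]
      exact iSup_le hle
    have hT := h.total
    rw [htop, finrank_top, hcyc] at hT
    omega
  · push Not at hall
    obtain ⟨j, hj⟩ := hall
    have hpow := sigma_pow_fix y D σ hσ hind hne r h.pow_eq j
    have hcard : (orb σ r j).card = r :=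
      orb_card_eq (sigma_pow_ne y D σ hσ hind hne r h.prime h.pow_eq j hj)
    set S : Submodule F V := ⨆ i ∈ orb σ r j, D i with hS
    have hSdim : finrank F ↥S = r * a := by
      rw [hS, finrank_biSup D hind, Finset.sum_congr rfl (fun i _ => hdim i), Finset.sum_const,
        hcard, smul_eq_mul]
    have hSinv : Inv y S :=
      inv_orbSup D σ hσ _ (fun i hi => apply_mem_orb h.prime.pos hpow hi)
    have hSfix : finrank F ↥(S ⊓ fixSp y) ≤ a := by
      rw [inf_fixSp_eq_map_avg r h.ne_zero y h.pow_eq hSinv]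
      calc finrank F ↥(S.map (avg r y)) ≤ finrank F ↥((D j).map (avg r y)) :=
            Submodule.finrank_mono (map_avg_orbSup_le h.pow_eq D σ hσ j)
        _ ≤ finrank F ↥(D j) := Submodule.finrank_map_le _ _
        _ = a := hdim j
    have hsplit := h.split S hSinv
    have hScyc : finrank F ↥(S ⊓ cycSp r y) ≤ c := by
      rw [← hcyc]; exact Submodule.finrank_mono inf_le_right
    have hr1 := h.prime.one_lt
    have : a * (r - 1) + a = r * a := by
      obtain ⟨r', rfl⟩ : ∃ r', r = r' + 1 := ⟨r - 1, by omega⟩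
      simp only [Nat.add_sub_cancel]
      ring
    omega

end Cfsg.Agent.Helper99.RDecomp
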