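import Mathlib
import Cfsg.Agent.Helper99.RDecompD
import Cfsg.Agent.Helper59.ElusiveConstr

set_option autoImplicit false

/-!
# Monomial bases with `r`-cycles
-/

namespace Cfsg.Agent.Helper99.RMono

open Module Polynomial
open Cfsg.Agent.Helper59.InvChain Cfsg.Agent.Helper59.Elusive
open Cfsg.Agent.Helper99.RDecomp

universe u v

variable {F : Type u} [Field F] {V : Type v} [AddCommGroup V] [Module F V]

/-- `X`-monomial family spanning `W`: `r`-cycles indexed by `P × Fin r`, eigenvectors by `Q`. -/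
def MonoSpanR (r : ℕ) (X : V →ₗ[F] V) (W : Submodule F V) (P Q : Type) : Prop :=
  ∃ g : (P × Fin r) ⊕ Q → V,
    LinearIndependent F g ∧ Submodule.span F (Set.range g) = W ∧
    (∀ p k, ∃ κ : F, X (g (Sum.inl (p, k))) = κ • g (Sum.inl (p, finRotate r k))) ∧
    (∀ q, ∃ κ : F, X (g (Sum.inr q)) = κ • g (Sum.inr q))

/-- regrouping equivalence -/
def regroup (K P₁ Q₁ P₂ Q₂ : Type) :
    ((P₁ × K) ⊕ Q₁) ⊕ ((P₂ × K) ⊕ Q₂) ≃ ((P₁ ⊕ P₂) × K) ⊕ (Q₁ ⊕ Q₂) where
  toFun
    | Sum.inl (Sum.inl (p, ε)) => Sum.inl (Sum.inl p, ε)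
    | Sum.inl (Sum.inr q) => Sum.inr (Sum.inl q)
    | Sum.inr (Sum.inl (p, ε)) => Sum.inl (Sum.inr p, ε)
    | Sum.inr (Sum.inr q) => Sum.inr (Sum.inr q)
  invFun
    | Sum.inl (Sum.inl p, ε) => Sum.inl (Sum.inl (p, ε))
    | Sum.inl (Sum.inr p, ε) => Sum.inr (Sum.inl (p, ε))
    | Sum.inr (Sum.inl q) => Sum.inl (Sum.inr q)
    | Sum.inr (Sum.inr q) => Sum.inr (Sum.inr q)
  left_inv := by rintro ((⟨p, ε⟩ | q) | (⟨p, ε⟩ | q)) <;> rfl
  right_inv := by rintro (⟨(p | p), ε⟩ | (q | q)) <;> rfl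

theorem MonoSpanR.sup {r : ℕ} {X : V →ₗ[F] V} {W₁ W₂ : Submodule F V} {P₁ Q₁ P₂ Q₂ : Type}
    (hd : Disjoint W₁ W₂)
    (h₁ : MonoSpanR r X W₁ P₁ Q₁) (h₂ : MonoSpanR r X W₂ P₂ Q₂) :
    MonoSpanR r X (W₁ ⊔ W₂) (P₁ ⊕ P₂) (Q₁ ⊕ Q₂) := by
  obtain ⟨g₁, hli₁, hsp₁, hP₁, hQ₁⟩ := h₁
  obtain ⟨g₂, hli₂, hsp₂, hP₂, hQ₂⟩ := h₂
  refine ⟨Sum.elim g₁ g₂ ∘ (regroup (Fin r) P₁ Q₁ P₂ Q₂).symm, ?_, ?_, ?_, ?_⟩
  · refine LinearIndependent.comp ?_ _ (Equiv.injective _)
    apply LinearIndependent.sum_type hli₁ hli₂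
    rw [hsp₁, hsp₂]
    exact hd
  · rw [Function.Surjective.range_comp (Equiv.surjective _), Set.Sum.elim_range,
      Submodule.span_union, hsp₁, hsp₂]
  · rintro (p | p) k
    · exact hP₁ p k
    · exact hP₂ p k
  · rintro (q | q)
    · exact hQ₁ q
    · exact hQ₂ q

theorem MonoSpanR.of_fixed {r : ℕ} {X : V →ₗ[F] V} {W : Submodule F V} {Q : Type} (g : Q → V)
    (hli : LinearIndependent F g) (hsp : Submodule.span F (Set.range g) = W)
    (hX : ∀ q, ∃ κ : F, X (g q) = κ • g q) : MonoSpanR r X W Empty Q := by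
  refine ⟨g ∘ (Equiv.emptySum (Empty × Fin r) Q), ?_, ?_, ?_, ?_⟩
  · exact LinearIndependent.comp hli _ (Equiv.injective _)
  · rw [Function.Surjective.range_comp (Equiv.surjective _), hsp]
  · rintro p
    exact p.elim
  · intro q
    exact hX q

theorem MonoSpanR.of_cycles {r : ℕ} {X : V →ₗ[F] V} {W : Submodule F V} {P : Type}
    (g : P × Fin r → V)
    (hli : LinearIndependent F g) (hsp : Submodule.span F (Set.range g) = W)
    (hX : ∀ p k, ∃ κ : F, X (g (p, k)) = κ • g (p, finRotate r k)) : MonoSpanR r X W P Empty := by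
  refine ⟨g ∘ (Equiv.sumEmpty (P × Fin r) Empty), ?_, ?_, ?_, ?_⟩
  · exact LinearIndependent.comp hli _ (Equiv.injective _)
  · rw [Function.Surjective.range_comp (Equiv.surjective _), hsp]
  · intro p k
    exact hX p k
  · rintro q
    exact q.elim

theorem monoSpanR_bot (r : ℕ) (X : V →ₗ[F] V) : MonoSpanR r X ⊥ Empty Empty := by
  refine MonoSpanR.of_fixed (Q := Empty) (fun q => q.elim) ?_ ?_ ?_
  · exact linearIndependent_empty_type
  · simp
  · intro q
    exact q.elim

/-- transport along equivalences of the index types -/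
theorem MonoSpanR.congr {r : ℕ} {X : V →ₗ[F] V} {W : Submodule F V} {P Q P' Q' : Type}
    (eP : P' ≃ P) (eQ : Q' ≃ Q) (h : MonoSpanR r X W P Q) : MonoSpanR r X W P' Q' := by
  obtain ⟨g, hli, hsp, hP, hQ⟩ := h
  let e : (P' × Fin r) ⊕ Q' ≃ (P × Fin r) ⊕ Q :=
    Equiv.sumCongr (Equiv.prodCongr eP (Equiv.refl _)) eQ
  refine ⟨g ∘ e, hli.comp _ e.injective, ?_, ?_, ?_⟩
  · rw [Function.Surjective.range_comp e.surjective, hsp]
  · intro p k
    exact hP (eP p) k
  · intro q
    exact hQ (eQ q)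

/-- the cyclic family generated by a vector `w` whose cyclic span has dimension `r`. -/
theorem monoSpanR_cyclic [FiniteDimensional F V] {r : ℕ} (hr : 0 < r) (X : V →ₗ[F] V) (z : F)
    (hX : X ^ r = z • (1 : Module.End F V)) (w : V)
    (hfr : finrank F ↥(Submodule.span F (Set.range fun k : Fin r => (X ^ (k : ℕ)) w)) = r) :
    MonoSpanR r X (Submodule.span F (Set.range fun k : Fin r => (X ^ (k : ℕ)) w)) Unit Empty := by
  have hli : LinearIndependent F (fun k : Fin r => (X ^ (k : ℕ)) w) := by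
    rw [linearIndependent_iff_card_eq_finrank_span, Fintype.card_fin]
    exact hfr.symm
  refine MonoSpanR.of_cycles (P := Unit) (fun pk => (X ^ (pk.2 : ℕ)) w) ?_ ?_ ?_
  · exact LinearIndependent.comp hli (fun pk : Unit × Fin r => pk.2) (fun a b h => Prod.ext rfl h)
  · congr 1
    ext v
    constructor
    · rintro ⟨⟨_, k⟩, rfl⟩
      exact ⟨k, rfl⟩
    · rintro ⟨k, rfl⟩
      exact ⟨((), k), rfl⟩
  · rintro p k
    obtain ⟨r', rfl⟩ : ∃ r', r = r' + 1 := ⟨r - 1, by omega⟩
    by_cases hk : (k : ℕ) < r'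
    · refine ⟨1, ?_⟩
      have h1 : finRotate (r' + 1) k = ⟨(k : ℕ) + 1, by omega⟩ := by
        have := finRotate_of_lt (n := r') hk
        simpa using this
      simp only [h1, one_smul]
      rw [pow_succ', Module.End.mul_apply]
    · have hk' : k = Fin.last r' := by
        apply Fin.ext
        have := k.2
        simp only [Fin.val_last]
        omega
      refine ⟨z, ?_⟩
      rw [hk', finRotate_last]
      simp only [Fin.val_last, Fin.val_zero, pow_zero, Module.End.one_apply]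
      rw [← Module.End.mul_apply, ← pow_succ', hX, LinearMap.smul_apply, Module.End.one_apply]


/-- the cyclic span of `w` -/
def cycSpan (r : ℕ) (X : V →ₗ[F] V) (w : V) : Submodule F V :=
  Submodule.span F (Set.range fun k : Fin r => (X ^ (k : ℕ)) w)

theorem self_mem_cycSpan {r : ℕ} (hr : 0 < r) (X : V →ₗ[F] V) (w : V) : w ∈ cycSpan r X w := by
  apply Submodule.subset_span
  exact ⟨⟨0, hr⟩, by simp⟩

theorem cycSpan_le {r : ℕ} (X : V →ₗ[F] V) (w : V) {W : Submodule F V} (hW : Inv X W)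
    (hw : w ∈ W) : cycSpan r X w ≤ W := by
  unfold cycSpan
  rw [Submodule.span_le]
  rintro _ ⟨k, rfl⟩
  have : ∀ k : ℕ, (X ^ k) w ∈ W := by
    intro k
    induction k with
    | zero => simpa using hw
    | succ k ih =>
      rw [pow_succ', Module.End.mul_apply]
      exact hW.apply_mem ih
  exact this k

theorem inv_cycSpan {r : ℕ} (hr : 0 < r) (X : V →ₗ[F] V) (z : F)
    (hX : X ^ r = z • (1 : Module.End F V)) (w : V) : Inv X (cycSpan r X w) := by
  unfold Cfsg.Agent.Helper59.InvChain.Inv cycSpan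
  rw [Submodule.map_span, Submodule.span_le]
  rintro _ ⟨_, ⟨k, rfl⟩, rfl⟩
  by_cases hk : (k : ℕ) + 1 < r
  · apply Submodule.subset_span
    refine ⟨⟨(k : ℕ) + 1, hk⟩, ?_⟩
    simp only
    rw [pow_succ', Module.End.mul_apply]
  · have hk' : (k : ℕ) + 1 = r := by have := k.2; omega
    have : X ((X ^ (k : ℕ)) w) = z • w := by
      rw [← Module.End.mul_apply, ← pow_succ', hk', hX, LinearMap.smul_apply, Module.End.one_apply]
    rw [this]
    apply Submodule.smul_mem
    apply Submodule.subset_span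
    exact ⟨⟨0, hr⟩, by simp⟩

theorem finrank_cycSpan_le [FiniteDimensional F V] (r : ℕ) (X : V →ₗ[F] V) (w : V) :
    finrank F ↥(cycSpan r X w) ≤ r := by
  unfold cycSpan
  have := finrank_range_le_card (R := F) (fun k : Fin r => (X ^ (k : ℕ)) w)
  rwa [Fintype.card_fin] at this

theorem monoSpanR_of_irr [FiniteDimensional F V] (r : ℕ) (hr : r.Prime) (hrF : (r : F) ≠ 0)
    (X : V →ₗ[F] V) (z : F) (hz : z ≠ 0) (hX : X ^ r = z • (1 : Module.End F V))
    (hirr : Irreducible (Polynomial.X ^ r - C z : F[X])) :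
    ∀ d : ℕ, ∀ W : Submodule F V, Inv X W → finrank F ↥W = d →
      ∃ (P : Type) (_ : Fintype P), MonoSpanR r X W P Empty := by
  intro d
  induction d using Nat.strong_induction_on with
  | _ d ih =>
    intro W hW hd
    by_cases hbot : W = ⊥
    · rw [hbot]
      exact ⟨Empty, inferInstance, monoSpanR_bot r X⟩
    obtain ⟨v, hvW, hv0⟩ := Submodule.exists_mem_ne_zero_of_ne_bot hbot
    set C := cycSpan r X v with hC
    have hCW : C ≤ W := cycSpan_le X v hW hvW
    have hCinv : Inv X C := inv_cycSpan hr.pos X z hX v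
    have hvC : v ∈ C := self_mem_cycSpan hr.pos X v
    have hCbot : C ≠ ⊥ := by
      intro h
      rw [h, Submodule.mem_bot] at hvC
      exact hv0 hvC
    have hdvd : r ∣ finrank F ↥C :=
      dvd_finrank_of_inv X _ r hr.pos (HP_X_pow_sub_C r hr.pos z hirr) C hCinv
        (fun u _ => by rw [aeval_X_pow_sub_C r z X hX]; rfl)
    have hCle := finrank_cycSpan_le r X v
    have hCpos : 1 ≤ finrank F ↥C := Submodule.one_le_finrank_iff.mpr hCbot
    have hCr : finrank F ↥C = r := by
      obtain ⟨m, hm⟩ := hdvd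
      have hCle' : r * m ≤ r := by rw [← hm]; exact hCle
      have hCpos' : 1 ≤ r * m := by rw [← hm]; exact hCpos
      have hm1 : m = 1 := by
        rcases Nat.lt_or_ge m 1 with h | h
        · have : m = 0 := by omega
          rw [this, mul_zero] at hCpos'
          omega
        · rcases Nat.lt_or_ge 1 m with h' | h'
          · have : r * 2 ≤ r * m := Nat.mul_le_mul_left r h'
            have := hr.pos
            omega
          · omega
      rw [hm, hm1, mul_one]
    have hmono : MonoSpanR r X C Unit Empty := monoSpanR_cyclic hr.pos X z hX v hCr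
    obtain ⟨C'', hC''c, hC''inv⟩ :=
      Cfsg.Agent.Helper99.SemiCompl.exists_invariant_compl r hrF X z hz hX C hCinv
    obtain ⟨hdis, hsup⟩ := exists_rel_compl hCW C'' hC''c
    have hW1inv : Inv X (C'' ⊓ W) := inv_inf hC''inv hW
    have hfr := finrank_sup_of_disjoint hdis
    rw [hsup, hd, hCr] at hfr
    have hrpos := hr.pos
    obtain ⟨P1, _, hP1⟩ := ih (finrank F ↥(C'' ⊓ W)) (by omega) (C'' ⊓ W) hW1inv rfl
    refine ⟨Unit ⊕ P1, inferInstance, ?_⟩
    have := MonoSpanR.sup hdis hmono hP1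
    rw [hsup] at this
    exact this.congr (Equiv.refl _) (Equiv.sumEmpty Empty Empty).symm


section lines

variable [FiniteDimensional F V]

theorem monoSpanR_of_le_fixSp (r : ℕ) (y : Module.End F V) (W : Submodule F V) (hW : W ≤ fixSp y) :
    MonoSpanR r y W Empty (Fin (finrank F ↥W)) := by
  let b := Module.finBasis F ↥W
  refine MonoSpanR.of_fixed (fun q => (b q : V)) ?_ ?_ ?_
  · have := b.linearIndependent.map' W.subtype (Submodule.ker_subtype W)
    exact this
  · have h1 : (Set.range fun q => (b q : V)) = W.subtype '' (Set.range b) := by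
      rw [← Set.range_comp]; rfl
    rw [h1, ← Submodule.map_span, b.span_eq, Submodule.map_top, Submodule.range_subtype]
  · intro q
    exact ⟨1, by rw [one_smul]; exact mem_fixSp.mp (hW (b q).2)⟩

variable {r : ℕ} {y : Module.End F V} {c : ℕ}

theorem monoSpanR_lines (h : Setup r y c) (hc : c + 1 = r) :
    ∀ k : ℕ, ∀ W : Submodule F V, Inv y W → finrank F ↥(W ⊓ cycSp r y) = k * c →
      k ≤ finrank F ↥(W ⊓ fixSp y) →
      ∃ (P Q : Type) (_ : Fintype P) (_ : Fintype Q), MonoSpanR r y W P Q := by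
  have hcpos := h.c_pos
  have hrpos := h.prime.pos
  have hyX : y ^ r = (1 : F) • (1 : Module.End F V) := by rw [h.pow_eq, one_smul]
  intro k
  induction k with
  | zero =>
    intro W hW hcyc _
    rw [zero_mul] at hcyc
    have h0 : W ⊓ cycSp r y = ⊥ := Submodule.finrank_eq_zero.mp hcyc
    have h1 := h.sup_parts W hW
    rw [h0, sup_bot_eq] at h1
    have hWfix : W ≤ fixSp y := by rw [← h1]; exact inf_le_right
    exact ⟨Empty, Fin (finrank F ↥W), inferInstance, inferInstance,
      monoSpanR_of_le_fixSp r y W hWfix⟩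
  | succ k ih =>
    intro W hW hcyc hfix
    have hcycne : W ⊓ cycSp r y ≠ ⊥ := by
      intro h0
      rw [h0, finrank_bot] at hcyc
      have : 0 < (k + 1) * c := Nat.mul_pos (Nat.succ_pos k) hcpos
      omega
    have hfixne : W ⊓ fixSp y ≠ ⊥ := by
      intro h0
      rw [h0, finrank_bot] at hfix
      omega
    obtain ⟨b, hbW, hb0⟩ := Submodule.exists_mem_ne_zero_of_ne_bot hcycne
    obtain ⟨e, heW, he0⟩ := Submodule.exists_mem_ne_zero_of_ne_bot hfixne
    set w := e + b with hw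
    have hwW : w ∈ W := W.add_mem heW.1 hbW.1
    set C := cycSpan r y w with hC
    have hCW : C ≤ W := cycSpan_le y w hW hwW
    have hCinv : Inv y C := inv_cycSpan hrpos y 1 hyX w
    have hwC : w ∈ C := self_mem_cycSpan hrpos y w
    -- e ∈ C
    have havgb : avg r y b = 0 := by
      have h1 : avg r y b ∈ fixSp y := avg_mem_fixSp r y h.pow_eq b
      have h2 : avg r y b ∈ cycSp r y := avg_mem_of_inv r y (inv_cycSp r y) hbW.2
      have h3 : avg r y b ∈ fixSp y ⊓ cycSp r y := ⟨h1, h2⟩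
      have : Fact r.Prime := ⟨h.prime⟩
      rw [disjoint_fix_cyc r h.ne_zero y] at h3
      exact h3
    have havgw : avg r y w = (r : F) • e := by
      rw [hw, map_add, havgb, add_zero, avg_of_mem_fixSp r y heW.2]
    have heC : e ∈ C := by
      have h1 : avg r y w ∈ C := avg_mem_of_inv r y hCinv hwC
      rw [havgw] at h1
      have := C.smul_mem (r : F)⁻¹ h1
      rwa [smul_smul, inv_mul_cancel₀ h.ne_zero, one_smul] at this
    have hbC : b ∈ C := by
      have := C.sub_mem hwC heC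
      rwa [hw, add_sub_cancel_left] at this
    have hCfix : 1 ≤ finrank F ↥(C ⊓ fixSp y) := by
      rw [Submodule.one_le_finrank_iff]
      intro h0
      have : e ∈ C ⊓ fixSp y := ⟨heC, heW.2⟩
      rw [h0, Submodule.mem_bot] at this
      exact he0 this
    have hCcyc : c ≤ finrank F ↥(C ⊓ cycSp r y) := by
      obtain ⟨m, hm⟩ := h.dvd_inf C hCinv
      have hpos : 1 ≤ finrank F ↥(C ⊓ cycSp r y) := by
        rw [Submodule.one_le_finrank_iff]
        intro h0
        have : b ∈ C ⊓ cycSp r y := ⟨hbC, hbW.2⟩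
        rw [h0, Submodule.mem_bot] at this
        exact hb0 this
      rw [hm] at hpos ⊢
      rcases Nat.eq_zero_or_pos m with rfl | hmpos
      · omega
      · exact Nat.le_mul_of_pos_right c hmpos
    have hCsplit := h.split C hCinv
    have hCle : finrank F ↥C ≤ r := finrank_cycSpan_le r y w
    have hCr : finrank F ↥C = r := by omega
    have hCfix1 : finrank F ↥(C ⊓ fixSp y) = 1 := by omega
    have hCcyc1 : finrank F ↥(C ⊓ cycSp r y) = c := by omega
    have hmono : MonoSpanR r y C Unit Empty := monoSpanR_cyclic hrpos y 1 hyX w hCr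
    obtain ⟨C'', hC''c, hC''inv⟩ :=
      Cfsg.Agent.Helper99.SemiCompl.exists_invariant_compl r h.ne_zero y 1 one_ne_zero hyX C hCinv
    obtain ⟨hdis, hsup⟩ := exists_rel_compl hCW C'' hC''c
    set W1 := C'' ⊓ W with hW1
    have hW1inv : Inv y W1 := inv_inf hC''inv hW
    -- dimension bookkeeping
    have hfr := finrank_sup_of_disjoint hdis
    rw [hsup] at hfr
    have hWsplit := h.split W hW
    have hW1split := h.split W1 hW1inv
    have hW1W : W1 ≤ W := inf_le_right
    have hF : finrank F ↥(C ⊓ fixSp y) + finrank F ↥(W1 ⊓ fixSp y) ≤ finrank F ↥(W ⊓ fixSp y) := by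
      rw [← finrank_sup_of_disjoint (hdis.mono inf_le_left inf_le_left)]
      apply Submodule.finrank_mono
      exact sup_le (inf_le_inf_right _ hCW) (inf_le_inf_right _ hW1W)
    have hG : finrank F ↥(C ⊓ cycSp r y) + finrank F ↥(W1 ⊓ cycSp r y) ≤
        finrank F ↥(W ⊓ cycSp r y) := by
      rw [← finrank_sup_of_disjoint (hdis.mono inf_le_left inf_le_left)]
      apply Submodule.finrank_mono
      exact sup_le (inf_le_inf_right _ hCW) (inf_le_inf_right _ hW1W)
    have hk1 : (k + 1) * c = k * c + c := by ring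
    have hW1cyc : finrank F ↥(W1 ⊓ cycSp r y) = k * c := by omega
    have hW1fix : k ≤ finrank F ↥(W1 ⊓ fixSp y) := by omega
    obtain ⟨P1, Q1, _, _, hP1⟩ := ih W1 hW1inv hW1cyc hW1fix
    refine ⟨Unit ⊕ P1, Empty ⊕ Q1, inferInstance, inferInstance, ?_⟩
    have := MonoSpanR.sup hdis hmono hP1
    rw [hsup] at this
    exact this


end lines

end Cfsg.Agent.Helper99.RMono
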