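import Mathlib
import Cfsg.Agent.Helper99.RMono
import Cfsg.Agent.S5957

set_option autoImplicit false

namespace Cfsg.Agent.Helper99.RMono

open Module Polynomial

universe u

variable {F : Type u} [Field F] {n : ℕ}

/-- the rotation permutation on the index type -/
def rotPerm (r : ℕ) (P Q : Type) : Equiv.Perm ((P × Fin r) ⊕ Q) :=
  Equiv.sumCongr (Equiv.prodCongr (Equiv.refl P) (finRotate r)) (Equiv.refl Q)

/-- general assembly: a colouring compatible with the rotation gives a decomposition. -/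
theorem assemble_of_colouring {r : ℕ} {P Q : Type} [Fintype P] [Fintype Q]
    (x : (Fin n → F) →ₗ[F] (Fin n → F)) (hx : Function.Injective x)
    (hmono : MonoSpanR r x ⊤ P Q) {t a : ℕ} (ht : 2 ≤ t) (ha : 0 < a)
    (c : (P × Fin r) ⊕ Q → Fin t) (σ : Equiv.Perm (Fin t))
    (hc : ∀ j, Fintype.card {i // c i = j} = a)
    (hcσ : ∀ i, c (rotPerm r P Q i) = σ (c i)) :
    ∃ D : Fin t → Submodule F (Fin n → F), Cfsg.Geo.IsMDecomposition a D ∧
      ∃ σ : Equiv.Perm (Fin t), ∀ j, (D j).map x = D (σ j) := by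
  classical
  obtain ⟨g, hli, hsp, hP, hQ⟩ := hmono
  let B : Basis ((P × Fin r) ⊕ Q) F (Fin n → F) := Basis.mk hli (by rw [hsp])
  have hB : ∀ i, B i = g i := by
    intro i
    simp [B]
  refine Cfsg.Agent.S5957.assemble B x hx ht ha c hc σ ?_
  rintro (⟨p, k⟩ | q)
  · obtain ⟨κ, hκ⟩ := hP p k
    refine ⟨Sum.inl (p, finRotate r k), κ, by rw [hB, hB, hκ], ?_⟩
    exact hcσ (Sum.inl (p, k))
  · obtain ⟨κ, hκ⟩ := hQ q
    exact ⟨Sum.inr q, κ, by rw [hB, hκ], hcσ (Sum.inr q)⟩

theorem card_index_eq {r : ℕ} {P Q : Type} [Fintype P] [Fintype Q]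
    (x : (Fin n → F) →ₗ[F] (Fin n → F)) (hmono : MonoSpanR r x ⊤ P Q) :
    Fintype.card P * r + Fintype.card Q = n := by
  classical
  obtain ⟨g, hli, hsp, -, -⟩ := hmono
  let B : Basis ((P × Fin r) ⊕ Q) F (Fin n → F) := Basis.mk hli (by rw [hsp])
  have h1 := Module.finrank_eq_card_basis B
  rw [Module.finrank_fin_fun, Fintype.card_sum, Fintype.card_prod, Fintype.card_fin] at h1
  exact h1.symm

/-- lines: `a = 1`, `t = n`. -/
theorem assemble_lines {r : ℕ} {P Q : Type} [Fintype P] [Fintype Q]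
    (x : (Fin n → F) →ₗ[F] (Fin n → F)) (hx : Function.Injective x)
    (hmono : MonoSpanR r x ⊤ P Q) (hn : 2 ≤ n) :
    ∃ D : Fin n → Submodule F (Fin n → F), Cfsg.Geo.IsMDecomposition 1 D ∧
      ∃ σ : Equiv.Perm (Fin n), ∀ j, (D j).map x = D (σ j) := by
  classical
  have hcard := card_index_eq x hmono
  have hcard' : Fintype.card ((P × Fin r) ⊕ Q) = Fintype.card (Fin n) := by
    rw [Fintype.card_sum, Fintype.card_prod, Fintype.card_fin, Fintype.card_fin, hcard]
  let e : (P × Fin r) ⊕ Q ≃ Fin n := Fintype.equivOfCardEq hcard'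
  refine assemble_of_colouring x hx hmono hn one_pos e
    (e.symm.trans ((rotPerm r P Q).trans e)) ?_ ?_
  · intro j
    rw [Fintype.card_eq_one_iff]
    refine ⟨⟨e.symm j, e.apply_symm_apply j⟩, ?_⟩
    rintro ⟨i, hi⟩
    apply Subtype.ext
    simp only
    rw [← hi, e.symm_apply_apply]
  · intro i
    simp [Equiv.trans_apply]

theorem card_fiber_fst {ι K : Type*} [Fintype ι] [Fintype K] [DecidableEq ι] {t : ℕ}
    (φ : ι ≃ Fin t × K) (j : Fin t) : Fintype.card {i // (φ i).1 = j} = Fintype.card K := by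
  apply Fintype.card_congr
  refine ⟨fun i => (φ i.1).2, fun k => ⟨φ.symm (j, k), by rw [φ.apply_symm_apply]⟩, ?_, ?_⟩
  · rintro ⟨i, hi⟩
    apply Subtype.ext
    simp only
    rw [← hi, Prod.mk.eta, φ.symm_apply_apply]
  · intro k
    simp

/-- all cycles, `r ∣ a`: no summand is moved. -/
theorem assemble_cycles_dvd {r : ℕ} (hr : 0 < r) {P : Type} [Fintype P]
    (x : (Fin n → F) →ₗ[F] (Fin n → F)) (hx : Function.Injective x)
    (hmono : MonoSpanR r x ⊤ P Empty) {t a : ℕ} (ht : 2 ≤ t) (ha : 0 < a) (hn : n = a * t)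
    (hra : r ∣ a) :
    ∃ D : Fin t → Submodule F (Fin n → F), Cfsg.Geo.IsMDecomposition a D ∧
      ∃ σ : Equiv.Perm (Fin t), ∀ j, (D j).map x = D (σ j) := by
  classical
  obtain ⟨a1, rfl⟩ := hra
  have hcard := card_index_eq x hmono
  have hE : Fintype.card Empty = 0 := Fintype.card_eq_zero
  rw [hE, add_zero] at hcard
  have hP : Fintype.card P = Fintype.card (Fin t × Fin a1) := by
    rw [Fintype.card_prod, Fintype.card_fin, Fintype.card_fin]
    have : Fintype.card P * r = (t * a1) * r := by rw [hcard, hn]; ring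
    exact Nat.eq_of_mul_eq_mul_right hr this
  let e : P ≃ Fin t × Fin a1 := Fintype.equivOfCardEq hP
  let φ : (P × Fin r) ⊕ Empty ≃ Fin t × (Fin a1 × Fin r) :=
    (Equiv.sumEmpty _ _).trans ((Equiv.prodCongr e (Equiv.refl _)).trans (Equiv.prodAssoc _ _ _))
  refine assemble_of_colouring x hx hmono ht ha (fun i => (φ i).1) 1 ?_ ?_
  · intro j
    rw [card_fiber_fst φ j, Fintype.card_prod, Fintype.card_fin, Fintype.card_fin, mul_comm]
  · rintro (⟨p, k⟩ | q)
    · rfl
    · exact q.elim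

/-- all cycles, `r ∣ t`: the summands are permuted in `r`-cycles. -/
theorem assemble_cycles_dvd' {r : ℕ} (hr : 0 < r) {P : Type} [Fintype P]
    (x : (Fin n → F) →ₗ[F] (Fin n → F)) (hx : Function.Injective x)
    (hmono : MonoSpanR r x ⊤ P Empty) {t a : ℕ} (ht : 2 ≤ t) (ha : 0 < a) (hn : n = a * t)
    (hrt : r ∣ t) :
    ∃ D : Fin t → Submodule F (Fin n → F), Cfsg.Geo.IsMDecomposition a D ∧
      ∃ σ : Equiv.Perm (Fin t), ∀ j, (D j).map x = D (σ j) := by
  classical
  obtain ⟨t1, ht1⟩ := hrt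
  have hcard := card_index_eq x hmono
  have hE : Fintype.card Empty = 0 := Fintype.card_eq_zero
  rw [hE, add_zero] at hcard
  have hP : Fintype.card P = Fintype.card (Fin t1 × Fin a) := by
    rw [Fintype.card_prod, Fintype.card_fin, Fintype.card_fin]
    have : Fintype.card P * r = (t1 * a) * r := by rw [hcard, hn, ht1]; ring
    exact Nat.eq_of_mul_eq_mul_right hr this
  let e : P ≃ Fin t1 × Fin a := Fintype.equivOfCardEq hP
  have htt : t1 * r = t := by rw [ht1, mul_comm]
  let τ : Fin t1 × Fin r ≃ Fin t := finProdFinEquiv.trans (finCongr htt)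
  -- ((g, i), k) ↦ ((g, k), i)
  let sw : (Fin t1 × Fin a) × Fin r ≃ (Fin t1 × Fin r) × Fin a :=
    { toFun := fun z => ((z.1.1, z.2), z.1.2)
      invFun := fun z => ((z.1.1, z.2), z.1.2)
      left_inv := fun _ => rfl
      right_inv := fun _ => rfl }
  let φ : (P × Fin r) ⊕ Empty ≃ Fin t × Fin a :=
    (Equiv.sumEmpty _ _).trans ((Equiv.prodCongr e (Equiv.refl _)).trans
      (sw.trans (Equiv.prodCongr τ (Equiv.refl _))))
  let ρ : Equiv.Perm (Fin t1 × Fin r) := Equiv.prodCongr (Equiv.refl _) (finRotate r)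
  refine assemble_of_colouring x hx hmono ht ha (fun i => (φ i).1)
    (τ.symm.trans (ρ.trans τ)) ?_ ?_
  · intro j
    rw [card_fiber_fst φ j, Fintype.card_fin]
  · rintro (⟨p, k⟩ | q)
    · show τ ((e p).1, finRotate r k) = τ (ρ (τ.symm (τ ((e p).1, k))))
      rw [τ.symm_apply_apply]
      rfl
    · exact q.elim

end Cfsg.Agent.Helper99.RMono
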