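import Mathlib
import Cfsg.Agent.Helper94.Weight
import Cfsg.Agent.Helper99.RAssemble

set_option autoImplicit false

/-!
# Counting equidimensional decompositions: `t! ∣ N ∣ |GL_n(q)|`
-/

namespace Cfsg.Agent.Helper99.RCount

open Module Cfsg Cfsg.Geo

universe u

variable {F : Type u} [Field F] {n : ℕ}

/-- the type of ordered `a`-decompositions -/
abbrev DecT (F : Type u) [Field F] (n a t : ℕ) : Type u :=
  {D : Fin t → Submodule F (Fin n → F) // IsMDecomposition a D}

theorem eq_span_cbasis {t m : ℕ} {D : Fin t → Submodule F (Fin n → F)}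
    (hD : IsMDecomposition m D) (j : Fin t) :
    D j = Submodule.span F (Set.range fun k : Fin m => Cfsg.Agent.Helper94.cbasis hD ⟨j, k⟩) := by
  symm
  apply Submodule.eq_of_le_of_finrank_eq
  · rw [Submodule.span_le]
    rintro _ ⟨k, rfl⟩
    exact Cfsg.Agent.Helper94.cbasis_mem hD ⟨j, k⟩
  · rw [finrank_span_eq_card, Fintype.card_fin, hD.finrank_eq]
    refine (Cfsg.Agent.Helper94.cbasis hD).linearIndependent.comp
      (fun k : Fin m => (⟨j, k⟩ : Σ _ : Fin t, Fin m)) ?_
    intro k k' hk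
    simpa using hk

/-- `GL` is transitive on decompositions -/
theorem exists_equiv_map {t m : ℕ} {D D' : Fin t → Submodule F (Fin n → F)}
    (hD : IsMDecomposition m D) (hD' : IsMDecomposition m D') :
    ∃ g : (Fin n → F) ≃ₗ[F] (Fin n → F), ∀ j, (D j).map g.toLinearMap = D' j := by
  refine ⟨(Cfsg.Agent.Helper94.cbasis hD).equiv (Cfsg.Agent.Helper94.cbasis hD') (Equiv.refl _),
    fun j => ?_⟩
  conv_lhs => rw [eq_span_cbasis hD j]
  conv_rhs => rw [eq_span_cbasis hD' j]
  rw [Submodule.map_span, ← Set.range_comp]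
  congr 2
  ext k
  simp

theorem map_isMDecomposition {t m : ℕ} {D : Fin t → Submodule F (Fin n → F)}
    (g : (Fin n → F) ≃ₗ[F] (Fin n → F)) (hD : IsMDecomposition m D) :
    IsMDecomposition m (fun j => (D j).map g.toLinearMap) := by
  refine ⟨hD.two_le, hD.pos, fun j => ?_, ?_, ?_⟩
  · rw [← hD.finrank_eq j]
    exact LinearEquiv.finrank_map_eq g (D j)
  · exact (iSupIndep_map_orderIso_iff (Submodule.orderIsoMapComap g)).mpr hD.indep
  · rw [← Submodule.map_iSup, hD.iSup_eq_top, Submodule.map_top]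
    exact LinearEquiv.range g

noncomputable instance instGLAct (a t : ℕ) :
    MulAction ((Fin n → F) ≃ₗ[F] (Fin n → F)) (DecT F n a t) where
  smul g D := ⟨fun j => (D.1 j).map g.toLinearMap, map_isMDecomposition g D.2⟩
  one_smul D := by
    apply Subtype.ext
    funext j
    exact Submodule.map_id _
  mul_smul g h D := by
    apply Subtype.ext
    funext j
    show (D.1 j).map (g * h).toLinearMap = ((D.1 j).map h.toLinearMap).map g.toLinearMap
    rw [← Submodule.map_comp]
    rfl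

theorem card_dvd_card_equiv (a t : ℕ) (D : DecT F n a t) :
    Nat.card (DecT F n a t) ∣ Nat.card ((Fin n → F) ≃ₗ[F] (Fin n → F)) := by
  have : MulAction.IsPretransitive ((Fin n → F) ≃ₗ[F] (Fin n → F)) (DecT F n a t) := by
    refine ⟨fun D₁ D₂ => ?_⟩
    obtain ⟨g, hg⟩ := exists_equiv_map D₁.2 D₂.2
    exact ⟨g, Subtype.ext (funext hg)⟩
  rw [← MulAction.index_stabilizer_of_transitive ((Fin n → F) ≃ₗ[F] (Fin n → F)) D]
  exact Subgroup.index_dvd_card _


theorem decomp_injective {a t : ℕ} (D : DecT F n a t) : Function.Injective D.1 := by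
  apply D.2.indep.injective
  intro j hbot
  have := D.2.finrank_eq j
  rw [hbot, finrank_bot] at this
  have := D.2.pos
  omega

instance instPermAct (a t : ℕ) : MulAction (Equiv.Perm (Fin t)) (DecT F n a t) where
  smul σ D := ⟨fun j => D.1 (σ.symm j), by
    obtain ⟨h1, h2, h3, h4, h5⟩ := D.2
    refine ⟨h1, h2, fun j => h3 _, h4.comp σ.symm.injective, ?_⟩
    rw [← h5]
    exact σ.symm.iSup_comp (g := D.1)⟩
  one_smul D := rfl
  mul_smul σ τ D := rfl

theorem perm_smul_apply {a t : ℕ} (σ : Equiv.Perm (Fin t)) (D : DecT F n a t) (j : Fin t) :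
    (σ • D).1 j = D.1 (σ.symm j) := rfl

theorem factorial_dvd_card (a t : ℕ) [Finite F] : t.factorial ∣ Nat.card (DecT F n a t) := by
  have hfree : ∀ D : DecT F n a t, MulAction.stabilizer (Equiv.Perm (Fin t)) D = ⊥ := by
    intro D
    rw [eq_bot_iff]
    intro σ hσ
    rw [MulAction.mem_stabilizer_iff] at hσ
    rw [Subgroup.mem_bot]
    ext j
    have h1 : (σ • D).1 (σ j) = D.1 (σ j) := by rw [hσ]
    rw [perm_smul_apply, Equiv.symm_apply_apply] at h1
    have h2 := decomp_injective D h1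
    rw [← h2]
    rfl
  have e := MulAction.selfEquivOrbitsQuotientProd hfree
  rw [Nat.card_congr e, Nat.card_prod, Nat.card_eq_fintype_card (α := Equiv.Perm (Fin t)),
    Fintype.card_perm, Fintype.card_fin]
  exact dvd_mul_left _ _

theorem nonempty_decT {a t : ℕ} (hn : n = a * t) (ha : 0 < a) (ht : 2 ≤ t) :
    Nonempty (DecT F n a t) := by
  classical
  let φ : Fin n ≃ Fin t × Fin a := (finCongr (hn.trans (mul_comm a t))).trans finProdFinEquiv.symm
  obtain ⟨D, hD, -⟩ := Cfsg.Agent.S5957.assemble (Pi.basisFun F (Fin n)) LinearMap.id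
    Function.injective_id ht ha (fun i => (φ i).1)
    (fun j => by rw [Cfsg.Agent.Helper99.RMono.card_fiber_fst φ j, Fintype.card_fin]) 1
    (fun i => ⟨i, 1, by simp, rfl⟩)
  exact ⟨⟨D, hD⟩⟩

theorem card_equiv_eq [Fintype F] :
    Nat.card ((Fin n → F) ≃ₗ[F] (Fin n → F)) = Nat.card (GL (Fin n) F) := by
  apply Nat.card_congr
  exact ((LinearMap.GeneralLinearGroup.generalLinearEquiv F (Fin n → F)).symm.trans
    Matrix.GeneralLinearGroup.toLin.symm).toEquiv

/-- the arithmetic consequence: a prime `r ≠ p` dividing the number of unordered decompositions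
has `ord_r(q) ≤ n`. -/
theorem order_le_of_dvd [Fintype F] {p : ℕ} [Fact p.Prime] [CharP F p] {a t : ℕ} (hn : n = a * t)
    (ha : 0 < a) (ht : 2 ≤ t) (r : ℕ) [Fact r.Prime] (hrp : r ≠ p)
    (hΩ : r ∣ Nat.card (DecT F n a t) / t.factorial) :
    orderOf ((Fintype.card F : ℕ) : ZMod r) ≤ n := by
  have hr : r.Prime := Fact.out
  obtain ⟨D⟩ := nonempty_decT (F := F) hn ha ht
  have h1 : Nat.card (DecT F n a t) / t.factorial ∣ Nat.card (DecT F n a t) :=
    Nat.div_dvd_of_dvd (factorial_dvd_card a t)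
  have h2 := (hΩ.trans h1).trans (card_dvd_card_equiv a t D)
  rw [card_equiv_eq, Matrix.card_GL_field] at h2
  obtain ⟨i, -, hi⟩ := (Prime.dvd_finsetProd_iff hr.prime _).mp h2
  set q := Fintype.card F with hq
  have hrq : ¬ r ∣ q := by
    obtain ⟨k, hp, hk⟩ := FiniteField.card F p
    intro hdvd
    rw [hq, hk] at hdvd
    have := (Nat.prime_dvd_prime_iff_eq hr hp).mp (hr.dvd_of_dvd_pow hdvd)
    exact hrp this
  have hfac : q ^ n - q ^ (i : ℕ) = q ^ (i : ℕ) * (q ^ (n - i) - 1) := by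
    rw [Nat.mul_sub, mul_one, ← pow_add, Nat.add_sub_cancel' i.2.le]
  rw [hfac] at hi
  have h3 : r ∣ q ^ (n - i) - 1 := by
    rcases (Nat.Prime.dvd_mul hr).mp hi with h | h
    · exact absurd (hr.dvd_of_dvd_pow h) hrq
    · exact h
  have hqpos : 1 ≤ q ^ (n - (i : ℕ)) := Nat.one_le_pow _ _ Fintype.card_pos
  have h4 : ((q : ℕ) : ZMod r) ^ (n - (i : ℕ)) = 1 := by
    have := (ZMod.natCast_eq_zero_iff _ _).mpr h3
    rw [Nat.cast_sub hqpos, Nat.cast_one, sub_eq_zero, Nat.cast_pow] at this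
    exact this
  have h5 := orderOf_dvd_of_pow_eq_one h4
  have h6 : 0 < n - (i : ℕ) := by have := i.2; omega
  exact (Nat.le_of_dvd h6 h5).trans (Nat.sub_le _ _)

end Cfsg.Agent.Helper99.RCount
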