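import Mathlib
import Cfsg.Agent.Helper99.RDecompB
import Cfsg.Agent.Helper59.ElusiveConstr

set_option autoImplicit false
set_option linter.unusedSectionVars false
set_option linter.style.haveILetI false

/-!
# Test elements of order `r` on `F^n` and the `Setup` instance
-/

namespace Cfsg.Agent.Helper99.RDecomp

open Module Polynomial
open Cfsg.Agent.Helper59.InvChain Cfsg.Agent.Helper59.Elusive

universe u v

section setup

variable {F : Type u} [Field F] [Fintype F] {p : ℕ} [Fact p.Prime] [CharP F p]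

theorem natCast_ne_zero_of_ne (r : ℕ) [Fact r.Prime] (hrp : r ≠ p) : (r : F) ≠ 0 := by
  intro h
  have h1 := (CharP.cast_eq_zero_iff F p r).mp h
  have hr : r.Prime := Fact.out
  have hp : p.Prime := Fact.out
  exact hrp ((Nat.prime_dvd_prime_iff_eq hp hr).mp h1).symm

theorem orderOf_card_pos (r : ℕ) [Fact r.Prime] (hrp : r ≠ p) :
    0 < orderOf ((Fintype.card F : ℕ) : ZMod r) := by
  obtain ⟨k, hp, hk⟩ := FiniteField.card F p
  have hr : r.Prime := Fact.out
  have hcop : (Fintype.card F).Coprime r := by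
    rw [hk]
    apply Nat.Coprime.pow_left
    rw [Nat.coprime_primes hp hr]
    exact fun h => hrp h.symm
  have := orderOf_pos (ZMod.unitOfCoprime (Fintype.card F) hcop)
  rwa [← orderOf_units, ZMod.coe_unitOfCoprime] at this

theorem orderOf_card_dvd (r : ℕ) [Fact r.Prime] (hrp : r ≠ p) :
    orderOf ((Fintype.card F : ℕ) : ZMod r) ∣ r - 1 := by
  obtain ⟨k, hp, hk⟩ := FiniteField.card F p
  have hr : r.Prime := Fact.out
  have hcop : (Fintype.card F).Coprime r := by
    rw [hk]
    apply Nat.Coprime.pow_left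
    rw [Nat.coprime_primes hp hr]
    exact fun h => hrp h.symm
  have h1 : orderOf (ZMod.unitOfCoprime (Fintype.card F) hcop) ∣ Fintype.card (ZMod r)ˣ :=
    orderOf_dvd_card
  rw [ZMod.card_units_eq_totient, Nat.totient_prime hr, ← orderOf_units,
    ZMod.coe_unitOfCoprime] at h1
  exact h1

theorem setup_of (r : ℕ) [Fact r.Prime] (hrp : r ≠ p) {V : Type v} [AddCommGroup V] [Module F V]
    [FiniteDimensional F V] (y : Module.End F V) (hy : y ^ r = 1) :
    Setup r y (orderOf ((Fintype.card F : ℕ) : ZMod r)) where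
  prime := Fact.out
  ne_zero := natCast_ne_zero_of_ne r hrp
  pow_eq := hy
  c_pos := orderOf_card_pos r hrp
  dvd := fun U hU hle =>
    dvd_finrank_of_inv y (cyclotomic r F) _ (orderOf_card_pos r hrp) (HP_cyclotomic r hrp) U hU
      (fun u hu => hle hu)

/-- if `c ≥ 2` then `r ∤ q - 1` -/
theorem coprime_of_two_le (r : ℕ) [Fact r.Prime]
    (hc2 : 2 ≤ orderOf ((Fintype.card F : ℕ) : ZMod r)) : Nat.Coprime r (Fintype.card F - 1) := by
  have hr : r.Prime := Fact.out
  have hnd : ¬ r ∣ Fintype.card F - 1 := by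
    intro h
    have := (orderOf_eq_one_iff_dvd r (Fintype.card F) Fintype.card_pos).mpr h
    omega
  exact (Nat.Prime.coprime_iff_not_dvd hr).mpr hnd

end setup

section conj

variable {F : Type u} [Field F] {V : Type v} [AddCommGroup V] [Module F V]
  {V' : Type*} [AddCommGroup V'] [Module F V']

theorem fixSp_conj (e : V ≃ₗ[F] V') (f : Module.End F V) :
    fixSp (e.conjRingEquiv f) = (fixSp f).map e.toLinearMap := by
  ext v
  rw [mem_fixSp, Submodule.mem_map]
  constructor
  · intro h
    refine ⟨e.symm v, ?_, e.apply_symm_apply v⟩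
    rw [mem_fixSp]
    apply e.injective
    rw [e.apply_symm_apply]
    exact h
  · rintro ⟨w, hw, rfl⟩
    rw [mem_fixSp] at hw
    show e (f (e.symm (e w))) = e w
    rw [e.symm_apply_apply, hw]

end conj

section elt

variable {F : Type u} [Field F] [Fintype F] {p : ℕ} [Fact p.Prime] [CharP F p]

/-- test elements: `k` blocks of size `c` and `n - k c` fixed dimensions -/
theorem exists_elt (r : ℕ) [Fact r.Prime] (hrp : r ≠ p)
    (hc2 : 2 ≤ orderOf ((Fintype.card F : ℕ) : ZMod r)) (n k : ℕ) (hk : 0 < k)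
    (hkn : k * orderOf ((Fintype.card F : ℕ) : ZMod r) ≤ n) :
    ∃ y : Module.End F (Fin n → F), y ^ r = 1 ∧ LinearMap.det y = 1 ∧
      (∀ c' : F, y ≠ c' • (1 : Module.End F (Fin n → F))) ∧
      finrank F ↥(fixSp y) = n - k * orderOf ((Fintype.card F : ℕ) : ZMod r) := by
  classical
  set i := orderOf ((Fintype.card F : ℕ) : ZMod r) with hidef
  set m := n - k * i with hm
  have hr : r.Prime := Fact.out
  have hcop : Nat.Coprime r (Fintype.card F - 1) := coprime_of_two_le r hc2
  have hnu : ¬ IsUnit (cyclotomic r F) := by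
    apply not_isUnit_of_natDegree_pos
    rw [natDegree_cyclotomic, Nat.totient_prime hr]
    have := hr.two_le
    omega
  obtain ⟨Q, hQirr, hQdvd⟩ := WfDvdMonoid.exists_irreducible_factor hnu (cyclotomic_ne_zero r F)
  have hQdeg : Q.natDegree = i := (HP_cyclotomic r hrp).2 Q hQirr hQdvd
  haveI : Fact (Irreducible Q) := ⟨hQirr⟩
  have hEfin : finrank F (AdjoinRoot Q) = i := by
    rw [(AdjoinRoot.powerBasis hQirr.ne_zero).finrank, AdjoinRoot.powerBasis_dim, hQdeg]
  haveI : Module.Finite F (AdjoinRoot Q) := (AdjoinRoot.powerBasis hQirr.ne_zero).finite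
  have hω : (AdjoinRoot.root Q) ^ r = 1 := by
    have hdvd : Q ∣ (X ^ r - 1 : F[X]) := hQdvd.trans (cyclotomic.dvd_X_pow_sub_one r F)
    have h1 : aeval (AdjoinRoot.root Q) (X ^ r - 1 : F[X]) = 0 := by
      rw [AdjoinRoot.aeval_eq, AdjoinRoot.mk_eq_zero]; exact hdvd
    rw [map_sub, map_pow, aeval_X, map_one] at h1
    exact sub_eq_zero.mp h1
  have hω1 : AdjoinRoot.root Q ≠ 1 := by
    intro h
    have h1 : aeval (AdjoinRoot.root Q) (X - C 1 : F[X]) = 0 := by
      rw [map_sub, aeval_X, aeval_C, map_one, h, sub_self]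
    rw [AdjoinRoot.aeval_eq, AdjoinRoot.mk_eq_zero] at h1
    have h2 := natDegree_le_of_dvd h1 (X_sub_C_ne_zero 1)
    rw [natDegree_X_sub_C, hQdeg] at h2
    omega
  let g : Module.End F (Fin k → AdjoinRoot Q) :=
    Algebra.lsmul F F (Fin k → AdjoinRoot Q) (AdjoinRoot.root Q)
  have hg : g ^ r = 1 := by
    show (Algebra.lsmul F F (Fin k → AdjoinRoot Q) (AdjoinRoot.root Q)) ^ r = 1
    rw [← map_pow, hω, map_one]
  let f : ((Fin m → F) × (Fin k → AdjoinRoot Q)) →ₗ[F]
      ((Fin m → F) × (Fin k → AdjoinRoot Q)) :=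
    LinearMap.prodMapRingHom F (Fin m → F) (Fin k → AdjoinRoot Q) (1, g)
  have hf : f ^ r = 1 := by
    show (LinearMap.prodMapRingHom F (Fin m → F) (Fin k → AdjoinRoot Q) (1, g)) ^ r = 1
    rw [← map_pow, Prod.pow_mk, one_pow, hg]
    exact map_one _
  have hfapp : ∀ v : (Fin m → F) × (Fin k → AdjoinRoot Q),
      f v = (v.1, AdjoinRoot.root Q • v.2) := fun v => rfl
  have hfin : finrank F ((Fin m → F) × (Fin k → AdjoinRoot Q)) = n := by
    rw [Module.finrank_prod, Module.finrank_fin_fun,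
      ← Module.finrank_mul_finrank F (AdjoinRoot Q) (Fin k → AdjoinRoot Q), hEfin,
      Module.finrank_fin_fun]
    rw [hm, mul_comm i k]
    omega
  have hfix : fixSp f = LinearMap.range
      (LinearMap.inl F (Fin m → F) (Fin k → AdjoinRoot Q)) := by
    apply le_antisymm
    · intro v hv
      rw [mem_fixSp, hfapp] at hv
      have h2 : AdjoinRoot.root Q • v.2 = v.2 := congrArg Prod.snd hv
      have h3 : (AdjoinRoot.root Q - 1) • v.2 = 0 := by rw [sub_smul, one_smul, h2, sub_self]
      rcases smul_eq_zero.mp h3 with h4 | h4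
      · exact absurd (sub_eq_zero.mp h4) hω1
      · exact ⟨v.1, Prod.ext rfl h4.symm⟩
    · rintro _ ⟨w, rfl⟩
      rw [mem_fixSp, hfapp]
      simp
  have hfixdim : finrank F ↥(fixSp f) = m := by
    rw [hfix, LinearMap.finrank_range_of_inj LinearMap.inl_injective, Module.finrank_fin_fun]
  have hipos : 0 < i := by omega
  have hkipos : 0 < k * i := Nat.mul_pos hk hipos
  let e : ((Fin m → F) × (Fin k → AdjoinRoot Q)) ≃ₗ[F] (Fin n → F) :=
    LinearEquiv.ofFinrankEq _ _ (by rw [hfin, Module.finrank_fin_fun])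
  have hy : (e.conjRingEquiv f) ^ r = 1 := by rw [← map_pow, hf, map_one]
  have hyfix : finrank F ↥(fixSp (e.conjRingEquiv f)) = m := by
    rw [fixSp_conj, LinearEquiv.finrank_map_eq, hfixdim]
  refine ⟨e.conjRingEquiv f, hy, ?_, ?_, hyfix⟩
  · exact eq_one_of_pow_eq_one_of_coprime r hr.ne_zero hcop _ (by rw [← map_pow, hy, map_one])
  · intro c' hc'
    have hnpos : 0 < n := by omega
    have h1 : c' ^ r • (1 : Module.End F (Fin n → F)) = (1 : F) • 1 := by
      have h0 : (e.conjRingEquiv f) ^ r = c' ^ r • 1 := by rw [hc', _root_.smul_pow, one_pow]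
      rw [one_smul, ← h0, hy]
    have h2 : c' ^ r = 1 :=
      smul_one_injective (by rw [Module.finrank_fin_fun]; exact hnpos) _ _ h1
    have h3 : c' = 1 := eq_one_of_pow_eq_one_of_coprime r hr.ne_zero hcop c' h2
    have h4 : fixSp (e.conjRingEquiv f) = ⊤ := by
      rw [eq_top_iff]
      intro v _
      rw [mem_fixSp, hc', h3, one_smul]
      rfl
    rw [h4, finrank_top, Module.finrank_fin_fun] at hyfix
    omega

end elt

end Cfsg.Agent.Helper99.RDecomp
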