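import Mathlib
import Cfsg.Agent.Helper99.RAssemble
import Cfsg.Agent.Helper99.RElt
import Cfsg.Agent.Helper99.RCount

set_option autoImplicit false
set_option linter.unusedSectionVars false

/-!
# Elements of odd prime order `r ≠ p` and equidimensional decompositions: abstract form
-/

namespace Cfsg.Agent.Helper99.RMain

open Module Polynomial Cfsg Cfsg.Geo
open Cfsg.Agent.Helper59.InvChain Cfsg.Agent.Helper59.Elusive
open Cfsg.Agent.Helper99.RDecomp Cfsg.Agent.Helper99.RMono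

universe u

variable {F : Type u} [Field F] [Fintype F] {p : ℕ} [Fact p.Prime] [CharP F p] {n : ℕ}

/-- normalise `X` with `X ^ r = l ^ r` to `y = l⁻¹ X` with `y ^ r = 1` -/
theorem normalise_pow (r : ℕ) (X : Module.End F (Fin n → F)) (l : F) (hl : l ≠ 0)
    (hX : X ^ r = l ^ r • (1 : Module.End F (Fin n → F))) : (l⁻¹ • X) ^ r = 1 := by
  rw [_root_.smul_pow, hX, smul_smul, inv_pow, inv_mul_cancel₀ (pow_ne_zero _ hl), one_smul]

theorem finrank_fix_ge (r : ℕ) [Fact r.Prime] (hrp : r ≠ p) (y : Module.End F (Fin n → F))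
    (hy : y ^ r = 1) :
    n % orderOf ((Fintype.card F : ℕ) : ZMod r) ≤ finrank F ↥(fixSp y) ∧
    finrank F ↥(fixSp y) % orderOf ((Fintype.card F : ℕ) : ZMod r) =
      n % orderOf ((Fintype.card F : ℕ) : ZMod r) := by
  have h := setup_of r hrp y hy
  have htot := h.total
  rw [Module.finrank_fin_fun] at htot
  obtain ⟨m, hm⟩ := h.dvd _ (inv_cycSp r y) le_rfl
  have h1 : finrank F ↥(fixSp y) % orderOf ((Fintype.card F : ℕ) : ZMod r) =
      n % orderOf ((Fintype.card F : ℕ) : ZMod r) := by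
    conv_rhs => rw [htot, hm, Nat.add_mul_mod_self_left]
  refine ⟨?_, h1⟩
  rw [← h1]
  exact Nat.mod_le _ _

/-- case (ii): all summands can be chosen invariant -/
theorem decomp_of_caseii (r : ℕ) [Fact r.Prime] (hrp : r ≠ p)
    (X : Module.End F (Fin n → F)) (hinj : Function.Injective X) (l : F) (hl : l ≠ 0)
    (hX : X ^ r = l ^ r • (1 : Module.End F (Fin n → F))) {a t : ℕ} (hn : n = a * t) (ha : 0 < a)
    (ht : 2 ≤ t)
    (hk : n % orderOf ((Fintype.card F : ℕ) : ZMod r) =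
      t * (a % orderOf ((Fintype.card F : ℕ) : ZMod r))) :
    ∃ D : Fin t → Submodule F (Fin n → F), IsMDecomposition a D ∧
      ∃ σ : Equiv.Perm (Fin t), ∀ j, (D j).map X = D (σ j) := by
  have hy := normalise_pow r X l hl hX
  have h := setup_of r hrp _ hy
  obtain ⟨hge, -⟩ := finrank_fix_ge r hrp _ hy
  obtain ⟨D, hinv, hdim, hind, hsup⟩ := exists_inv_decomp h (HP_cyclotomic r hrp) a t ⊤
    (inv_top _) (by rw [finrank_top, Module.finrank_fin_fun, hn, mul_comm])
    (by rw [top_inf_eq, ← hk]; exact hge)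
  refine ⟨D, ⟨ht, ha, hdim, hind, hsup⟩, 1, fun j => ?_⟩
  rw [Equiv.Perm.one_apply]
  apply Submodule.eq_of_le_of_finrank_eq
  · rintro _ ⟨d, hd, rfl⟩
    have h1 : (l⁻¹ • X) d ∈ D j := (hinv j).apply_mem hd
    have h2 : X d = l • (l⁻¹ • X) d := by
      rw [LinearMap.smul_apply, smul_smul, mul_inv_cancel₀ hl, one_smul]
    rw [h2]
    exact Submodule.smul_mem _ _ h1
  · exact (LinearEquiv.finrank_eq (Submodule.equivMapOfInjective X hinj (D j))).symm

/-- monomial families for `y` are monomial for `l • y` -/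
theorem MonoSpanR.smul {V : Type*} [AddCommGroup V] [Module F V] {r : ℕ} {y : Module.End F V}
    {W : Submodule F V} {P Q : Type} (l : F) (h : MonoSpanR r y W P Q) :
    MonoSpanR r (l • y) W P Q := by
  obtain ⟨g, hli, hsp, hP, hQ⟩ := h
  refine ⟨g, hli, hsp, fun p k => ?_, fun q => ?_⟩
  · obtain ⟨κ, hκ⟩ := hP p k
    exact ⟨l * κ, by rw [LinearMap.smul_apply, hκ, smul_smul]⟩
  · obtain ⟨κ, hκ⟩ := hQ q
    exact ⟨l * κ, by rw [LinearMap.smul_apply, hκ, smul_smul]⟩

/-- case (i): lines -/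
theorem decomp_of_casei (r : ℕ) [Fact r.Prime] (hrp : r ≠ p)
    (X : Module.End F (Fin n → F)) (hinj : Function.Injective X) (l : F) (hl : l ≠ 0)
    (hX : X ^ r = l ^ r • (1 : Module.End F (Fin n → F))) (hn2 : 2 ≤ n)
    (hc : orderOf ((Fintype.card F : ℕ) : ZMod r) + 1 = r)
    (hle : n ≤ (n % orderOf ((Fintype.card F : ℕ) : ZMod r)) * r) :
    ∃ D : Fin n → Submodule F (Fin n → F), IsMDecomposition 1 D ∧
      ∃ σ : Equiv.Perm (Fin n), ∀ j, (D j).map X = D (σ j) := by
  have hy := normalise_pow r X l hl hX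
  have h := setup_of r hrp _ hy
  obtain ⟨hge, hmod⟩ := finrank_fix_ge r hrp _ hy
  set c := orderOf ((Fintype.card F : ℕ) : ZMod r) with hcdef
  have hcpos : 0 < c := h.c_pos
  have htot := h.total
  rw [Module.finrank_fin_fun] at htot
  obtain ⟨k, hk⟩ := h.dvd _ (inv_cycSp r (l⁻¹ • X)) le_rfl
  rw [mul_comm] at hk
  -- k ≤ fix
  have hkfix : k ≤ finrank F ↥(fixSp (l⁻¹ • X)) := by
    set fx := finrank F ↥(fixSp (l⁻¹ • X)) with hfx
    set ρ := n % c with hρ
    -- fx = ρ + j c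
    obtain ⟨j, hj⟩ : ∃ j, fx = ρ + c * j := by
      have := Nat.mod_add_div fx c
      rw [hmod] at this
      exact ⟨fx / c, this.symm⟩
    have h1 : (j + k) * c ≤ ρ * c := by
      have h2 : n = ρ + c * j + k * c := by rw [htot, hk, ← hj]
      have h3 : n ≤ ρ * (c + 1) := by rw [hc]; exact hle
      have h4 : ρ * (c + 1) = ρ * c + ρ := by ring
      have h5 : (j + k) * c = c * j + k * c := by ring
      omega
    have h6 := Nat.le_of_mul_le_mul_right h1 hcpos
    omega
  obtain ⟨P, Q, _, _, hmono⟩ := monoSpanR_lines h hc k ⊤ (inv_top _)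
    (by rw [top_inf_eq]; exact hk) (by rw [top_inf_eq]; exact hkfix)
  have hmono' : MonoSpanR r X ⊤ P Q := by
    have := MonoSpanR.smul l hmono
    rwa [smul_smul, mul_inv_cancel₀ hl, one_smul] at this
  exact assemble_lines X hinj hmono' hn2

/-- `X ^ r = z` with `z` not an `r`-th power: everything is a union of `r`-cycles -/
theorem decomp_of_irr (r : ℕ) [Fact r.Prime] (hrp : r ≠ p)
    (X : Module.End F (Fin n → F)) (hinj : Function.Injective X) (z : F) (hz : z ≠ 0)
    (hX : X ^ r = z • (1 : Module.End F (Fin n → F))) (hirr : ∀ b : F, b ^ r ≠ z)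
    {a t : ℕ} (hn : n = a * t) (ha : 0 < a) (ht : 2 ≤ t) :
    ∃ D : Fin t → Submodule F (Fin n → F), IsMDecomposition a D ∧
      ∃ σ : Equiv.Perm (Fin t), ∀ j, (D j).map X = D (σ j) := by
  have hr : r.Prime := Fact.out
  have hirr' : Irreducible (Polynomial.X ^ r - C z : F[X]) :=
    (X_pow_sub_C_irreducible_iff_of_prime hr).mpr hirr
  obtain ⟨P, _, hmono⟩ := monoSpanR_of_irr r hr (natCast_ne_zero_of_ne r hrp) X z hz hX hirr' n ⊤
    (inv_top _) (by rw [finrank_top, Module.finrank_fin_fun])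
  have hcard := card_index_eq X hmono
  have hE : Fintype.card Empty = 0 := Fintype.card_eq_zero
  rw [hE, add_zero] at hcard
  have hdvd : r ∣ a * t := by rw [← hn, ← hcard]; exact dvd_mul_left _ _
  rcases (Nat.Prime.dvd_mul hr).mp hdvd with h | h
  · exact assemble_cycles_dvd hr.pos X hinj hmono ht ha hn h
  · exact assemble_cycles_dvd' hr.pos X hinj hmono ht ha hn h

/-- the hypothesis on elements `y` with `y ^ r = 1` -/
def DecompProp (F : Type u) [Field F] (n a t r : ℕ) : Prop :=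
  ∀ y : Module.End F (Fin n → F), LinearMap.det y = 1 → y ^ r = 1 →
    (∀ c' : F, y ≠ c' • (1 : Module.End F (Fin n → F))) →
    ∃ D : Fin t → Submodule F (Fin n → F), IsMDecomposition a D ∧
      ∃ σ : Equiv.Perm (Fin t), ∀ j, (D j).map y = D (σ j)

theorem sub_div_mul (n c : ℕ) : n - n / c * c = n % c := by
  have := Nat.mod_add_div' n c
  omega

/-- the necessary conditions -/
theorem cond_of_prop (r : ℕ) [Fact r.Prime] (hrp : r ≠ p) (hr2 : r ≠ 2) {a t : ℕ}
    (H : DecompProp F n a t r) (hn : n = a * t) (ha : 0 < a) (ht : 2 ≤ t)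
    (hcn : a < orderOf ((Fintype.card F : ℕ) : ZMod r) →
      orderOf ((Fintype.card F : ℕ) : ZMod r) ≤ n) :
    (a = 1 ∧ 1 < orderOf ((Fintype.card F : ℕ) : ZMod r) ∧
      orderOf ((Fintype.card F : ℕ) : ZMod r) = r - 1 ∧
      n ≤ (n % orderOf ((Fintype.card F : ℕ) : ZMod r)) * r) ∨
    (orderOf ((Fintype.card F : ℕ) : ZMod r) ≤ a ∧
      n % orderOf ((Fintype.card F : ℕ) : ZMod r) =
        t * (a % orderOf ((Fintype.card F : ℕ) : ZMod r))) := by
  have hr : r.Prime := Fact.out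
  have hcpos : 0 < orderOf ((Fintype.card F : ℕ) : ZMod r) := orderOf_card_pos r hrp
  have hdvd : orderOf ((Fintype.card F : ℕ) : ZMod r) ∣ r - 1 := orderOf_card_dvd r hrp
  rcases Nat.lt_or_ge a (orderOf ((Fintype.card F : ℕ) : ZMod r)) with hac | hca
  · left
    have hc2 : 2 ≤ orderOf ((Fintype.card F : ℕ) : ZMod r) := by omega
    have hcn' := hcn hac
    have hroot : ∀ κ : F, κ ^ r = 1 → κ = 1 :=
      eq_one_of_pow_eq_one_of_coprime r hr.ne_zero (coprime_of_two_le r hc2)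
    -- one block
    obtain ⟨y₁, hy₁, hdet₁, hns₁, hfix₁⟩ :=
      exists_elt r hrp hc2 n 1 one_pos (by rw [one_mul]; exact hcn')
    obtain ⟨D₁, hD₁, σ₁, hσ₁⟩ := H y₁ hdet₁ hy₁ hns₁
    have h₁ := setup_of r hrp y₁ hy₁
    have htot₁ := h₁.total
    rw [Module.finrank_fin_fun, hfix₁, one_mul] at htot₁
    have hcyc₁ : finrank F ↥(cycSp r y₁) = orderOf ((Fintype.card F : ℕ) : ZMod r) := by omega
    have hB1 := caseB1 h₁ D₁ hD₁.finrank_eq ha hD₁.indep hD₁.iSup_eq_top σ₁ hσ₁ hac hcyc₁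
    have hr3 : 3 ≤ r := by have := hr.two_le; omega
    have hcle : orderOf ((Fintype.card F : ℕ) : ZMod r) ≤ r - 1 := Nat.le_of_dvd (by omega) hdvd
    have ha1 : a = 1 := by
      have h1 : a * (r - 1) ≤ 1 * (r - 1) := by rw [one_mul]; exact hB1.trans hcle
      have := Nat.le_of_mul_le_mul_right h1 (by omega)
      omega
    subst ha1
    rw [one_mul] at hB1 hn
    have hceq : orderOf ((Fintype.card F : ℕ) : ZMod r) = r - 1 := le_antisymm hcle hB1
    refine ⟨rfl, by omega, hceq, ?_⟩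
    -- max block
    obtain ⟨y₂, hy₂, hdet₂, hns₂, hfix₂⟩ :=
      exists_elt r hrp hc2 n (n / orderOf ((Fintype.card F : ℕ) : ZMod r))
        (Nat.div_pos hcn' hcpos) (Nat.div_mul_le_self n _)
    rw [sub_div_mul] at hfix₂
    obtain ⟨D₂, hD₂, σ₂, hσ₂⟩ := H y₂ hdet₂ hy₂ hns₂
    have h₂ := setup_of r hrp y₂ hy₂
    have hB2 := caseB2 h₂ hroot D₂ hD₂.finrank_eq hD₂.indep hD₂.iSup_eq_top σ₂ hσ₂
    rw [Fintype.card_fin, hfix₂, ← hn, mul_comm] at hB2
    exact hB2
  · right
    refine ⟨hca, ?_⟩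
    by_cases hc1 : orderOf ((Fintype.card F : ℕ) : ZMod r) = 1
    · rw [hc1, Nat.mod_one, Nat.mod_one, mul_zero]
    · have hc2 : 2 ≤ orderOf ((Fintype.card F : ℕ) : ZMod r) := by omega
      have han : a ≤ n := by
        rw [hn]
        exact Nat.le_mul_of_pos_right a (by omega)
      have hcn' : orderOf ((Fintype.card F : ℕ) : ZMod r) ≤ n := hca.trans han
      obtain ⟨y, hy, hdet, hns, hfix⟩ :=
        exists_elt r hrp hc2 n (n / orderOf ((Fintype.card F : ℕ) : ZMod r))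
          (Nat.div_pos hcn' hcpos) (Nat.div_mul_le_self n _)
      rw [sub_div_mul] at hfix
      obtain ⟨D, hD, σ, hσ⟩ := H y hdet hy hns
      have h := setup_of r hrp y hy
      have := caseA h D hD.finrank_eq ha hD.indep hD.iSup_eq_top σ hσ
        (by rw [hfix]; exact Nat.mod_lt _ hcpos) hca
      rw [Fintype.card_fin, hfix] at this
      exact this

end Cfsg.Agent.Helper99.RMain
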