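import Mathlib
import Cfsg.Agent.Helper43.LagrB
import Cfsg.Agent.Helper5.SpCard
import Cfsg.Prelude.Def_GeometricClasses
import Cfsg.Agent.Helper99.SpStructB

set_option autoImplicit false
set_option linter.unusedSectionVars false
set_option linter.style.haveILetI false
set_option linter.deprecated false

/-!
# Counting orthogonal decompositions of the symplectic space: `t! ∣ N ∣ |Sp_{2d}(q)|`
-/

namespace Cfsg.Agent.Helper99.SpCount

open Module Matrix Pointwise
open Cfsg Cfsg.Geo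
open Cfsg.Agent.Helper13 Cfsg.Agent.S0776 Cfsg.Agent.Helper43.Lagr

universe u

/-- free action of the symmetric group on families -/
theorem factorial_dvd_card_subtype {α : Type*} {t : ℕ} (Q : (Fin t → α) → Prop)
    (hinj : ∀ D, Q D → Function.Injective D)
    (hperm : ∀ (D : Fin t → α) (σ : Equiv.Perm (Fin t)), Q D → Q (D ∘ σ)) :
    t.factorial ∣ Nat.card {D : Fin t → α // Q D} := by
  letI : MulAction (Equiv.Perm (Fin t)) {D : Fin t → α // Q D} :=
    { smul := fun σ D => ⟨D.1 ∘ σ.symm, hperm D.1 σ.symm D.2⟩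
      one_smul := fun D => rfl
      mul_smul := fun σ τ D => rfl }
  have hsmul : ∀ (σ : Equiv.Perm (Fin t)) (D : {D : Fin t → α // Q D}) (j : Fin t),
      (σ • D).1 j = D.1 (σ.symm j) := fun σ D j => rfl
  have hfree : ∀ D : {D : Fin t → α // Q D},
      MulAction.stabilizer (Equiv.Perm (Fin t)) D = ⊥ := by
    intro D
    rw [eq_bot_iff]
    intro σ hσ
    rw [MulAction.mem_stabilizer_iff] at hσ
    rw [Subgroup.mem_bot]
    ext j
    have h1 : (σ • D).1 (σ j) = D.1 (σ j) := by rw [hσ]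
    rw [hsmul, Equiv.symm_apply_apply] at h1
    have h2 := hinj D.1 D.2 h1
    rw [← h2]
    rfl
  have e := MulAction.selfEquivOrbitsQuotientProd hfree
  rw [Nat.card_congr e, Nat.card_prod, Nat.card_eq_fintype_card (α := Equiv.Perm (Fin t)),
    Fintype.card_perm, Fintype.card_fin]
  exact dvd_mul_left _ _

variable {F : Type u} [Field F] {d : ℕ}

/-- orthogonal decompositions into nondegenerate subspaces, in the form of the statement -/
def OrthDec (d : ℕ) (F : Type u) [Field F] (a t : ℕ)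
    (D : Fin t → Submodule F (Fin d ⊕ Fin d → F)) : Prop :=
  (Cfsg.Geo.IsMDecomposition a D ∧
    (∀ j, ∀ u ∈ D j, u ≠ 0 → ∃ v ∈ D j, Cfsg.sympForm d F u v ≠ 0) ∧
    (∀ j j', j ≠ j' → ∀ u ∈ D j, ∀ v ∈ D j', Cfsg.sympForm d F u v = 0))

theorem OrthDec.injective {a t : ℕ} {D : Fin t → Submodule F (Fin d ⊕ Fin d → F)}
    (h : OrthDec d F a t D) : Function.Injective D := by
  apply h.1.indep.injective
  intro j hbot
  have := h.1.finrank_eq j
  rw [hbot, finrank_bot] at this
  have := h.1.pos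
  omega

theorem OrthDec.perm {a t : ℕ} {D : Fin t → Submodule F (Fin d ⊕ Fin d → F)}
    (h : OrthDec d F a t D) (σ : Equiv.Perm (Fin t)) : OrthDec d F a t (D ∘ σ) := by
  obtain ⟨⟨h1, h2, h3, h4, h5⟩, h6, h7⟩ := h
  refine ⟨⟨h1, h2, fun j => h3 _, h4.comp σ.injective, ?_⟩, fun j => h6 _, ?_⟩
  · rw [← h5]
    exact σ.iSup_comp (g := D)
  · intro j j' hjj'
    exact h7 _ _ (fun h => hjj' (σ.injective h))

theorem factorial_dvd_card_orthDec (a t : ℕ) :
    t.factorial ∣ Nat.card {D : Fin t → Submodule F (Fin d ⊕ Fin d → F) // OrthDec d F a t D} :=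
  factorial_dvd_card_subtype _ (fun _ h => h.injective) (fun _ σ h => h.perm σ)

/-- the linear equivalence of a symplectic matrix -/
noncomputable def spEquiv (g : ↥(Matrix.symplecticGroup (Fin d) F)) :
    (Fin d ⊕ Fin d → F) ≃ₗ[F] (Fin d ⊕ Fin d → F) :=
  LinearEquiv.ofLinear (Matrix.toLin' (g : Matrix (Fin d ⊕ Fin d) (Fin d ⊕ Fin d) F))
    (Matrix.toLin' ((g⁻¹ : ↥(Matrix.symplecticGroup (Fin d) F)) :
      Matrix (Fin d ⊕ Fin d) (Fin d ⊕ Fin d) F))
    (by
      rw [← Matrix.toLin'_mul]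
      have : (g : Matrix (Fin d ⊕ Fin d) (Fin d ⊕ Fin d) F) *
          ((g⁻¹ : ↥(Matrix.symplecticGroup (Fin d) F)) :
            Matrix (Fin d ⊕ Fin d) (Fin d ⊕ Fin d) F) = 1 := by
        have := congrArg Subtype.val (mul_inv_cancel g)
        exact this
      rw [this, Matrix.toLin'_one])
    (by
      rw [← Matrix.toLin'_mul]
      have : ((g⁻¹ : ↥(Matrix.symplecticGroup (Fin d) F)) :
            Matrix (Fin d ⊕ Fin d) (Fin d ⊕ Fin d) F) *
          (g : Matrix (Fin d ⊕ Fin d) (Fin d ⊕ Fin d) F) = 1 := by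
        have := congrArg Subtype.val (inv_mul_cancel g)
        exact this
      rw [this, Matrix.toLin'_one])

theorem smul_eq_map_spEquiv (g : ↥(Matrix.symplecticGroup (Fin d) F))
    (U : Submodule F (Fin d ⊕ Fin d → F)) : g • U = U.map (spEquiv g).toLinearMap := by
  rw [smul_eq_map]
  rfl

theorem sympForm_smul (g : ↥(Matrix.symplecticGroup (Fin d) F)) (u v : Fin d ⊕ Fin d → F) :
    Cfsg.sympForm d F (g • u) (g • v) = Cfsg.sympForm d F u v :=
  (mem_symplecticGroup_iff_preserves _).mp g.2 u v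

theorem mem_smul_iff' (g : ↥(Matrix.symplecticGroup (Fin d) F))
    (U : Submodule F (Fin d ⊕ Fin d → F)) (v : Fin d ⊕ Fin d → F) :
    v ∈ g • U ↔ ∃ u ∈ U, g • u = v := mem_smul_iff g U v

theorem OrthDec.smul {a t : ℕ} {D : Fin t → Submodule F (Fin d ⊕ Fin d → F)}
    (h : OrthDec d F a t D) (g : ↥(Matrix.symplecticGroup (Fin d) F)) :
    OrthDec d F a t (fun j => g • D j) := by
  obtain ⟨⟨h1, h2, h3, h4, h5⟩, h6, h7⟩ := h
  refine ⟨⟨h1, h2, fun j => ?_, ?_, ?_⟩, ?_, ?_⟩
  · rw [smul_eq_map_spEquiv, ← h3 j]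
    exact LinearEquiv.finrank_map_eq (spEquiv g) (D j)
  · have : (fun j => g • D j) = fun j => (Submodule.orderIsoMapComap (spEquiv g)) (D j) := by
      funext j
      rw [smul_eq_map_spEquiv]
      rfl
    rw [this]
    exact (iSupIndep_map_orderIso_iff (Submodule.orderIsoMapComap (spEquiv g))).mpr h4
  · have : (fun j => g • D j) = fun j => (D j).map (spEquiv g).toLinearMap := by
      funext j
      rw [smul_eq_map_spEquiv]
    rw [this, ← Submodule.map_iSup, h5, Submodule.map_top]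
    exact LinearEquiv.range (spEquiv g)
  · intro j u hu hu0
    rw [mem_smul_iff'] at hu
    obtain ⟨u', hu', rfl⟩ := hu
    have hu'0 : u' ≠ 0 := by
      rintro rfl
      exact hu0 (smul_zero g)
    obtain ⟨v', hv', hne⟩ := h6 j u' hu' hu'0
    refine ⟨g • v', (mem_smul_iff' g _ _).mpr ⟨v', hv', rfl⟩, ?_⟩
    rw [sympForm_smul]
    exact hne
  · intro j j' hjj' u hu v hv
    rw [mem_smul_iff'] at hu hv
    obtain ⟨u', hu', rfl⟩ := hu
    obtain ⟨v', hv', rfl⟩ := hv
    rw [sympForm_smul]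
    exact h7 j j' hjj' u' hu' v' hv'

noncomputable instance instSpAct (a t : ℕ) : MulAction ↥(Matrix.symplecticGroup (Fin d) F)
    {D : Fin t → Submodule F (Fin d ⊕ Fin d → F) // OrthDec d F a t D} where
  smul g D := ⟨fun j => g • D.1 j, D.2.smul g⟩
  one_smul D := by
    apply Subtype.ext
    funext j
    exact one_smul _ (D.1 j)
  mul_smul g h D := by
    apply Subtype.ext
    funext j
    exact mul_smul g h (D.1 j)

theorem spAct_apply {a t : ℕ} (g : ↥(Matrix.symplecticGroup (Fin d) F))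
    (D : {D : Fin t → Submodule F (Fin d ⊕ Fin d → F) // OrthDec d F a t D}) (j : Fin t) :
    (g • D).1 j = g • D.1 j := rfl

end Cfsg.Agent.Helper99.SpCount
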