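import Mathlib
import Cfsg.Agent.Helper99.SpCountA

set_option autoImplicit false
set_option linter.unusedSectionVars false
set_option linter.style.haveILetI false

/-!
# `Sp_{2d}(F)` is transitive on orthogonal decompositions
-/

namespace Cfsg.Agent.Helper99.SpCount

open Module Matrix Pointwise
open Cfsg Cfsg.Geo
open Cfsg.Agent.Helper13 Cfsg.Agent.S0776 Cfsg.Agent.Helper43.Lagr

universe u

variable {F : Type u} [Field F] {d : ℕ}

/-- `Fin d ≃ Fin t × Fin h` -/
def psiEquiv {d t h : ℕ} (hd : d = t * h) : Fin d ≃ Fin t × Fin h :=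
  (finCongr hd).trans finProdFinEquiv.symm

/-- the index equivalence -/
def idxEquiv {d t h : ℕ} (hd : d = t * h) : Fin d ⊕ Fin d ≃ Fin t × (Fin h ⊕ Fin h) :=
  (Equiv.sumCongr (psiEquiv hd) (psiEquiv hd)).trans
    (Equiv.prodSumDistrib (Fin t) (Fin h) (Fin h)).symm

theorem idxEquiv_inl {d t h : ℕ} (hd : d = t * h) (s : Fin d) :
    idxEquiv hd (Sum.inl s) = ((psiEquiv hd s).1, Sum.inl (psiEquiv hd s).2) := rfl

theorem idxEquiv_inr {d t h : ℕ} (hd : d = t * h) (s : Fin d) :
    idxEquiv hd (Sum.inr s) = ((psiEquiv hd s).1, Sum.inr (psiEquiv hd s).2) := rfl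

theorem J_idx {d t h : ℕ} (hd : d = t * h) (c c' : Fin d ⊕ Fin d) :
    Matrix.J (Fin d) F c c' = if (idxEquiv hd c).1 = (idxEquiv hd c').1 then
      Matrix.J (Fin h) F (idxEquiv hd c).2 (idxEquiv hd c').2 else 0 := by
  have hiff : ∀ s s' : Fin d, s = s' ↔ ((psiEquiv hd s).1 = (psiEquiv hd s').1 ∧
      (psiEquiv hd s).2 = (psiEquiv hd s').2) := by
    intro s s'
    rw [← Prod.ext_iff]
    exact (psiEquiv hd).injective.eq_iff.symm
  rcases c with s | s <;> rcases c' with s' | s'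
  · rw [idxEquiv_inl, idxEquiv_inl, J_apply_inl_inl, J_apply_inl_inl, ite_self]
  · rw [idxEquiv_inl, idxEquiv_inr, J_apply_inl_inr, J_apply_inl_inr]
    by_cases h1 : (psiEquiv hd s).1 = (psiEquiv hd s').1
    · rw [if_pos h1]
      by_cases h2 : (psiEquiv hd s).2 = (psiEquiv hd s').2
      · rw [if_pos h2, if_pos ((hiff s s').mpr ⟨h1, h2⟩)]
      · rw [if_neg h2, if_neg (fun h => h2 ((hiff s s').mp h).2)]
    · rw [if_neg h1, if_neg (fun h => h1 ((hiff s s').mp h).1)]
  · rw [idxEquiv_inr, idxEquiv_inl, J_apply_inr_inl, J_apply_inr_inl]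
    by_cases h1 : (psiEquiv hd s).1 = (psiEquiv hd s').1
    · rw [if_pos h1]
      by_cases h2 : (psiEquiv hd s).2 = (psiEquiv hd s').2
      · rw [if_pos h2, if_pos ((hiff s s').mpr ⟨h1, h2⟩)]
      · rw [if_neg h2, if_neg (fun h => h2 ((hiff s s').mp h).2)]
    · rw [if_neg h1, if_neg (fun h => h1 ((hiff s s').mp h).1)]
  · rw [idxEquiv_inr, idxEquiv_inr, J_apply_inr_inr, J_apply_inr_inr, ite_self]

/-- the standard family -/
def stdFam {d t h : ℕ} (F : Type u) [Field F] (hd : d = t * h) (j : Fin t) :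
    Submodule F (Fin d ⊕ Fin d → F) :=
  Submodule.span F ((fun c : Fin d ⊕ Fin d => (Pi.single c 1 : Fin d ⊕ Fin d → F)) ''
    {c | (idxEquiv hd c).1 = j})

/-- every orthogonal decomposition is the image of the standard family -/
theorem exists_smul_stdFam {a t h : ℕ} (ha : a = 2 * h) (hd : d = t * h)
    {D : Fin t → Submodule F (Fin d ⊕ Fin d → F)} (hD : OrthDec d F a t D) :
    ∃ g : ↥(Matrix.symplecticGroup (Fin d) F), ∀ j, g • stdFam F hd j = D j := by
  classical
  obtain ⟨hM, hnd, horth⟩ := hD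
  have hAlt := omega_isAlt (F := F) d
  have hrefl : (omega d F).IsRefl := hAlt.isRefl
  have hex : ∀ j, ∃ b : Module.Basis (Fin h ⊕ Fin h) F ↥(D j),
      ∀ x y, ((omega d F).restrict (D j)) (b x) (b y) = Matrix.J (Fin h) F x y := by
    intro j
    have hWL : ((omega d F).restrict (D j)).SeparatingLeft := by
      intro x hx
      by_contra hx0
      have hx0' : (x : Fin d ⊕ Fin d → F) ≠ 0 := fun h0 => hx0 (Subtype.ext h0)
      obtain ⟨v, hv, hne⟩ := hnd j x.1 x.2 hx0'
      apply hne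
      have := hx ⟨v, hv⟩
      rw [← omega_apply]
      exact this
    have hWND : ((omega d F).restrict (D j)).Nondegenerate := by
      refine ⟨hWL, ?_⟩
      intro y hy
      apply hWL
      intro x
      have h := hy x
      have hrefl' : ((omega d F).restrict (D j)).IsRefl := fun a b hab => hrefl _ _ hab
      exact hrefl' _ _ h
    exact exists_symp_basis ((omega d F).restrict (D j)) (fun x => hAlt x) hWND h
      (by rw [hM.finrank_eq j, ha])
  choose b hb using hex
  set φ := idxEquiv hd with hφ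
  set e : Fin t × (Fin h ⊕ Fin h) → (Fin d ⊕ Fin d → F) := fun jx => (b jx.1 jx.2 : _) with he
  set G : Matrix (Fin d ⊕ Fin d) (Fin d ⊕ Fin d) F := Matrix.of fun row col => e (φ col) row
    with hG
  have hcol : ∀ c, G.col c = e (φ c) := fun c => rfl
  have hgram : ∀ c c', Cfsg.sympForm d F (G.col c) (G.col c') = Matrix.J (Fin d) F c c' := by
    intro c c'
    rw [hcol, hcol, J_idx hd c c']
    by_cases h1 : (φ c).1 = (φ c').1
    · rw [if_pos h1]
      have h2 : Cfsg.sympForm d F ((b (φ c).1 (φ c).2 : ↥(D (φ c).1)) : Fin d ⊕ Fin d → F)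
          ((b (φ c).1 (φ c').2 : ↥(D (φ c).1)) : Fin d ⊕ Fin d → F) =
          Matrix.J (Fin h) F (φ c).2 (φ c').2 := by
        rw [← omega_apply]
        exact hb (φ c).1 (φ c).2 (φ c').2
      have h3 : e (φ c') = ((b (φ c).1 (φ c').2 : ↥(D (φ c).1)) : Fin d ⊕ Fin d → F) := by
        simp only [he]
        rw [h1]
      rw [h3, ← h2]
    · rw [if_neg h1]
      exact horth _ _ h1 _ (b _ _).2 _ (b _ _).2
  have hGmem : G ∈ Matrix.symplecticGroup (Fin d) F := mem_symplecticGroup_of_cols G hgram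
  refine ⟨⟨G, hGmem⟩, fun j => ?_⟩
  rw [smul_eq_map]
  unfold stdFam
  rw [Submodule.map_span, ← Set.image_comp]
  have himg : ((Matrix.toLin' G) ∘ fun c : Fin d ⊕ Fin d => (Pi.single c 1 : Fin d ⊕ Fin d → F)) ''
      {c | (idxEquiv hd c).1 = j} = (D j).subtype '' Set.range (b j) := by
    ext v
    simp only [Set.mem_image, Set.mem_ofPred_eq, Function.comp_apply, Set.mem_range]
    constructor
    · rintro ⟨c, hc, rfl⟩
      refine ⟨b j (φ c).2, ⟨_, rfl⟩, ?_⟩
      rw [Matrix.toLin'_apply, Matrix.mulVec_single_one]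
      show _ = e (φ c)
      simp only [he]
      have hc' : (φ c).1 = j := hc
      rw [hc']
      rfl
    · rintro ⟨_, ⟨x, rfl⟩, rfl⟩
      refine ⟨φ.symm (j, x), by rw [← hφ, φ.apply_symm_apply], ?_⟩
      rw [Matrix.toLin'_apply, Matrix.mulVec_single_one]
      show e (φ (φ.symm (j, x))) = _
      rw [φ.apply_symm_apply]
      rfl
  rw [himg, ← Submodule.map_span, (b j).span_eq, Submodule.map_top, Submodule.range_subtype]

/-- transitivity -/
theorem exists_smul_eq {a t h : ℕ} (ha : a = 2 * h) (hd : d = t * h)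
    (D D' : {D : Fin t → Submodule F (Fin d ⊕ Fin d → F) // OrthDec d F a t D}) :
    ∃ g : ↥(Matrix.symplecticGroup (Fin d) F), g • D = D' := by
  obtain ⟨g₁, hg₁⟩ := exists_smul_stdFam ha hd D.2
  obtain ⟨g₂, hg₂⟩ := exists_smul_stdFam ha hd D'.2
  refine ⟨g₂ * g₁⁻¹, ?_⟩
  apply Subtype.ext
  funext j
  rw [spAct_apply, ← hg₁ j, ← hg₂ j, mul_smul, inv_smul_smul]

theorem card_orthDec_dvd [Fintype F] {a t h : ℕ} (ha : a = 2 * h) (hd : d = t * h)
    (D : {D : Fin t → Submodule F (Fin d ⊕ Fin d → F) // OrthDec d F a t D}) :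
    Nat.card {D : Fin t → Submodule F (Fin d ⊕ Fin d → F) // OrthDec d F a t D} ∣
      Nat.card ↥(Matrix.symplecticGroup (Fin d) F) := by
  have : MulAction.IsPretransitive ↥(Matrix.symplecticGroup (Fin d) F)
      {D : Fin t → Submodule F (Fin d ⊕ Fin d → F) // OrthDec d F a t D} :=
    ⟨fun D₁ D₂ => exists_smul_eq ha hd D₁ D₂⟩
  rw [← MulAction.index_stabilizer_of_transitive ↥(Matrix.symplecticGroup (Fin d) F) D]
  exact Subgroup.index_dvd_card _

open Cfsg.Agent.Helper99.SpStruct in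
/-- the arithmetic consequence for `Sp`: a prime `r ≠ p` dividing the number of unordered
orthogonal decompositions has block size at most `2d`. -/
theorem blockSize_le_of_dvd [Fintype F] {p : ℕ} [Fact p.Prime] [CharP F p] {a t h : ℕ}
    (ha : a = 2 * h) (hd : d = t * h) (r : ℕ) [Fact r.Prime] (hrp : r ≠ p)
    (D₀ : {D : Fin t → Submodule F (Fin d ⊕ Fin d → F) // OrthDec d F a t D})
    (hΩ : r ∣ Nat.card {D : Fin t → Submodule F (Fin d ⊕ Fin d → F) // OrthDec d F a t D} /
      t.factorial) :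
    blockSize (orderOf ((Fintype.card F : ℕ) : ZMod r)) ≤ 2 * d := by
  have hr : r.Prime := Fact.out
  have h1 : Nat.card {D : Fin t → Submodule F (Fin d ⊕ Fin d → F) // OrthDec d F a t D} /
      t.factorial ∣ Nat.card {D : Fin t → Submodule F (Fin d ⊕ Fin d → F) // OrthDec d F a t D} :=
    Nat.div_dvd_of_dvd (factorial_dvd_card_orthDec a t)
  have h2 := (hΩ.trans h1).trans (card_orthDec_dvd ha hd D₀)
  rw [Cfsg.Agent.Helper5.card_sp] at h2
  set q := Fintype.card F with hq
  have hrq : ¬ r ∣ q := by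
    obtain ⟨k, hp, hk⟩ := FiniteField.card F p
    intro hdvd
    rw [hq, hk] at hdvd
    have := (Nat.prime_dvd_prime_iff_eq hr hp).mp (hr.dvd_of_dvd_pow hdvd)
    exact hrp this
  have h3 : r ∣ ∏ i ∈ Finset.range d, (q ^ (2 * (i + 1)) - 1) := by
    rcases (Nat.Prime.dvd_mul hr).mp h2 with h | h
    · exact absurd (hr.dvd_of_dvd_pow h) hrq
    · exact h
  obtain ⟨j, hj, hrj⟩ := (Prime.dvd_finsetProd_iff hr.prime _).mp h3
  rw [Finset.mem_range] at hj
  have hqpos : 1 ≤ q ^ (2 * (j + 1)) := Nat.one_le_pow _ _ Fintype.card_pos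
  have h4 : ((q : ℕ) : ZMod r) ^ (2 * (j + 1)) = 1 := by
    have := (ZMod.natCast_eq_zero_iff _ _).mpr hrj
    rw [Nat.cast_sub hqpos, Nat.cast_one, sub_eq_zero, Nat.cast_pow] at this
    exact this
  have h5 := orderOf_dvd_of_pow_eq_one h4
  by_cases hi : Even (orderOf ((q : ℕ) : ZMod r))
  · rw [blockSize_even hi]
    have := Nat.le_of_dvd (by omega) h5
    omega
  · rw [blockSize_odd hi]
    have hcop : Nat.Coprime (orderOf ((q : ℕ) : ZMod r)) 2 := by
      rw [Nat.coprime_two_right]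
      exact Nat.not_even_iff_odd.mp hi
    have h6 : orderOf ((q : ℕ) : ZMod r) ∣ j + 1 := hcop.dvd_of_dvd_mul_left h5
    have := Nat.le_of_dvd (by omega) h6
    omega

end Cfsg.Agent.Helper99.SpCount
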