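import Mathlib
import Cfsg.Agent.Helper43.LagrE
import Cfsg.Agent.Helper43.SpPrimeC
import Cfsg.Agent.Helper99.SpStructD
import Cfsg.Agent.Helper99.RElt

set_option autoImplicit false
set_option linter.unusedSectionVars false
set_option linter.style.haveILetI false

/-!
# Test elements of odd prime order in `Sp_{2d}(F)` with prescribed fixed space dimension
-/

namespace Cfsg.Agent.Helper99.SpElt

open Module Polynomial
open Cfsg.Agent.Helper59.InvChain Cfsg.Agent.Helper59.Elusive
open Cfsg.Agent.Helper99.RDecomp Cfsg.Agent.Helper99.SpStruct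
open Cfsg.Agent.Helper43.SpPrime

universe u

section poly

variable {F : Type u} [Field F]

theorem X_sub_one_eq : (X - 1 : F[X]) = X - C 1 := by rw [map_one]

theorem rootMultiplicity_model (G : F[X]) (hG : G ≠ 0) (hG1 : G.eval 1 ≠ 0) (k e : ℕ) :
    rootMultiplicity 1 (G ^ k * (X - 1) ^ e) = e := by
  have hX : (X - 1 : F[X]) ≠ 0 := by rw [X_sub_one_eq]; exact X_sub_C_ne_zero 1
  have hne : G ^ k * (X - 1) ^ e ≠ 0 := mul_ne_zero (pow_ne_zero _ hG) (pow_ne_zero _ hX)
  rw [rootMultiplicity_mul hne, X_sub_one_eq, rootMultiplicity_X_sub_C_pow]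
  have h1 : rootMultiplicity 1 (G ^ k) = 0 := by
    apply rootMultiplicity_eq_zero
    rw [IsRoot.def, eval_pow]
    exact pow_ne_zero _ hG1
  rw [h1, zero_add]

/-- the model polynomial satisfies `PrimePred` -/
theorem primePred_model (r : ℕ) (G : F[X]) (hGm : G.Monic) (c : ℕ)
    (hGd : G.natDegree = c)
    (hGfac : ∀ Q : F[X], Q.Monic → Irreducible Q → Q ∣ G → Q ∣ (X ^ r - 1 : F[X]))
    (hG1 : G.eval 1 ≠ 0) (k e n : ℕ) (hk : 0 < k) (hc : 0 < c) (hn : k * c + e = n) :
    Cfsg.Agent.Helper43.SS.PrimePred n r (G ^ k * (X - 1) ^ e) := by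
  have hLm : (X - 1 : F[X]).Monic := Cfsg.Agent.Helper43.Lagr.X_sub_one_monic
  have hLd : (X - 1 : F[X]).natDegree = 1 := by
    rw [X_sub_one_eq]; exact natDegree_X_sub_C 1
  have hLdvd : (X - 1 : F[X]) ∣ X ^ r - 1 := by
    have := sub_dvd_pow_sub_pow (X : F[X]) 1 r
    rwa [one_pow] at this
  refine ⟨(hGm.pow k).mul (hLm.pow e), ?_, ?_, ?_⟩
  · rw [(hGm.pow k).natDegree_mul (hLm.pow e), hGm.natDegree_pow, hLm.natDegree_pow, hLd, hGd,
      mul_one, ← hn]
  · intro Q hQm hQi hQ
    rcases hQi.prime.dvd_or_dvd hQ with h | h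
    · exact hGfac Q hQm hQi (hQi.prime.dvd_of_dvd_pow h)
    · exact (hQi.prime.dvd_of_dvd_pow h).trans hLdvd
  · intro h
    have h1 := rootMultiplicity_model G hGm.ne_zero hG1 k e
    rw [h, X_sub_one_eq, rootMultiplicity_X_sub_C_pow] at h1
    have : 0 < k * c := Nat.mul_pos hk hc
    omega

end poly

section fix

variable {F : Type u} [Field F] {V : Type*} [AddCommGroup V] [Module F V] [FiniteDimensional F V]

/-- for `y ^ r = 1` with `r` invertible, the generalized 1-eigenspace is the fixed space -/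
theorem maxGenEigenspace_one_eq_fixSp (r : ℕ) [Fact r.Prime] (hrF : (r : F) ≠ 0)
    (y : Module.End F V) (hy : y ^ r = 1) : y.maxGenEigenspace 1 = fixSp y := by
  have hsub : ∀ k : ℕ, (y - (1 : F) • (1 : Module.End F V)) ^ k = aeval y ((X - 1 : F[X]) ^ k) := by
    intro k
    rw [map_pow, map_sub, aeval_X, map_one, one_smul]
  apply le_antisymm
  · intro v hv
    rw [Module.End.mem_maxGenEigenspace] at hv
    obtain ⟨k, hk⟩ := hv
    rw [hsub] at hk
    have hcop : IsCoprime ((X - 1 : F[X]) ^ k) (cyclotomic r F) :=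
      (isCoprime_X_sub_one_cyclotomic r hrF).pow_left
    obtain ⟨a, b, hab⟩ := hcop
    have h1 : v = (aeval y (b * cyclotomic r F)) v := by
      have h2 : (aeval y (a * (X - 1) ^ k + b * cyclotomic r F)) v = v := by
        rw [hab, map_one]; rfl
      rw [map_add, LinearMap.add_apply, map_mul, Module.End.mul_apply, hk, map_zero, zero_add] at h2
      exact h2.symm
    rw [mem_fixSp]
    have h3 : (aeval y ((X - 1) * (b * cyclotomic r F))) v = 0 := by
      have h4 : (X - 1 : F[X]) * (b * cyclotomic r F) = b * (X ^ r - 1) := by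
        rw [← cyclotomic_prime_mul_X_sub_one F r]; ring
      rw [h4, map_mul, map_sub, map_pow, aeval_X, map_one, hy, sub_self, mul_zero]
      rfl
    rw [map_mul, Module.End.mul_apply, ← h1, map_sub, aeval_X, map_one, LinearMap.sub_apply] at h3
    exact sub_eq_zero.mp h3
  · intro v hv
    rw [Module.End.mem_maxGenEigenspace]
    refine ⟨1, ?_⟩
    rw [pow_one, LinearMap.sub_apply, one_smul, mem_fixSp.mp hv]
    exact sub_self v

theorem finrank_fixSp_eq_rootMultiplicity (r : ℕ) [Fact r.Prime] (hrF : (r : F) ≠ 0)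
    (y : Module.End F V) (hy : y ^ r = 1) :
    finrank F ↥(fixSp y) = y.charpoly.rootMultiplicity 1 := by
  rw [← maxGenEigenspace_one_eq_fixSp r hrF y hy]
  exact LinearMap.finrank_maxGenEigenspace_eq y 1

end fix

section elt

variable {F : Type u} [Field F] [Fintype F] {p : ℕ} [Fact p.Prime] [CharP F p]

theorem eval_one_ne_zero_of_dvd_cyclotomic (r : ℕ) [Fact r.Prime] (hrF : (r : F) ≠ 0) {P : F[X]}
    (hP : P ∣ cyclotomic r F) : P.eval 1 ≠ 0 := by
  intro h0
  have h1 : (cyclotomic r F).eval 1 = 0 := by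
    obtain ⟨Q, hQ⟩ := hP
    rw [hQ, eval_mul, h0, zero_mul]
  rw [eval_one_cyclotomic_prime] at h1
  exact hrF h1

/-- test elements of `Sp_{2d}(F)`: `k` blocks -/
theorem exists_sp_elt (d r : ℕ) [Fact r.Prime] (hrp : r ≠ p) (k : ℕ) (hk : 0 < k)
    (hkc : k * blockSize (orderOf ((Fintype.card F : ℕ) : ZMod r)) ≤ 2 * d) :
    ∃ x : ↥(Matrix.symplecticGroup (Fin d) F), x ^ r = 1 ∧
      finrank F ↥(fixSp (Matrix.toLin' (x : Matrix (Fin d ⊕ Fin d) (Fin d ⊕ Fin d) F))) =
        2 * d - k * blockSize (orderOf ((Fintype.card F : ℕ) : ZMod r)) := by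
  classical
  have hr : r.Prime := Fact.out
  have hrF : (r : F) ≠ 0 := natCast_ne_zero_of_ne r hrp
  set i := orderOf ((Fintype.card F : ℕ) : ZMod r) with hidef
  have hipos : 0 < i := orderOf_card_pos r hrp
  have hnu : ¬ IsUnit (cyclotomic r F) := by
    apply not_isUnit_of_natDegree_pos
    rw [natDegree_cyclotomic, Nat.totient_prime hr]
    have := hr.two_le
    omega
  obtain ⟨P, hPm, hPi, hPd⟩ := exists_monic_irreducible_factor _ hnu
  have hPdeg : P.natDegree = i := (HP_cyclotomic r hrp).2 P hPi hPd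
  have hP1 : P.eval 1 ≠ 0 := eval_one_ne_zero_of_dvd_cyclotomic r hrF hPd
  have hPdvd : P ∣ (X ^ r - 1 : F[X]) := hPd.trans (cyclotomic.dvd_X_pow_sub_one r F)
  have hP0 : P.coeff 0 ≠ 0 := coeff_zero_ne_of_dvd_X_pow_sub_one hr.pos hPdvd
  set e := 2 * d - k * blockSize i with he
  -- the block polynomial
  obtain ⟨G, hGm, hGd, hGfac, hG1, hrev⟩ : ∃ G : F[X], G.Monic ∧ G.natDegree = blockSize i ∧
      (∀ Q : F[X], Q.Monic → Irreducible Q → Q ∣ G → Q ∣ (X ^ r - 1 : F[X])) ∧ G.eval 1 ≠ 0 ∧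
      (Cfsg.Agent.Helper43.SS.PrimePred (2 * d) r (G ^ k * (X - 1) ^ e) →
        (G ^ k * (X - 1) ^ e).reverse = G ^ k * (X - 1) ^ e) := by
    by_cases hi : Even i
    · refine ⟨P, hPm, by rw [blockSize_even hi, hPdeg], fun Q _ _ hQ => hQ.trans hPdvd, hP1, ?_⟩
      intro hpp
      exact reverse_eq_of_even p rfl d r i hr hrp hidef hi hipos hpp
    · have hSm : (star P).Monic := star_monic hP0
      have hSd : (star P).natDegree = i := by rw [natDegree_star hP0, hPdeg]
      have hSS : star (star P) = P := star_star hPm hP0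
      have hSdvd : star P ∣ (X ^ r - 1 : F[X]) := by
        have := star_dvd hPdvd
        rwa [star_X_pow_sub_one hr.pos] at this
      have hS1 : (star P).eval 1 ≠ 0 := by
        intro h0
        have h1 : (X - C 1 : F[X]) ∣ star P := dvd_iff_isRoot.mpr h0
        rw [← X_sub_one_eq] at h1
        have h2 := star_dvd h1
        rw [star_X_sub_one, hSS, X_sub_one_eq, dvd_iff_isRoot] at h2
        exact hP1 h2
      refine ⟨P * star P, hPm.mul hSm, ?_, ?_, ?_, ?_⟩
      · rw [hPm.natDegree_mul hSm, hPdeg, hSd, blockSize_odd hi]; ring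
      · intro Q _ hQi hQ
        rcases hQi.prime.dvd_or_dvd hQ with h | h
        · exact h.trans hPdvd
        · exact h.trans hSdvd
      · rw [eval_mul]; exact mul_ne_zero hP1 hS1
      · intro _
        apply reverse_eq_self_of_star
        · rw [coeff_zero_eq_eval_zero, eval_mul, eval_pow, eval_pow, eval_mul, eval_sub, eval_X,
            eval_one, ← coeff_zero_eq_eval_zero, ← coeff_zero_eq_eval_zero, coeff_zero_star,
            hPm.leadingCoeff, mul_one, mul_inv_cancel₀ hP0, one_pow, one_mul, zero_sub]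
          have heven : Even e := by
            rw [he, blockSize_odd hi]
            have h1 : Even (2 * d) := even_two_mul d
            have h2 : Even (k * (2 * i)) := by
              rw [mul_left_comm]; exact even_two_mul _
            exact (Nat.even_sub (by rw [← blockSize_odd hi]; exact hkc)).mpr ⟨fun _ => h2, fun _ => h1⟩
          exact heven.neg_one_pow
        · rw [Cfsg.Agent.Helper43.SpPrime.star_mul, Cfsg.Agent.Helper43.SpPrime.star_pow,
            Cfsg.Agent.Helper43.SpPrime.star_pow, Cfsg.Agent.Helper43.SpPrime.star_mul, hSS, star_X_sub_one, mul_comm (star P) P]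
  have hcpos : 0 < blockSize i := blockSize_pos hipos
  have hpp : Cfsg.Agent.Helper43.SS.PrimePred (2 * d) r (G ^ k * (X - 1) ^ e) :=
    primePred_model r G hGm (blockSize i) hGd hGfac hG1 k e (2 * d) hk hcpos (by omega)
  have hfrev := hrev hpp
  obtain ⟨hfm, hfd, hfac, hfne⟩ := hpp
  have hsp : SpPrimePred d r (G ^ k * (X - 1) ^ e) := ⟨hfm, hfd, hfrev, hfac, hfne⟩
  obtain ⟨x, hxord, hxch⟩ := Cfsg.Agent.Helper43.Lagr.exists_prime_order_charpoly p d r hr hrp _ hsp
  have hxr : x ^ r = 1 := by rw [← hxord]; exact pow_orderOf_eq_one x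
  refine ⟨x, hxr, ?_⟩
  have hy : (Matrix.toLin' (x : Matrix (Fin d ⊕ Fin d) (Fin d ⊕ Fin d) F)) ^ r = 1 := by
    rw [← Matrix.toLin'_pow]
    have h1 : (x : Matrix (Fin d ⊕ Fin d) (Fin d ⊕ Fin d) F) ^ r = 1 := by
      have := congrArg Subtype.val hxr
      rwa [SubmonoidClass.coe_pow] at this
    rw [h1, Matrix.toLin'_one]
    rfl
  rw [finrank_fixSp_eq_rootMultiplicity r hrF _ hy, Matrix.charpoly_toLin', hxch,
    rootMultiplicity_model G hGm.ne_zero hG1 k e]

end elt

end Cfsg.Agent.Helper99.SpElt
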