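import Mathlib
import Cfsg.Agent.Helper99.SpCountB
import Cfsg.Agent.Helper99.SpElt
import Cfsg.Agent.Helper99.RDecompE
import Cfsg.Agent.Helper99.RMain

set_option autoImplicit false
set_option linter.unusedSectionVars false
set_option linter.style.haveILetI false

/-!
# Elements of odd prime order `r ≠ p` of `Sp_{2d}(q)` and orthogonal decompositions
-/

namespace Cfsg.Agent.Helper99.SpMain

open Module Polynomial Matrix
open Cfsg Cfsg.Geo
open Cfsg.Agent.Helper13 Cfsg.Agent.S0776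
open Cfsg.Agent.Helper59.InvChain Cfsg.Agent.Helper59.Elusive
open Cfsg.Agent.Helper99.RDecomp Cfsg.Agent.Helper99.SpStruct Cfsg.Agent.Helper99.SpCount
open Cfsg.Agent.Helper99.SpElt

universe u

variable {F : Type u} [Field F] {d : ℕ}

theorem nd_iff_stmt {W : Submodule F (Fin d ⊕ Fin d → F)} :
    Nd (omega d F) W ↔ ∀ u ∈ W, u ≠ 0 → ∃ v ∈ W, Cfsg.sympForm d F u v ≠ 0 := by
  rw [nd_iff]
  constructor
  · intro h u hu hu0
    by_contra hcon
    push Not at hcon
    apply hu0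
    apply h u hu
    intro w hw
    rw [omega_apply, sympForm_swap, hcon w hw, neg_zero]
  · intro h u hu hu'
    by_contra hu0
    obtain ⟨v, hv, hne⟩ := h u hu hu0
    apply hne
    rw [sympForm_swap, ← omega_apply, hu' v hv, neg_zero]

theorem orth_iff_stmt {U W : Submodule F (Fin d ⊕ Fin d → F)} :
    Orth (omega d F) U W ↔ ∀ u ∈ U, ∀ v ∈ W, Cfsg.sympForm d F u v = 0 := by
  unfold Orth
  simp only [omega_apply]

variable [Fintype F] {p : ℕ} [Fact p.Prime] [CharP F p]

/-- the setup for an isometry `y` with `y ^ r = 1` -/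
theorem spSetup_of (r : ℕ) [Fact r.Prime] (hrp : r ≠ p)
    (y : Module.End F (Fin d ⊕ Fin d → F))
    (hiso : ∀ u v, Cfsg.sympForm d F (y u) (y v) = Cfsg.sympForm d F u v) (hy : y ^ r = 1) :
    SpSetup (omega d F) r y (orderOf ((Fintype.card F : ℕ) : ZMod r)) where
  alt := omega_isAlt d
  nondeg := omega_nondegenerate d
  isom := fun u v => by rw [omega_apply, omega_apply]; exact hiso u v
  setup := setup_of r hrp y hy
  hp := HP_cyclotomic r hrp

theorem finrank_space : finrank F (Fin d ⊕ Fin d → F) = 2 * d := by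
  rw [Module.finrank_fintype_fun_eq_card, Fintype.card_sum, Fintype.card_fin]
  ring

theorem nd_top : Nd (omega d F) (⊤ : Submodule F (Fin d ⊕ Fin d → F)) := by
  rw [nd_iff]
  intro u _ hu
  exact (omega_nondegenerate (F := F) d).2 u (fun w => hu w trivial)

/-- dimension of the fixed space modulo the block size -/
theorem finrank_fix_ge {r : ℕ} {y : Module.End F (Fin d ⊕ Fin d → F)}
    (h : SpSetup (omega d F) r y (orderOf ((Fintype.card F : ℕ) : ZMod r))) :
    (2 * d) % blockSize (orderOf ((Fintype.card F : ℕ) : ZMod r)) ≤ finrank F ↥(fixSp y) ∧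
    finrank F ↥(fixSp y) % blockSize (orderOf ((Fintype.card F : ℕ) : ZMod r)) =
      (2 * d) % blockSize (orderOf ((Fintype.card F : ℕ) : ZMod r)) := by
  have htot := h.setup.total
  rw [finrank_space] at htot
  have hcnd : Nd (omega d F) (cycSp r y) := by
    have := h.nd_inf_cyc (inv_top y) nd_top
    rwa [top_inf_eq] at this
  obtain ⟨m, hm⟩ := h.blockSize_dvd (inv_cycSp r y) hcnd le_rfl
  have h1 : finrank F ↥(fixSp y) % blockSize (orderOf ((Fintype.card F : ℕ) : ZMod r)) =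
      (2 * d) % blockSize (orderOf ((Fintype.card F : ℕ) : ZMod r)) := by
    rw [htot, hm, Nat.add_mul_mod_self_left]
  refine ⟨?_, h1⟩
  rw [← h1]
  exact Nat.mod_le _ _

/-- (⇐), abstract form: an isometry `y` with `y ^ r = 1` and enough fixed dimensions -/
theorem decomp_of_fix (r : ℕ) [Fact r.Prime] (hrp : r ≠ p) (hr2 : r ≠ 2)
    (y : Module.End F (Fin d ⊕ Fin d → F))
    (hiso : ∀ u v, Cfsg.sympForm d F (y u) (y v) = Cfsg.sympForm d F u v) (hy : y ^ r = 1)
    {a t : ℕ} (hat : 2 * d = a * t) (ha : 2 ≤ a) (hae : Even a) (ht : 2 ≤ t)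
    (hk : t * (a % blockSize (orderOf ((Fintype.card F : ℕ) : ZMod r))) ≤ finrank F ↥(fixSp y)) :
    ∃ D : Fin t → Submodule F (Fin d ⊕ Fin d → F), OrthDec d F a t D ∧ ∀ j, Inv y (D j) := by
  have hr : r.Prime := Fact.out
  have hodd : Odd r := hr.odd_of_ne_two hr2
  have h := spSetup_of r hrp y hiso hy
  obtain ⟨D, hinv, hnd, hdim, horth, hind, hsup⟩ := h.exists_orth_decomp hodd a hae t ⊤
    (inv_top y) nd_top (by rw [finrank_top, finrank_space, hat, mul_comm])
    (by rw [top_inf_eq]; exact hk)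
  refine ⟨D, ⟨⟨ht, by omega, hdim, hind, hsup⟩, fun j => nd_iff_stmt.mp (hnd j),
    fun j j' hjj' => orth_iff_stmt.mp (horth j j' hjj')⟩, hinv⟩

theorem decomp_of_cond (r : ℕ) [Fact r.Prime] (hrp : r ≠ p) (hr2 : r ≠ 2)
    (y : Module.End F (Fin d ⊕ Fin d → F))
    (hiso : ∀ u v, Cfsg.sympForm d F (y u) (y v) = Cfsg.sympForm d F u v) (hy : y ^ r = 1)
    {a t : ℕ} (hat : 2 * d = a * t) (ha : 2 ≤ a) (hae : Even a) (ht : 2 ≤ t)
    (hk : (2 * d) % blockSize (orderOf ((Fintype.card F : ℕ) : ZMod r)) =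
      t * (a % blockSize (orderOf ((Fintype.card F : ℕ) : ZMod r)))) :
    ∃ D : Fin t → Submodule F (Fin d ⊕ Fin d → F), OrthDec d F a t D ∧ ∀ j, Inv y (D j) := by
  have h := spSetup_of r hrp y hiso hy
  obtain ⟨hge, -⟩ := finrank_fix_ge h
  exact decomp_of_fix r hrp hr2 y hiso hy hat ha hae ht (by rw [← hk]; exact hge)

/-- orthogonal decompositions exist -/
theorem nonempty_orthDec (r : ℕ) [Fact r.Prime] (hrp : r ≠ p) (hr2 : r ≠ 2)
    {a t : ℕ} (hat : 2 * d = a * t) (ha : 2 ≤ a) (hae : Even a) (ht : 2 ≤ t) :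
    Nonempty {D : Fin t → Submodule F (Fin d ⊕ Fin d → F) // OrthDec d F a t D} := by
  have hfix : fixSp (1 : Module.End F (Fin d ⊕ Fin d → F)) = ⊤ := by
    rw [eq_top_iff]
    intro v _
    rw [mem_fixSp]
    rfl
  obtain ⟨D, hD, -⟩ := decomp_of_fix (F := F) r hrp hr2 1 (fun u v => rfl) (one_pow r) hat ha hae ht
    (by
      rw [hfix, finrank_top, finrank_space, hat, mul_comm a t]
      exact Nat.mul_le_mul_left t (Nat.mod_le _ _))
  exact ⟨⟨D, hD⟩⟩

/-- the matrix-level hypothesis for elements with `x ^ r = 1` -/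
def SpDecompProp (F : Type u) [Field F] (d a t r : ℕ) : Prop :=
  ∀ x : ↥(Matrix.symplecticGroup (Fin d) F), x ^ r = 1 → x ≠ 1 →
    ∃ D : Fin t → Submodule F (Fin d ⊕ Fin d → F), OrthDec d F a t D ∧
      ∃ σ : Equiv.Perm (Fin t), ∀ j, (D j).map
        (Matrix.toLin' (x : Matrix (Fin d ⊕ Fin d) (Fin d ⊕ Fin d) F)) = D (σ j)

theorem toLin_pow_eq_one {r : ℕ} (x : ↥(Matrix.symplecticGroup (Fin d) F)) (hx : x ^ r = 1) :
    (Matrix.toLin' (x : Matrix (Fin d ⊕ Fin d) (Fin d ⊕ Fin d) F)) ^ r = 1 := by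
  rw [← Matrix.toLin'_pow]
  have h1 : (x : Matrix (Fin d ⊕ Fin d) (Fin d ⊕ Fin d) F) ^ r = 1 := by
    have := congrArg Subtype.val hx
    rwa [SubmonoidClass.coe_pow] at this
  rw [h1, Matrix.toLin'_one]
  rfl

theorem toLin_isom (x : ↥(Matrix.symplecticGroup (Fin d) F)) (u v : Fin d ⊕ Fin d → F) :
    Cfsg.sympForm d F (Matrix.toLin' (x : Matrix (Fin d ⊕ Fin d) (Fin d ⊕ Fin d) F) u)
      (Matrix.toLin' (x : Matrix (Fin d ⊕ Fin d) (Fin d ⊕ Fin d) F) v) = Cfsg.sympForm d F u v := by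
  rw [Matrix.toLin'_apply, Matrix.toLin'_apply]
  exact (mem_symplecticGroup_iff_preserves _).mp x.2 u v

theorem blockSize_le_pred (r : ℕ) [Fact r.Prime] (hrp : r ≠ p) (hr2 : r ≠ 2) :
    blockSize (orderOf ((Fintype.card F : ℕ) : ZMod r)) ≤ r - 1 := by
  have hr : r.Prime := Fact.out
  have hdvd := orderOf_card_dvd (F := F) r hrp
  have hr3 : 3 ≤ r := by have := hr.two_le; omega
  by_cases hi : Even (orderOf ((Fintype.card F : ℕ) : ZMod r))
  · rw [blockSize_even hi]
    exact Nat.le_of_dvd (by omega) hdvd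
  · rw [blockSize_odd hi]
    have hodd : Odd r := hr.odd_of_ne_two hr2
    have h2 : 2 ∣ r - 1 := by
      obtain ⟨m, hm⟩ := hodd
      exact ⟨m, by omega⟩
    have hcop : Nat.Coprime 2 (orderOf ((Fintype.card F : ℕ) : ZMod r)) := by
      rw [Nat.coprime_two_left]
      exact Nat.not_even_iff_odd.mp hi
    exact Nat.le_of_dvd (by omega) (hcop.mul_dvd_of_dvd_of_dvd h2 hdvd)

/-- (⇒), abstract form -/
theorem cond_of_prop_sp (r : ℕ) [Fact r.Prime] (hrp : r ≠ p) (hr2 : r ≠ 2) {a t : ℕ}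
    (H : SpDecompProp F d a t r) (hat : 2 * d = a * t) (ha : 2 ≤ a) (ht : 2 ≤ t)
    (hcn : a < blockSize (orderOf ((Fintype.card F : ℕ) : ZMod r)) →
      blockSize (orderOf ((Fintype.card F : ℕ) : ZMod r)) ≤ 2 * d) :
    blockSize (orderOf ((Fintype.card F : ℕ) : ZMod r)) ≤ a ∧
      (2 * d) % blockSize (orderOf ((Fintype.card F : ℕ) : ZMod r)) =
        t * (a % blockSize (orderOf ((Fintype.card F : ℕ) : ZMod r))) := by
  have hr : r.Prime := Fact.out
  set c := blockSize (orderOf ((Fintype.card F : ℕ) : ZMod r)) with hcdef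
  have hcpos : 0 < c := blockSize_pos (orderOf_card_pos r hrp)
  have ha2d : a ≤ 2 * d := by
    rw [hat]
    exact Nat.le_mul_of_pos_right a (by omega)
  -- common facts for a test element
  have hne_one : ∀ x : ↥(Matrix.symplecticGroup (Fin d) F),
      finrank F ↥(fixSp (Matrix.toLin' (x : Matrix (Fin d ⊕ Fin d) (Fin d ⊕ Fin d) F))) < 2 * d →
      x ≠ 1 := by
    rintro x hlt rfl
    have : fixSp (Matrix.toLin' ((1 : ↥(Matrix.symplecticGroup (Fin d) F)) :
        Matrix (Fin d ⊕ Fin d) (Fin d ⊕ Fin d) F)) = ⊤ := by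
      rw [eq_top_iff]
      intro v _
      rw [mem_fixSp]
      show Matrix.toLin' (1 : Matrix (Fin d ⊕ Fin d) (Fin d ⊕ Fin d) F) v = v
      rw [Matrix.toLin'_one]
      rfl
    rw [this, finrank_top, finrank_space] at hlt
    exact lt_irrefl _ hlt
  by_cases hac : a < c
  · exfalso
    have hc2d := hcn hac
    obtain ⟨x, hxr, hfix⟩ := exists_sp_elt (F := F) d r hrp 1 one_pos (by rw [one_mul]; exact hc2d)
    rw [← hcdef, one_mul] at hfix
    have hx1 : x ≠ 1 := hne_one x (by rw [hfix]; omega)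
    obtain ⟨D, hD, σ, hσ⟩ := H x hxr hx1
    have hy := toLin_pow_eq_one x hxr
    have h := spSetup_of r hrp _ (toLin_isom x) hy
    have htot := h.setup.total
    rw [finrank_space, hfix] at htot
    have hcyc : finrank F ↥(cycSp r (Matrix.toLin'
        (x : Matrix (Fin d ⊕ Fin d) (Fin d ⊕ Fin d) F))) = c := by omega
    have hB1 := caseB1_gen h.setup c hcpos D hD.1.finrank_eq (by omega) hD.1.indep
      hD.1.iSup_eq_top σ hσ
      (fun j hinv => h.blockSize_dvd (inv_inf hinv (inv_cycSp r _))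
        (h.nd_inf_cyc hinv (nd_iff_stmt.mpr (hD.2.1 j))) inf_le_right) hac hcyc
    have hcle := blockSize_le_pred (F := F) r hrp hr2
    rw [← hcdef] at hcle
    have hr3 : 3 ≤ r := by have := hr.two_le; omega
    have h1 : 2 * (r - 1) ≤ a * (r - 1) := Nat.mul_le_mul_right _ ha
    omega
  · push Not at hac
    refine ⟨hac, ?_⟩
    have hc2d : c ≤ 2 * d := hac.trans ha2d
    obtain ⟨x, hxr, hfix⟩ := exists_sp_elt (F := F) d r hrp (2 * d / c)
      (Nat.div_pos hc2d hcpos) (Nat.div_mul_le_self _ _)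
    rw [← hcdef, Cfsg.Agent.Helper99.RMain.sub_div_mul] at hfix
    have hmodlt : (2 * d) % c < c := Nat.mod_lt _ hcpos
    have hx1 : x ≠ 1 := hne_one x (by rw [hfix]; omega)
    obtain ⟨D, hD, σ, hσ⟩ := H x hxr hx1
    have hy := toLin_pow_eq_one x hxr
    have h := spSetup_of r hrp _ (toLin_isom x) hy
    have hA := caseA_gen h.setup c hcpos D hD.1.finrank_eq (by omega) hD.1.indep
      hD.1.iSup_eq_top σ hσ
      (fun j hinv => h.blockSize_dvd (inv_inf hinv (inv_cycSp r _))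
        (h.nd_inf_cyc hinv (nd_iff_stmt.mpr (hD.2.1 j))) inf_le_right)
      (by rw [hfix]; exact hmodlt) hac
    rw [Fintype.card_fin, hfix] at hA
    exact hA

end Cfsg.Agent.Helper99.SpMain
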