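import Mathlib
import Cfsg.Agent.Helper94.TnA

/-!
# Quadratic spaces over finite fields in arbitrary characteristic: types of subspaces

`pB Q` is the polar form of `Q`; `qSub Q W` the restriction of `Q` to a subspace; `QType Q W e ε`
says that `W` (of dimension `2 e`) has type `ε` (helper44's zero count `HasType`); `TS`, `Hyp`.
Characteristic-free versions of helper94's `TnA`.
-/

set_option autoImplicit false

namespace Cfsg.Agent.Helper99.QSp

open Module
open Cfsg.Agent.Helper99.SpStruct
open Cfsg.Agent.Helper44 Cfsg.Agent.Helper44.QType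

universe u v

variable {F : Type u} [Field F] [Fintype F]
variable {V : Type v} [AddCommGroup V] [Module F V] [FiniteDimensional F V]

/-- the polar form of a quadratic form, as a bilinear form -/
noncomputable abbrev pB (Q : QuadraticForm F V) : LinearMap.BilinForm F V :=
  QuadraticMap.polarBilin Q

omit [Fintype F] [FiniteDimensional F V] in
theorem pB_apply (Q : QuadraticForm F V) (x y : V) : pB Q x y = QuadraticMap.polar Q x y := rfl

omit [Fintype F] [FiniteDimensional F V] in
theorem pB_symm (Q : QuadraticForm F V) : (pB Q).IsSymm :=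
  ⟨fun x y => by simp only [pB_apply, RingHom.id_apply]; exact QuadraticMap.polar_comm Q x y⟩

omit [Fintype F] [FiniteDimensional F V] in
theorem pB_refl (Q : QuadraticForm F V) : (pB Q).IsRefl := (pB_symm Q).isRefl

omit [Fintype F] [FiniteDimensional F V] in
theorem pB_self (Q : QuadraticForm F V) (x : V) : pB Q x x = 2 * Q x := by
  rw [pB_apply, QuadraticMap.polar_self, two_smul, two_mul]

/-- the restriction of `Q` to a subspace -/
noncomputable def qSub (Q : QuadraticForm F V) (W : Submodule F V) : QuadraticForm F ↥W :=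
  Q.comp W.subtype

omit [Fintype F] [FiniteDimensional F V] in
theorem qSub_apply (Q : QuadraticForm F V) (W : Submodule F V) (w : ↥W) :
    qSub Q W w = Q (w : V) := rfl

omit [Fintype F] [FiniteDimensional F V] in
theorem qSub_polar (Q : QuadraticForm F V) (W : Submodule F V) (x y : ↥W) :
    QuadraticMap.polar (qSub Q W) x y = QuadraticMap.polar Q (x : V) (y : V) := rfl

omit [Fintype F] [FiniteDimensional F V] in
theorem qSub_nd (Q : QuadraticForm F V) {W : Submodule F V} (hW : Nd (pB Q) W) :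
    ∀ x : ↥W, (∀ y, QuadraticMap.polar (qSub Q W) x y = 0) → x = 0 := by
  intro x hx
  apply Subtype.ext
  apply nd_iff.mp hW x.1 x.2
  intro w hw
  have := hx ⟨w, hw⟩
  rw [qSub_polar] at this
  rw [pB_apply, QuadraticMap.polar_comm]
  exact this

/-- `W` (of dimension `2 e`) has type `ε` -/
def QType (Q : QuadraticForm F V) (W : Submodule F V) (e : ℕ) (ε : ℤ) : Prop :=
  HasType (⇑(qSub Q W)) e ε

theorem exists_qType (Q : QuadraticForm F V) {W : Submodule F V} (hW : Nd (pB Q) W)
    {e : ℕ} (hdim : finrank F ↥W = 2 * e) :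
    ∃ ε : ℤ, (ε = 1 ∨ ε = -1) ∧ QType Q W e ε :=
  exists_hasType (qSub Q W) hdim (qSub_nd Q hW)

omit [FiniteDimensional F V] in
theorem QType.unique {Q : QuadraticForm F V} {W : Submodule F V} {e : ℕ} {ε ε' : ℤ}
    (h : QType Q W e ε) (h' : QType Q W e ε') : ε = ε' :=
  HasType.unique h h'

/-- the type of an orthogonal sum of subspaces -/
theorem qType_sup (Q : QuadraticForm F V) {A C : Submodule F V} (hA : Nd (pB Q) A)
    (hC : Nd (pB Q) C) (hAC : Orth (pB Q) A C) {e₁ e₂ : ℕ} (hdA : finrank F ↥A = 2 * e₁)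
    (hdC : finrank F ↥C = 2 * e₂) {ε₁ ε₂ : ℤ} (h₁ : QType Q A e₁ ε₁) (h₂ : QType Q C e₂ ε₂) :
    QType Q (A ⊔ C) (e₁ + e₂) (ε₁ * ε₂) := by
  have hp := Cfsg.Agent.Helper94.Tn.hasType_prod (qSub Q A) (qSub Q C) hdA hdC (qSub_nd Q hA)
    (qSub_nd Q hC) h₁ h₂
  have hdis : Disjoint A C := hAC.disjoint hA
  let φ : ↥A × ↥C → ↥(A ⊔ C) := fun p => ⟨(p.1 : V) + p.2, Submodule.add_mem_sup p.1.2 p.2.2⟩
  have hφ : Function.Bijective φ := by
    constructor
    · rintro ⟨a, c⟩ ⟨a', c'⟩ h
      have h1 : (a : V) + c = (a' : V) + c' := congrArg Subtype.val h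
      have h3 : (a : V) - (a' : V) = (c' : V) - c := by
        rw [sub_eq_sub_iff_add_eq_add, h1, add_comm]
      have h4 : (a : V) - (a' : V) ∈ A ⊓ C :=
        ⟨A.sub_mem a.2 a'.2, by rw [h3]; exact C.sub_mem c'.2 c.2⟩
      rw [hdis.eq_bot, Submodule.mem_bot] at h4
      have h5 : (a : V) = a' := sub_eq_zero.mp h4
      have h6 : (c : V) = c' := by
        rw [h5] at h1
        exact add_left_cancel h1
      exact Prod.ext (Subtype.ext h5) (Subtype.ext h6)
    · rintro ⟨w, hw⟩
      obtain ⟨a, ha, c, hc, rfl⟩ := Submodule.mem_sup.mp hw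
      exact ⟨(⟨a, ha⟩, ⟨c, hc⟩), rfl⟩
  refine HasType.congr hp (Equiv.ofBijective φ hφ) ?_
  rintro ⟨a, c⟩
  show Q ((a : V) + c) = Q (a : V) + Q (c : V)
  have h0 : QuadraticMap.polar Q (a : V) (c : V) = 0 := hAC a a.2 c c.2
  have := QuadraticMap.polar Q (a : V) (c : V)
  unfold QuadraticMap.polar at h0
  linear_combination h0

/-- totally singular subspaces -/
def TS (Q : QuadraticForm F V) (U : Submodule F V) : Prop := ∀ u ∈ U, Q u = 0

/-- `W` contains a totally singular subspace of half its dimension -/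
def Hyp (Q : QuadraticForm F V) (W : Submodule F V) : Prop :=
  ∃ U : Submodule F V, U ≤ W ∧ TS Q U ∧ 2 * finrank F ↥U = finrank F ↥W

omit [Fintype F] [FiniteDimensional F V] in
theorem TS.orth {Q : QuadraticForm F V} {U : Submodule F V} (h : TS Q U) : Orth (pB Q) U U := by
  intro u hu u' hu'
  rw [pB_apply]
  unfold QuadraticMap.polar
  rw [h _ (U.add_mem hu hu'), h u hu, h u' hu']
  simp

end Cfsg.Agent.Helper99.QSp
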