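import Mathlib
import Cfsg.Agent.Helper99.QSpA
import Cfsg.Agent.Helper99.SpStructD
import Cfsg.Agent.Helper94.TnG

/-!
# Quadratic spaces over finite fields in arbitrary characteristic: definitions for the
prime order analysis (`QSetup`, `bsign`, `Crit`, hyperbolic frames `IsQFrame`).
-/

set_option autoImplicit false
set_option linter.unusedSectionVars false
set_option linter.style.haveILetI false

namespace Cfsg.Agent.Helper99.QSp

open Module Polynomial
open Cfsg.Agent.Helper59.InvChain Cfsg.Agent.Helper59.Elusive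
open Cfsg.Agent.Helper99.SpStruct Cfsg.Agent.Helper99.RDecomp
open Cfsg.Agent.Helper44 Cfsg.Agent.Helper44.QType

universe u v

variable {F : Type u} [Field F] [Fintype F]
variable {V : Type v} [AddCommGroup V] [Module F V] [FiniteDimensional F V]

/-- the setup: an isometry `y` of the nondegenerate quadratic space `(V, Q)` with `y ^ r = 1`,
`r` an odd prime different from the characteristic. -/
structure QSetup (Q : QuadraticForm F V) (r : ℕ) (y : Module.End F V) : Prop where
  nondeg : (pB Q).Nondegenerate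
  iso : ∀ v, Q (y v) = Q v
  setup : Setup r y (orderOf ((Fintype.card F : ℕ) : ZMod r))
  odd : Odd r
  hp : HP (cyclotomic r F) (orderOf ((Fintype.card F : ℕ) : ZMod r))

/-- the sign of `j` blocks (`i` the order of `q` modulo `r`) -/
def bsign (i j : ℕ) : ℤ := if Even i then (-1) ^ j else 1

theorem bsign_sq (i j : ℕ) : bsign i j * bsign i j = 1 := by
  unfold bsign
  split_ifs
  · rw [← mul_pow]; norm_num
  · norm_num

theorem bsign_eq (i j : ℕ) : bsign i j = 1 ∨ bsign i j = -1 := by
  unfold bsign
  split_ifs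
  · rcases Nat.even_or_odd j with h | h
    · left; exact h.neg_one_pow
    · right; exact h.neg_one_pow
  · left; rfl

/-- the arithmetic criterion: an element with `b` blocks (block size `c`) of the space of dimension
`2 d` and type `εV` fixes a nondegenerate `2 e`-subspace of type `ε`. -/
def Crit (i c d e b : ℕ) (εV ε : ℤ) : Prop :=
  ∃ b' : ℕ, b' ≤ b ∧ b' * c ≤ 2 * e ∧
    ((2 * e = b' * c ∧ bsign i b' = ε) ∨
     (b' * c < 2 * e ∧ 2 * e - b' * c < 2 * d - b * c) ∨
     (b' * c < 2 * e ∧ 2 * e - b' * c = 2 * d - b * c ∧ bsign i b' * (εV * bsign i b) = ε))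

omit [Fintype F] [FiniteDimensional F V] in
theorem isom_pB {Q : QuadraticForm F V} {y : Module.End F V} (h : ∀ v, Q (y v) = Q v) (u v : V) :
    pB Q (y u) (y v) = pB Q u v := by
  rw [pB_apply, pB_apply]
  unfold QuadraticMap.polar
  rw [← map_add, h, h, h]

/-- hyperbolic pairs for `Q` -/
def IsQPair (Q : QuadraticForm F V) (p : V × V) : Prop :=
  Q p.1 = 0 ∧ Q p.2 = 0 ∧ pB Q p.1 p.2 = 1

/-- hyperbolic frames for `Q`: `e` mutually orthogonal hyperbolic pairs -/
def IsQFrame (Q : QuadraticForm F V) {e : ℕ} (s : Fin e → V × V) : Prop :=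
  Cfsg.Agent.Helper94.Tn.IsHFrame (pB Q) s ∧ ∀ a, Q (s a).1 = 0 ∧ Q (s a).2 = 0

/-- the type of the zero subspace -/
theorem qType_bot (Q : QuadraticForm F V) : QType Q ⊥ 0 1 := by
  unfold QType HasType fc
  have h1 : Nat.card {v : ↥(⊥ : Submodule F V) // (qSub Q ⊥) v = 0} = 1 := by
    haveI : Unique {v : ↥(⊥ : Submodule F V) // (qSub Q ⊥) v = 0} :=
      { default := ⟨0, map_zero _⟩
        uniq := fun a => Subtype.ext (Subsingleton.elim _ _) }
    exact Nat.card_unique
  rw [h1]
  simp

/-- the type of the whole space -/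
theorem qType_top_iff (Q : QuadraticForm F V) (e : ℕ) (ε : ℤ) :
    QType Q ⊤ e ε ↔ HasType (⇑Q) e ε := by
  constructor
  · intro h
    exact HasType.congr h (Submodule.topEquiv (R := F) (M := V)).toEquiv (fun v => rfl)
  · intro h
    exact HasType.congr h (Submodule.topEquiv (R := F) (M := V)).symm.toEquiv (fun v => rfl)

end Cfsg.Agent.Helper99.QSp
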