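import Mathlib
import Cfsg.Agent.Helper43.JTKer

set_option autoImplicit false

/-!
# Kernel dimensions of a nilpotent endomorphism and invariant direct decompositions

For an endomorphism `N` of a finite dimensional space, `kdim N l = dim ker N^l` is concave in `l`.
If `kdim N l = ∑_{b ∈ μ} min l b` for a multiset `μ` (the Jordan type) and `V = U ⊕ W` with `U`, `W`
both `N`-invariant, then the Jordan type of `N|U` is a sub-multiset of `μ` with sum `dim U`.
-/

namespace Cfsg.Agent.Helper99.KdimSplit

open Module
open Cfsg.Agent.Helper43.JT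

universe u v

variable {F : Type u} [Field F] {V : Type v} [AddCommGroup V] [Module F V] [FiniteDimensional F V]

/-- `dim ker N^(l+1) = dim ker N^l + dim (range N^l ⊓ ker N)`. -/
theorem kdim_succ_eq (N : Module.End F V) (l : ℕ) :
    kdim N (l + 1) = kdim N l + finrank F ↥(LinearMap.range (N ^ l) ⊓ LinearMap.ker N) := by
  unfold kdim
  set g : Module.End F V := N ^ l with hg
  set S : Submodule F V := (LinearMap.ker N).comap g with hS
  have hker : LinearMap.ker (N ^ (l + 1)) = S := by
    rw [pow_succ', hS, hg]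
    ext x
    simp [Module.End.mul_apply]
  have hle : LinearMap.ker g ≤ S := by
    intro x hx
    rw [hS, Submodule.mem_comap, LinearMap.mem_ker.mp hx]
    exact Submodule.zero_mem _
  have h1 := LinearMap.finrank_range_add_finrank_ker (g.domRestrict S)
  have h2 : LinearMap.range (g.domRestrict S) = LinearMap.range g ⊓ LinearMap.ker N := by
    rw [LinearMap.range_domRestrict, hS, Submodule.map_comap_eq]
  have h3 : finrank F ↥(LinearMap.ker (g.domRestrict S)) = finrank F ↥(LinearMap.ker g) := by
    rw [LinearMap.ker_domRestrict]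
    exact (Submodule.comapSubtypeEquivOfLe hle).finrank_eq
  rw [hker, ← h1, h2, h3, add_comm]

theorem range_pow_succ_le (N : Module.End F V) (l : ℕ) :
    LinearMap.range (N ^ (l + 1)) ≤ LinearMap.range (N ^ l) := by
  rintro _ ⟨x, rfl⟩
  exact ⟨N x, by rw [pow_succ, Module.End.mul_apply]⟩

/-- concavity of `l ↦ dim ker N^l`. -/
theorem kdim_concave (N : Module.End F V) (l : ℕ) :
    kdim N (l + 2) + kdim N l ≤ 2 * kdim N (l + 1) := by
  have h1 := kdim_succ_eq N l
  have h2 := kdim_succ_eq N (l + 1)
  have h3 : finrank F ↥(LinearMap.range (N ^ (l + 1)) ⊓ LinearMap.ker N) ≤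
      finrank F ↥(LinearMap.range (N ^ l) ⊓ LinearMap.ker N) :=
    Submodule.finrank_mono (inf_le_inf_right _ (range_pow_succ_le N l))
  have h4 : l + 1 + 1 = l + 2 := rfl
  rw [h4] at h2
  omega

theorem kdim_zero (N : Module.End F V) : kdim N 0 = 0 := by
  unfold kdim
  rw [pow_zero]
  have : LinearMap.ker (1 : Module.End F V) = ⊥ := by
    ext x; simp
  rw [this, finrank_bot]

/-- additivity of `kdim` over a pair of invariant complements. -/
theorem kdim_of_isCompl (N : Module.End F V) (U W : Submodule F V) (hUW : IsCompl U W)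
    (hU : ∀ x ∈ U, N x ∈ U) (hW : ∀ x ∈ W, N x ∈ W) (l : ℕ) :
    kdim N l = kdim (N.restrict hU) l + kdim (N.restrict hW) l := by
  rw [← kdim_prodMap]
  symm
  apply kdim_conj (Submodule.prodEquivOfIsCompl U W hUW)
  rintro ⟨u, w⟩
  simp only [LinearMap.prodMap_apply, Submodule.coe_prodEquivOfIsCompl', map_add]
  rfl


/-- the `min`-sum function of a multiset (kernel dimensions of the nilpotent Jordan matrix of that type) -/
def minSum (μ : Multiset ℕ) (l : ℕ) : ℕ := (μ.map (fun b => min l b)).sum

theorem minSum_cons (c : ℕ) (μ : Multiset ℕ) (l : ℕ) : minSum (c ::ₘ μ) l = min l c + minSum μ l := by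
  simp [minSum]

theorem minSum_second_diff (μ : Multiset ℕ) (j : ℕ) :
    2 * minSum μ (j + 1) = minSum μ j + minSum μ (j + 2) + μ.count (j + 1) := by
  induction μ using Multiset.induction_on with
  | empty => simp [minSum]
  | cons c μ ih =>
    rw [minSum_cons, minSum_cons, minSum_cons, Multiset.count_cons]
    have h : 2 * min (j + 1) c = min j c + min (j + 2) c + (if j + 1 = c then 1 else 0) := by
      split_ifs with hc <;> omega
    omega

theorem minSum_of_le (μ : Multiset ℕ) (l : ℕ) (h : ∀ b ∈ μ, b ≤ l) : minSum μ l = μ.sum := by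
  unfold minSum
  congr 1
  conv_rhs => rw [← Multiset.map_id μ]
  apply Multiset.map_congr rfl
  intro b hb
  simp [h b hb]

/-- the combinatorial core. -/
theorem exists_sub_multiset (μ : Multiset ℕ) (kU kW : ℕ → ℕ) (a : ℕ)
    (hadd : ∀ l, minSum μ l = kU l + kW l)
    (hU0 : kU 0 = 0)
    (hUc : ∀ l, kU (l + 2) + kU l ≤ 2 * kU (l + 1))
    (hWc : ∀ l, kW (l + 2) + kW l ≤ 2 * kW (l + 1))
    (L : ℕ) (hL : kU L = a) (hL1 : kU (L + 1) = a) :
    ∃ ν : Multiset ℕ, ν ≤ μ ∧ ν.sum = a := by
  classical
  set c : ℕ → ℕ := fun j => 2 * kU (j + 1) - kU j - kU (j + 2) with hc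
  have hceq : ∀ j, c j + kU j + kU (j + 2) = 2 * kU (j + 1) := by
    intro j
    have := hUc j
    simp only [hc]
    omega
  have hcle : ∀ j, c j ≤ μ.count (j + 1) := by
    intro j
    have h1 := minSum_second_diff μ j
    rw [hadd, hadd, hadd] at h1
    have h2 := hWc j
    have h3 := hceq j
    omega
  refine ⟨∑ j ∈ Finset.range L, Multiset.replicate (c j) (j + 1), ?_, ?_⟩
  · rw [Multiset.le_iff_count]
    intro b
    rw [Multiset.count_sum']
    simp only [Multiset.count_replicate]
    rcases Nat.eq_zero_or_pos b with hb | hb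
    · subst hb
      rw [Finset.sum_eq_zero]
      · exact Nat.zero_le _
      · intro j _
        rw [if_neg (by omega)]
    · obtain ⟨j0, rfl⟩ : ∃ j0, b = j0 + 1 := ⟨b - 1, by omega⟩
      calc ∑ j ∈ Finset.range L, (if j + 1 = j0 + 1 then c j else 0)
          = ∑ j ∈ Finset.range L, (if j0 = j then c j else 0) := by
            apply Finset.sum_congr rfl
            intro j _
            by_cases h : j = j0
            · subst h; simp
            · rw [if_neg (by omega), if_neg (by omega)]
        _ = if j0 ∈ Finset.range L then c j0 else 0 := Finset.sum_ite_eq _ _ _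
        _ ≤ c j0 := by split_ifs <;> omega
        _ ≤ μ.count (j0 + 1) := hcle j0
  · have hsum : (∑ j ∈ Finset.range L, Multiset.replicate (c j) (j + 1)).sum =
        ∑ j ∈ Finset.range L, c j * (j + 1) := by
      rw [Multiset.sum_sum]
      apply Finset.sum_congr rfl
      intro j _
      rw [Multiset.sum_replicate, smul_eq_mul]
    rw [hsum]
    have htel : ∀ M, ∑ j ∈ Finset.range M, c j * (j + 1) + M * kU (M + 1) = (M + 1) * kU M := by
      intro M
      induction M with
      | zero => simp [hU0]
      | succ M ih =>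
        rw [Finset.sum_range_succ]
        have h3 := hceq M
        have h4 : M + 1 + 1 = M + 2 := rfl
        rw [h4]
        have h5 : c M * (M + 1) + kU M * (M + 1) + kU (M + 2) * (M + 1) =
            2 * kU (M + 1) * (M + 1) := by
          rw [← h3]; ring
        nlinarith [ih, h5]
    have := htel L
    rw [hL, hL1] at this
    nlinarith [this]


/-- **Main lemma.** If `kdim N = minSum μ` (i.e. `N` is nilpotent of Jordan type `μ`) and `V = U ⊕ W`
with both summands `N`-invariant, then some sub-multiset of `μ` sums to `dim U`. -/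
theorem exists_sub_multiset_of_isCompl (N : Module.End F V) (μ : Multiset ℕ)
    (hμ : ∀ l, kdim N l = minSum μ l) (hsum : μ.sum = finrank F V)
    (U W : Submodule F V) (hUW : IsCompl U W)
    (hU : ∀ x ∈ U, N x ∈ U) (hW : ∀ x ∈ W, N x ∈ W) :
    ∃ ν : Multiset ℕ, ν ≤ μ ∧ ν.sum = finrank F ↥U := by
  have hadd := kdim_of_isCompl N U W hUW hU hW
  have hfin := Submodule.finrank_add_eq_of_isCompl hUW
  have hbig : ∀ l, μ.sum ≤ l → kdim (N.restrict hU) l = finrank F ↥U := by
    intro l hl
    have h1 : minSum μ l = μ.sum :=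
      minSum_of_le μ l (fun b hb => (Multiset.le_sum_of_mem hb).trans hl)
    have h2 := hadd l
    rw [hμ, h1, hsum] at h2
    have h3 := kdim_le_finrank (N.restrict hU) l
    have h4 := kdim_le_finrank (N.restrict hW) l
    omega
  exact exists_sub_multiset μ (kdim (N.restrict hU)) (kdim (N.restrict hW)) _
    (fun l => by rw [← hμ, hadd]) (kdim_zero _) (kdim_concave _) (kdim_concave _) μ.sum
    (hbig _ le_rfl) (hbig _ (Nat.le_succ _))

end Cfsg.Agent.Helper99.KdimSplit
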