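import Mathlib
import Cfsg.Agent.Helper43.JTOrthB

/-!
# Unipotent isometries with a prescribed Jordan type on hyperbolic quadratic spaces (abstract data)

`HGood F κ`: there is a space with a symmetric form carrying a hyperbolic basis and a nilpotent `N`
with `1 + N` an isometry and kernel dimensions `κ`.  `OddGood F κ α`: the same with a hyperbolic family
plus one extra vector `w` orthogonal to it with `B w w = α`.
-/

set_option autoImplicit false

namespace Cfsg.Agent.Helper99.OrthJT

open Module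
open Cfsg.Agent.Helper43 Cfsg.Agent.Helper43.JT

universe u v w

variable {F : Type u} [Field F]

section defs

variable {V : Type v} [AddCommGroup V] [Module F V] {V' : Type w} [AddCommGroup V'] [Module F V']

/-- A hyperbolic family for the bilinear form `B`. -/
structure HFam (B : LinearMap.BilinForm F V) {ι : Type} (a b : ι → V) : Prop where
  aa : ∀ i j, B (a i) (a j) = 0
  bb : ∀ i j, B (b i) (b j) = 0
  ab_same : ∀ i, B (a i) (b i) = 1
  ab_ne : ∀ i j, i ≠ j → B (a i) (b j) = 0

/-- The orthogonal sum of two bilinear forms. -/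
def prodForm (B : LinearMap.BilinForm F V) (B' : LinearMap.BilinForm F V') :
    LinearMap.BilinForm F (V × V') :=
  LinearMap.BilinForm.comp B (LinearMap.fst F V V') (LinearMap.fst F V V')
    + LinearMap.BilinForm.comp B' (LinearMap.snd F V V') (LinearMap.snd F V V')

theorem prodForm_apply (B : LinearMap.BilinForm F V) (B' : LinearMap.BilinForm F V')
    (x y : V × V') : prodForm B B' x y = B x.1 y.1 + B' x.2 y.2 := rfl

theorem isNilpotent_prodMap {N : Module.End F V} {N' : Module.End F V'} (hN : IsNilpotent N)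
    (hN' : IsNilpotent N') : IsNilpotent (N.prodMap N') := by
  obtain ⟨a, ha⟩ := hN
  obtain ⟨b, hb⟩ := hN'
  refine ⟨a + b, ?_⟩
  rw [prodMap_pow, pow_add, ha, zero_mul, pow_add, hb, mul_zero]
  apply LinearMap.ext
  rintro ⟨x, y⟩
  rfl

end defs

/-- Kernel dimensions `κ` are realised by a nilpotent `N` with `1 + N` an isometry of a symmetric form
having a hyperbolic basis. -/
def HGood (F : Type u) [Field F] (κ : ℕ → ℕ) : Prop :=
  ∃ (V : Type u) (_ : AddCommGroup V) (_ : Module F V) (_ : FiniteDimensional F V)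
    (N : Module.End F V) (B : LinearMap.BilinForm F V),
    IsNilpotent N ∧ (∀ l, kdim N l = κ l) ∧ (∀ x y, B x y = B y x) ∧
    (∀ x y, B (x + N x) (y + N y) = B x y) ∧
    ∃ (ι : Type) (_ : Fintype ι) (a b : ι → V), HFam B a b ∧ 2 * Fintype.card ι = finrank F V

/-- The same with a hyperbolic family and one more vector `w`, orthogonal to the family, with
`B w w = α`. -/
def OddGood (F : Type u) [Field F] (κ : ℕ → ℕ) (α : F) : Prop :=
  ∃ (V : Type u) (_ : AddCommGroup V) (_ : Module F V) (_ : FiniteDimensional F V)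
    (N : Module.End F V) (B : LinearMap.BilinForm F V),
    IsNilpotent N ∧ (∀ l, kdim N l = κ l) ∧ (∀ x y, B x y = B y x) ∧
    (∀ x y, B (x + N x) (y + N y) = B x y) ∧
    ∃ (ι : Type) (_ : Fintype ι) (a b : ι → V) (w : V), HFam B a b ∧ (∀ i, B (a i) w = 0) ∧
      (∀ i, B (b i) w = 0) ∧ B w w = α ∧ 2 * Fintype.card ι + 1 = finrank F V

theorem hgood_congr {κ κ' : ℕ → ℕ} (h : ∀ l, κ l = κ' l) (hg : HGood F κ) : HGood F κ' := by
  have : κ = κ' := funext h
  rwa [← this]

theorem oddGood_congr {κ κ' : ℕ → ℕ} {α : F} (h : ∀ l, κ l = κ' l) (hg : OddGood F κ α) :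
    OddGood F κ' α := by
  have : κ = κ' := funext h
  rwa [← this]

theorem hgood_zero : HGood F (fun _ => 0) := by
  refine ⟨PUnit, inferInstance, inferInstance, inferInstance, 0, 0, IsNilpotent.zero, ?_,
    fun _ _ => rfl, fun _ _ => rfl, Empty, inferInstance, Empty.elim, Empty.elim,
    ⟨fun i => i.elim, fun i => i.elim, fun i => i.elim, fun i => i.elim⟩, ?_⟩
  · intro l
    have h1 := kdim_le_finrank (0 : Module.End F PUnit.{u + 1}) l
    have h2 : finrank F PUnit.{u + 1} = 0 := Module.finrank_zero_of_subsingleton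
    show kdim (0 : Module.End F PUnit.{u + 1}) l = 0
    omega
  · rw [Fintype.card_empty, Module.finrank_zero_of_subsingleton]

theorem hgood_add {κ κ' : ℕ → ℕ} (h : HGood F κ) (h' : HGood F κ') :
    HGood F (fun l => κ l + κ' l) := by
  obtain ⟨V, _, _, _, N, B, hN, hk, hs, hi, ι, _, a, b, hf, hc⟩ := h
  obtain ⟨V', _, _, _, N', B', hN', hk', hs', hi', ι', _, a', b', hf', hc'⟩ := h'
  refine ⟨V × V', inferInstance, inferInstance, inferInstance, N.prodMap N', prodForm B B',
    isNilpotent_prodMap hN hN', ?_, ?_, ?_, ι ⊕ ι', inferInstance,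
    Sum.elim (fun i => (a i, 0)) (fun i => (0, a' i)),
    Sum.elim (fun i => (b i, 0)) (fun i => (0, b' i)), ⟨?_, ?_, ?_, ?_⟩, ?_⟩
  · intro l
    rw [kdim_prodMap, hk, hk']
  · intro x y
    rw [prodForm_apply, prodForm_apply, hs, hs']
  · rintro ⟨x1, x2⟩ ⟨y1, y2⟩
    rw [prodForm_apply, prodForm_apply]
    show B (x1 + N x1) (y1 + N y1) + B' (x2 + N' x2) (y2 + N' y2) = _
    rw [hi, hi']
  · rintro (i | i) (j | j) <;> simp [prodForm_apply, hf.aa, hf'.aa]
  · rintro (i | i) (j | j) <;> simp [prodForm_apply, hf.bb, hf'.bb]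
  · rintro (i | i) <;> simp [prodForm_apply, hf.ab_same, hf'.ab_same]
  · rintro (i | i) (j | j) hij
    · simpa [prodForm_apply] using hf.ab_ne i j (fun h => hij (by rw [h]))
    · simp [prodForm_apply]
    · simp [prodForm_apply]
    · simpa [prodForm_apply] using hf'.ab_ne i j (fun h => hij (by rw [h]))
  · rw [Fintype.card_sum, Module.finrank_prod, ← hc, ← hc']
    ring

theorem oddGood_add_hgood {κ κ' : ℕ → ℕ} {α : F} (h : OddGood F κ α) (h' : HGood F κ') :
    OddGood F (fun l => κ l + κ' l) α := by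
  obtain ⟨V, _, _, _, N, B, hN, hk, hs, hi, ι, _, a, b, w, hf, haw, hbw, hww, hc⟩ := h
  obtain ⟨V', _, _, _, N', B', hN', hk', hs', hi', ι', _, a', b', hf', hc'⟩ := h'
  refine ⟨V × V', inferInstance, inferInstance, inferInstance, N.prodMap N', prodForm B B',
    isNilpotent_prodMap hN hN', ?_, ?_, ?_, ι ⊕ ι', inferInstance,
    Sum.elim (fun i => (a i, 0)) (fun i => (0, a' i)),
    Sum.elim (fun i => (b i, 0)) (fun i => (0, b' i)), (w, 0), ⟨?_, ?_, ?_, ?_⟩, ?_, ?_, ?_, ?_⟩
  · intro l
    rw [kdim_prodMap, hk, hk']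
  · intro x y
    rw [prodForm_apply, prodForm_apply, hs, hs']
  · rintro ⟨x1, x2⟩ ⟨y1, y2⟩
    rw [prodForm_apply, prodForm_apply]
    show B (x1 + N x1) (y1 + N y1) + B' (x2 + N' x2) (y2 + N' y2) = _
    rw [hi, hi']
  · rintro (i | i) (j | j) <;> simp [prodForm_apply, hf.aa, hf'.aa]
  · rintro (i | i) (j | j) <;> simp [prodForm_apply, hf.bb, hf'.bb]
  · rintro (i | i) <;> simp [prodForm_apply, hf.ab_same, hf'.ab_same]
  · rintro (i | i) (j | j) hij
    · simpa [prodForm_apply] using hf.ab_ne i j (fun h => hij (by rw [h]))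
    · simp [prodForm_apply]
    · simp [prodForm_apply]
    · simpa [prodForm_apply] using hf'.ab_ne i j (fun h => hij (by rw [h]))
  · rintro (i | i) <;> simp [prodForm_apply, haw]
  · rintro (i | i) <;> simp [prodForm_apply, hbw]
  · simp [prodForm_apply, hww]
  · rw [Fintype.card_sum, Module.finrank_prod, ← hc, ← hc']
    ring

/-- Scaling the form. -/
theorem oddGood_scale {κ : ℕ → ℕ} {α : F} (h : OddGood F κ α) (c : F) (hc0 : c ≠ 0) :
    OddGood F κ (c * α) := by
  obtain ⟨V, _, _, _, N, B, hN, hk, hs, hi, ι, _, a, b, w, hf, haw, hbw, hww, hc⟩ := h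
  have hcB : ∀ x y, (c • B) x y = c * B x y := fun x y => by
    rw [LinearMap.smul_apply, LinearMap.smul_apply, smul_eq_mul]
  refine ⟨V, inferInstance, inferInstance, inferInstance, N, c • B, hN, hk, ?_, ?_, ι,
    inferInstance, a, fun i => c⁻¹ • b i, w, ⟨?_, ?_, ?_, ?_⟩, ?_, ?_, ?_, hc⟩
  · intro x y
    rw [hcB, hcB, hs]
  · intro x y
    rw [hcB, hcB, hi]
  · intro i j
    rw [hcB, hf.aa, mul_zero]
  · intro i j
    show (c • B) (c⁻¹ • b i) (c⁻¹ • b j) = 0
    rw [hcB]
    simp [hf.bb]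
  · intro i
    show (c • B) (a i) (c⁻¹ • b i) = 1
    rw [hcB, map_smul, hf.ab_same, smul_eq_mul, mul_one, mul_inv_cancel₀ hc0]
  · intro i j hij
    show (c • B) (a i) (c⁻¹ • b j) = 0
    rw [hcB, map_smul, hf.ab_ne i j hij]
    simp
  · intro i
    rw [hcB, haw, mul_zero]
  · intro i
    show (c • B) (c⁻¹ • b i) w = 0
    rw [hcB]
    simp [hbw]
  · rw [hcB, hww]

/-- Two odd pieces with opposite values of `B w w` give a hyperbolic space. -/
theorem hgood_of_oddGood_oddGood (h2 : (2 : F) ≠ 0) {κ κ' : ℕ → ℕ} {α : F} (hα : α ≠ 0)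
    (h : OddGood F κ α) (h' : OddGood F κ' (-α)) : HGood F (fun l => κ l + κ' l) := by
  obtain ⟨V, _, _, _, N, B, hN, hk, hs, hi, ι, _, a, b, w, hf, haw, hbw, hww, hc⟩ := h
  obtain ⟨V', _, _, _, N', B', hN', hk', hs', hi', ι', _, a', b', w', hf', haw', hbw', hww', hc'⟩ := h'
  have h2α : (2 : F) * α ≠ 0 := mul_ne_zero h2 hα
  refine ⟨V × V', inferInstance, inferInstance, inferInstance, N.prodMap N', prodForm B B',
    isNilpotent_prodMap hN hN', ?_, ?_, ?_, (ι ⊕ ι') ⊕ Unit, inferInstance,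
    Sum.elim (Sum.elim (fun i => (a i, 0)) (fun i => (0, a' i))) (fun _ => (w, w')),
    Sum.elim (Sum.elim (fun i => (b i, 0)) (fun i => (0, b' i)))
      (fun _ => ((2 * α)⁻¹ • w, -((2 * α)⁻¹ • w'))), ⟨?_, ?_, ?_, ?_⟩, ?_⟩
  · intro l
    rw [kdim_prodMap, hk, hk']
  · intro x y
    rw [prodForm_apply, prodForm_apply, hs, hs']
  · rintro ⟨x1, x2⟩ ⟨y1, y2⟩
    rw [prodForm_apply, prodForm_apply]
    show B (x1 + N x1) (y1 + N y1) + B' (x2 + N' x2) (y2 + N' y2) = _
    rw [hi, hi']
  · rintro ((i | i) | i) ((j | j) | j) <;>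
      simp [prodForm_apply, hf.aa, hf'.aa, haw, haw', hww, hww', hs w, hs' w']
  · rintro ((i | i) | i) ((j | j) | j) <;>
      simp [prodForm_apply, hf.bb, hf'.bb, hbw, hbw', hww, hww', hs w, hs' w']
  · rintro ((i | i) | i)
    · simp [prodForm_apply, hf.ab_same]
    · simp [prodForm_apply, hf'.ab_same]
    · simp [prodForm_apply, hww, hww']
      field_simp
      ring
  · rintro ((i | i) | i) ((j | j) | j) hij
    · simpa [prodForm_apply] using hf.ab_ne i j (fun h => hij (by rw [h]))
    · simp [prodForm_apply]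
    · simp [prodForm_apply, haw]
    · simp [prodForm_apply]
    · simpa [prodForm_apply] using hf'.ab_ne i j (fun h => hij (by rw [h]))
    · simp [prodForm_apply, haw']
    · simp [prodForm_apply, hs w, hbw]
    · simp [prodForm_apply, hs' w', hbw']
    · exact absurd rfl hij
  · rw [Fintype.card_sum, Fintype.card_sum, Fintype.card_unit, Module.finrank_prod, ← hc, ← hc']
    ring

end Cfsg.Agent.Helper99.OrthJT
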