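import Mathlib
import Cfsg.Agent.Helper99.OrthJTA

/-!
# The basic blocks: a hyperbolic pair of Jordan blocks, and a single odd Jordan block

The constructions are those of helper43 (`ogood_pair`, `ogood_odd_block`); here we keep track of the
hyperbolic families.
-/

set_option autoImplicit false

namespace Cfsg.Agent.Helper99.OrthJT

open Module Matrix
open Cfsg.Agent.Helper43 Cfsg.Agent.Helper43.JT

universe u

variable {F : Type u} [Field F]

/-- The hyperbolic pair of Jordan blocks. -/
theorem hgood_pair (j : ℕ) : HGood F (fun l => 2 * min l j) := by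
  set P : Matrix (Fin j) (Fin j) F := Cfsg.jordanBlock j F with hP
  have hreg := isRegNilp_jordanBlock (F := F) j
  have hnil : (P - 1) ^ j = 0 := by
    have := hreg.pow_eq_zero
    rw [Module.finrank_fin_fun, ← Matrix.toLin'_pow] at this
    exact (Matrix.toLin' (R := F)).injective (this.trans (map_zero _).symm)
  have hPu : IsUnit P := by
    have h1 : IsUnit (1 + (P - 1)) := IsNilpotent.isUnit_one_add ⟨j, hnil⟩
    rwa [add_sub_cancel] at h1
  have hdet : IsUnit P.det := (Matrix.isUnit_iff_isUnit_det P).mp hPu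
  set D : Matrix (Fin j) (Fin j) F := P⁻¹ᵀ with hD
  set M : Matrix (Fin j ⊕ Fin j) (Fin j ⊕ Fin j) F := fromBlocks P 0 0 D with hM
  set H : Matrix (Fin j ⊕ Fin j) (Fin j ⊕ Fin j) F := fromBlocks 0 1 1 0 with hH
  have hPD : Pᵀ * D = 1 := by
    rw [hD, ← transpose_mul, Matrix.nonsing_inv_mul P hdet, transpose_one]
  have hDP : Dᵀ * P = 1 := by
    rw [hD, transpose_transpose, Matrix.nonsing_inv_mul P hdet]
  have hMHM : Mᵀ * H * M = H := by
    rw [hM, hH, fromBlocks_transpose, fromBlocks_multiply, fromBlocks_multiply]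
    simp only [transpose_zero, mul_zero, zero_mul, add_zero, zero_add, mul_one]
    rw [hPD, hDP]
  have hHt : Hᵀ = H := by
    rw [hH, fromBlocks_transpose]
    simp
  have hsub : M - 1 = fromBlocks (P - 1) 0 0 (D - 1) := by
    rw [hM, ← fromBlocks_one, sub_eq_add_neg, fromBlocks_neg, fromBlocks_add]
    congr 1
    · exact (sub_eq_add_neg _ _).symm
    · simp
    · simp
    · exact (sub_eq_add_neg _ _).symm
  set N' : Module.End F (Fin j ⊕ Fin j → F) := Matrix.toLin' (M - 1) with hN'
  have hconj : ∀ l, kdim N' l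
      = kdim ((Matrix.toLin' (P - 1)).prodMap (Matrix.toLin' (D - 1))) l := by
    intro l
    apply kdim_conj (LinearEquiv.sumArrowLequivProdArrow (Fin j) (Fin j) F F)
    intro x
    rw [hN', hsub, Matrix.toLin'_apply, fromBlocks_mulVec, LinearMap.prodMap_apply]
    have hx1 : (LinearEquiv.sumArrowLequivProdArrow (Fin j) (Fin j) F F x).1 = x ∘ Sum.inl := rfl
    have hx2 : (LinearEquiv.sumArrowLequivProdArrow (Fin j) (Fin j) F F x).2 = x ∘ Sum.inr := rfl
    apply Prod.ext
    · funext i
      rw [LinearEquiv.sumArrowLequivProdArrow_apply_fst, Sum.elim_inl, hx1,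
        Matrix.zero_mulVec, add_zero]
      show _ = (Matrix.toLin' (P - 1)) (x ∘ Sum.inl) i
      rw [Matrix.toLin'_apply]
    · funext i
      rw [LinearEquiv.sumArrowLequivProdArrow_apply_snd, Sum.elim_inr, hx2,
        Matrix.zero_mulVec, zero_add]
      show _ = (Matrix.toLin' (D - 1)) (x ∘ Sum.inr) i
      rw [Matrix.toLin'_apply]
  have hkD : ∀ l, kdim (Matrix.toLin' (D - 1)) l = kdim (Matrix.toLin' (P - 1)) l := by
    intro l
    have h1 := kdim_toLin'_add_rank (D - 1) l
    have h2 := kdim_toLin'_add_rank (P - 1) l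
    have h3 := rank_inv_transpose_sub_one_pow P hdet l
    rw [← hD] at h3
    rw [h3] at h1
    omega
  have hk : ∀ l, kdim N' l = 2 * min l j := by
    intro l
    rw [hconj, kdim_prodMap, hkD, kdim_of_isRegNilp hreg, Module.finrank_fin_fun]
    ring
  have hnilN : IsNilpotent N' := by
    refine ⟨j, ?_⟩
    have h1 : kdim N' j = finrank F (Fin j ⊕ Fin j → F) := by
      rw [hk, Module.finrank_fintype_fun_eq_card, Fintype.card_sum, Fintype.card_fin, min_self,
        two_mul]
    unfold kdim at h1
    exact LinearMap.ker_eq_top.mp (Submodule.eq_top_of_finrank_eq h1)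
  refine ⟨(Fin j ⊕ Fin j → F), inferInstance, inferInstance, inferInstance, N', Matrix.toBilin' H,
    hnilN, hk, ?_, ?_, Fin j, inferInstance, fun i => Pi.single (Sum.inl i) 1,
    fun i => Pi.single (Sum.inr i) 1, ⟨?_, ?_, ?_, ?_⟩, ?_⟩
  · intro x y
    rw [Matrix.toBilin'_apply', Matrix.toBilin'_apply', Matrix.dotProduct_mulVec,
      ← Matrix.mulVec_transpose, hHt, dotProduct_comm]
  · intro x y
    have h1 : ∀ z : Fin j ⊕ Fin j → F, z + N' z = M *ᵥ z := by
      intro z
      rw [hN', Matrix.toLin'_apply, Matrix.sub_mulVec, Matrix.one_mulVec]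
      abel
    rw [h1, h1, Matrix.toBilin'_apply', Matrix.toBilin'_apply', Matrix.mulVec_mulVec,
      Matrix.dotProduct_mulVec, Matrix.vecMul_mulVec, ← Matrix.dotProduct_mulVec,
      ← Matrix.mul_assoc, hMHM]
  · intro i i'
    rw [Matrix.toBilin'_single, hH, fromBlocks_apply₁₁, Matrix.zero_apply]
  · intro i i'
    rw [Matrix.toBilin'_single, hH, fromBlocks_apply₂₂, Matrix.zero_apply]
  · intro i
    rw [Matrix.toBilin'_single, hH, fromBlocks_apply₁₂, Matrix.one_apply_eq]
  · intro i i' hii
    rw [Matrix.toBilin'_single, hH, fromBlocks_apply₁₂, Matrix.one_apply_ne hii]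
  · rw [Module.finrank_fintype_fun_eq_card, Fintype.card_sum, Fintype.card_fin, two_mul]

/-- A single odd Jordan block (Cayley transform of the shift, form `revForm`). -/
theorem oddGood_block (h2 : (2 : F) ≠ 0) (k : ℕ) :
    OddGood F (fun l => min l (2 * k + 1)) ((-1) ^ k) := by
  set m := 2 * k with hm
  have hmeven : Even m := even_two_mul k
  set S : Module.End F (Fin (m + 1) → F) := shiftEnd F m with hS
  have hreg : IsRegNilp S := isRegNilp_shiftEnd F m
  have hSnil : IsNilpotent S := hreg.isNilpotent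
  have hbu : IsUnit (1 - S) := hSnil.isUnit_one_sub
  obtain ⟨bu, hbu'⟩ := hbu
  set binv : Module.End F (Fin (m + 1) → F) := ((bu⁻¹ : (Module.End F (Fin (m + 1) → F))ˣ) :
    Module.End F (Fin (m + 1) → F)) with hbinv
  have hb1 : binv * (1 - S) = 1 := by rw [← hbu', hbinv, Units.inv_mul]
  have hb2 : (1 - S) * binv = 1 := by rw [← hbu', hbinv, Units.mul_inv]
  have hSb : Commute S (1 - S) := (Commute.one_right S).sub_right (Commute.refl S)
  have hSbinv : Commute S binv := by
    have h1 : Commute S (bu : Module.End F (Fin (m + 1) → F)) := by rw [hbu']; exact hSb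
    exact h1.units_inv_right
  set W : Module.End F (Fin (m + 1) → F) := (2 : F) • binv with hW
  have hWu : IsUnit W := by
    refine ⟨⟨W, (2 : F)⁻¹ • (1 - S), ?_, ?_⟩, rfl⟩
    · rw [hW, smul_mul_smul_comm, mul_inv_cancel₀ h2, one_smul, hb1]
    · rw [hW, smul_mul_smul_comm, inv_mul_cancel₀ h2, one_smul, hb2]
  have hSW : Commute S W := hSbinv.smul_right 2
  set N' : Module.End F (Fin (m + 1) → F) := S * W with hN'
  have hk : ∀ l, kdim N' l = min l (m + 1) := by
    intro l
    rw [hN', kdim_mul_unit S W hSW hWu, kdim_of_isRegNilp hreg, Module.finrank_fin_fun]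
  have hcay : (1 + N') * (1 - S) = 1 + S := by
    have h1 : W * (1 - S) = (2 : F) • 1 := by rw [hW, smul_mul_assoc, hb1]
    rw [add_mul, one_mul, hN', mul_assoc, h1, mul_smul_comm, mul_one, two_smul]
    abel
  have hkey : ∀ x y : Fin (m + 1) → F,
      revForm F m (x + S x) (y + S y) = revForm F m (x - S x) (y - S y) := by
    intro x y
    simp only [map_add, map_sub, LinearMap.add_apply, LinearMap.sub_apply]
    rw [hS, revForm_skew x y]
    ring
  have hiso : ∀ x y, revForm F m (x + N' x) (y + N' y) = revForm F m x y := by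
    intro x y
    have hx : ∀ z : Fin (m + 1) → F, z + N' z = (binv z) + S (binv z) := by
      intro z
      have h0 : (1 - S) (binv z) = z := by
        rw [← Module.End.mul_apply, hb2, Module.End.one_apply]
      have h1 : (1 + N') ((1 - S) (binv z)) = (1 + S) (binv z) := by
        rw [← Module.End.mul_apply, hcay]
      rw [h0] at h1
      exact h1
    have hz : ∀ z : Fin (m + 1) → F, binv z - S (binv z) = z := by
      intro z
      have h1 : (1 - S) (binv z) = z := by
        rw [← Module.End.mul_apply, hb2, Module.End.one_apply]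
      exact h1
    rw [hx, hx, hkey, hz, hz]
  have hnilN : IsNilpotent N' := by
    refine ⟨m + 1, ?_⟩
    have h1 : kdim N' (m + 1) = finrank F (Fin (m + 1) → F) := by
      rw [hk, Module.finrank_fin_fun, min_self]
    unfold kdim at h1
    exact LinearMap.ker_eq_top.mp (Submodule.eq_top_of_finrank_eq h1)
  -- the value of `revForm` on basis vectors
  have hsingle : ∀ i j : Fin (m + 1), revForm F m (Pi.single i 1) (Pi.single j 1)
      = if j = Fin.rev i then (-1 : F) ^ (i : ℕ) else 0 := by
    intro i j
    unfold revForm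
    rw [Matrix.toBilin'_single, Matrix.of_apply]
  -- indices
  have hlt : ∀ i : Fin k, (i : ℕ) < m + 1 := fun i => by have := i.2; omega
  set ia : Fin k → Fin (m + 1) := fun i => ⟨(i : ℕ), hlt i⟩ with hia
  set mid : Fin (m + 1) := ⟨k, by omega⟩ with hmid
  have hrev_val : ∀ i : Fin (m + 1), ((Fin.rev i : Fin (m + 1)) : ℕ) = m - i := by
    intro i
    rw [Fin.val_rev]
    omega
  have hne1 : ∀ i i' : Fin k, ia i' ≠ Fin.rev (ia i) := by
    intro i i' h
    have := congrArg Fin.val h
    rw [hrev_val] at this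
    simp only [hia] at this
    have h1 := i.2
    have h3 := i'.2
    omega
  have hne2 : ∀ i : Fin k, mid ≠ Fin.rev (ia i) := by
    intro i h
    have := congrArg Fin.val h
    rw [hrev_val] at this
    simp only [hia, hmid] at this
    have h1 := i.2
    omega
  have hne3 : ∀ i : Fin k, ia i ≠ Fin.rev mid := by
    intro i h
    have := congrArg Fin.val h
    rw [hrev_val] at this
    simp only [hia, hmid] at this
    have h1 := i.2
    omega
  have hrevmid : Fin.rev mid = mid := by
    apply Fin.ext
    rw [hrev_val]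
    simp only [hmid]
    omega
  have hinj : ∀ i i' : Fin k, Fin.rev (ia i') = Fin.rev (ia i) → i' = i := by
    intro i i' h
    have h1 := Fin.rev_injective h
    apply Fin.ext
    have := congrArg Fin.val h1
    simpa [hia] using this
  have hpm : ∀ n : ℕ, ((-1 : F) ^ n) * ((-1 : F) ^ n) = 1 := by
    intro n
    rw [← pow_add, ← two_mul]
    exact (even_two_mul n).neg_one_pow
  have hsl : ∀ (c : F) (x y : Fin (m + 1) → F), revForm F m (c • x) y = c * revForm F m x y := by
    intro c x y
    rw [map_smul, LinearMap.smul_apply, smul_eq_mul]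
  have hsr : ∀ (c : F) (x y : Fin (m + 1) → F), revForm F m x (c • y) = c * revForm F m x y := by
    intro c x y
    rw [map_smul, smul_eq_mul]
  refine ⟨(Fin (m + 1) → F), inferInstance, inferInstance, inferInstance, N', revForm F m,
    hnilN, hk, revForm_symm hmeven, hiso, Fin k, inferInstance,
    fun i => Pi.single (ia i) 1, fun i => ((-1 : F) ^ (i : ℕ)) • Pi.single (Fin.rev (ia i)) 1,
    Pi.single mid 1, ⟨?_, ?_, ?_, ?_⟩, ?_, ?_, ?_, ?_⟩
  · intro i i'
    rw [hsingle, if_neg (hne1 i i')]
  · intro i i'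
    show revForm F m (((-1 : F) ^ (i : ℕ)) • Pi.single (Fin.rev (ia i)) 1)
      (((-1 : F) ^ (i' : ℕ)) • Pi.single (Fin.rev (ia i')) 1) = 0
    rw [hsl, hsr, hsingle, Fin.rev_rev, if_neg, mul_zero, mul_zero]
    intro h
    have := congrArg Fin.rev h
    rw [Fin.rev_rev] at this
    exact hne1 i i' this
  · intro i
    show revForm F m (Pi.single (ia i) 1)
      (((-1 : F) ^ (i : ℕ)) • Pi.single (Fin.rev (ia i)) 1) = 1
    rw [hsr, hsingle, if_pos rfl]
    exact hpm _
  · intro i i' hii
    show revForm F m (Pi.single (ia i) 1)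
      (((-1 : F) ^ (i' : ℕ)) • Pi.single (Fin.rev (ia i')) 1) = 0
    rw [hsr, hsingle, if_neg, mul_zero]
    intro h
    exact hii (hinj i i' h).symm
  · intro i
    rw [hsingle, if_neg (hne2 i)]
  · intro i
    show revForm F m (((-1 : F) ^ (i : ℕ)) • Pi.single (Fin.rev (ia i)) 1) (Pi.single mid 1) = 0
    rw [hsl, hsingle, Fin.rev_rev, if_neg, mul_zero]
    intro h
    have := congrArg Fin.val h
    simp only [hia, hmid] at this
    have h1 := i.2
    omega
  · rw [hsingle, hrevmid, if_pos rfl]
  · rw [Fintype.card_fin, Module.finrank_fin_fun]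

end Cfsg.Agent.Helper99.OrthJT
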