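import Mathlib
import Cfsg.Agent.Helper99.OrthJTB
import Cfsg.Agent.Helper99.KdimSplit

/-!
# Assembling the blocks along a partition
-/

set_option autoImplicit false

namespace Cfsg.Agent.Helper99.OrthJT

open Module
open Cfsg.Agent.Helper43 Cfsg.Agent.Helper43.JT
open Cfsg.Agent.Helper99.KdimSplit

universe u

variable {F : Type u} [Field F]

/-- Two odd blocks together form a hyperbolic space (after rescaling one of the two forms). -/
theorem hgood_odd_pair (h2 : (2 : F) ≠ 0) (k₁ k₂ : ℕ) :
    HGood F (fun l => min l (2 * k₁ + 1) + min l (2 * k₂ + 1)) := by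
  have hα : ((-1 : F) ^ k₁) ≠ 0 := pow_ne_zero _ (neg_ne_zero.mpr one_ne_zero)
  have hβ : ((-1 : F) ^ k₂) ≠ 0 := pow_ne_zero _ (neg_ne_zero.mpr one_ne_zero)
  have h1 := oddGood_block (F := F) h2 k₁
  have h3 := oddGood_scale (oddGood_block (F := F) h2 k₂) (-((-1 : F) ^ k₁) / ((-1 : F) ^ k₂))
    (div_ne_zero (neg_ne_zero.mpr hα) hβ)
  rw [div_mul_cancel₀ _ hβ] at h3
  exact hgood_of_oddGood_oddGood h2 hα h1 h3

theorem exists_cons_cons_of_two_le_count {μ : Multiset ℕ} {e : ℕ} (h : 2 ≤ μ.count e) :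
    ∃ μ' : Multiset ℕ, μ = e ::ₘ e ::ₘ μ' := by
  have h1 : e ∈ μ := Multiset.count_pos.mp (by omega)
  have h2 : e ∈ μ.erase e := by
    apply Multiset.count_pos.mp
    rw [Multiset.count_erase_self]
    omega
  refine ⟨(μ.erase e).erase e, ?_⟩
  rw [Multiset.cons_erase h2, Multiset.cons_erase h1]

/-- all parts odd and distinct, or a repeated part. -/
theorem cases_multiset (μ : Multiset ℕ) (heven : ∀ e : ℕ, Even e → Even (μ.count e)) :
    (∃ e μ', μ = e ::ₘ e ::ₘ μ') ∨ (∀ e ∈ μ, Odd e) := by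
  by_cases h : ∃ e, 2 ≤ μ.count e
  · obtain ⟨e, he⟩ := h
    obtain ⟨μ', hμ'⟩ := exists_cons_cons_of_two_le_count he
    exact Or.inl ⟨e, μ', hμ'⟩
  · push Not at h
    right
    intro e he
    by_contra hodd
    rw [Nat.not_odd_iff_even] at hodd
    have h1 := heven e hodd
    have h2 := h e
    have h3 : 0 < μ.count e := Multiset.count_pos.mpr he
    obtain ⟨c, hc⟩ := h1
    omega

theorem even_count_of_cons_cons {μ μ' : Multiset ℕ} {e : ℕ} (h : μ = e ::ₘ e ::ₘ μ')
    (heven : ∀ e : ℕ, Even e → Even (μ.count e)) : ∀ e' : ℕ, Even e' → Even (μ'.count e') := by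
  intro e' he'
  have h1 := heven e' he'
  rw [h, Multiset.count_cons, Multiset.count_cons] at h1
  by_cases hee : e' = e
  · rw [if_pos hee] at h1
    obtain ⟨c, hc⟩ := h1
    exact ⟨c - 1, by omega⟩
  · rw [if_neg hee] at h1
    simpa using h1

theorem even_count_of_le_of_all_odd {μ μ' : Multiset ℕ} (hle : μ' ≤ μ) (hodd : ∀ e ∈ μ, Odd e) :
    ∀ e' : ℕ, Even e' → Even (μ'.count e') := by
  intro e' he'
  have h1 : e' ∉ μ' := by
    intro hmem
    have := hodd e' (Multiset.mem_of_le hle hmem)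
    exact (Nat.not_even_iff_odd.mpr this) he'
  rw [Multiset.count_eq_zero_of_notMem h1]
  exact Even.zero

/-- Every partition whose even parts have even multiplicity and whose sum is even is the Jordan type
of a unipotent isometry of a hyperbolic space (characteristic not two). -/
theorem hgood_of_multiset (h2 : (2 : F) ≠ 0) : ∀ (n : ℕ) (μ : Multiset ℕ), Multiset.card μ = n →
    (∀ e : ℕ, Even e → Even (μ.count e)) → Even μ.sum → HGood F (minSum μ) := by
  intro n
  induction n using Nat.strong_induction_on with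
  | _ n ih =>
    intro μ hcard heven hsum
    rcases cases_multiset μ heven with ⟨e, μ', hμ'⟩ | hodd
    · have hc : Multiset.card μ' + 2 = n := by
        rw [← hcard, hμ', Multiset.card_cons, Multiset.card_cons]
      have hs : Even μ'.sum := by
        rw [hμ', Multiset.sum_cons, Multiset.sum_cons] at hsum
        obtain ⟨c, hc⟩ := hsum
        exact ⟨c - e, by omega⟩
      have h1 := ih (Multiset.card μ') (by omega) μ' rfl (even_count_of_cons_cons hμ' heven) hs
      refine hgood_congr ?_ (hgood_add (hgood_pair (F := F) e) h1)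
      intro l
      rw [hμ', minSum_cons, minSum_cons]
      ring
    · rcases Multiset.empty_or_exists_mem μ with h0 | ⟨e₁, he₁⟩
      · refine hgood_congr ?_ (hgood_zero (F := F))
        intro l
        rw [h0]
        rfl
      · obtain ⟨μ₁, hμ₁⟩ := Multiset.exists_cons_of_mem he₁
        have ho₁ := hodd e₁ he₁
        have hs₁ : Odd μ₁.sum := by
          rw [hμ₁, Multiset.sum_cons] at hsum
          obtain ⟨c, hc⟩ := hsum
          obtain ⟨k, hk⟩ := ho₁
          exact ⟨c - k - 1, by omega⟩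
        have hne : μ₁ ≠ 0 := by
          rintro rfl
          simp at hs₁
        obtain ⟨e₂, he₂⟩ := Multiset.exists_mem_of_ne_zero hne
        obtain ⟨μ₂, hμ₂⟩ := Multiset.exists_cons_of_mem he₂
        have ho₂ := hodd e₂ (by rw [hμ₁]; exact Multiset.mem_cons_of_mem he₂)
        have hμ : μ = e₁ ::ₘ e₂ ::ₘ μ₂ := by rw [hμ₁, hμ₂]
        have hc : Multiset.card μ₂ + 2 = n := by
          rw [← hcard, hμ, Multiset.card_cons, Multiset.card_cons]
        have hle : μ₂ ≤ μ := by
          rw [hμ]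
          exact (Multiset.le_cons_self _ _).trans (Multiset.le_cons_self _ _)
        have hs : Even μ₂.sum := by
          rw [hμ, Multiset.sum_cons, Multiset.sum_cons] at hsum
          obtain ⟨c, hc⟩ := hsum
          obtain ⟨k₁, hk₁⟩ := ho₁
          obtain ⟨k₂, hk₂⟩ := ho₂
          exact ⟨c - k₁ - k₂ - 1, by omega⟩
        have h1 := ih (Multiset.card μ₂) (by omega) μ₂ rfl
          (even_count_of_le_of_all_odd hle hodd) hs
        obtain ⟨k₁, hk₁⟩ := ho₁
        obtain ⟨k₂, hk₂⟩ := ho₂
        refine hgood_congr ?_ (hgood_add (hgood_odd_pair (F := F) h2 k₁ k₂) h1)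
        intro l
        rw [hμ, minSum_cons, minSum_cons, hk₁, hk₂]
        ring

/-- The odd-dimensional analogue. -/
theorem oddGood_of_multiset (h2 : (2 : F) ≠ 0) : ∀ (n : ℕ) (μ : Multiset ℕ), Multiset.card μ = n →
    (∀ e : ℕ, Even e → Even (μ.count e)) → Odd μ.sum →
    ∃ α : F, α ≠ 0 ∧ OddGood F (minSum μ) α := by
  intro n
  induction n using Nat.strong_induction_on with
  | _ n ih =>
    intro μ hcard heven hsum
    rcases cases_multiset μ heven with ⟨e, μ', hμ'⟩ | hodd
    · have hc : Multiset.card μ' + 2 = n := by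
        rw [← hcard, hμ', Multiset.card_cons, Multiset.card_cons]
      have hs : Odd μ'.sum := by
        rw [hμ', Multiset.sum_cons, Multiset.sum_cons] at hsum
        obtain ⟨c, hc⟩ := hsum
        exact ⟨c - e, by omega⟩
      obtain ⟨α, hα, h1⟩ :=
        ih (Multiset.card μ') (by omega) μ' rfl (even_count_of_cons_cons hμ' heven) hs
      refine ⟨α, hα, oddGood_congr ?_ (oddGood_add_hgood h1 (hgood_pair (F := F) e))⟩
      intro l
      rw [hμ', minSum_cons, minSum_cons]
      ring
    · have hne0 : μ ≠ 0 := by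
        rintro rfl
        simp at hsum
      obtain ⟨e₁, he₁⟩ := Multiset.exists_mem_of_ne_zero hne0
      obtain ⟨μ₁, hμ₁⟩ := Multiset.exists_cons_of_mem he₁
      have ho₁ := hodd e₁ he₁
      rcases Multiset.empty_or_exists_mem μ₁ with h0 | ⟨e₂, he₂⟩
      · obtain ⟨k₁, hk₁⟩ := ho₁
        refine ⟨(-1) ^ k₁, pow_ne_zero _ (neg_ne_zero.mpr one_ne_zero),
          oddGood_congr ?_ (oddGood_block (F := F) h2 k₁)⟩
        intro l
        rw [hμ₁, h0, minSum_cons, hk₁]
        show _ = _ + 0
        rw [add_zero]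
      · obtain ⟨μ₂, hμ₂⟩ := Multiset.exists_cons_of_mem he₂
        have ho₂ := hodd e₂ (by rw [hμ₁]; exact Multiset.mem_cons_of_mem he₂)
        have hμ : μ = e₁ ::ₘ e₂ ::ₘ μ₂ := by rw [hμ₁, hμ₂]
        have hc : Multiset.card μ₂ + 2 = n := by
          rw [← hcard, hμ, Multiset.card_cons, Multiset.card_cons]
        have hle : μ₂ ≤ μ := by
          rw [hμ]
          exact (Multiset.le_cons_self _ _).trans (Multiset.le_cons_self _ _)
        have hs : Odd μ₂.sum := by
          rw [hμ, Multiset.sum_cons, Multiset.sum_cons] at hsum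
          obtain ⟨c, hc⟩ := hsum
          obtain ⟨k₁, hk₁⟩ := ho₁
          obtain ⟨k₂, hk₂⟩ := ho₂
          exact ⟨c - k₁ - k₂ - 1, by omega⟩
        obtain ⟨α, hα, h1⟩ := ih (Multiset.card μ₂) (by omega) μ₂ rfl
          (even_count_of_le_of_all_odd hle hodd) hs
        obtain ⟨k₁, hk₁⟩ := ho₁
        obtain ⟨k₂, hk₂⟩ := ho₂
        refine ⟨α, hα, oddGood_congr ?_ (oddGood_add_hgood h1 (hgood_odd_pair (F := F) h2 k₁ k₂))⟩
        intro l
        rw [hμ, minSum_cons, minSum_cons, hk₁, hk₂]
        ring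

end Cfsg.Agent.Helper99.OrthJT
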