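import Mathlib
import Cfsg.Agent.Helper99.OrthInduction

set_option autoImplicit false

namespace Cfsg.Agent.Helper99

open Module LinearMap

section Lagr
variable {F V : Type*} [Field F] [AddCommGroup V] [Module F V]

/-- totally isotropic -/
def Iso (B : LinearMap.BilinForm F V) (U : Submodule F V) : Prop := ∀ u ∈ U, ∀ v ∈ U, B u v = 0

/-- pair condition: fixed (sw = false) or swapped (sw = true) -/
def PC (X : V →ₗ[F] V) (sw : Bool) (U W : Submodule F V) : Prop :=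
  if sw then (U.map X ≤ W ∧ W.map X ≤ U) else (U.map X ≤ U ∧ W.map X ≤ W)

theorem PC.sup {X : V →ₗ[F] V} {sw : Bool} {U₁ W₁ U₂ W₂ : Submodule F V}
    (h₁ : PC X sw U₁ W₁) (h₂ : PC X sw U₂ W₂) : PC X sw (U₁ ⊔ U₂) (W₁ ⊔ W₂) := by
  unfold PC at *
  cases sw
  · simp only [Bool.false_eq_true, if_false] at *
    rw [Submodule.map_sup, Submodule.map_sup]
    exact ⟨sup_le_sup h₁.1 h₂.1, sup_le_sup h₁.2 h₂.2⟩
  · simp only [if_true] at *
    rw [Submodule.map_sup, Submodule.map_sup]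
    exact ⟨sup_le_sup h₁.1 h₂.1, sup_le_sup h₁.2 h₂.2⟩

/-- a pair of complementary totally isotropic subspaces of `M`, fixed or swapped by `X` -/
def LagrPair (B : LinearMap.BilinForm F V) (X : V →ₗ[F] V) (sw : Bool) (M : Submodule F V) : Prop :=
  ∃ U W : Submodule F V, U ⊔ W = M ∧ Disjoint U W ∧ Iso B U ∧ Iso B W ∧ PC X sw U W

theorem lagrPair_bot (B : LinearMap.BilinForm F V) (X : V →ₗ[F] V) (sw : Bool) :
    LagrPair B X sw ⊥ := by
  refine ⟨⊥, ⊥, by simp, disjoint_bot_left, ?_, ?_, ?_⟩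
  · intro u hu v _
    rw [Submodule.mem_bot] at hu
    rw [hu, map_zero, LinearMap.zero_apply]
  · intro u hu v _
    rw [Submodule.mem_bot] at hu
    rw [hu, map_zero, LinearMap.zero_apply]
  · unfold PC
    cases sw <;> simp

theorem iso_sup (B : LinearMap.BilinForm F V) (hB : B.IsRefl) {U₁ U₂ M₁ M₂ : Submodule F V}
    (h₁ : Iso B U₁) (h₂ : Iso B U₂) (hU₁ : U₁ ≤ M₁) (hU₂ : U₂ ≤ M₂)
    (horth : ∀ u ∈ M₁, ∀ v ∈ M₂, B u v = 0) : Iso B (U₁ ⊔ U₂) := by
  intro u hu v hv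
  obtain ⟨u₁, hu₁, u₂, hu₂, rfl⟩ := Submodule.mem_sup.mp hu
  obtain ⟨v₁, hv₁, v₂, hv₂, rfl⟩ := Submodule.mem_sup.mp hv
  simp only [map_add, LinearMap.add_apply]
  rw [h₁ u₁ hu₁ v₁ hv₁, h₂ u₂ hu₂ v₂ hv₂, horth u₁ (hU₁ hu₁) v₂ (hU₂ hv₂),
    hB _ _ (horth v₁ (hU₁ hv₁) u₂ (hU₂ hu₂))]
  simp

theorem lagrPair_add (B : LinearMap.BilinForm F V) (hB : B.IsRefl) (X : V →ₗ[F] V) (sw : Bool)
    (M₁ M₂ : Submodule F V) (h₁ : LagrPair B X sw M₁) (h₂ : LagrPair B X sw M₂)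
    (horth : ∀ u ∈ M₁, ∀ v ∈ M₂, B u v = 0) (hd : Disjoint M₁ M₂) :
    LagrPair B X sw (M₁ ⊔ M₂) := by
  obtain ⟨U₁, W₁, hs₁, hd₁, hiU₁, hiW₁, hpc₁⟩ := h₁
  obtain ⟨U₂, W₂, hs₂, hd₂, hiU₂, hiW₂, hpc₂⟩ := h₂
  have hU₁ : U₁ ≤ M₁ := hs₁ ▸ le_sup_left
  have hW₁ : W₁ ≤ M₁ := hs₁ ▸ le_sup_right
  have hU₂ : U₂ ≤ M₂ := hs₂ ▸ le_sup_left
  have hW₂ : W₂ ≤ M₂ := hs₂ ▸ le_sup_right
  refine ⟨U₁ ⊔ U₂, W₁ ⊔ W₂, ?_, ?_, iso_sup B hB hiU₁ hiU₂ hU₁ hU₂ horth,
    iso_sup B hB hiW₁ hiW₂ hW₁ hW₂ horth, hpc₁.sup hpc₂⟩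
  · rw [sup_sup_sup_comm, hs₁, hs₂]
  · rw [Submodule.disjoint_def]
    intro x hxU hxW
    obtain ⟨u₁, hu₁, u₂, hu₂, rfl⟩ := Submodule.mem_sup.mp hxU
    obtain ⟨w₁, hw₁, w₂, hw₂, hw⟩ := Submodule.mem_sup.mp hxW
    have hmem : u₁ - w₁ ∈ M₁ ⊓ M₂ := by
      refine Submodule.mem_inf.mpr ⟨M₁.sub_mem (hU₁ hu₁) (hW₁ hw₁), ?_⟩
      have : u₁ - w₁ = w₂ - u₂ := by
        rw [sub_eq_sub_iff_add_eq_add, hw.symm]; abel
      rw [this]
      exact M₂.sub_mem (hW₂ hw₂) (hU₂ hu₂)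
    rw [hd.eq_bot, Submodule.mem_bot, sub_eq_zero] at hmem
    have hu₁0 : u₁ = 0 := by
      have : u₁ ∈ U₁ ⊓ W₁ := Submodule.mem_inf.mpr ⟨hu₁, hmem ▸ hw₁⟩
      rwa [hd₁.eq_bot, Submodule.mem_bot] at this
    have hu₂0 : u₂ = 0 := by
      have h2 : u₂ = w₂ := by
        rw [← hmem] at hw
        exact (add_left_cancel hw).symm
      have : u₂ ∈ U₂ ⊓ W₂ := Submodule.mem_inf.mpr ⟨hu₂, h2 ▸ hw₂⟩
      rwa [hd₂.eq_bot, Submodule.mem_bot] at this
    rw [hu₁0, hu₂0, add_zero]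

/-- a hyperbolic pair `v, w` whose lines are fixed/swapped gives an atom -/
theorem lagr_atom (B : LinearMap.BilinForm F V) (hB : B.IsAlt) (X : V →ₗ[F] V) (sw : Bool)
    (v w : V) (hvw : B v w ≠ 0)
    (hpc : PC X sw (Submodule.span F {v}) (Submodule.span F {w})) :
    Submodule.span F {v} ⊔ Submodule.span F {w} ≠ ⊥ ∧
    Submodule.span F {v} ⊔ Submodule.span F {w} ∈ Module.End.invtSubmodule X ∧
    Disjoint (Submodule.span F {v} ⊔ Submodule.span F {w})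
      (B.orthogonal (Submodule.span F {v} ⊔ Submodule.span F {w})) ∧
    LagrPair B X sw (Submodule.span F {v} ⊔ Submodule.span F {w}) := by
  have hwv : B w v ≠ 0 := by
    rw [← hB.neg_eq]
    exact neg_ne_zero.mpr hvw
  have hv0 : v ≠ 0 := by
    rintro rfl
    apply hvw
    rw [map_zero, LinearMap.zero_apply]
  refine ⟨?_, ?_, ?_, ?_⟩
  · intro h
    have : v ∈ Submodule.span F {v} ⊔ Submodule.span F {w} :=
      Submodule.mem_sup_left (Submodule.mem_span_singleton_self v)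
    rw [h, Submodule.mem_bot] at this
    exact hv0 this
  · rw [Module.End.mem_invtSubmodule, ← Submodule.map_le_iff_le_comap, Submodule.map_sup]
    unfold PC at hpc
    cases sw
    · simp only [Bool.false_eq_true, if_false] at hpc
      exact sup_le_sup hpc.1 hpc.2
    · simp only [if_true] at hpc
      rw [sup_comm]
      exact sup_le_sup hpc.2 hpc.1
  · rw [Submodule.disjoint_def]
    intro u hu hu'
    obtain ⟨u₁, hu₁, u₂, hu₂, rfl⟩ := Submodule.mem_sup.mp hu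
    obtain ⟨α, rfl⟩ := Submodule.mem_span_singleton.mp hu₁
    obtain ⟨β, rfl⟩ := Submodule.mem_span_singleton.mp hu₂
    rw [LinearMap.BilinForm.mem_orthogonal_iff] at hu'
    have h1 := hu' v (Submodule.mem_sup_left (Submodule.mem_span_singleton_self v))
    have h2 := hu' w (Submodule.mem_sup_right (Submodule.mem_span_singleton_self w))
    simp only [map_add, map_smul, hB.self_eq_zero, smul_eq_mul, mul_zero, zero_add, add_zero] at h1 h2
    have hβ : β = 0 := by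
      rcases mul_eq_zero.mp h1 with h | h
      · exact h
      · exact absurd h hvw
    have hα : α = 0 := by
      rcases mul_eq_zero.mp h2 with h | h
      · exact h
      · exact absurd h hwv
    rw [hα, hβ, zero_smul, zero_smul, add_zero]
  · refine ⟨_, _, rfl, ?_, ?_, ?_, hpc⟩
    · rw [Submodule.disjoint_def]
      intro u hu hu'
      obtain ⟨α, rfl⟩ := Submodule.mem_span_singleton.mp hu
      obtain ⟨β, hβ⟩ := Submodule.mem_span_singleton.mp hu'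
      have := congrArg (fun y => B y w) hβ
      simp only [map_smul, LinearMap.smul_apply, hB.self_eq_zero, smul_eq_mul, mul_zero] at this
      have hα : α = 0 := by
        rcases mul_eq_zero.mp this.symm with h | h
        · exact h
        · exact absurd h hvw
      rw [hα, zero_smul]
    · intro a ha b hb
      obtain ⟨α, rfl⟩ := Submodule.mem_span_singleton.mp ha
      obtain ⟨β, rfl⟩ := Submodule.mem_span_singleton.mp hb
      simp [hB.self_eq_zero]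
    · intro a ha b hb
      obtain ⟨α, rfl⟩ := Submodule.mem_span_singleton.mp ha
      obtain ⟨β, rfl⟩ := Submodule.mem_span_singleton.mp hb
      simp [hB.self_eq_zero]

end Lagr

end Cfsg.Agent.Helper99
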