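import Mathlib
import Cfsg.Agent.Helper99.LagrPair

set_option autoImplicit false

namespace Cfsg.Agent.Helper99

open Module LinearMap

section Atoms
variable {F V : Type*} [Field F] [AddCommGroup V] [Module F V]

/-- nondegeneracy extraction -/
theorem exists_pairing_ne_zero (B : LinearMap.BilinForm F V) {M : Submodule F V}
    (hM : Disjoint M (B.orthogonal M)) {v : V} (hvM : v ∈ M) (hv : v ≠ 0) :
    ∃ n ∈ M, B n v ≠ 0 := by
  by_contra hcon
  push Not at hcon
  apply hv
  rw [Submodule.disjoint_def] at hM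
  exact hM v hvM (by rw [LinearMap.BilinForm.mem_orthogonal_iff]; exact hcon)

/-- atoms in the involution case `X² = 1` -/
theorem atom_fixed (B : LinearMap.BilinForm F V) (hB : B.IsAlt) (h2 : (2 : F) ≠ 0)
    (X : V →ₗ[F] V) (hXB : ∀ u v, B (X u) (X v) = B u v) (hXX : ∀ v, X (X v) = v)
    (M : Submodule F V) (hMinv : M ∈ Module.End.invtSubmodule X)
    (hMnd : Disjoint M (B.orthogonal M)) (hbot : M ≠ ⊥) :
    ∃ v ∈ M, ∃ w ∈ M, B v w ≠ 0 ∧ PC X false (Submodule.span F {v}) (Submodule.span F {w}) := by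
  rw [Module.End.mem_invtSubmodule] at hMinv
  obtain ⟨m, hmM, hm0⟩ := Submodule.exists_mem_ne_zero_of_ne_bot hbot
  have hXm : X m ∈ M := hMinv hmM
  -- an eigenvector
  obtain ⟨v, hvM, hv0, ε, hε, hXv⟩ : ∃ v ∈ M, v ≠ 0 ∧ ∃ ε : F, ε * ε = 1 ∧ X v = ε • v := by
    by_cases hp : m + X m = 0
    · refine ⟨m - X m, M.sub_mem hmM hXm, ?_, -1, by ring, ?_⟩
      · intro hmin
        apply hm0
        have h3 : (2 : F) • m = 0 := by
          rw [two_smul]
          calc m + m = (m + X m) + (m - X m) := by abel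
            _ = 0 := by rw [hp, hmin, add_zero]
        rcases smul_eq_zero.mp h3 with h | h
        · exact absurd h h2
        · exact h
      · rw [map_sub, hXX, neg_smul, one_smul]; abel
    · refine ⟨m + X m, M.add_mem hmM hXm, hp, 1, by ring, ?_⟩
      rw [map_add, hXX, one_smul]; abel
  obtain ⟨w₀, hw₀M, hw₀⟩ := exists_pairing_ne_zero B hMnd hvM hv0
  have hXw₀ : X w₀ ∈ M := hMinv hw₀M
  set w := w₀ + ε • X w₀ with hw
  have hwM : w ∈ M := M.add_mem hw₀M (M.smul_mem _ hXw₀)
  have hXw : X w = ε • w := by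
    rw [hw, map_add, map_smul, hXX, smul_add, smul_smul, hε, one_smul, add_comm]
  have hBwv : B w v = 2 * B w₀ v := by
    have h1 : B (X w₀) v = ε * B w₀ v := by
      rw [← hXB (X w₀) v, hXX, hXv, map_smul, smul_eq_mul]
    rw [hw, map_add, LinearMap.add_apply, map_smul, LinearMap.smul_apply, h1, smul_eq_mul,
      ← mul_assoc, hε]
    ring
  have hBvw : B v w ≠ 0 := by
    rw [← hB.neg_eq, hBwv]
    exact neg_ne_zero.mpr (mul_ne_zero h2 hw₀)
  refine ⟨v, hvM, w, hwM, hBvw, ?_⟩
  unfold PC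
  simp only [Bool.false_eq_true, if_false]
  constructor
  · rw [Submodule.map_le_iff_le_comap, Submodule.span_singleton_le_iff_mem, Submodule.mem_comap, hXv]
    exact Submodule.smul_mem _ _ (Submodule.mem_span_singleton_self v)
  · rw [Submodule.map_le_iff_le_comap, Submodule.span_singleton_le_iff_mem, Submodule.mem_comap, hXw]
    exact Submodule.smul_mem _ _ (Submodule.mem_span_singleton_self w)

/-- atoms in the case `X² = -1` -/
theorem atom_swap (B : LinearMap.BilinForm F V) (hB : B.IsAlt) (h2 : (2 : F) ≠ 0)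
    (X : V →ₗ[F] V) (hXB : ∀ u v, B (X u) (X v) = B u v) (hXX : ∀ v, X (X v) = -v)
    (M : Submodule F V) (hMinv : M ∈ Module.End.invtSubmodule X)
    (hMnd : Disjoint M (B.orthogonal M)) (hbot : M ≠ ⊥) :
    ∃ v ∈ M, ∃ w ∈ M, B v w ≠ 0 ∧ PC X true (Submodule.span F {v}) (Submodule.span F {w}) := by
  rw [Module.End.mem_invtSubmodule] at hMinv
  have hex : ∃ v ∈ M, B v (X v) ≠ 0 := by
    by_contra hcon
    push Not at hcon
    have hsym : ∀ u v, B v (X u) = B u (X v) := by
      intro u v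
      rw [← hXB v (X u), hXX, map_neg, ← hB.neg_eq, neg_neg]
    have hzero : ∀ u ∈ M, ∀ v ∈ M, B u (X v) = 0 := by
      intro u hu v hv
      have h1 := hcon (u + v) (M.add_mem hu hv)
      simp only [map_add, LinearMap.add_apply] at h1
      rw [hcon u hu, hcon v hv, hsym u v, zero_add, add_zero, ← two_mul] at h1
      rcases mul_eq_zero.mp h1 with h | h
      · exact absurd h h2
      · exact h
    obtain ⟨m, hmM, hm0⟩ := Submodule.exists_mem_ne_zero_of_ne_bot hbot
    obtain ⟨n, hnM, hn⟩ := exists_pairing_ne_zero B hMnd hmM hm0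
    apply hn
    have hm : m = X (-X m) := by rw [map_neg, hXX, neg_neg]
    rw [hm]
    exact hzero n hnM _ (M.neg_mem (hMinv hmM))
  obtain ⟨v, hvM, hv⟩ := hex
  refine ⟨v, hvM, X v, hMinv hvM, hv, ?_⟩
  unfold PC
  simp only [if_true]
  constructor
  · rw [Submodule.map_le_iff_le_comap, Submodule.span_singleton_le_iff_mem, Submodule.mem_comap]
    exact Submodule.mem_span_singleton_self _
  · rw [Submodule.map_le_iff_le_comap, Submodule.span_singleton_le_iff_mem, Submodule.mem_comap, hXX]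
    exact Submodule.neg_mem _ (Submodule.mem_span_singleton_self v)

/-- main abstract theorem -/
theorem exists_lagr_pair [FiniteDimensional F V] (B : LinearMap.BilinForm F V) (hB : B.IsAlt)
    (hnd : Disjoint (⊤ : Submodule F V) (B.orthogonal ⊤)) (h2 : (2 : F) ≠ 0)
    (X : V →ₗ[F] V) (hXB : ∀ u v, B (X u) (X v) = B u v) (z : F) (hz : z = 1 ∨ z = -1)
    (hXX : ∀ v, X (X v) = z • v) :
    ∃ U W : Submodule F V, IsCompl U W ∧ Iso B U ∧ Iso B W ∧
      ((U.map X = U ∧ W.map X = W) ∨ (U.map X = W ∧ W.map X = U)) := by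
  have hz0 : z ≠ 0 := by
    rcases hz with rfl | rfl
    · exact one_ne_zero
    · exact neg_ne_zero.mpr one_ne_zero
  have hinj : Function.Injective X := by
    intro a b hab
    have := congrArg X hab
    rw [hXX, hXX] at this
    exact smul_right_injective V hz0 this
  have hfr : ∀ U : Submodule F V, finrank F (U.map X) = finrank F U := fun U =>
    (LinearEquiv.finrank_eq (Submodule.equivMapOfInjective X hinj U)).symm
  obtain ⟨sw, hsw⟩ : ∃ sw : Bool, ∀ M : Submodule F V, M ∈ Module.End.invtSubmodule X →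
      Disjoint M (B.orthogonal M) → M ≠ ⊥ → ∃ v ∈ M, ∃ w ∈ M, B v w ≠ 0 ∧
        PC X sw (Submodule.span F {v}) (Submodule.span F {w}) := by
    rcases hz with rfl | rfl
    · exact ⟨false, atom_fixed B hB h2 X hXB (by simpa using hXX)⟩
    · exact ⟨true, atom_swap B hB h2 X hXB (by simpa using hXX)⟩
  have hmain := orth_induction B hB.isRefl X z hz0 hXB hXX (LagrPair B X sw)
    (lagrPair_bot B X sw) (lagrPair_add B hB.isRefl X sw) ?_ ⊤ (Module.End.invtSubmodule.top_mem _) hnd
  · obtain ⟨U, W, hs, hd, hiU, hiW, hpc⟩ := hmain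
    refine ⟨U, W, ⟨hd, codisjoint_iff.mpr hs⟩, hiU, hiW, ?_⟩
    unfold PC at hpc
    cases sw
    · simp only [Bool.false_eq_true, if_false] at hpc
      left
      exact ⟨Submodule.eq_of_le_of_finrank_eq hpc.1 (hfr U), Submodule.eq_of_le_of_finrank_eq hpc.2 (hfr W)⟩
    · simp only [if_true] at hpc
      right
      have h1 : finrank F U ≤ finrank F W := by
        rw [← hfr U]; exact Submodule.finrank_mono hpc.1
      have h3 : finrank F W ≤ finrank F U := by
        rw [← hfr W]; exact Submodule.finrank_mono hpc.2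
      exact ⟨Submodule.eq_of_le_of_finrank_eq hpc.1 (by rw [hfr U]; omega),
        Submodule.eq_of_le_of_finrank_eq hpc.2 (by rw [hfr W]; omega)⟩
  · intro M hMinv hMnd hbot
    obtain ⟨v, hvM, w, hwM, hvw, hpc⟩ := hsw M hMinv hMnd hbot
    obtain ⟨h1, h3, h4, h5⟩ := lagr_atom B hB X sw v w hvw hpc
    refine ⟨_, ?_, h1, h3, h4, h5⟩
    exact sup_le ((Submodule.span_singleton_le_iff_mem _ _).mpr hvM)
      ((Submodule.span_singleton_le_iff_mem _ _).mpr hwM)

end Atoms

end Cfsg.Agent.Helper99
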