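import Mathlib
import Cfsg.Agent.Helper99.SpStructA
import Cfsg.Agent.Helper99.LagrAtoms

/-!
# Invariant nondegenerate subspaces of an isometry of an alternating form: splitting off atoms
-/

set_option autoImplicit false

namespace Cfsg.Agent.Helper99.SpNd

open Module
open Cfsg.Agent.Helper99.SpStruct

universe u v

variable {F : Type u} [Field F] {V : Type v} [AddCommGroup V] [Module F V]

/-- invariance of a subspace under an endomorphism -/
def Inv (X : Module.End F V) (M : Submodule F V) : Prop := ∀ v ∈ M, X v ∈ M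

theorem Inv.sup {X : Module.End F V} {M N : Submodule F V} (hM : Inv X M) (hN : Inv X N) :
    Inv X (M ⊔ N) := by
  intro v hv
  obtain ⟨a, ha, b, hb, rfl⟩ := Submodule.mem_sup.mp hv
  rw [map_add]
  exact Submodule.add_mem _ (Submodule.mem_sup_left (hM a ha)) (Submodule.mem_sup_right (hN b hb))

theorem Inv.inf {X : Module.End F V} {M N : Submodule F V} (hM : Inv X M) (hN : Inv X N) :
    Inv X (M ⊓ N) := fun v hv => ⟨hM v hv.1, hN v hv.2⟩

theorem inv_bot (X : Module.End F V) : Inv X (⊥ : Submodule F V) := by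
  intro v hv
  rw [Submodule.mem_bot] at hv
  rw [hv, map_zero]
  exact Submodule.zero_mem _

theorem inv_top (X : Module.End F V) : Inv X (⊤ : Submodule F V) := fun _ _ => Submodule.mem_top

variable [FiniteDimensional F V]

/-- an injective endomorphism maps an invariant subspace onto itself -/
theorem Inv.surj {X : Module.End F V} (hinj : Function.Injective X) {C : Submodule F V}
    (hC : Inv X C) : ∀ w ∈ C, ∃ w' ∈ C, X w' = w := by
  have hinj' : Function.Injective (X.restrict hC) := by
    intro x y hxy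
    apply Subtype.ext
    apply hinj
    have := congrArg Subtype.val hxy
    exact this
  have hsurj := LinearMap.injective_iff_surjective.mp hinj'
  intro w hw
  obtain ⟨w', hw'⟩ := hsurj ⟨w, hw⟩
  refine ⟨w'.1, w'.2, ?_⟩
  have := congrArg Subtype.val hw'
  exact this

/-- the orthogonal of an invariant subspace is invariant -/
theorem Inv.orth {B : LinearMap.BilinForm F V} {X : Module.End F V}
    (hXB : ∀ u v, B (X u) (X v) = B u v) (hinj : Function.Injective X) {C : Submodule F V}
    (hC : Inv X C) : Inv X (B.orthogonal C) := by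
  intro y hy
  rw [LinearMap.BilinForm.mem_orthogonal_iff] at hy ⊢
  intro w hw
  obtain ⟨w', hw', rfl⟩ := hC.surj hinj w hw
  rw [hXB]
  exact hy w' hw'

/-- splitting off an atom -/
theorem split_atom {B : LinearMap.BilinForm F V} (hB : B.IsRefl) {X : Module.End F V}
    (hXB : ∀ u v, B (X u) (X v) = B u v) (hinj : Function.Injective X)
    {M A : Submodule F V} (hM : Inv X M) (hMnd : Nd B M) (hAM : A ≤ M) (hA : Inv X A)
    (hAnd : Nd B A) :
    Inv X (M ⊓ B.orthogonal A) ∧ Nd B (M ⊓ B.orthogonal A) ∧
      finrank F ↥A + finrank F ↥(M ⊓ B.orthogonal A) = finrank F ↥M :=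
  ⟨hM.inf (hA.orth hXB hinj), hAnd.inf_orth hB hAM hMnd, hAnd.finrank_inf_orth hB hAM⟩

/-- gluing an atom with an invariant nondegenerate subspace of its orthogonal -/
theorem glue_atom {B : LinearMap.BilinForm F V} (hB : B.IsRefl) {X : Module.End F V}
    {M A W : Submodule F V} (hAM : A ≤ M) (hA : Inv X A) (hAnd : Nd B A)
    (hWM : W ≤ M ⊓ B.orthogonal A) (hW : Inv X W) (hWnd : Nd B W) :
    A ⊔ W ≤ M ∧ Inv X (A ⊔ W) ∧ Nd B (A ⊔ W) ∧
      finrank F ↥(A ⊔ W) = finrank F ↥A + finrank F ↥W := by
  have horth : Orth B A W := orth_inf_orth.mono le_rfl hWM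
  refine ⟨sup_le hAM (hWM.trans inf_le_left), hA.sup hW, hAnd.sup hB hWnd horth, ?_⟩
  rw [Cfsg.Agent.Helper99.RDecomp.finrank_sup_of_disjoint (horth.disjoint hAnd)]

/-- If every nonzero invariant nondegenerate subspace contains an invariant nondegenerate plane, then
there are invariant nondegenerate subspaces of every even dimension. -/
theorem exists_inv_nd_of_planes {B : LinearMap.BilinForm F V} (hB : B.IsRefl)
    {X : Module.End F V} (hXB : ∀ u v, B (X u) (X v) = B u v) (hinj : Function.Injective X)
    (hplane : ∀ M : Submodule F V, Inv X M → Nd B M → M ≠ ⊥ →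
      ∃ P : Submodule F V, P ≤ M ∧ Inv X P ∧ Nd B P ∧ finrank F ↥P = 2) :
    ∀ k : ℕ, ∀ M : Submodule F V, Inv X M → Nd B M → 2 * k ≤ finrank F ↥M →
      ∃ W : Submodule F V, W ≤ M ∧ Inv X W ∧ Nd B W ∧ finrank F ↥W = 2 * k := by
  intro k
  induction k with
  | zero =>
    intro M _ _ _
    exact ⟨⊥, bot_le, inv_bot X, nd_bot, by simp⟩
  | succ k ih =>
    intro M hM hMnd hdim
    have hMne : M ≠ ⊥ := by
      intro h
      rw [h, finrank_bot] at hdim
      omega
    obtain ⟨P, hPM, hP, hPnd, hPdim⟩ := hplane M hM hMnd hMne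
    obtain ⟨h1, h2, h3⟩ := split_atom hB hXB hinj hM hMnd hPM hP hPnd
    obtain ⟨W', hW'le, hW', hW'nd, hW'dim⟩ := ih _ h1 h2 (by omega)
    obtain ⟨g1, g2, g3, g4⟩ := glue_atom hB hPM hP hPnd hW'le hW' hW'nd
    exact ⟨P ⊔ W', g1, g2, g3, by rw [g4, hPdim, hW'dim]; ring⟩

/-- a nondegenerate plane from two vectors with nonzero pairing -/
theorem nd_span_pair {B : LinearMap.BilinForm F V} (hB : B.IsAlt) {v w : V} (hvw : B v w ≠ 0) :
    Nd B (Submodule.span F {v, w}) ∧ finrank F ↥(Submodule.span F {v, w}) = 2 := by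
  have hwv : B w v ≠ 0 := by
    intro h
    apply hvw
    rw [← hB.neg_eq, h, neg_zero]
  have hli : LinearIndependent F ![v, w] := by
    rw [LinearIndependent.pair_iff]
    intro s t hst
    have h1 : B v (s • v + t • w) = 0 := by rw [hst, map_zero]
    rw [map_add, map_smul, map_smul, hB.self_eq_zero, smul_zero, zero_add, smul_eq_mul] at h1
    have ht : t = 0 := by
      rcases mul_eq_zero.mp h1 with h | h
      · exact h
      · exact absurd h hvw
    have h2 : B w (s • v + t • w) = 0 := by rw [hst, map_zero]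
    rw [map_add, map_smul, map_smul, hB.self_eq_zero, smul_zero, add_zero, smul_eq_mul] at h2
    have hs : s = 0 := by
      rcases mul_eq_zero.mp h2 with h | h
      · exact h
      · exact absurd h hwv
    exact ⟨hs, ht⟩
  have hrange : Set.range ![v, w] = {v, w} := by
    ext z
    simp only [Set.mem_range, Set.mem_insert_iff, Set.mem_singleton_iff]
    constructor
    · rintro ⟨j, rfl⟩
      fin_cases j
      · left; rfl
      · right; rfl
    · rintro (rfl | rfl)
      · exact ⟨0, rfl⟩
      · exact ⟨1, rfl⟩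
  constructor
  · rw [nd_iff]
    intro x hx hx'
    obtain ⟨s, t, rfl⟩ := Submodule.mem_span_pair.mp hx
    have h1 := hx' v (Submodule.subset_span (by simp))
    rw [map_add, map_smul, map_smul, hB.self_eq_zero, smul_zero, zero_add, smul_eq_mul] at h1
    have ht : t = 0 := by
      rcases mul_eq_zero.mp h1 with h | h
      · exact h
      · exact absurd h hvw
    have h2 := hx' w (Submodule.subset_span (by simp))
    rw [map_add, map_smul, map_smul, hB.self_eq_zero, smul_zero, add_zero, smul_eq_mul] at h2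
    have hs : s = 0 := by
      rcases mul_eq_zero.mp h2 with h | h
      · exact h
      · exact absurd h hwv
    rw [hs, ht, zero_smul, zero_smul, add_zero]
  · rw [← hrange, finrank_span_eq_card hli, Fintype.card_fin]

/-- **Odd characteristic, `X² = ±1`.** Invariant nondegenerate subspaces of every even dimension. -/
theorem exists_inv_nd_of_sq {B : LinearMap.BilinForm F V} (hB : B.IsAlt) (h2 : (2 : F) ≠ 0)
    {X : Module.End F V} (hXB : ∀ u v, B (X u) (X v) = B u v) (z : F) (hz : z = 1 ∨ z = -1)
    (hXX : ∀ v, X (X v) = z • v) (k : ℕ) (hk : 2 * k ≤ finrank F V)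
    (hnd : Nd B (⊤ : Submodule F V)) :
    ∃ W : Submodule F V, Inv X W ∧ Nd B W ∧ finrank F ↥W = 2 * k := by
  have hz0 : z ≠ 0 := by
    rcases hz with rfl | rfl
    · exact one_ne_zero
    · exact neg_ne_zero.mpr one_ne_zero
  have hinj : Function.Injective X := by
    intro a b hab
    have := congrArg X hab
    rw [hXX, hXX] at this
    exact smul_right_injective V hz0 this
  have hplane : ∀ M : Submodule F V, Inv X M → Nd B M → M ≠ ⊥ →
      ∃ P : Submodule F V, P ≤ M ∧ Inv X P ∧ Nd B P ∧ finrank F ↥P = 2 := by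
    intro M hM hMnd hMne
    have hMinv : M ∈ Module.End.invtSubmodule X := by
      rw [Module.End.mem_invtSubmodule]
      exact fun v hv => hM v hv
    obtain ⟨sw, v, hvM, w, hwM, hvw, hpc⟩ : ∃ sw : Bool, ∃ v ∈ M, ∃ w ∈ M, B v w ≠ 0 ∧
        Cfsg.Agent.Helper99.PC X sw (Submodule.span F {v}) (Submodule.span F {w}) := by
      rcases hz with rfl | rfl
      · obtain ⟨v, hvM, w, hwM, hvw, hpc⟩ := Cfsg.Agent.Helper99.atom_fixed B hB h2 X hXB
          (by simpa using hXX) M hMinv hMnd hMne
        exact ⟨false, v, hvM, w, hwM, hvw, hpc⟩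
      · obtain ⟨v, hvM, w, hwM, hvw, hpc⟩ := Cfsg.Agent.Helper99.atom_swap B hB h2 X hXB
          (by simpa using hXX) M hMinv hMnd hMne
        exact ⟨true, v, hvM, w, hwM, hvw, hpc⟩
    obtain ⟨hnd2, hdim2⟩ := nd_span_pair hB hvw
    refine ⟨Submodule.span F {v, w}, ?_, ?_, hnd2, hdim2⟩
    · rw [Submodule.span_le]
      rintro x (rfl | rfl)
      · exact hvM
      · exact hwM
    · -- invariance of the plane
      have hXv : X v ∈ Submodule.span F {v, w} ∧ X w ∈ Submodule.span F {v, w} := by
        unfold Cfsg.Agent.Helper99.PC at hpc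
        have hv1 : Submodule.span F {v} ≤ Submodule.span F {v, w} :=
          Submodule.span_mono (by simp)
        have hw1 : Submodule.span F {w} ≤ Submodule.span F {v, w} :=
          Submodule.span_mono (by simp)
        cases sw
        · simp only [Bool.false_eq_true, if_false] at hpc
          exact ⟨hv1 (hpc.1 (Submodule.mem_map_of_mem (Submodule.mem_span_singleton_self v))),
            hw1 (hpc.2 (Submodule.mem_map_of_mem (Submodule.mem_span_singleton_self w)))⟩
        · simp only [if_true] at hpc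
          exact ⟨hw1 (hpc.1 (Submodule.mem_map_of_mem (Submodule.mem_span_singleton_self v))),
            hv1 (hpc.2 (Submodule.mem_map_of_mem (Submodule.mem_span_singleton_self w)))⟩
      intro x hx
      obtain ⟨s, t, rfl⟩ := Submodule.mem_span_pair.mp hx
      rw [map_add, map_smul, map_smul]
      exact Submodule.add_mem _ (Submodule.smul_mem _ _ hXv.1) (Submodule.smul_mem _ _ hXv.2)
  obtain ⟨W, -, hW, hWnd, hWdim⟩ := exists_inv_nd_of_planes hB.isRefl hXB hinj hplane k ⊤
    (inv_top X) hnd (by rw [finrank_top]; exact hk)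
  exact ⟨W, hW, hWnd, hWdim⟩

end Cfsg.Agent.Helper99.SpNd
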