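import Mathlib
import Cfsg.Agent.Helper99.SpNdA
import Cfsg.Agent.Helper99.KdimSplit

/-!
# Blocks of a unipotent isometry

For an isometry `1 + N` of a reflexive form `B` and a subspace `U` killed by `N ^ (e' + 1)` on which
`(u, u') ↦ B u (N ^ e' u')` is nondegenerate, the subspace `∑_a N ^ a U` is invariant, nondegenerate,
of dimension `(e' + 1) * dim U`, and the kernel of `N` on it is `N ^ e' U`.
-/

set_option autoImplicit false

namespace Cfsg.Agent.Helper99.SpNd

open Module
open Cfsg.Agent.Helper99.SpStruct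

universe u v

variable {F : Type u} [Field F] {V : Type v} [AddCommGroup V] [Module F V]

/-- `B (N w) z = - B (w + N w) (N z)` -/
theorem form_N_left (B : LinearMap.BilinForm F V) (N : Module.End F V)
    (hiso : ∀ u v, B (u + N u) (v + N v) = B u v) (w z : V) :
    B (N w) z = - B (w + N w) (N z) := by
  have h := hiso w z
  simp only [map_add, LinearMap.add_apply] at h ⊢
  linear_combination h

theorem one_add_apply' (N : Module.End F V) (w : V) : ((1 : Module.End F V) + N) w = w + N w := by
  rw [LinearMap.add_apply, Module.End.one_apply]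

theorem commute_one_add (N : Module.End F V) : Commute ((1 : Module.End F V) + N) N :=
  (Commute.one_left N).add_left (Commute.refl N)

/-- moving powers of `N` across the form -/
theorem form_pow_left (B : LinearMap.BilinForm F V) (N : Module.End F V)
    (hiso : ∀ u v, B (u + N u) (v + N v) = B u v) (a : ℕ) :
    ∀ w z : V, B ((N ^ a) w) z = (-1) ^ a * B ((((1 : Module.End F V) + N) ^ a) w) ((N ^ a) z) := by
  induction a with
  | zero =>
    intro w z
    simp
  | succ a ih =>
    intro w z
    have h1 : (N ^ (a + 1)) w = (N ^ a) (N w) := by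
      rw [pow_succ, Module.End.mul_apply]
    have h2 : (((1 : Module.End F V) + N) ^ a) (N w) = N ((((1 : Module.End F V) + N) ^ a) w) := by
      have hc : Commute (((1 : Module.End F V) + N) ^ a) N := (commute_one_add N).pow_left a
      have := congrArg (fun T : Module.End F V => T w) hc.eq
      simpa [Module.End.mul_apply] using this
    have h3 : (((1 : Module.End F V) + N) ^ (a + 1)) w =
        (((1 : Module.End F V) + N) ^ a) w + N ((((1 : Module.End F V) + N) ^ a) w) := by
      rw [pow_succ', Module.End.mul_apply, one_add_apply']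
    have h4 : (N ^ (a + 1)) z = N ((N ^ a) z) := by
      rw [pow_succ', Module.End.mul_apply]
    rw [h1, ih, h2, form_N_left B N hiso, h3, h4, pow_succ]
    ring

/-- powers of `N` beyond the nilpotency index vanish -/
theorem pow_apply_eq_zero_of_le (N : Module.End F V) {e n : ℕ} (hen : e ≤ n) {u : V}
    (hu : (N ^ e) u = 0) : (N ^ n) u = 0 := by
  obtain ⟨c, rfl⟩ := Nat.exists_eq_add_of_le hen
  rw [add_comm, pow_add, Module.End.mul_apply, hu, map_zero]

/-- pairing with the top power ignores the unipotent factor -/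
theorem form_one_add_pow_top (B : LinearMap.BilinForm F V) (N : Module.End F V)
    (hiso : ∀ u v, B (u + N u) (v + N v) = B u v) (e' : ℕ) {u' : V}
    (hu' : (N ^ (e' + 1)) u' = 0) (a : ℕ) :
    ∀ w : V, B ((((1 : Module.End F V) + N) ^ a) w) ((N ^ e') u') = B w ((N ^ e') u') := by
  induction a with
  | zero =>
    intro w
    simp
  | succ a ih =>
    intro w
    have h3 : (((1 : Module.End F V) + N) ^ (a + 1)) w =
        (((1 : Module.End F V) + N) ^ a) w + N ((((1 : Module.End F V) + N) ^ a) w) := by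
      rw [pow_succ', Module.End.mul_apply, one_add_apply']
    have h5 : N ((N ^ e') u') = 0 := by
      rw [← Module.End.mul_apply, ← pow_succ']
      exact hu'
    rw [h3, map_add, LinearMap.add_apply, ih, form_N_left B N hiso, h5, map_zero, neg_zero,
      add_zero]

/-- the block map `f ↦ ∑ₐ Nᵃ (f a)` -/
noncomputable def blockMap (N : Module.End F V) (e : ℕ) (U : Submodule F V) :
    (Fin e → ↥U) →ₗ[F] V :=
  ∑ a : Fin e, (N ^ (a : ℕ)) ∘ₗ U.subtype ∘ₗ (LinearMap.proj a : (Fin e → ↥U) →ₗ[F] ↥U)

theorem blockMap_apply (N : Module.End F V) (e : ℕ) (U : Submodule F V) (f : Fin e → ↥U) :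
    blockMap N e U f = ∑ a : Fin e, (N ^ (a : ℕ)) (f a : V) := by
  unfold blockMap
  rw [LinearMap.sum_apply]
  rfl

theorem blockMap_single (N : Module.End F V) (e : ℕ) (U : Submodule F V) (a : Fin e) (u : ↥U) :
    blockMap N e U (Pi.single a u) = (N ^ (a : ℕ)) (u : V) := by
  classical
  rw [blockMap_apply, Finset.sum_eq_single a]
  · rw [Pi.single_eq_same]
  · intro b _ hb
    rw [Pi.single_eq_of_ne hb]
    simp
  · intro h
    exact absurd (Finset.mem_univ a) h

/-- **the core triangular argument** -/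
theorem blockMap_core (B : LinearMap.BilinForm F V) (N : Module.End F V)
    (hiso : ∀ u v, B (u + N u) (v + N v) = B u v) (e' : ℕ) (U : Submodule F V)
    (hU : ∀ u ∈ U, (N ^ (e' + 1)) u = 0)
    (hnd : ∀ u ∈ U, u ≠ 0 → ∃ u' ∈ U, B u ((N ^ e') u') ≠ 0)
    (t : ℕ) (f : Fin (e' + 1) → ↥U)
    (hf : ∀ u' ∈ U, ∀ b : ℕ, B ((N ^ t) (blockMap N (e' + 1) U f)) ((N ^ b) u') = 0) :
    ∀ n : ℕ, ∀ a : Fin (e' + 1), (a : ℕ) = n → n + t ≤ e' → f a = 0 := by
  intro n
  induction n using Nat.strong_induction_on with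
  | _ n ih =>
    intro a han hle
    by_contra hfa
    have hfa' : (f a : V) ≠ 0 := fun h => hfa (Subtype.ext h)
    obtain ⟨u', hu', hne⟩ := hnd (f a) (f a).2 hfa'
    apply hne
    have h0 := hf u' hu' (e' - n - t)
    rw [blockMap_apply, map_sum, map_sum, LinearMap.sum_apply] at h0
    rw [Finset.sum_eq_single a] at h0
    · rw [← Module.End.mul_apply, ← pow_add, form_pow_left B N hiso, ← Module.End.mul_apply,
        ← pow_add] at h0
      have hexp : t + (a : ℕ) + (e' - n - t) = e' := by omega
      rw [hexp, form_one_add_pow_top B N hiso e' (hU u' hu')] at h0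
      rcases mul_eq_zero.mp h0 with h | h
      · exact absurd h (pow_ne_zero _ (neg_ne_zero.mpr one_ne_zero))
      · exact h
    · intro b _ hba
      rcases lt_or_gt_of_ne (fun h => hba (Fin.ext h) : (b : ℕ) ≠ (a : ℕ)) with hlt | hgt
      · have := ih (b : ℕ) (by omega) b rfl (by omega)
        rw [this]
        simp
      · rw [← Module.End.mul_apply, ← pow_add, form_pow_left B N hiso, ← Module.End.mul_apply,
          ← pow_add]
        have hz : (N ^ (t + (b : ℕ) + (e' - n - t))) u' = 0 :=
          pow_apply_eq_zero_of_le N (by omega) (hU u' hu')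
        rw [hz, map_zero, mul_zero]
    · intro h
      exact absurd (Finset.mem_univ a) h

/-- the block subspace -/
noncomputable def blockSub (N : Module.End F V) (e : ℕ) (U : Submodule F V) : Submodule F V :=
  LinearMap.range (blockMap N e U)

theorem pow_mem_blockSub (N : Module.End F V) (e' : ℕ) (U : Submodule F V)
    (hU : ∀ u ∈ U, (N ^ (e' + 1)) u = 0) {u : V} (hu : u ∈ U) (b : ℕ) :
    (N ^ b) u ∈ blockSub N (e' + 1) U := by
  by_cases hb : b < e' + 1
  · refine ⟨Pi.single ⟨b, hb⟩ ⟨u, hu⟩, ?_⟩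
    rw [blockMap_single]
  · rw [pow_apply_eq_zero_of_le N (by omega) (hU u hu)]
    exact Submodule.zero_mem _

theorem le_blockSub (N : Module.End F V) (e' : ℕ) (U : Submodule F V)
    (hU : ∀ u ∈ U, (N ^ (e' + 1)) u = 0) : U ≤ blockSub N (e' + 1) U := by
  intro u hu
  have := pow_mem_blockSub N e' U hU hu 0
  simpa using this

theorem inv_blockSub (N : Module.End F V) (e' : ℕ) (U : Submodule F V)
    (hU : ∀ u ∈ U, (N ^ (e' + 1)) u = 0) : Inv N (blockSub N (e' + 1) U) := by
  rintro _ ⟨f, rfl⟩
  rw [blockMap_apply, map_sum]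
  apply Submodule.sum_mem
  intro a _
  rw [← Module.End.mul_apply, ← pow_succ']
  exact pow_mem_blockSub N e' U hU (f a).2 _

theorem blockSub_le (N : Module.End F V) (e : ℕ) (U M : Submodule F V) (hUM : U ≤ M)
    (hM : Inv N M) : blockSub N e U ≤ M := by
  rintro _ ⟨f, rfl⟩
  rw [blockMap_apply]
  apply Submodule.sum_mem
  intro a _
  have hpow : ∀ k : ℕ, ∀ x ∈ M, (N ^ k) x ∈ M := by
    intro k
    induction k with
    | zero => intro x hx; simpa using hx
    | succ k ih =>
      intro x hx
      rw [pow_succ', Module.End.mul_apply]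
      exact hM _ (ih x hx)
  exact hpow _ _ (hUM (f a).2)

theorem pow_blockSub_eq_zero (N : Module.End F V) (e' : ℕ) (U : Submodule F V)
    (hU : ∀ u ∈ U, (N ^ (e' + 1)) u = 0) :
    ∀ y ∈ blockSub N (e' + 1) U, (N ^ (e' + 1)) y = 0 := by
  rintro _ ⟨f, rfl⟩
  rw [blockMap_apply, map_sum]
  apply Finset.sum_eq_zero
  intro a _
  rw [← Module.End.mul_apply, ← pow_add]
  exact pow_apply_eq_zero_of_le N (by omega) (hU _ (f a).2)

section core

variable (B : LinearMap.BilinForm F V) (N : Module.End F V)
  (hiso : ∀ u v, B (u + N u) (v + N v) = B u v) (e' : ℕ) (U : Submodule F V)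
  (hU : ∀ u ∈ U, (N ^ (e' + 1)) u = 0)
  (hnd : ∀ u ∈ U, u ≠ 0 → ∃ u' ∈ U, B u ((N ^ e') u') ≠ 0)

include hiso hU hnd

theorem blockMap_injective : Function.Injective (blockMap N (e' + 1) U) := by
  rw [← LinearMap.ker_eq_bot, LinearMap.ker_eq_bot']
  intro f hf
  funext a
  refine blockMap_core B N hiso e' U hU hnd 0 f ?_ (a : ℕ) a rfl (by have := a.2; omega)
  intro u' _ b
  rw [hf, map_zero, map_zero, LinearMap.zero_apply]

theorem nd_blockSub (hB : B.IsRefl) : Nd B (blockSub N (e' + 1) U) := by
  rw [nd_iff]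
  rintro _ ⟨f, rfl⟩ hy
  have hf0 : f = 0 := by
    funext a
    refine blockMap_core B N hiso e' U hU hnd 0 f ?_ (a : ℕ) a rfl (by have := a.2; omega)
    intro u' hu' b
    rw [pow_zero, Module.End.one_apply]
    exact hB _ _ (hy _ (pow_mem_blockSub N e' U hU hu' b))
  rw [hf0, map_zero]

theorem finrank_blockSub [FiniteDimensional F V] :
    finrank F ↥(blockSub N (e' + 1) U) = (e' + 1) * finrank F ↥U := by
  unfold blockSub
  rw [LinearMap.finrank_range_of_inj (blockMap_injective B N hiso e' U hU hnd),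
    Module.finrank_pi_fintype, Finset.sum_const, Finset.card_univ, Fintype.card_fin, smul_eq_mul]

theorem ker_blockSub_le : ∀ y ∈ blockSub N (e' + 1) U, N y = 0 → y ∈ U.map (N ^ e') := by
  rintro _ ⟨f, rfl⟩ hy
  have hfa : ∀ a : Fin (e' + 1), (a : ℕ) + 1 ≤ e' → f a = 0 := by
    intro a ha
    refine blockMap_core B N hiso e' U hU hnd 1 f ?_ (a : ℕ) a rfl ha
    intro u' _ b
    rw [pow_one, hy, map_zero, LinearMap.zero_apply]
  rw [blockMap_apply, Finset.sum_eq_single (Fin.last e')]
  · exact Submodule.mem_map_of_mem (f (Fin.last e')).2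
  · intro a _ ha
    have hlt : (a : ℕ) < e' := by
      have h1 := a.2
      have h2 : (a : ℕ) ≠ e' := fun h => ha (Fin.ext h)
      omega
    rw [hfa a (by omega)]
    simp
  · intro h
    exact absurd (Finset.mem_univ _) h

end core

end Cfsg.Agent.Helper99.SpNd
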