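import Mathlib
import Cfsg.Agent.Helper99.SpNdB

/-!
# Kernel dimensions inside invariant subspaces, Jordan types
-/

set_option autoImplicit false
set_option linter.unusedSectionVars false

namespace Cfsg.Agent.Helper99.SpNd

open Module
open Cfsg.Agent.Helper99.SpStruct
open Cfsg.Agent.Helper43.JT Cfsg.Agent.Helper99.KdimSplit

universe u v

variable {F : Type u} [Field F] {V : Type v} [AddCommGroup V] [Module F V]

/-- dimension of the kernel of `N ^ l` inside `M` -/
noncomputable def kOn (N : Module.End F V) (M : Submodule F V) (l : ℕ) : ℕ :=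
  finrank F ↥(M ⊓ LinearMap.ker (N ^ l))

theorem kOn_zero (N : Module.End F V) (M : Submodule F V) : kOn N M 0 = 0 := by
  unfold kOn
  rw [pow_zero, Module.End.one_eq_id, LinearMap.ker_id, inf_bot_eq, finrank_bot]

theorem kOn_top (N : Module.End F V) (l : ℕ) : kOn N ⊤ l = kdim N l := by
  unfold kOn kdim
  rw [top_inf_eq]

section fd

variable [FiniteDimensional F V]

theorem kOn_eq_kdim (N : Module.End F V) (M : Submodule F V) (hM : ∀ x ∈ M, N x ∈ M) (l : ℕ) :
    kOn N M l = kdim (N.restrict hM) l := by
  unfold kOn kdim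
  rw [Module.End.pow_restrict l hM, LinearMap.ker_restrict,
    ← Submodule.finrank_map_subtype_eq M, Submodule.map_comap_subtype]

theorem kOn_concave (N : Module.End F V) (M : Submodule F V) (hM : Inv N M) (l : ℕ) :
    kOn N M (l + 2) + kOn N M l ≤ 2 * kOn N M (l + 1) := by
  rw [kOn_eq_kdim N M hM, kOn_eq_kdim N M hM, kOn_eq_kdim N M hM]
  exact kdim_concave _ l

theorem kOn_le_succ (N : Module.End F V) (M : Submodule F V) (l : ℕ) :
    kOn N M l ≤ kOn N M (l + 1) := by
  unfold kOn
  apply Submodule.finrank_mono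
  apply inf_le_inf_left
  intro x hx
  rw [LinearMap.mem_ker] at hx ⊢
  rw [pow_succ', Module.End.mul_apply, hx, map_zero]

theorem kOn_le_finrank (N : Module.End F V) (M : Submodule F V) (l : ℕ) :
    kOn N M l ≤ finrank F ↥M :=
  Submodule.finrank_mono inf_le_left

theorem kOn_of_pow_eq_zero (N : Module.End F V) (M : Submodule F V) (l : ℕ)
    (h : ∀ x ∈ M, (N ^ l) x = 0) : kOn N M l = finrank F ↥M := by
  unfold kOn
  have : M ⊓ LinearMap.ker (N ^ l) = M := inf_eq_left.mpr (fun x hx => LinearMap.mem_ker.mpr (h x hx))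
  rw [this]

theorem pow_mem_of_inv {N : Module.End F V} {M : Submodule F V} (hM : Inv N M) (k : ℕ) :
    ∀ x ∈ M, (N ^ k) x ∈ M := by
  induction k with
  | zero => intro x hx; simpa using hx
  | succ k ih =>
    intro x hx
    rw [pow_succ', Module.End.mul_apply]
    exact hM _ (ih x hx)

/-- additivity of kernel dimensions over invariant direct sums -/
theorem kOn_sup (N : Module.End F V) (A M' : Submodule F V) (hA : Inv N A) (hM' : Inv N M')
    (hdis : Disjoint A M') (l : ℕ) : kOn N (A ⊔ M') l = kOn N A l + kOn N M' l := by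
  unfold kOn
  set K := LinearMap.ker (N ^ l) with hK
  have heq : (A ⊔ M') ⊓ K = (A ⊓ K) ⊔ (M' ⊓ K) := by
    apply le_antisymm
    · rintro x ⟨hx, hxK⟩
      obtain ⟨a, ha, m', hm', rfl⟩ := Submodule.mem_sup.mp hx
      have h1 : (N ^ l) a + (N ^ l) m' = 0 := by
        rw [← map_add]
        exact LinearMap.mem_ker.mp hxK
      have h2 : (N ^ l) a ∈ A := pow_mem_of_inv hA l a ha
      have h3 : (N ^ l) m' ∈ M' := pow_mem_of_inv hM' l m' hm'
      have h4 : (N ^ l) a = - (N ^ l) m' := eq_neg_of_add_eq_zero_left h1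
      have h5 : (N ^ l) a ∈ A ⊓ M' := ⟨h2, by rw [h4]; exact M'.neg_mem h3⟩
      rw [hdis.eq_bot, Submodule.mem_bot] at h5
      have h6 : (N ^ l) m' = 0 := by
        rw [h5, zero_add] at h1
        exact h1
      exact Submodule.add_mem_sup ⟨ha, LinearMap.mem_ker.mpr h5⟩ ⟨hm', LinearMap.mem_ker.mpr h6⟩
    · exact sup_le (inf_le_inf_right _ le_sup_left) (inf_le_inf_right _ le_sup_right)
  have hdis' : Disjoint (A ⊓ K) (M' ⊓ K) := hdis.mono inf_le_left inf_le_left
  rw [heq, Cfsg.Agent.Helper99.RDecomp.finrank_sup_of_disjoint hdis']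

end fd

/-! ### arithmetic of concave functions -/

theorem conc_eq (k : ℕ → ℕ) (s e : ℕ) (h0 : k 0 = 0)
    (hc : ∀ l, k (l + 2) + k l ≤ 2 * k (l + 1)) (hmono : ∀ l, k l ≤ k (l + 1))
    (hle : ∀ l, k l ≤ e * s) (he : k e = e * s) (h1 : k 1 ≤ s) : ∀ l, k l = s * min l e := by
  have hstep : ∀ l, k (l + 1) ≤ k l + s := by
    intro l
    induction l with
    | zero => rw [h0]; simpa using h1
    | succ l ih =>
      have := hc l
      have h2 : l + 1 + 1 = l + 2 := rfl
      rw [h2]
      omega
  have hupper : ∀ l, k l ≤ l * s := by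
    intro l
    induction l with
    | zero => rw [h0]; simp
    | succ l ih =>
      have := hstep l
      have h2 : (l + 1) * s = l * s + s := by ring
      omega
  have hlower : ∀ j, j ≤ e → k e ≤ k (e - j) + j * s := by
    intro j
    induction j with
    | zero => intro _; simp
    | succ j ih =>
      intro hj
      have h2 := ih (by omega)
      have h3 := hstep (e - (j + 1))
      have h4 : e - (j + 1) + 1 = e - j := by omega
      rw [h4] at h3
      have h5 : (j + 1) * s = j * s + s := by ring
      omega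
  have hmono' : Monotone k := monotone_nat_of_le_succ hmono
  intro l
  rcases le_total l e with hl | hl
  · rw [min_eq_left hl]
    have h2 := hlower (e - l) (by omega)
    have h3 : e - (e - l) = l := by omega
    rw [h3, he] at h2
    have h4 := hupper l
    have h5 : e * s = l * s + (e - l) * s := by
      rw [← add_mul]
      congr 1
      omega
    rw [mul_comm s l]
    omega
  · rw [min_eq_right hl]
    have h2 := hmono' hl
    have h3 := hle l
    rw [he] at h2
    rw [mul_comm s e]
    omega

theorem minSum_zero (l : ℕ) : minSum 0 l = 0 := by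
  simp [minSum]

theorem minSum_add (μ ν : Multiset ℕ) (l : ℕ) : minSum (μ + ν) l = minSum μ l + minSum ν l := by
  simp [minSum]

theorem minSum_replicate' (n b l : ℕ) : minSum (Multiset.replicate n b) l = n * min l b := by
  unfold minSum
  rw [Multiset.map_replicate, Multiset.sum_replicate, smul_eq_mul]

/-- a concave function is the kernel dimension function of a multiset -/
theorem exists_multiset_of_concave (k : ℕ → ℕ) (h0 : k 0 = 0)
    (hc : ∀ l, k (l + 2) + k l ≤ 2 * k (l + 1)) (L : ℕ) (hL : ∀ l, L ≤ l → k l = k L) :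
    ∃ μ : Multiset ℕ, (∀ b ∈ μ, 0 < b) ∧ ∀ l, minSum μ l = k l := by
  set c : ℕ → ℕ := fun j => 2 * k (j + 1) - k j - k (j + 2) with hcdef
  have hceq : ∀ j, c j + k j + k (j + 2) = 2 * k (j + 1) := by
    intro j
    have := hc j
    simp only [hcdef]
    omega
  set μ : ℕ → Multiset ℕ := fun M => ∑ j ∈ Finset.range M, Multiset.replicate (c j) (j + 1)
    with hμ
  have hpos : ∀ M, ∀ b ∈ μ M, 0 < b := by
    intro M b hb
    simp only [hμ] at hb
    rw [Multiset.mem_sum] at hb
    obtain ⟨j, _, hj⟩ := hb
    rw [Multiset.mem_replicate] at hj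
    omega
  have hS : ∀ M l, minSum (μ M) l = ∑ j ∈ Finset.range M, c j * min l (j + 1) := by
    intro M l
    induction M with
    | zero => simp [hμ, minSum_zero]
    | succ M ih =>
      have h1 : μ (M + 1) = μ M + Multiset.replicate (c M) (M + 1) := by
        simp only [hμ]
        rw [Finset.sum_range_succ]
      rw [h1, minSum_add, ih, minSum_replicate', Finset.sum_range_succ]
  have hid : ∀ M l, minSum (μ M) l + min l M * k (M + 1) = k (min l M) + min l M * k M := by
    intro M l
    induction M with
    | zero => simp [hS, h0]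
    | succ M ih =>
      rw [hS, Finset.sum_range_succ, ← hS]
      have h3 := hceq M
      have h4 : M + 1 + 1 = M + 2 := rfl
      rw [h4]
      rcases Nat.lt_or_ge M l with hl | hl
      · -- `M + 1 ≤ l`
        have e1 : min l M = M := min_eq_right (by omega)
        have e2 : min l (M + 1) = M + 1 := min_eq_right (by omega)
        rw [e1] at ih
        rw [e2]
        have h5 : c M * (M + 1) + k M * (M + 1) + k (M + 2) * (M + 1) =
            2 * k (M + 1) * (M + 1) := by
          rw [← h3]; ring
        nlinarith [ih, h5]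
      · -- `l ≤ M`
        have e1 : min l M = l := min_eq_left hl
        have e2 : min l (M + 1) = l := min_eq_left (by omega)
        rw [e1] at ih
        rw [e2]
        have h5 : c M * l + k M * l + k (M + 2) * l = 2 * k (M + 1) * l := by
          rw [← h3]; ring
        nlinarith [ih, h5]
  refine ⟨μ L, hpos L, ?_⟩
  intro l
  have h1 := hid L l
  have h2 : k (L + 1) = k L := hL _ (by omega)
  rw [h2] at h1
  have h3 : k (min l L) = k l := by
    rcases le_total l L with h | h
    · rw [min_eq_left h]
    · rw [min_eq_right h, hL l h]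
  omega

/-- uniqueness -/
theorem eq_of_minSum_eq (μ ν : Multiset ℕ) (hμ : ∀ b ∈ μ, 0 < b) (hν : ∀ b ∈ ν, 0 < b)
    (h : ∀ l, minSum μ l = minSum ν l) : μ = ν := by
  classical
  ext a
  rcases Nat.eq_zero_or_pos a with ha | ha
  · subst ha
    rw [Multiset.count_eq_zero_of_notMem (fun h0 => absurd (hμ 0 h0) (lt_irrefl 0)),
      Multiset.count_eq_zero_of_notMem (fun h0 => absurd (hν 0 h0) (lt_irrefl 0))]
  · obtain ⟨j, rfl⟩ : ∃ j, a = j + 1 := ⟨a - 1, by omega⟩
    have h1 := minSum_second_diff μ j
    have h2 := minSum_second_diff ν j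
    rw [h, h, h] at h1
    omega

end Cfsg.Agent.Helper99.SpNd
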