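import Mathlib
import Cfsg.Agent.Helper99.SpNdC
import Cfsg.Agent.Helper99.OrthJTC

/-!
# Atoms of a unipotent isometry of an alternating form (characteristic not two)
-/

set_option autoImplicit false
set_option linter.unusedSectionVars false

namespace Cfsg.Agent.Helper99.SpNd

open Module
open Cfsg.Agent.Helper99.SpStruct
open Cfsg.Agent.Helper43.JT Cfsg.Agent.Helper99.KdimSplit

universe u v

variable {F : Type u} [Field F] {V : Type v} [AddCommGroup V] [Module F V] [FiniteDimensional F V]

/-- kernel dimensions of a block -/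
theorem kOn_blockSub (B : LinearMap.BilinForm F V) (N : Module.End F V)
    (hiso : ∀ u v, B (u + N u) (v + N v) = B u v) (e' : ℕ) (U : Submodule F V)
    (hU : ∀ u ∈ U, (N ^ (e' + 1)) u = 0)
    (hnd : ∀ u ∈ U, u ≠ 0 → ∃ u' ∈ U, B u ((N ^ e') u') ≠ 0) (l : ℕ) :
    kOn N (blockSub N (e' + 1) U) l = finrank F ↥U * min l (e' + 1) := by
  have hfin := finrank_blockSub B N hiso e' U hU hnd
  have hinv := inv_blockSub N e' U hU
  refine conc_eq (kOn N (blockSub N (e' + 1) U)) (finrank F ↥U) (e' + 1) (kOn_zero _ _)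
    (kOn_concave N _ hinv) (kOn_le_succ N _) ?_ ?_ ?_ l
  · intro l
    rw [← hfin]
    exact kOn_le_finrank N _ l
  · rw [← hfin]
    exact kOn_of_pow_eq_zero N _ _ (pow_blockSub_eq_zero N e' U hU)
  · unfold kOn
    have hle : blockSub N (e' + 1) U ⊓ LinearMap.ker (N ^ 1) ≤ U.map (N ^ e') := by
      rintro y ⟨hy, hy'⟩
      rw [pow_one] at hy'
      exact ker_blockSub_le B N hiso e' U hU hnd y hy (LinearMap.mem_ker.mp hy')
    exact (Submodule.finrank_mono hle).trans (Submodule.finrank_map_le _ _)

/-- the Jordan type of an invariant subspace -/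
theorem exists_type (N : Module.End F V) (hnil : IsNilpotent N) (M : Submodule F V)
    (hM : Inv N M) :
    ∃ μ : Multiset ℕ, (∀ b ∈ μ, 0 < b) ∧ ∀ l, minSum μ l = kOn N M l := by
  obtain ⟨n, hn⟩ := hnil
  refine exists_multiset_of_concave (kOn N M) (kOn_zero _ _) (kOn_concave N M hM) n ?_
  intro l hl
  have h1 : ∀ l, n ≤ l → kOn N M l = finrank F ↥M := by
    intro l hl
    apply kOn_of_pow_eq_zero
    intro x _
    rw [pow_eq_zero_of_le hl hn, LinearMap.zero_apply]
  rw [h1 l hl, h1 n le_rfl]

theorem inv_one_add_iff (N : Module.End F V) (M : Submodule F V) :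
    Inv ((1 : Module.End F V) + N) M ↔ Inv N M := by
  constructor
  · intro h x hx
    have := h x hx
    rw [one_add_apply'] at this
    have h2 := M.sub_mem this hx
    rwa [add_sub_cancel_left] at h2
  · intro h x hx
    rw [one_add_apply']
    exact M.add_mem hx (h x hx)

/-- **atoms**: a nondegenerate invariant subspace contains a nondegenerate invariant block of
the top size (one block if the size is even, two if it is odd). -/
theorem exists_atom (h2 : (2 : F) ≠ 0) (B : LinearMap.BilinForm F V) (hB : B.IsAlt)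
    (N : Module.End F V) (hiso : ∀ u v, B (u + N u) (v + N v) = B u v)
    (M : Submodule F V) (hM : Inv N M) (hMnd : Nd B M) (e' : ℕ)
    (hNe : ∀ x ∈ M, (N ^ (e' + 1)) x = 0) (hne : ∃ x ∈ M, (N ^ e') x ≠ 0) :
    ∃ A : Submodule F V, A ≤ M ∧ Inv N A ∧ Nd B A ∧ ∃ s : ℕ,
      ((s = 1 ∧ Even (e' + 1)) ∨ (s = 2 ∧ Odd (e' + 1))) ∧
      finrank F ↥A = (e' + 1) * s ∧ ∀ l, kOn N A l = s * min l (e' + 1) := by
  -- the form `h u v = B u (N ^ e' v)`
  have hsymm : ∀ u ∈ M, ∀ v ∈ M, B v ((N ^ e') u) = (-1) ^ (e' + 1) * B u ((N ^ e') v) := by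
    intro u _ v hv
    have h1 : B v ((N ^ e') u) = - B ((N ^ e') u) v := by
      rw [← hB.neg_eq]
    rw [h1, form_pow_left B N hiso, form_one_add_pow_top B N hiso e' (hNe v hv), pow_succ]
    ring
  obtain ⟨x, hxM, hx⟩ := hne
  have hxM' : (N ^ e') x ∈ M := pow_mem_of_inv hM e' x hxM
  obtain ⟨w, hwM, hwx⟩ : ∃ w ∈ M, B w ((N ^ e') x) ≠ 0 := by
    by_contra hcon
    push Not at hcon
    exact hx ((nd_iff.mp hMnd) _ hxM' hcon)
  -- a general block lemma
  have hblock : ∀ U : Submodule F V, U ≤ M →
      (∀ u ∈ U, u ≠ 0 → ∃ u' ∈ U, B u ((N ^ e') u') ≠ 0) →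
      ∃ A : Submodule F V, A ≤ M ∧ Inv N A ∧ Nd B A ∧
        finrank F ↥A = (e' + 1) * finrank F ↥U ∧
        ∀ l, kOn N A l = finrank F ↥U * min l (e' + 1) := by
    intro U hUM hnd
    have hU : ∀ u ∈ U, (N ^ (e' + 1)) u = 0 := fun u hu => hNe u (hUM hu)
    exact ⟨blockSub N (e' + 1) U, blockSub_le N _ U M hUM hM, inv_blockSub N e' U hU,
      nd_blockSub B N hiso e' U hU hnd hB.isRefl, finrank_blockSub B N hiso e' U hU hnd,
      kOn_blockSub B N hiso e' U hU hnd⟩
  rcases Nat.even_or_odd (e' + 1) with hev | hodd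
  · -- even size: a single block
    have hs : ∀ u ∈ M, ∀ v ∈ M, B v ((N ^ e') u) = B u ((N ^ e') v) := by
      intro u hu v hv
      rw [hsymm u hu v hv, hev.neg_one_pow, one_mul]
    obtain ⟨u, huM, huu⟩ : ∃ u ∈ M, B u ((N ^ e') u) ≠ 0 := by
      by_contra hcon
      push Not at hcon
      have h1 := hcon (w + x) (M.add_mem hwM hxM)
      simp only [map_add, LinearMap.add_apply] at h1
      rw [hcon w hwM, hcon x hxM, hs w hwM x hxM] at h1
      have h3 : (2 : F) * B w ((N ^ e') x) = 0 := by linear_combination h1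
      rcases mul_eq_zero.mp h3 with h | h
      · exact h2 h
      · exact hwx h
    have hu0 : u ≠ 0 := by
      rintro rfl
      apply huu
      simp
    obtain ⟨A, hAM, hAinv, hAnd, hAdim, hAk⟩ := hblock (Submodule.span F {u})
      (by rw [Submodule.span_singleton_le_iff_mem]; exact huM)
      (by
        intro u' hu' hu'0
        obtain ⟨c, rfl⟩ := Submodule.mem_span_singleton.mp hu'
        have hc : c ≠ 0 := by
          rintro rfl
          apply hu'0
          simp
        refine ⟨u, Submodule.mem_span_singleton_self u, ?_⟩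
        rw [map_smul, LinearMap.smul_apply, smul_eq_mul]
        exact mul_ne_zero hc huu)
    rw [finrank_span_singleton hu0] at hAdim hAk
    exact ⟨A, hAM, hAinv, hAnd, 1, Or.inl ⟨rfl, hev⟩, hAdim, hAk⟩
  · -- odd size: a pair of blocks
    have hs : ∀ u ∈ M, ∀ v ∈ M, B v ((N ^ e') u) = - B u ((N ^ e') v) := by
      intro u hu v hv
      rw [hsymm u hu v hv, hodd.neg_one_pow, neg_one_mul]
    have hself : ∀ u ∈ M, B u ((N ^ e') u) = 0 := by
      intro u hu
      have h1 := hs u hu u hu
      have h3 : (2 : F) * B u ((N ^ e') u) = 0 := by linear_combination h1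
      rcases mul_eq_zero.mp h3 with h | h
      · exact absurd h h2
      · exact h
    have hxw : B x ((N ^ e') w) ≠ 0 := by
      rw [hs w hwM x hxM]
      exact neg_ne_zero.mpr hwx
    have hpair : ∀ α β : F, α • w + β • x = 0 → α = 0 ∧ β = 0 := by
      intro α β h0
      have h1 : B (α • w + β • x) ((N ^ e') x) = 0 := by rw [h0, map_zero, LinearMap.zero_apply]
      rw [map_add, map_smul, map_smul, LinearMap.add_apply, LinearMap.smul_apply,
        LinearMap.smul_apply, hself x hxM, smul_zero, add_zero, smul_eq_mul] at h1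
      have h3 : B (α • w + β • x) ((N ^ e') w) = 0 := by rw [h0, map_zero, LinearMap.zero_apply]
      rw [map_add, map_smul, map_smul, LinearMap.add_apply, LinearMap.smul_apply,
        LinearMap.smul_apply, hself w hwM, smul_zero, zero_add, smul_eq_mul] at h3
      constructor
      · rcases mul_eq_zero.mp h1 with h | h
        · exact h
        · exact absurd h hwx
      · rcases mul_eq_zero.mp h3 with h | h
        · exact h
        · exact absurd h hxw
    have hli : LinearIndependent F ![w, x] := by
      rw [LinearIndependent.pair_iff]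
      intro s t hst
      exact hpair s t hst
    have hrange : Set.range ![w, x] = {w, x} := by
      ext z
      simp only [Set.mem_range, Set.mem_insert_iff, Set.mem_singleton_iff]
      constructor
      · rintro ⟨j, rfl⟩
        fin_cases j
        · left; rfl
        · right; rfl
      · rintro (rfl | rfl)
        · exact ⟨0, rfl⟩
        · exact ⟨1, rfl⟩
    have hdimU : finrank F ↥(Submodule.span F {w, x}) = 2 := by
      rw [← hrange, finrank_span_eq_card hli, Fintype.card_fin]
    obtain ⟨A, hAM, hAinv, hAnd, hAdim, hAk⟩ := hblock (Submodule.span F {w, x})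
      (by
        rw [Submodule.span_le]
        rintro y (rfl | rfl)
        · exact hwM
        · exact hxM)
      (by
        intro u' hu' hu'0
        obtain ⟨α, β, rfl⟩ := Submodule.mem_span_pair.mp hu'
        by_cases hα : α = 0
        · have hβ : β ≠ 0 := by
            rintro rfl
            apply hu'0
            rw [hα, zero_smul, zero_smul, add_zero]
          refine ⟨w, Submodule.subset_span (by simp), ?_⟩
          rw [hα, zero_smul, zero_add, map_smul, LinearMap.smul_apply, smul_eq_mul]
          exact mul_ne_zero hβ hxw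
        · refine ⟨x, Submodule.subset_span (by simp), ?_⟩
          rw [map_add, map_smul, map_smul, LinearMap.add_apply, LinearMap.smul_apply,
            LinearMap.smul_apply, hself x hxM, smul_zero, add_zero, smul_eq_mul]
          exact mul_ne_zero hα hwx)
    rw [hdimU] at hAdim hAk
    exact ⟨A, hAM, hAinv, hAnd, 2, Or.inr ⟨rfl, hodd⟩, hAdim, hAk⟩

end Cfsg.Agent.Helper99.SpNd
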