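import Mathlib
import Cfsg.Agent.Helper99.SpNdD
import Cfsg.Agent.Helper43.JTForm

/-!
# Involutions of an alternating form in characteristic two: invariant nondegenerate subspaces
-/

set_option autoImplicit false
set_option linter.unusedSectionVars false

namespace Cfsg.Agent.Helper99.SpNd

open Module
open Cfsg.Agent.Helper99.SpStruct
open Cfsg.Agent.Helper43.JT Cfsg.Agent.Helper99.KdimSplit

universe u v

variable {F : Type u} [Field F] {V : Type v} [AddCommGroup V] [Module F V] [FiniteDimensional F V]

/-- symmetry of the top form when `N ^ 2 = 0` -/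
theorem form_sq_symm (B : LinearMap.BilinForm F V) (hB : B.IsAlt) (N : Module.End F V)
    (hiso : ∀ u v, B (u + N u) (v + N v) = B u v) (hN2 : N ^ 2 = 0) (u v : V) :
    B v (N u) = B u (N v) := by
  have h1 : B v (N u) = - B (N u) v := by rw [← hB.neg_eq]
  have h2 : N (N v) = 0 := by
    rw [← Module.End.mul_apply, ← pow_two, hN2, LinearMap.zero_apply]
  rw [h1, form_N_left B N hiso, neg_neg, map_add, LinearMap.add_apply, form_N_left B N hiso (u) (N v),
    h2, map_zero, neg_zero, add_zero]

/-- a block from a generating subspace, `N ^ 2 = 0` -/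
theorem exists_block_sq (B : LinearMap.BilinForm F V) (hB : B.IsAlt) (N : Module.End F V)
    (hiso : ∀ u v, B (u + N u) (v + N v) = B u v) (hN2 : N ^ 2 = 0)
    (M : Submodule F V) (hM : Inv N M) (U : Submodule F V) (hUM : U ≤ M)
    (hnd : ∀ u ∈ U, u ≠ 0 → ∃ u' ∈ U, B u (N u') ≠ 0) :
    ∃ A : Submodule F V, A ≤ M ∧ Inv N A ∧ Nd B A ∧ finrank F ↥A = 2 * finrank F ↥U := by
  have hU : ∀ u ∈ U, (N ^ (1 + 1)) u = 0 := by
    intro u _
    rw [show (1 : ℕ) + 1 = 2 from rfl, hN2, LinearMap.zero_apply]
  have hnd' : ∀ u ∈ U, u ≠ 0 → ∃ u' ∈ U, B u ((N ^ 1) u') ≠ 0 := by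
    intro u hu hu0
    obtain ⟨u', hu', h⟩ := hnd u hu hu0
    exact ⟨u', hu', by rwa [pow_one]⟩
  exact ⟨blockSub N (1 + 1) U, blockSub_le N _ U M hUM hM, inv_blockSub N 1 U hU,
    nd_blockSub B N hiso 1 U hU hnd' hB.isRefl, finrank_blockSub B N hiso 1 U hU hnd'⟩

/-- the induction for involutions in characteristic two -/
theorem exists_inv_nd_char_two (B : LinearMap.BilinForm F V) (hB : B.IsAlt)
    (N : Module.End F V) (hiso : ∀ u v, B (u + N u) (v + N v) = B u v) (hN2 : N ^ 2 = 0) :
    ∀ n : ℕ, ∀ M : Submodule F V, finrank F ↥M = n → Inv N M → Nd B M → ∀ j : ℕ, 2 * j ≤ n →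
      ¬ ((∀ v ∈ M, B v (N v) = 0) ∧ j % 2 = 1 ∧ n % 4 = 0) →
      ∃ W : Submodule F V, W ≤ M ∧ Inv N W ∧ Nd B W ∧ finrank F ↥W = 2 * j := by
  classical
  have hnil : IsNilpotent N := ⟨2, hN2⟩
  set X : Module.End F V := 1 + N with hX
  have hXB : ∀ u v, B (X u) (X v) = B u v := by
    intro u v
    rw [hX, one_add_apply', one_add_apply']
    exact hiso u v
  have hinj : Function.Injective X := by
    have hu : IsUnit X := by
      rw [hX, add_comm]
      exact hnil.isUnit_add_one
    exact ((Module.End.isUnit_iff X).mp hu).injective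
  intro n
  induction n using Nat.strong_induction_on with
  | _ n ih =>
    intro M hMn hM hMnd j hj hexc
    rcases Nat.eq_zero_or_pos j with hj0 | hjpos
    · exact ⟨⊥, bot_le, inv_bot N, nd_bot, by rw [hj0, finrank_bot]⟩
    have hMX : Inv X M := (inv_one_add_iff N M).mpr hM
    have hMeven : Even n := by
      rw [← hMn]
      exact even_finrank hB hMnd
    -- splitting off an atom `A`
    have hsplit : ∀ A : Submodule F V, A ≤ M → Inv N A → Nd B A →
        Inv N (M ⊓ B.orthogonal A) ∧ Nd B (M ⊓ B.orthogonal A) ∧
          finrank F ↥A + finrank F ↥(M ⊓ B.orthogonal A) = n := by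
      intro A hAM hAinv hAnd
      obtain ⟨h1, h2, h3⟩ := split_atom hB.isRefl hXB hinj hMX hMnd hAM
        ((inv_one_add_iff N A).mpr hAinv) hAnd
      exact ⟨(inv_one_add_iff N _).mp h1, h2, by rw [h3, hMn]⟩
    have hglue : ∀ A : Submodule F V, A ≤ M → Inv N A → Nd B A →
        ∀ W' : Submodule F V, W' ≤ M ⊓ B.orthogonal A → Inv N W' → Nd B W' →
          finrank F ↥A + finrank F ↥W' = 2 * j →
          ∃ W : Submodule F V, W ≤ M ∧ Inv N W ∧ Nd B W ∧ finrank F ↥W = 2 * j := by
      intro A hAM hAinv hAnd W' hW'le hW'inv hW'nd hdim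
      obtain ⟨g1, g2, g3, g4⟩ := glue_atom hB.isRefl hAM ((inv_one_add_iff N A).mpr hAinv) hAnd
        hW'le ((inv_one_add_iff N W').mpr hW'inv) hW'nd
      exact ⟨A ⊔ W', g1, (inv_one_add_iff N _).mp g2, g3, by rw [g4, hdim]⟩
    by_cases hb : ∃ v ∈ M, B v (N v) ≠ 0
    · -- a plane `⟨v, N v⟩`
      obtain ⟨v, hvM, hv⟩ := hb
      have hv0 : v ≠ 0 := by
        rintro rfl
        apply hv
        simp
      obtain ⟨A, hAM, hAinv, hAnd, hAdim⟩ := exists_block_sq B hB N hiso hN2 M hM
        (Submodule.span F {v}) (by rw [Submodule.span_singleton_le_iff_mem]; exact hvM)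
        (by
          intro u' hu' hu'0
          obtain ⟨c, rfl⟩ := Submodule.mem_span_singleton.mp hu'
          have hc : c ≠ 0 := by
            rintro rfl
            apply hu'0
            simp
          refine ⟨v, Submodule.mem_span_singleton_self v, ?_⟩
          rw [map_smul, LinearMap.smul_apply, smul_eq_mul]
          exact mul_ne_zero hc hv)
      rw [finrank_span_singleton hv0] at hAdim
      obtain ⟨hM'inv, hM'nd, hM'dim⟩ := hsplit A hAM hAinv hAnd
      set M' := M ⊓ B.orthogonal A with hM'
      have hlt : finrank F ↥M' < n := by omega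
      by_cases hexc' : (∀ v ∈ M', B v (N v) = 0) ∧ (j - 1) % 2 = 1 ∧ finrank F ↥M' % 4 = 0
      · -- take the subspace inside `M'`
        obtain ⟨W, hWle, hWinv, hWnd, hWdim⟩ := ih _ hlt M' rfl hM'inv hM'nd j (by omega)
          (by
            rintro ⟨_, h2, _⟩
            omega)
        exact ⟨W, hWle.trans inf_le_left, hWinv, hWnd, hWdim⟩
      · obtain ⟨W', hW'le, hW'inv, hW'nd, hW'dim⟩ := ih _ hlt M' rfl hM'inv hM'nd (j - 1)
          (by omega) hexc'
        exact hglue A hAM hAinv hAnd W' hW'le hW'inv hW'nd (by rw [hAdim, hW'dim]; omega)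
    · push Not at hb
      by_cases hN0 : ∀ x ∈ M, N x = 0
      · -- `N` vanishes on `M`
        obtain ⟨W, hWle, hWnd, hWdim⟩ := exists_nd_sub hB j M hMnd (by rw [hMn]; exact hj)
        refine ⟨W, hWle, ?_, hWnd, hWdim⟩
        intro x hx
        rw [hN0 x (hWle hx)]
        exact Submodule.zero_mem _
      · push Not at hN0
        obtain ⟨u, huM, hu⟩ := hN0
        have hNuM : N u ∈ M := hM u huM
        obtain ⟨w, hwM, hwu⟩ : ∃ w ∈ M, B w (N u) ≠ 0 := by
          by_contra hcon
          push Not at hcon
          exact hu ((nd_iff.mp hMnd) _ hNuM hcon)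
        have huw : B u (N w) ≠ 0 := by
          rw [form_sq_symm B hB N hiso hN2 w u]
          exact hwu
        have hpair : ∀ α β : F, α • w + β • u = 0 → α = 0 ∧ β = 0 := by
          intro α β h0
          have h1 : B (α • w + β • u) (N u) = 0 := by rw [h0, map_zero, LinearMap.zero_apply]
          rw [map_add, map_smul, map_smul, LinearMap.add_apply, LinearMap.smul_apply,
            LinearMap.smul_apply, hb u huM, smul_zero, add_zero, smul_eq_mul] at h1
          have h3 : B (α • w + β • u) (N w) = 0 := by rw [h0, map_zero, LinearMap.zero_apply]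
          rw [map_add, map_smul, map_smul, LinearMap.add_apply, LinearMap.smul_apply,
            LinearMap.smul_apply, hb w hwM, smul_zero, zero_add, smul_eq_mul] at h3
          constructor
          · rcases mul_eq_zero.mp h1 with h | h
            · exact h
            · exact absurd h hwu
          · rcases mul_eq_zero.mp h3 with h | h
            · exact h
            · exact absurd h huw
        have hli : LinearIndependent F ![w, u] := by
          rw [LinearIndependent.pair_iff]
          intro s t hst
          exact hpair s t hst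
        have hrange : Set.range ![w, u] = {w, u} := by
          ext z
          simp only [Set.mem_range, Set.mem_insert_iff, Set.mem_singleton_iff]
          constructor
          · rintro ⟨j, rfl⟩
            fin_cases j
            · left; rfl
            · right; rfl
          · rintro (rfl | rfl)
            · exact ⟨0, rfl⟩
            · exact ⟨1, rfl⟩
        have hdimU : finrank F ↥(Submodule.span F {w, u}) = 2 := by
          rw [← hrange, finrank_span_eq_card hli, Fintype.card_fin]
        obtain ⟨A, hAM, hAinv, hAnd, hAdim⟩ := exists_block_sq B hB N hiso hN2 M hM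
          (Submodule.span F {w, u})
          (by
            rw [Submodule.span_le]
            rintro y (rfl | rfl)
            · exact hwM
            · exact huM)
          (by
            intro u' hu' hu'0
            obtain ⟨α, β, rfl⟩ := Submodule.mem_span_pair.mp hu'
            by_cases hα : α = 0
            · have hβ : β ≠ 0 := by
                rintro rfl
                apply hu'0
                rw [hα, zero_smul, zero_smul, add_zero]
              refine ⟨w, Submodule.subset_span (by simp), ?_⟩
              rw [hα, zero_smul, zero_add, map_smul, LinearMap.smul_apply, smul_eq_mul]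
              exact mul_ne_zero hβ huw
            · refine ⟨u, Submodule.subset_span (by simp), ?_⟩
              rw [map_add, map_smul, map_smul, LinearMap.add_apply, LinearMap.smul_apply,
                LinearMap.smul_apply, hb u huM, smul_zero, add_zero, smul_eq_mul]
              exact mul_ne_zero hα hwu)
        rw [hdimU] at hAdim
        obtain ⟨hM'inv, hM'nd, hM'dim⟩ := hsplit A hAM hAinv hAnd
        set M' := M ⊓ B.orthogonal A with hM'
        have hlt : finrank F ↥M' < n := by omega
        have hbM' : ∀ v ∈ M', B v (N v) = 0 := fun v hv => hb v hv.1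
        have hM'even : Even (finrank F ↥M') := even_finrank hB hM'nd
        have hnexc : ¬ (j % 2 = 1 ∧ n % 4 = 0) := fun h => hexc ⟨hb, h⟩
        rcases Nat.lt_or_ge j 2 with hj1 | hj2
        · -- `j = 1`: a plane inside `M'`
          have hj1' : j = 1 := by omega
          have hn4 : n % 4 ≠ 0 := by
            intro h
            exact hnexc ⟨by omega, h⟩
          obtain ⟨a, ha⟩ := hM'even
          obtain ⟨W, hWle, hWinv, hWnd, hWdim⟩ := ih _ hlt M' rfl hM'inv hM'nd j (by omega)
            (by
              rintro ⟨_, _, h3⟩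
              omega)
          exact ⟨W, hWle.trans inf_le_left, hWinv, hWnd, hWdim⟩
        · obtain ⟨W', hW'le, hW'inv, hW'nd, hW'dim⟩ := ih _ hlt M' rfl hM'inv hM'nd (j - 2)
            (by omega)
            (by
              rintro ⟨_, h2, h3⟩
              apply hnexc
              omega)
          exact hglue A hAM hAinv hAnd W' hW'le hW'inv hW'nd (by rw [hAdim, hW'dim]; omega)

/-- the restriction of the form to a nondegenerate subspace is nondegenerate -/
theorem nondegenerate_restrict_of_nd (B : LinearMap.BilinForm F V) (hB : B.IsRefl)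
    (W : Submodule F V) (hW : Nd B W) : (B.restrict W).Nondegenerate := by
  have hrefl : (B.restrict W).IsRefl := fun a b hab => hB _ _ hab
  refine (LinearMap.IsRefl.nondegenerate_iff_separatingLeft hrefl).mpr ?_
  intro x hx
  have h1 : (x : V) = 0 := by
    apply (nd_iff.mp hW) x x.2
    intro w hw
    exact hB _ _ (hx ⟨w, hw⟩)
  exact Subtype.ext h1

/-- **the bad involutions**: if `B v (N v) = 0` for all `v` and `ker N = im N`, all invariant
nondegenerate subspaces have dimension divisible by four. -/
theorem four_dvd_of_a_type (B : LinearMap.BilinForm F V) (hB : B.IsAlt)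
    (N : Module.End F V) (hiso : ∀ u v, B (u + N u) (v + N v) = B u v) (hN2 : N ^ 2 = 0)
    (htau : ∀ v, B v (N v) = 0) (hker : 2 * kdim N 1 = finrank F V)
    (W : Submodule F V) (hW : Inv N W) (hWnd : Nd B W) : 4 ∣ finrank F ↥W := by
  classical
  have hnil : IsNilpotent N := ⟨2, hN2⟩
  set X : Module.End F V := 1 + N with hX
  have hXB : ∀ u v, B (X u) (X v) = B u v := by
    intro u v
    rw [hX, one_add_apply', one_add_apply']
    exact hiso u v
  have hinj : Function.Injective X := by
    have hu : IsUnit X := by
      rw [hX, add_comm]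
      exact hnil.isUnit_add_one
    exact ((Module.End.isUnit_iff X).mp hu).injective
  have hW'inv : Inv N (B.orthogonal W) :=
    (inv_one_add_iff N _).mp (((inv_one_add_iff N W).mpr hW).orth hXB hinj)
  have hcompl := hWnd.isCompl hB.isRefl
  have hadd : kdim N 1 = kOn N W 1 + kOn N (B.orthogonal W) 1 := by
    rw [← kOn_top, ← hcompl.sup_eq_top]
    exact kOn_sup N W _ hW hW'inv hcompl.disjoint 1
  have hfin := Submodule.finrank_add_eq_of_isCompl hcompl
  have hsq : ∀ M : Submodule F V, kOn N M 2 = finrank F ↥M := by
    intro M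
    apply kOn_of_pow_eq_zero
    intro x _
    rw [hN2, LinearMap.zero_apply]
  have h1 := kOn_concave N W hW 0
  have h2 := kOn_concave N _ hW'inv 0
  rw [kOn_zero, zero_add, hsq] at h1 h2
  have hWk : finrank F ↥W = 2 * kOn N W 1 := by
    have : (0 : ℕ) + 1 = 1 := rfl
    rw [this] at h1 h2
    omega
  -- the rank of `N` on `W` is even
  have hres := nondegenerate_restrict_of_nd B hB.isRefl W hWnd
  have hev := even_finrank_range_of_alt (B.restrict W) hres (N.restrict hW)
    (fun x => htau (x : V))
  have h3 := LinearMap.finrank_range_add_finrank_ker (N.restrict hW)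
  have h4 : finrank F ↥(LinearMap.ker (N.restrict hW)) = kOn N W 1 := by
    rw [kOn_eq_kdim N W hW]
    unfold kdim
    rw [pow_one]
  rw [h4] at h3
  obtain ⟨a, ha⟩ := hev
  exact ⟨a, by omega⟩

end Cfsg.Agent.Helper99.SpNd
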