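import Mathlib

/-!
# Arithmetic predicates for S5974 (`PΩ⁺_{2d}(q)` on hyperbolic `m`-spaces)
-/

set_option autoImplicit false

namespace Cfsg.Agent.Helper99.QSp

/-- the consequence of `r ∣ #Ω` in terms of `i` -/
def Star (i d e : ℕ) : Prop :=
  ∃ k : ℕ, k < e ∧ (i ∣ d - k ∨ (i ∣ 2 * (d - k - 1) ∧ ¬ i ∣ d - k - 1))

/-- the right hand side of S5974 for even `i` -/
def EvenRHS (i c d m : ℕ) : Prop :=
  ((2 * d) % c = 0 ∧ (Odd ((2 * d) / i) ∨ (m % c = 0 ∧ Even (m / i)))) ∨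
    (i ≤ m ∧ ((m % c < (2 * d) % c ∧ 0 < m % c) ∨
      ((2 * d) % c = m % c ∧ 0 < m % c ∧ Even ((2 * d + m - 2 * ((2 * d) % c)) / i)) ∨
      (0 < (2 * d) % c ∧ m % c = 0 ∧ Even (m / i))))

end Cfsg.Agent.Helper99.QSp
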