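import Mathlib
import Cfsg.Agent.Helper99.QSpDefs
import Cfsg.Agent.Helper94.TnD

/-!
# The structure of an isometry of odd prime order of a quadratic space, characteristic free
(assembly of helper94's `OSetup` for `2 ≠ 0` and of `SpSetup` for `2 = 0`).
-/

set_option autoImplicit false
set_option linter.unusedSectionVars false

namespace Cfsg.Agent.Helper99.QSpB

open Module Polynomial
open Cfsg.Agent.Helper59.InvChain Cfsg.Agent.Helper59.Elusive
open Cfsg.Agent.Helper99.SpStruct Cfsg.Agent.Helper99.RDecomp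
open Cfsg.Agent.Helper99.QSp
open Cfsg.Agent.Helper94.Ts Cfsg.Agent.Helper94.Tn

universe u v

variable {F : Type u} [Field F] [Fintype F]
variable {V : Type v} [AddCommGroup V] [Module F V] [FiniteDimensional F V]
variable {Q : QuadraticForm F V} {r : ℕ} {y : Module.End F V}

theorem oSetup_of_qSetup (h : QSetup Q r y) :
    OSetup (pB Q) r y (orderOf ((Fintype.card F : ℕ) : ZMod r)) where
  symm := pB_symm Q
  nondeg := h.nondeg
  isom := isom_pB h.iso
  setup := h.setup
  hp := h.hp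
  odd := h.odd

theorem spSetup_of_qSetup (h : QSetup Q r y) (h2 : (2 : F) = 0) :
    SpSetup (pB Q) r y (orderOf ((Fintype.card F : ℕ) : ZMod r)) where
  alt := by
    intro x
    rw [pB_self, h2, zero_mul]
  nondeg := h.nondeg
  isom := isom_pB h.iso
  setup := h.setup
  hp := h.hp

theorem inv_orthogonal (h : QSetup Q r y) {W : Submodule F V} (hW : Inv y W) :
    Inv y ((pB Q).orthogonal W) :=
  (oSetup_of_qSetup h).inv_orthogonal hW

theorem orth_fix_cyc (h : QSetup Q r y) : Orth (pB Q) (fixSp y) (cycSp r y) :=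
  (oSetup_of_qSetup h).orth_fix_cyc

theorem nd_fix (h : QSetup Q r y) : Nd (pB Q) (fixSp y) :=
  (oSetup_of_qSetup h).nd_fix

theorem nd_cyc (h : QSetup Q r y) : Nd (pB Q) (cycSp r y) :=
  (oSetup_of_qSetup h).nd_cyc

theorem nd_inf_fix (h : QSetup Q r y) {W : Submodule F V} (hWinv : Inv y W)
    (hW : Nd (pB Q) W) : Nd (pB Q) (W ⊓ fixSp y) :=
  (oSetup_of_qSetup h).nd_inf_fix hWinv hW

theorem nd_inf_cyc (h : QSetup Q r y) {W : Submodule F V} (hWinv : Inv y W)
    (hW : Nd (pB Q) W) : Nd (pB Q) (W ⊓ cycSp r y) :=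
  (oSetup_of_qSetup h).nd_inf_cyc hWinv hW

theorem blockSize_dvd (h : QSetup Q r y) {W : Submodule F V} (hWinv : Inv y W)
    (hW : Nd (pB Q) W) (hWc : W ≤ cycSp r y) :
    blockSize (orderOf ((Fintype.card F : ℕ) : ZMod r)) ∣ finrank F ↥W :=
  (oSetup_of_qSetup h).blockSize_dvd hWinv hW hWc

theorem exists_block (h : QSetup Q r y) {W : Submodule F V} (hWinv : Inv y W)
    (hW : Nd (pB Q) W) (hWc : W ≤ cycSp r y) (hne : W ≠ ⊥) :
    ∃ N : Submodule F V, N ≤ W ∧ Inv y N ∧ Nd (pB Q) N ∧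
      finrank F ↥N = blockSize (orderOf ((Fintype.card F : ℕ) : ZMod r)) := by
  by_cases h2 : (2 : F) = 0
  · exact (spSetup_of_qSetup h h2).exists_block h.odd W hWinv hW hWc hne
  · exact exists_nd_block (oSetup_of_qSetup h) h2 hWinv hW hWc hne

theorem exists_blocks (h : QSetup Q r y) (j : ℕ) {W : Submodule F V} (hWinv : Inv y W)
    (hW : Nd (pB Q) W) (hWc : W ≤ cycSp r y)
    (hj : j * blockSize (orderOf ((Fintype.card F : ℕ) : ZMod r)) ≤ finrank F ↥W) :
    ∃ N : Submodule F V, N ≤ W ∧ Inv y N ∧ Nd (pB Q) N ∧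
      finrank F ↥N = j * blockSize (orderOf ((Fintype.card F : ℕ) : ZMod r)) := by
  set c := blockSize (orderOf ((Fintype.card F : ℕ) : ZMod r)) with hc
  have hcpos : 0 < c := blockSize_pos h.setup.c_pos
  have hrefl : (pB Q).IsRefl := pB_refl Q
  induction j with
  | zero => exact ⟨⊥, bot_le, inv_bot y, nd_bot, by simp⟩
  | succ j ih =>
    have e1 : (j + 1) * c = j * c + c := by ring
    obtain ⟨X, hXW, hXinv, hXnd, hXdim⟩ := ih (by omega)
    have hYnd := hXnd.inf_orth hrefl hXW hW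
    have hYdim := hXnd.finrank_inf_orth hrefl hXW (M := W)
    have hYinv : Inv y (W ⊓ (pB Q).orthogonal X) := inv_inf hWinv (inv_orthogonal h hXinv)
    have hYne : W ⊓ (pB Q).orthogonal X ≠ ⊥ := by
      intro h0
      rw [h0, finrank_bot] at hYdim
      omega
    obtain ⟨N, hNY, hNinv, hNnd, hNdim⟩ :=
      exists_block h hYinv hYnd (inf_le_left.trans hWc) hYne
    have horth : Orth (pB Q) X N :=
      (orth_inf_orth (B := pB Q) (C := X) (M := W)).mono le_rfl hNY
    refine ⟨X ⊔ N, sup_le hXW (hNY.trans inf_le_left), inv_sup hXinv hNinv,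
      hXnd.sup hrefl hNnd horth, ?_⟩
    rw [finrank_sup_of_disjoint (horth.disjoint hXnd), hXdim, hNdim, e1]

end Cfsg.Agent.Helper99.QSpB
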