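import Mathlib
import Cfsg.Agent.Helper99.QSpDefs
import Cfsg.Agent.Helper94.TnJ
import Cfsg.Agent.Helper94.OrD4
import Cfsg.Agent.Helper44.OrthRealizeE
import Cfsg.Agent.Helper43.OrthInvI
import Cfsg.Agent.Helper99.QSpArithDefs
import Cfsg.Agent.Helper12.QSpQA1
import Cfsg.Agent.Helper12.QSpQH1d
import Cfsg.Agent.Helper38.QSpQH1b
import Cfsg.Agent.Helper4.QSpQE3
import Cfsg.Agent.Helper41.QSpQE1
import Cfsg.Agent.Helper44.QSpQA2
import Cfsg.Agent.Helper45.QSpQB2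
import Cfsg.Agent.Helper79.QSpQCCore
import Cfsg.Agent.Helper45.QSpQH2
import Cfsg.Agent.Helper99.QSpQB1
import Cfsg.Agent.Helper45.QSpQH2d
import Cfsg.Agent.Helper44.QSpQD
import Cfsg.Agent.Helper41.QSpQH1c
import Cfsg.Agent.Helper68.QSpQF2
import Cfsg.Agent.Helper49.QSpQF0
import Cfsg.Agent.Helper49.QSpQF1

/-! Glue for S5974 (helper99): the pieces proved by helper4, helper12, helper38, helper41, helper44,
helper45, helper49, helper68, helper79 under one namespace, with uniform names. -/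

set_option autoImplicit false
set_option linter.unusedSectionVars false
set_option linter.unusedVariables false

namespace Cfsg.Agent.Helper99.QSpGlue

open Module Polynomial
open Cfsg.Agent.Helper59.InvChain Cfsg.Agent.Helper59.Elusive
open Cfsg.Agent.Helper99.SpStruct Cfsg.Agent.Helper99.RDecomp
open Cfsg.Agent.Helper44 Cfsg.Agent.Helper44.QType
open Cfsg.Agent.Helper99.QSp

universe u v

variable {F : Type u} [Field F] [Fintype F]
variable {V : Type v} [AddCommGroup V] [Module F V] [FiniteDimensional F V]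

/-! ## (QA) types of subspaces, characteristic free -/

/-- (QA1) hyperbolic = type `+` -/
theorem hyp_iff_qType (Q : QuadraticForm F V) {W : Submodule F V} (hW : Nd (pB Q) W) {e : ℕ}
    (hdim : finrank F ↥W = 2 * e) : Hyp Q W ↔ QType Q W e 1 :=
  Cfsg.Agent.Helper12.QSp.hyp_iff_qType Q hW hdim

/-- (QA2) subspaces of every smaller even dimension and of both types -/
theorem exists_typed_sub (Q : QuadraticForm F V) {X : Submodule F V} (hX : Nd (pB Q) X) {g t : ℕ}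
    (hdim : finrank F ↥X = 2 * g) (ht : t < g) (ε : ℤ) (hε : ε = 1 ∨ (ε = -1 ∧ 0 < t)) :
    ∃ W : Submodule F V, W ≤ X ∧ Nd (pB Q) W ∧ finrank F ↥W = 2 * t ∧ QType Q W t ε :=
  Cfsg.Agent.Helper44.QSp.exists_typed_sub Q hX hdim ht ε hε

/-! ## (QB) the structure of an isometry of odd prime order `r ≠ p` -/

variable {Q : QuadraticForm F V} {r : ℕ} {y : Module.End F V}

/-- (QB1) -/
theorem QSetup.inv_orthogonal (h : QSetup Q r y) {W : Submodule F V} (hW : Inv y W) :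
    Inv y ((pB Q).orthogonal W) :=
  Cfsg.Agent.Helper99.QSpB.inv_orthogonal h hW

theorem QSetup.orth_fix_cyc (h : QSetup Q r y) : Orth (pB Q) (fixSp y) (cycSp r y) :=
  Cfsg.Agent.Helper99.QSpB.orth_fix_cyc h

theorem QSetup.nd_fix (h : QSetup Q r y) : Nd (pB Q) (fixSp y) :=
  Cfsg.Agent.Helper99.QSpB.nd_fix h

theorem QSetup.nd_cyc (h : QSetup Q r y) : Nd (pB Q) (cycSp r y) :=
  Cfsg.Agent.Helper99.QSpB.nd_cyc h

theorem QSetup.nd_inf_fix (h : QSetup Q r y) {W : Submodule F V} (hWinv : Inv y W)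
    (hW : Nd (pB Q) W) : Nd (pB Q) (W ⊓ fixSp y) :=
  Cfsg.Agent.Helper99.QSpB.nd_inf_fix h hWinv hW

theorem QSetup.nd_inf_cyc (h : QSetup Q r y) {W : Submodule F V} (hWinv : Inv y W)
    (hW : Nd (pB Q) W) : Nd (pB Q) (W ⊓ cycSp r y) :=
  Cfsg.Agent.Helper99.QSpB.nd_inf_cyc h hWinv hW

theorem QSetup.blockSize_dvd (h : QSetup Q r y) {W : Submodule F V} (hWinv : Inv y W)
    (hW : Nd (pB Q) W) (hWc : W ≤ cycSp r y) :
    blockSize (orderOf ((Fintype.card F : ℕ) : ZMod r)) ∣ finrank F ↥W :=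
  Cfsg.Agent.Helper99.QSpB.blockSize_dvd h hWinv hW hWc

theorem QSetup.exists_blocks (h : QSetup Q r y) (j : ℕ) {W : Submodule F V} (hWinv : Inv y W)
    (hW : Nd (pB Q) W) (hWc : W ≤ cycSp r y)
    (hj : j * blockSize (orderOf ((Fintype.card F : ℕ) : ZMod r)) ≤ finrank F ↥W) :
    ∃ N : Submodule F V, N ≤ W ∧ Inv y N ∧ Nd (pB Q) N ∧
      finrank F ↥N = j * blockSize (orderOf ((Fintype.card F : ℕ) : ZMod r)) :=
  Cfsg.Agent.Helper99.QSpB.exists_blocks h j hWinv hW hWc hj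

/-- (QB2) a fixed point free isometry of order `r` determines the type modulo `r` -/
theorem QSetup.qType_cyc (h : QSetup Q r y) (hrq : ¬ r ∣ Fintype.card F) {W : Submodule F V}
    (hWinv : Inv y W) (hW : Nd (pB Q) W) (hWc : W ≤ cycSp r y) {e : ℕ}
    (hdim : finrank F ↥W = 2 * e) {ε : ℤ} (hε : QType Q W e ε) :
    ((Fintype.card F : ℕ) : ZMod r) ^ e = ((ε : ℤ) : ZMod r) :=
  Cfsg.Agent.Helper45.QSp.qType_cyc h hrq hWinv hW hWc hdim hε

/-- (QB2) `j` blocks have type `bsign i j` -/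
theorem QSetup.qType_blocks (h : QSetup Q r y) (hrq : ¬ r ∣ Fintype.card F) {W : Submodule F V}
    (hWinv : Inv y W) (hW : Nd (pB Q) W) (hWc : W ≤ cycSp r y) {j e : ℕ}
    (hdim : finrank F ↥W = j * blockSize (orderOf ((Fintype.card F : ℕ) : ZMod r)))
    (hdim2 : finrank F ↥W = 2 * e) :
    QType Q W e (bsign (orderOf ((Fintype.card F : ℕ) : ZMod r)) j) :=
  Cfsg.Agent.Helper45.QSp.qType_blocks h hrq hWinv hW hWc hdim hdim2

theorem QSetup.deps (h : QSetup Q r y) (hrq : ¬ r ∣ Fintype.card F) :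
    Cfsg.Agent.Helper79.QSp.Deps Q r y where
  typed_sub := fun hX _ _ hdim ht ε hε => exists_typed_sub Q hX hdim ht ε hε
  orth_fix_cyc := QSetup.orth_fix_cyc h
  nd_fix := QSetup.nd_fix h
  nd_cyc := QSetup.nd_cyc h
  nd_inf_fix := fun hWinv hW => QSetup.nd_inf_fix h hWinv hW
  nd_inf_cyc := fun hWinv hW => QSetup.nd_inf_cyc h hWinv hW
  blockSize_dvd := fun hWinv hW hWc => QSetup.blockSize_dvd h hWinv hW hWc
  exists_blocks := fun j _ hWinv hW hWc hj => QSetup.exists_blocks h j hWinv hW hWc hj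
  qType_blocks := fun hWinv hW hWc _ _ hdim hdim2 =>
    QSetup.qType_blocks h hrq hWinv hW hWc hdim hdim2

/-- (QC) the number of blocks of `y` is admissible -/
theorem QSetup.admissible (h : QSetup Q r y) (hrq : ¬ r ∣ Fintype.card F) {d : ℕ}
    (hV : finrank F V = 2 * d) {εV : ℤ} (hεV : QType Q ⊤ d εV) {b : ℕ}
    (hb : finrank F ↥(cycSp r y) = b * blockSize (orderOf ((Fintype.card F : ℕ) : ZMod r))) :
    b * blockSize (orderOf ((Fintype.card F : ℕ) : ZMod r)) ≤ 2 * d ∧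
      (b * blockSize (orderOf ((Fintype.card F : ℕ) : ZMod r)) = 2 * d →
        bsign (orderOf ((Fintype.card F : ℕ) : ZMod r)) b = εV) ∧ (y ≠ 1 → 1 ≤ b) :=
  Cfsg.Agent.Helper79.QSp.admissible_of_deps h (QSetup.deps h hrq) hV hεV hb

/-- (QC) the criterion for one element -/
theorem QSetup.exists_inv_typed_iff (h : QSetup Q r y) (hrq : ¬ r ∣ Fintype.card F) {d : ℕ}
    (hV : finrank F V = 2 * d) {εV : ℤ} (hεV : QType Q ⊤ d εV) {b : ℕ}
    (hb : finrank F ↥(cycSp r y) = b * blockSize (orderOf ((Fintype.card F : ℕ) : ZMod r)))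
    {e : ℕ} {ε : ℤ} (hε : ε = 1 ∨ ε = -1) :
    (∃ W : Submodule F V, Inv y W ∧ Nd (pB Q) W ∧ finrank F ↥W = 2 * e ∧ QType Q W e ε) ↔
      Crit (orderOf ((Fintype.card F : ℕ) : ZMod r))
        (blockSize (orderOf ((Fintype.card F : ℕ) : ZMod r))) d e b εV ε :=
  Cfsg.Agent.Helper79.QSp.exists_inv_typed_iff_of_deps h (QSetup.deps h hrq) hV hεV hb hε

/-! ## (QD) test elements -/

/-- (QD) an element of order `r` of `O⁺_{2d}(F)` with `k` blocks -/
theorem exists_plus_elt {p : ℕ} [Fact p.Prime] [CharP F p] (d r : ℕ) [Fact r.Prime] (hrp : r ≠ p)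
    (hr2 : r ≠ 2) (k : ℕ) (hk : 0 < k)
    (hkc : k * blockSize (orderOf ((Fintype.card F : ℕ) : ZMod r)) ≤ 2 * d)
    (hsign : k * blockSize (orderOf ((Fintype.card F : ℕ) : ZMod r)) = 2 * d →
      bsign (orderOf ((Fintype.card F : ℕ) : ZMod r)) k = 1) :
    ∃ y : ↥(Cfsg.isometryGroup F (Cfsg.quadFormPlus d F)), orderOf y = r ∧
      finrank F ↥(fixSp (Matrix.toLin' ((y : GL (Fin d ⊕ Fin d) F) :
        Matrix (Fin d ⊕ Fin d) (Fin d ⊕ Fin d) F))) =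
        2 * d - k * blockSize (orderOf ((Fintype.card F : ℕ) : ZMod r)) :=
  Cfsg.Agent.Helper44.QSp.exists_plus_elt d r hrp hr2 k hk hkc hsign

/-! ## (QE) counting hyperbolic frames -/

/-- (QE1) the number of hyperbolic pairs of a nondegenerate `2g`-space of type `ε` -/
theorem card_qpairs (Q : QuadraticForm F V) {X : Submodule F V} (hX : Nd (pB Q) X) {g : ℕ}
    (hg : 0 < g) (hdim : finrank F ↥X = 2 * g) {ε : ℤ} (hε : QType Q X g ε) :
    (Nat.card {p : V × V // IsQPair Q p ∧ p.1 ∈ X ∧ p.2 ∈ X} : ℤ) =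
      ((Fintype.card F : ℤ) ^ g - ε) * ((Fintype.card F : ℤ) ^ (g - 1) + ε) *
        (Fintype.card F : ℤ) ^ (2 * g - 2) :=
  Cfsg.Agent.Helper41.QSp.card_qpairs Q hX hg hdim hε

/-- (QE2) the number of hyperbolic frames -/
theorem card_qFrame (Q : QuadraticForm F V) (hnd : (pB Q).Nondegenerate) {d : ℕ}
    (hV : finrank F V = 2 * d) {εV : ℤ} (hT : QType Q ⊤ d εV) (e : ℕ) (he : e ≤ d) :
    (Nat.card {s : Fin e → V × V // IsQFrame Q s} : ℤ) =
      ∏ k : Fin e, (((Fintype.card F : ℤ) ^ (d - k.val) - εV) *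
        ((Fintype.card F : ℤ) ^ (d - k.val - 1) + εV) *
        (Fintype.card F : ℤ) ^ (2 * (d - k.val) - 2)) :=
  Cfsg.Agent.Helper4.QSp.card_qFrame' Q (fun X hX g hg hdim ε hε => card_qpairs Q hX hg hdim hε)
    (fun W hW e hdim h => (hyp_iff_qType Q hW hdim).mp h) hnd hV hT e he

/-- (QE3) the weak consequence of `r ∣ #hyperbolic 2e-spaces` -/
theorem exists_dvd_of_dvd_card_hyp (Q : QuadraticForm F V) (hnd : (pB Q).Nondegenerate) {d : ℕ}
    (hV : finrank F V = 2 * d) {εV : ℤ} (hT : QType Q ⊤ d εV) (e : ℕ)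
    (he : e ≤ d) (r : ℕ) (hr : r.Prime) (hrq : ¬ r ∣ Fintype.card F)
    (hdvd : r ∣ Nat.card {W : Submodule F V // finrank F ↥W = 2 * e ∧ Nd (pB Q) W ∧ Hyp Q W}) :
    ∃ k : ℕ, k < e ∧ (r : ℤ) ∣ ((Fintype.card F : ℤ) ^ (d - k) - εV) *
      ((Fintype.card F : ℤ) ^ (d - k - 1) + εV) :=
  Cfsg.Agent.Helper4.QSp.exists_dvd_of_dvd_card_hyp' Q (fun X hX g hg hdim ε hε => card_qpairs Q hX hg hdim hε)
    (fun W hW e hdim h => (hyp_iff_qType Q hW hdim).mp h) hnd hV hT e he r hr hrq hdvd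

/-! ## (QF) arithmetic -/

/-- (QF0) -/
theorem star_of_dvd {q r : ℕ} [Fact r.Prime] (hr2 : r ≠ 2) (hrq : ¬ r ∣ q) {d e : ℕ} (hed : e < d)
    (h : ∃ k : ℕ, k < e ∧ (r : ℤ) ∣ ((q : ℤ) ^ (d - k) - 1) * ((q : ℤ) ^ (d - k - 1) + 1)) :
    Star (orderOf (q : ZMod r)) d e :=
  Cfsg.Agent.Helper49.QSp.star_of_dvd hr2 hrq hed h

/-- (QF1) -/
theorem crit_of_rhs_odd {i c d e b : ℕ} (hi : Odd i) (hc : c = 2 * i) (hed : e < d)
    (hcm : c ≤ 2 * e) (hmod : (2 * e) % c ≤ (2 * d) % c) (hb1 : 1 ≤ b) (hbc : b * c ≤ 2 * d) :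
    Crit i c d e b 1 1 :=
  Cfsg.Agent.Helper49.QSp.crit_of_rhs_odd hi hc hed hcm hmod hb1 hbc

theorem crit_of_rhs_even {i c d e b : ℕ} (hi : Even i) (hi0 : 0 < i) (hc : c = i) (he : 1 ≤ e)
    (hed : e < d) (hrhs : EvenRHS i c d (2 * e)) (hb1 : 1 ≤ b) (hbc : b * c ≤ 2 * d)
    (hadm : b * c = 2 * d → bsign i b = 1) : Crit i c d e b 1 1 :=
  Cfsg.Agent.Helper49.QSp.crit_of_rhs_even hi hi0 hc he hed hrhs hb1 hbc hadm

/-- (QF2) -/
theorem rhs_of_crit_odd {i c d e : ℕ} (hi : Odd i) (hc : c = 2 * i) (he : 1 ≤ e) (hed : e < d)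
    (hstar : Star i d e) (hcrit : Crit i c d e ((2 * d) / c) 1 1) :
    c ≤ 2 * e ∧ (2 * e) % c ≤ (2 * d) % c :=
  Cfsg.Agent.Helper68.QSp.rhs_of_crit_odd hi hc he hed hstar hcrit

theorem rhs_of_crit_even {i c d e : ℕ} (hi : Even i) (hi0 : 0 < i) (hc : c = i) (he : 1 ≤ e)
    (hed : e < d) (hstar : Star i d e)
    (hcrit : ((2 * d) / c * c = 2 * d → bsign i ((2 * d) / c) = 1) →
      Crit i c d e ((2 * d) / c) 1 1) :
    EvenRHS i c d (2 * e) :=
  Cfsg.Agent.Helper68.QSp.rhs_of_crit_even hi hi0 hc he hed hstar hcrit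

/-! ## (QH) `r = 2` -/

/-- (QH1b) `x² = -1`, `-1` a square: hyperbolic invariant subspaces of every even dimension -/
theorem exists_inv_hyp_of_sq_neg_one_split (Q : QuadraticForm F V) (hnd : (pB Q).Nondegenerate)
    (h2 : (2 : F) ≠ 0) (y : Module.End F V) (hiso : ∀ v, Q (y v) = Q v) (hy : y * y = -1)
    {ι₀ : F} (hι : ι₀ * ι₀ = -1) :
    ∀ e : ℕ, ∀ X : Submodule F V, Inv y X → Nd (pB Q) X → 2 * e ≤ finrank F ↥X →
      ∃ W : Submodule F V, W ≤ X ∧ Inv y W ∧ Nd (pB Q) W ∧ finrank F ↥W = 2 * e ∧ Hyp Q W :=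
  Cfsg.Agent.Helper38.QSp.exists_inv_hyp_of_sq_neg_one_split Q hnd h2 y hiso hy hι

/-- (QH1c) `x² = -1`, `-1` not a square: invariant nondegenerate `2t`-subspaces exist and have
type `(-1)^t` -/
theorem exists_inv_typed_of_sq_neg_one_nonsplit (Q : QuadraticForm F V)
    (hnd : (pB Q).Nondegenerate) (h2 : (2 : F) ≠ 0) (y : Module.End F V)
    (hiso : ∀ v, Q (y v) = Q v) (hy : y * y = -1) (hns : ∀ a : F, a * a ≠ -1) :
    ∀ t : ℕ, ∀ X : Submodule F V, Inv y X → Nd (pB Q) X → 2 * t ≤ finrank F ↥X →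
      ∃ W : Submodule F V, W ≤ X ∧ Inv y W ∧ Nd (pB Q) W ∧ finrank F ↥W = 2 * t ∧
        QType Q W t ((-1) ^ t) :=
  Cfsg.Agent.Helper41.QSp.exists_inv_typed_of_sq_neg_one_nonsplit Q hnd h2 y hiso hy hns

/-- (QH1d) an element of `Ω⁺_{2d}(F)` with square `-1` (`d` even) -/
theorem exists_omega_sq_neg_one (h2 : (2 : F) ≠ 0) (d : ℕ) (hd : Even d) (hd2 : 2 ≤ d) :
    ∃ x : ↥(Cfsg.isometryGroup F (Cfsg.quadFormPlus d F)),
      x ∈ Cfsg.Omega F (Cfsg.quadFormPlus d F) ∧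
      ((x : GL (Fin d ⊕ Fin d) F) : Matrix (Fin d ⊕ Fin d) (Fin d ⊕ Fin d) F) *
        ((x : GL (Fin d ⊕ Fin d) F) : Matrix (Fin d ⊕ Fin d) (Fin d ⊕ Fin d) F) = -1 :=
  Cfsg.Agent.Helper12.QSp.exists_omega_sq_neg_one h2 d hd hd2

/-- (QH2) characteristic two: involutions of `Ω⁺_{2d}` fix hyperbolic `2e`-spaces if `d` is odd or
`e` is even -/
theorem exists_inv_hyp_char_two [CharP F 2] (d e : ℕ) (hd : 3 ≤ d) (he : e ≤ d)
    (hcond : Odd d ∨ Even e) (x : ↥(Cfsg.isometryGroup F (Cfsg.quadFormPlus d F)))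
    (hx : x * x = 1) (hxΩ : x ∈ Cfsg.Omega F (Cfsg.quadFormPlus d F)) :
    ∃ W : Submodule F (Fin d ⊕ Fin d → F), finrank F ↥W = 2 * e ∧
      Nd (pB (plusForm d F)) W ∧ Hyp (plusForm d F) W ∧
      W.map (Matrix.toLin' ((x : GL (Fin d ⊕ Fin d) F) :
        Matrix (Fin d ⊕ Fin d) (Fin d ⊕ Fin d) F)) ≤ W :=
  Cfsg.Agent.Helper45.QSp.exists_inv_hyp_char_two d e hd he hcond x hx hxΩ

/-- (QH2d) characteristic two: the involution `x0` of type `a_d` (`d = 2k`) fixes only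
nondegenerate subspaces of dimension divisible by four -/
theorem four_dvd_of_inv_x0 [CharP F 2] (d k : ℕ) (hdk : d = 2 * k)
    (W : Submodule F (Fin d ⊕ Fin d → F)) (hW : Nd (pB (plusForm d F)) W)
    (hinv : W.map (Matrix.toLin' (Cfsg.Agent.Helper94.OrC.T0 F d k)) ≤ W) :
    4 ∣ finrank F ↥W :=
  Cfsg.Agent.Helper45.QSp.four_dvd_of_inv_x0 d k hdk W hW hinv

end Cfsg.Agent.Helper99.QSpGlue
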