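import Mathlib
import Cfsg.Agent.Helper99.QSpGlue

/-!
# `PΩ⁺_{2d}(q)` on hyperbolic `m`-spaces: bridge to the statement and assembly
-/

set_option autoImplicit false
set_option linter.unusedSectionVars false
set_option linter.style.haveILetI false

namespace Cfsg.Agent.Helper99.QSpMain

open Module Polynomial Matrix
open Cfsg
open Cfsg.Agent.Helper59.InvChain Cfsg.Agent.Helper59.Elusive
open Cfsg.Agent.Helper99.SpStruct Cfsg.Agent.Helper99.RDecomp Cfsg.Agent.Helper99.SpElt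
open Cfsg.Agent.Helper44 Cfsg.Agent.Helper44.QType
open Cfsg.Agent.Helper99.QSp
open Cfsg.Agent.Helper99.QSpGlue

universe u

variable {F : Type u} [Field F] {d : ℕ}

/-- nondegeneracy, in the form of the statement -/
theorem nd_iff_stmt {W : Submodule F (Fin d ⊕ Fin d → F)} :
    Nd (pB (plusForm d F)) W ↔
      ∀ u ∈ W, u ≠ 0 → ∃ v ∈ W, QuadraticMap.polar (Cfsg.quadFormPlus d F) u v ≠ 0 := by
  rw [nd_iff]
  constructor
  · intro h u hu hu0
    by_contra hcon
    push Not at hcon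
    apply hu0
    apply h u hu
    intro w hw
    rw [pB_apply, QuadraticMap.polar_comm]
    exact hcon w hw
  · intro h u hu hu'
    by_contra hu0
    obtain ⟨v, hv, hne⟩ := h u hu hu0
    apply hne
    have := hu' v hv
    rw [pB_apply, QuadraticMap.polar_comm] at this
    exact this

/-- hyperbolic, in the form of the statement -/
theorem hyp_iff_stmt {W : Submodule F (Fin d ⊕ Fin d → F)} {m : ℕ} (hW : finrank F ↥W = m) :
    Hyp (plusForm d F) W ↔
      ∃ U : Submodule F (Fin d ⊕ Fin d → F), U ≤ W ∧ 2 * finrank F ↥U = m ∧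
        ∀ u ∈ U, Cfsg.quadFormPlus d F u = 0 := by
  unfold Hyp TS
  constructor
  · rintro ⟨U, h1, h2, h3⟩
    exact ⟨U, h1, by rw [h3, hW], h2⟩
  · rintro ⟨U, h1, h2, h3⟩
    exact ⟨U, h1, h3, by rw [h2, hW]⟩

theorem finrank_pV : finrank F (Fin d ⊕ Fin d → F) = 2 * d := by
  rw [Module.finrank_fintype_fun_eq_card, Fintype.card_sum, Fintype.card_fin, two_mul]

theorem qType_top_plus [Fintype F] : QType (plusForm d F) ⊤ d 1 :=
  (qType_top_iff _ _ _).mpr (by rw [plusForm_coe]; exact hasType_plus d)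

/-- the property of the statement, in our language -/
def Good (F : Type u) [Field F] (d m : ℕ) (A : Matrix (Fin d ⊕ Fin d) (Fin d ⊕ Fin d) F) : Prop :=
  ∃ W : Submodule F (Fin d ⊕ Fin d → F), finrank F ↥W = m ∧ Nd (pB (plusForm d F)) W ∧
    Hyp (plusForm d F) W ∧ Inv (Matrix.toLin' A) W

theorem good_iff_stmt {m : ℕ} (A : Matrix (Fin d ⊕ Fin d) (Fin d ⊕ Fin d) F) :
    (∃ W : Submodule F (Fin d ⊕ Fin d → F), (Module.finrank F ↥W = m ∧
        (∀ u ∈ W, u ≠ 0 → ∃ v ∈ W, QuadraticMap.polar (Cfsg.quadFormPlus d F) u v ≠ 0) ∧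
        ∃ U : Submodule F (Fin d ⊕ Fin d → F), U ≤ W ∧ 2 * Module.finrank F ↥U = m ∧
          ∀ u ∈ U, Cfsg.quadFormPlus d F u = 0) ∧
        W.map (Matrix.toLin' A) ≤ W) ↔ Good F d m A := by
  constructor
  · rintro ⟨W, ⟨h1, h2, h3⟩, h4⟩
    exact ⟨W, h1, nd_iff_stmt.mpr h2, (hyp_iff_stmt h1).mpr h3, h4⟩
  · rintro ⟨W, h1, h2, h3, h4⟩
    exact ⟨W, ⟨h1, nd_iff_stmt.mp h2, (hyp_iff_stmt h1).mp h3⟩, h4⟩


/-! ## odd `r`: from the criterion to invariant subspaces -/

section odd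

variable [Fintype F] {p : ℕ} [Fact p.Prime] [CharP F p]

open Cfsg.Agent.Helper94.Tn Cfsg.Agent.Helper94.Ts Cfsg.Agent.Helper94.OrD

/-- a scalar `z` with `g ^ r = z`, `g` an isometry, satisfies `z ^ 2 = 1` -/
theorem sq_eq_one_of_pow_eq_smul (hd : 1 ≤ d) (g : ↥(Cfsg.isometryGroup F (Cfsg.quadFormPlus d F)))
    {r : ℕ} {z : F}
    (hz : (((g : GL (Fin d ⊕ Fin d) F) ^ r : GL (Fin d ⊕ Fin d) F) :
      Matrix (Fin d ⊕ Fin d) (Fin d ⊕ Fin d) F) = z • (1 : Matrix (Fin d ⊕ Fin d) (Fin d ⊕ Fin d) F)) :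
    z ^ 2 = 1 := by
  obtain ⟨v₀, hv₀⟩ := exists_quadFormPlus_ne_zero (F := F) (d := d) hd
  have h1 : Cfsg.quadFormPlus d F ((((g : GL (Fin d ⊕ Fin d) F) ^ r : GL (Fin d ⊕ Fin d) F) :
      Matrix (Fin d ⊕ Fin d) (Fin d ⊕ Fin d) F) *ᵥ v₀) = Cfsg.quadFormPlus d F v₀ :=
    Cfsg.Agent.Helper44.isometryGroup_apply (g ^ r) v₀
  rw [hz, Matrix.smul_mulVec, Matrix.one_mulVec, quadFormPlus_smul] at h1
  have : (z ^ 2 - 1) * Cfsg.quadFormPlus d F v₀ = 0 := by linear_combination h1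
  exact sub_eq_zero.mp ((mul_eq_zero.mp this).resolve_right hv₀)

/-- (⇐) for odd `r`: one element -/
theorem good_of_crit (hd : 1 ≤ d) (r : ℕ) [Fact r.Prime] (hrp : r ≠ p) (hr2 : r ≠ 2) {e : ℕ}
    (hall : ∀ b : ℕ, 1 ≤ b →
      b * blockSize (orderOf ((Fintype.card F : ℕ) : ZMod r)) ≤ 2 * d →
      (b * blockSize (orderOf ((Fintype.card F : ℕ) : ZMod r)) = 2 * d →
        bsign (orderOf ((Fintype.card F : ℕ) : ZMod r)) b = 1) →
      Crit (orderOf ((Fintype.card F : ℕ) : ZMod r))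
        (blockSize (orderOf ((Fintype.card F : ℕ) : ZMod r))) d e b 1 1)
    (g : ↥(Cfsg.isometryGroup F (Cfsg.quadFormPlus d F))) {z : F}
    (hz : (((g : GL (Fin d ⊕ Fin d) F) ^ r : GL (Fin d ⊕ Fin d) F) :
      Matrix (Fin d ⊕ Fin d) (Fin d ⊕ Fin d) F) = z • (1 : Matrix (Fin d ⊕ Fin d) (Fin d ⊕ Fin d) F))
    (hns : ∀ z : F, ((g : GL (Fin d ⊕ Fin d) F) : Matrix (Fin d ⊕ Fin d) (Fin d ⊕ Fin d) F) ≠
      z • (1 : Matrix (Fin d ⊕ Fin d) (Fin d ⊕ Fin d) F)) :
    Good F d (2 * e) ((g : GL (Fin d ⊕ Fin d) F) : Matrix (Fin d ⊕ Fin d) (Fin d ⊕ Fin d) F) := by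
  classical
  have hr : r.Prime := Fact.out
  have hrodd : Odd r := hr.odd_of_ne_two hr2
  have hrq := not_dvd_card_of_ne (F := F) r hrp
  set A : Matrix (Fin d ⊕ Fin d) (Fin d ⊕ Fin d) F :=
    ((g : GL (Fin d ⊕ Fin d) F) : Matrix (Fin d ⊕ Fin d) (Fin d ⊕ Fin d) F) with hA
  have hz2 : z ^ 2 = 1 := sq_eq_one_of_pow_eq_smul hd g hz
  have hz0 : z ≠ 0 := by
    rintro rfl
    norm_num at hz2
  have hAr : A ^ r = z • (1 : Matrix (Fin d ⊕ Fin d) (Fin d ⊕ Fin d) F) := by
    rw [← hz, Units.val_pow_eq_pow_val]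
  set L : Module.End F (Fin d ⊕ Fin d → F) := Matrix.toLin' A with hL
  have hLr : L ^ r = z • (1 : Module.End F (Fin d ⊕ Fin d → F)) := by
    rw [hL, ← Matrix.toLin'_pow, hAr, map_smul, Matrix.toLin'_one]
    rfl
  set y : Module.End F (Fin d ⊕ Fin d → F) := z • L with hy
  have hzr : z ^ (r + 1) = 1 := by
    obtain ⟨k, hk⟩ := hrodd
    have : r + 1 = 2 * (k + 1) := by omega
    rw [this, pow_mul, hz2, one_pow]
  have hyr : y ^ r = 1 := by
    rw [hy, _root_.smul_pow, hLr, smul_smul, ← pow_succ, hzr, one_smul]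
  have hLiso : ∀ v, plusForm d F (L v) = plusForm d F v := by
    intro v
    rw [hL, Matrix.toLin'_apply]
    exact Cfsg.Agent.Helper44.isometryGroup_apply g v
  have hyiso : ∀ v, plusForm d F (y v) = plusForm d F v := by
    intro v
    rw [hy, LinearMap.smul_apply, QuadraticMap.map_smul, hLiso, smul_eq_mul, ← pow_two, hz2, one_mul]
  have hy1 : y ≠ 1 := by
    intro h1
    apply hns z⁻¹
    have h3 : L = z⁻¹ • (1 : Module.End F (Fin d ⊕ Fin d → F)) := by
      rw [← h1, hy, smul_smul, inv_mul_cancel₀ hz0, one_smul]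
    have h4 : Matrix.toLin' A = Matrix.toLin' (z⁻¹ • (1 : Matrix (Fin d ⊕ Fin d) (Fin d ⊕ Fin d) F)) := by
      rw [map_smul, Matrix.toLin'_one]
      exact h3
    exact Matrix.toLin'.injective h4
  have hS : QSetup (plusForm d F) r y :=
    { nondeg := nondegenerate_plusForm d
      iso := hyiso
      setup := setup_of r hrp y hyr
      odd := hrodd
      hp := HP_cyclotomic r hrp }
  obtain ⟨b, hb⟩ := QSetup.blockSize_dvd hS (inv_cycSp r y) (QSetup.nd_cyc hS) le_rfl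
  rw [mul_comm] at hb
  obtain ⟨hadm1, hadm2, hadm3⟩ := QSetup.admissible hS hrq finrank_pV qType_top_plus hb
  have hcrit := hall b (hadm3 hy1) hadm1 hadm2
  obtain ⟨W, hWinv, hWnd, hWdim, hWty⟩ :=
    (QSetup.exists_inv_typed_iff hS hrq finrank_pV qType_top_plus hb (Or.inl rfl)).mpr hcrit
  refine ⟨W, hWdim, hWnd, (hyp_iff_qType _ hWnd hWdim).mpr hWty, ?_⟩
  rintro _ ⟨w, hw, rfl⟩
  have h1 : y w ∈ W := hWinv.apply_mem hw
  have h3 : L w = z⁻¹ • y w := by
    rw [hy, LinearMap.smul_apply, smul_smul, inv_mul_cancel₀ hz0, one_smul]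
  rw [h3]
  exact W.smul_mem _ h1

/-- elements of odd order lie in `Ω` -/
theorem mem_Omega_of_odd (hd : 3 ≤ d) (g : ↥(Cfsg.isometryGroup F (Cfsg.quadFormPlus d F))) {r : ℕ}
    (hr : Odd r) (hg : g ^ r = 1) : g ∈ Cfsg.Omega F (Cfsg.quadFormPlus d F) := by
  by_cases h2 : (2 : F) = 0
  · haveI : CharP F 2 := CharTwo.of_one_ne_zero_of_two_eq_zero one_ne_zero h2
    exact Cfsg.Agent.Helper94.OrD.mem_Omega_of_odd_order (Or.inr (by omega)) g hr hg
  · exact Cfsg.Agent.Helper94.Ts.mem_Omega_of_odd_order' (plusForm d F) h2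
      (nondegenerate_plusForm d) g hr hg

/-- (⇒) for odd `r`: the test element with the maximal number of blocks -/
theorem crit_of_good (hd : 3 ≤ d) (r : ℕ) [Fact r.Prime] (hrp : r ≠ p) (hr2 : r ≠ 2) {e : ℕ}
    (H : ∀ g : ↥(Cfsg.isometryGroup F (Cfsg.quadFormPlus d F)),
      g ∈ Cfsg.Omega F (Cfsg.quadFormPlus d F) → orderOf g = r →
      Good F d (2 * e) ((g : GL (Fin d ⊕ Fin d) F) : Matrix (Fin d ⊕ Fin d) (Fin d ⊕ Fin d) F))
    (hB : 1 ≤ 2 * d / blockSize (orderOf ((Fintype.card F : ℕ) : ZMod r)))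
    (hadm : 2 * d / blockSize (orderOf ((Fintype.card F : ℕ) : ZMod r)) *
        blockSize (orderOf ((Fintype.card F : ℕ) : ZMod r)) = 2 * d →
      bsign (orderOf ((Fintype.card F : ℕ) : ZMod r))
        (2 * d / blockSize (orderOf ((Fintype.card F : ℕ) : ZMod r))) = 1) :
    Crit (orderOf ((Fintype.card F : ℕ) : ZMod r))
      (blockSize (orderOf ((Fintype.card F : ℕ) : ZMod r))) d e
      (2 * d / blockSize (orderOf ((Fintype.card F : ℕ) : ZMod r))) 1 1 := by
  classical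
  have hr : r.Prime := Fact.out
  have hrodd : Odd r := hr.odd_of_ne_two hr2
  have hrq := not_dvd_card_of_ne (F := F) r hrp
  set i := orderOf ((Fintype.card F : ℕ) : ZMod r) with hidef
  set c := blockSize i with hcdef
  have hipos : 0 < i := orderOf_card_pos r hrp
  have hcpos : 0 < c := blockSize_pos hipos
  set B := 2 * d / c with hBdef
  have hBc : B * c ≤ 2 * d := Nat.div_mul_le_self _ _
  obtain ⟨y, hyord, hfix⟩ := exists_plus_elt (F := F) d r hrp hr2 B hB hBc hadm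
  rw [← hidef, ← hcdef] at hfix
  have hyr : y ^ r = 1 := by rw [← hyord]; exact pow_orderOf_eq_one y
  have hyΩ := mem_Omega_of_odd hd y hrodd hyr
  obtain ⟨W, hWdim, hWnd, hWhyp, hWinv⟩ := H y hyΩ hyord
  set Y := Matrix.toLin' ((y : GL (Fin d ⊕ Fin d) F) :
      Matrix (Fin d ⊕ Fin d) (Fin d ⊕ Fin d) F) with hY
  have hS : QSetup (plusForm d F) r Y :=
    { nondeg := nondegenerate_plusForm d
      iso := fun v => toLin_iso y v
      setup := setup_of r hrp Y (toLin_pow_eq_one' y hyr)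
      odd := hrodd
      hp := HP_cyclotomic r hrp }
  obtain ⟨b, hb⟩ := QSetup.blockSize_dvd hS (inv_cycSp r Y) (QSetup.nd_cyc hS) le_rfl
  rw [mul_comm, ← hidef, ← hcdef] at hb
  have htot := hS.setup.total
  rw [finrank_pV, hb] at htot
  have hbB : b = B := by
    have h1 : b * c = B * c := by
      have hfix' : finrank F ↥(fixSp Y) = 2 * d - B * c := hfix
      clear_value c B
      omega
    exact Nat.eq_of_mul_eq_mul_right hcpos h1
  rw [hbB] at hb
  exact (QSetup.exists_inv_typed_iff hS hrq finrank_pV qType_top_plus hb (Or.inl rfl)).mp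
    ⟨W, hWinv, hWnd, hWdim, (hyp_iff_qType _ hWnd hWdim).mp hWhyp⟩

/-- an element of order `r` (odd) of the isometry group is not scalar -/
theorem not_scalar_of_orderOf (hd : 1 ≤ d) {r : ℕ} (hr : r.Prime) (hrodd : Odd r)
    (g : ↥(Cfsg.isometryGroup F (Cfsg.quadFormPlus d F))) (hg : orderOf g = r) (z : F) :
    ((g : GL (Fin d ⊕ Fin d) F) : Matrix (Fin d ⊕ Fin d) (Fin d ⊕ Fin d) F) ≠
      z • (1 : Matrix (Fin d ⊕ Fin d) (Fin d ⊕ Fin d) F) := by
  intro hz
  have hgr : g ^ r = 1 := by rw [← hg]; exact pow_orderOf_eq_one g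
  have h1 : (((g : GL (Fin d ⊕ Fin d) F) ^ 1 : GL (Fin d ⊕ Fin d) F) :
      Matrix (Fin d ⊕ Fin d) (Fin d ⊕ Fin d) F) = z • (1 : Matrix (Fin d ⊕ Fin d) (Fin d ⊕ Fin d) F) := by
    rw [pow_one]; exact hz
  have hz2 : z ^ 2 = 1 := sq_eq_one_of_pow_eq_smul hd g h1
  have hAr : ((g : GL (Fin d ⊕ Fin d) F) : Matrix (Fin d ⊕ Fin d) (Fin d ⊕ Fin d) F) ^ r = 1 := by
    have h3 : ((g ^ r : ↥(Cfsg.isometryGroup F (Cfsg.quadFormPlus d F))) :
        GL (Fin d ⊕ Fin d) F) = 1 := by rw [hgr]; rfl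
    have h4 := congrArg (fun w : GL (Fin d ⊕ Fin d) F =>
      (w : Matrix (Fin d ⊕ Fin d) (Fin d ⊕ Fin d) F)) h3
    simpa using h4
  rw [hz, _root_.smul_pow, one_pow] at hAr
  have hzr : z ^ r = 1 := by
    have h5 := congrFun (congrFun hAr (Sum.inl ⟨0, hd⟩)) (Sum.inl ⟨0, hd⟩)
    simpa using h5
  have hz1 : z = 1 := by
    obtain ⟨k, hk⟩ := hrodd
    rw [hk, pow_succ, pow_mul, hz2, one_pow, one_mul] at hzr
    exact hzr
  have hg1 : g = 1 := by
    apply Subtype.ext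
    apply Units.ext
    rw [hz, hz1, one_smul]
    rfl
  rw [hg1, orderOf_one] at hg
  exact hr.one_lt.ne hg

/-- the main theorem for odd `r`, in our language -/
theorem odd_iff (hd : 4 ≤ d) (r : ℕ) [Fact r.Prime] (hrp : r ≠ p) (hr2 : r ≠ 2) {e : ℕ}
    (he : 1 ≤ e) (hed : 2 * e < d)
    (hrΩ : r ∣ Nat.card {W : Submodule F (Fin d ⊕ Fin d → F) // finrank F ↥W = 2 * e ∧
      Nd (pB (plusForm d F)) W ∧ Hyp (plusForm d F) W}) :
    (∀ x : GL (Fin d ⊕ Fin d) F, x ∈ Cfsg.Geo.omegaGL (Cfsg.quadFormPlus d F) →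
      (∃ z : F, ((x ^ r : GL (Fin d ⊕ Fin d) F) : Matrix (Fin d ⊕ Fin d) (Fin d ⊕ Fin d) F) =
        z • (1 : Matrix (Fin d ⊕ Fin d) (Fin d ⊕ Fin d) F)) →
      (∀ z : F, (x : Matrix (Fin d ⊕ Fin d) (Fin d ⊕ Fin d) F) ≠
        z • (1 : Matrix (Fin d ⊕ Fin d) (Fin d ⊕ Fin d) F)) →
      Good F d (2 * e) (x : Matrix (Fin d ⊕ Fin d) (Fin d ⊕ Fin d) F)) ↔
    ((Odd (orderOf ((Fintype.card F : ℕ) : ZMod r)) ∧
        blockSize (orderOf ((Fintype.card F : ℕ) : ZMod r)) ≤ 2 * e ∧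
        (2 * e) % blockSize (orderOf ((Fintype.card F : ℕ) : ZMod r)) ≤
          (2 * d) % blockSize (orderOf ((Fintype.card F : ℕ) : ZMod r))) ∨
      (Even (orderOf ((Fintype.card F : ℕ) : ZMod r)) ∧
        EvenRHS (orderOf ((Fintype.card F : ℕ) : ZMod r))
          (blockSize (orderOf ((Fintype.card F : ℕ) : ZMod r))) d (2 * e))) := by
  classical
  have hr : r.Prime := Fact.out
  have hrodd : Odd r := hr.odd_of_ne_two hr2
  have hrq := not_dvd_card_of_ne (F := F) r hrp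
  set i := orderOf ((Fintype.card F : ℕ) : ZMod r) with hidef
  set c := blockSize i with hcdef
  have hipos : 0 < i := orderOf_card_pos r hrp
  have hcpos : 0 < c := blockSize_pos hipos
  constructor
  · intro H
    -- the consequence of the counting hypothesis
    obtain ⟨k, hke, hk⟩ := exists_dvd_of_dvd_card_hyp (plusForm d F) (nondegenerate_plusForm d)
      finrank_pV qType_top_plus e (by omega) r hr hrq hrΩ
    have hstar : Star i d e := star_of_dvd hr2 hrq (by omega) ⟨k, hke, hk⟩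
    -- the hypothesis for elements of order `r` of `Ω`
    have H' : ∀ g : ↥(Cfsg.isometryGroup F (Cfsg.quadFormPlus d F)),
        g ∈ Cfsg.Omega F (Cfsg.quadFormPlus d F) → orderOf g = r →
        Good F d (2 * e) ((g : GL (Fin d ⊕ Fin d) F) :
          Matrix (Fin d ⊕ Fin d) (Fin d ⊕ Fin d) F) := by
      intro g hgΩ hgord
      have hgr : g ^ r = 1 := by rw [← hgord]; exact pow_orderOf_eq_one g
      refine H (g : GL (Fin d ⊕ Fin d) F) (Subgroup.mem_map.mpr ⟨g, hgΩ, rfl⟩) ⟨1, ?_⟩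
        (not_scalar_of_orderOf (by omega) hr hrodd g hgord)
      have h3 : ((g ^ r : ↥(Cfsg.isometryGroup F (Cfsg.quadFormPlus d F))) :
          GL (Fin d ⊕ Fin d) F) = 1 := by rw [hgr]; rfl
      have h4 := congrArg (fun w : GL (Fin d ⊕ Fin d) F =>
        (w : Matrix (Fin d ⊕ Fin d) (Fin d ⊕ Fin d) F)) h3
      rw [one_smul]
      simpa using h4
    have hcrit : (2 * d / c * c = 2 * d → bsign i (2 * d / c) = 1) →
        Crit i c d e (2 * d / c) 1 1 := by
      intro hadm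
      by_cases hB : 1 ≤ 2 * d / c
      · exact crit_of_good (by omega) r hrp hr2 H' hB hadm
      · have hB0 : 2 * d / c = 0 := Nat.lt_one_iff.mp (not_le.mp hB)
        rw [hB0]
        exact ⟨0, le_rfl, by omega, Or.inr (Or.inl ⟨by omega, by omega⟩)⟩
    by_cases hie : Even i
    · right
      refine ⟨hie, ?_⟩
      have hci : c = i := blockSize_even hie
      exact rhs_of_crit_even hie hipos hci he (by omega) hstar hcrit
    · left
      have hio : Odd i := Nat.not_even_iff_odd.mp hie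
      have hci : c = 2 * i := blockSize_odd hie
      have hbs : bsign i (2 * d / c) = 1 := by
        unfold bsign
        rw [if_neg hie]
      exact ⟨hio, rhs_of_crit_odd hio hci he (by omega) hstar (hcrit (fun _ => hbs))⟩
  · intro hrhs x hx ⟨z, hz⟩ hns
    obtain ⟨g, -, rfl⟩ := Subgroup.mem_map.mp hx
    refine good_of_crit (by omega) r hrp hr2 ?_ g hz hns
    intro b hb1 hbc hadm
    rcases hrhs with ⟨hio, hcm, hmod⟩ | ⟨hie, hev⟩
    · have hci : c = 2 * i := blockSize_odd (Nat.not_even_iff_odd.mpr hio)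
      exact crit_of_rhs_odd hio hci (by omega) hcm hmod hb1 hbc
    · have hci : c = i := blockSize_even hie
      exact crit_of_rhs_even hie hipos hci he (by omega) hev hb1 hbc hadm

end odd


/-! ## `r = 2` -/

section two

variable [Fintype F]

open Cfsg.Agent.Helper94.Tn Cfsg.Agent.Helper94.Ts Cfsg.Agent.Helper94.OrD Cfsg.Agent.Helper94.OrC

theorem coe_mul_self_of (g : ↥(Cfsg.isometryGroup F (Cfsg.quadFormPlus d F)))
    (h : ((g : GL (Fin d ⊕ Fin d) F) : Matrix (Fin d ⊕ Fin d) (Fin d ⊕ Fin d) F) *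
      ((g : GL (Fin d ⊕ Fin d) F) : Matrix (Fin d ⊕ Fin d) (Fin d ⊕ Fin d) F) = 1) : g * g = 1 := by
  apply Subtype.ext
  apply Units.ext
  exact h

/-- `r = 2`, characteristic two -/
theorem two_iff_char_two (h2F : (2 : F) = 0) (hd : 4 ≤ d) {e : ℕ} (he : 1 ≤ e) (hed : 2 * e < d) :
    (∀ x : GL (Fin d ⊕ Fin d) F, x ∈ Cfsg.Geo.omegaGL (Cfsg.quadFormPlus d F) →
      (∃ z : F, ((x ^ 2 : GL (Fin d ⊕ Fin d) F) : Matrix (Fin d ⊕ Fin d) (Fin d ⊕ Fin d) F) =
        z • (1 : Matrix (Fin d ⊕ Fin d) (Fin d ⊕ Fin d) F)) →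
      (∀ z : F, (x : Matrix (Fin d ⊕ Fin d) (Fin d ⊕ Fin d) F) ≠
        z • (1 : Matrix (Fin d ⊕ Fin d) (Fin d ⊕ Fin d) F)) →
      Good F d (2 * e) (x : Matrix (Fin d ⊕ Fin d) (Fin d ⊕ Fin d) F)) ↔
    ((2 * d) % 4 = 2 ∨ (2 * e) % 4 = 0 ∨ Fintype.card F % 4 = 1) := by
  classical
  haveI : CharP F 2 := CharTwo.of_one_ne_zero_of_two_eq_zero one_ne_zero h2F
  have h2d : Fintype.card F ≠ 2 ∨ d ≠ 2 := Or.inr (by omega)
  have hq : Fintype.card F % 4 ≠ 1 := by
    obtain ⟨n, -, hn⟩ := FiniteField.card F 2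
    rw [hn]
    obtain ⟨n', hn'⟩ : ∃ n', (n : ℕ) = n' + 1 := ⟨(n : ℕ) - 1, by have := n.pos; omega⟩
    rw [hn', pow_succ]
    omega
  constructor
  · intro H
    by_contra hcon
    push Not at hcon
    obtain ⟨h1, h3, -⟩ := hcon
    obtain ⟨k, hk⟩ : ∃ k, d = 2 * k := ⟨d / 2, by omega⟩
    obtain ⟨W, hWdim, hWnd, -, hWinv⟩ := H ((x0 F d k : ↥(Cfsg.isometryGroup F (Cfsg.quadFormPlus d F))) :
        GL (Fin d ⊕ Fin d) F)
      (Subgroup.mem_map.mpr ⟨x0 F d k, x0_mem_Omega h2d (by omega), rfl⟩)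
      ⟨1, by
        rw [one_smul, pow_two, ← Units.val_one]
        exact congrArg Units.val (congrArg Subtype.val (x0_mul_self (F := F) (m := d) k))⟩
      (fun z => T0_not_scalar (by omega) (by omega) z)
    have h4 := four_dvd_of_inv_x0 d k hk W hWnd hWinv
    omega
  · intro hrhs x hx ⟨z, hz⟩ _
    obtain ⟨g, hgΩ, rfl⟩ := Subgroup.mem_map.mp hx
    have hz2 : z ^ 2 = 1 := sq_eq_one_of_pow_eq_smul (by omega) g hz
    have hz1 : z = 1 := sq_eq_one_char_two hz2
    have hgg : g * g = 1 := by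
      apply coe_mul_self_of
      have := hz
      rw [hz1, one_smul, pow_two] at this
      exact this
    have hcond : Odd d ∨ Even e := by
      rcases hrhs with h | h | h
      · left; rw [Nat.odd_iff]; omega
      · right; rw [Nat.even_iff]; omega
      · exact absurd h hq
    obtain ⟨W, h1, h3, h4, h5⟩ := exists_inv_hyp_char_two d e (by omega) (by omega) hcond g hgg hgΩ
    exact ⟨W, h1, h3, h4, h5⟩

/-- `r = 2`, odd characteristic -/
theorem two_iff_odd_char (h2F : (2 : F) ≠ 0) (hd : 4 ≤ d) {e : ℕ} (he : 1 ≤ e) (hed : 2 * e < d) :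
    (∀ x : GL (Fin d ⊕ Fin d) F, x ∈ Cfsg.Geo.omegaGL (Cfsg.quadFormPlus d F) →
      (∃ z : F, ((x ^ 2 : GL (Fin d ⊕ Fin d) F) : Matrix (Fin d ⊕ Fin d) (Fin d ⊕ Fin d) F) =
        z • (1 : Matrix (Fin d ⊕ Fin d) (Fin d ⊕ Fin d) F)) →
      (∀ z : F, (x : Matrix (Fin d ⊕ Fin d) (Fin d ⊕ Fin d) F) ≠
        z • (1 : Matrix (Fin d ⊕ Fin d) (Fin d ⊕ Fin d) F)) →
      Good F d (2 * e) (x : Matrix (Fin d ⊕ Fin d) (Fin d ⊕ Fin d) F)) ↔
    ((2 * d) % 4 = 2 ∨ (2 * e) % 4 = 0 ∨ Fintype.card F % 4 = 1) := by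
  classical
  have hnd := nondegenerate_plusForm (F := F) d
  have hndtop : Nd (pB (plusForm d F)) ⊤ := nd_top_of_nondeg' hnd
  -- `-1` is a square iff `q % 4 = 1`
  have hqodd : Fintype.card F % 2 = 1 := FiniteField.odd_card_of_char_ne_two (by
    intro hch
    haveI : CharP F 2 := ringChar.of_eq hch
    exact h2F (CharTwo.two_eq_zero))
  have hsq_iff : (∃ a : F, a * a = -1) ↔ Fintype.card F % 4 = 1 := by
    have h1 := FiniteField.isSquare_neg_one_iff (F := F)
    constructor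
    · rintro ⟨a, ha⟩
      have : IsSquare (-1 : F) := ⟨a, ha.symm⟩
      have := h1.mp this
      omega
    · intro h
      obtain ⟨a, ha⟩ := h1.mpr (by omega)
      exact ⟨a, ha.symm⟩
  -- the type of invariant subspaces when `x² = -1` and `-1` is not a square
  have htype : ∀ (Y : Module.End F (Fin d ⊕ Fin d → F)),
      (∀ v, plusForm d F (Y v) = plusForm d F v) → Y * Y = -1 → (∀ a : F, a * a ≠ -1) →
      ∀ (t : ℕ) (W : Submodule F (Fin d ⊕ Fin d → F)), Inv Y W → Nd (pB (plusForm d F)) W →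
        finrank F ↥W = 2 * t → QType (plusForm d F) W t ((-1) ^ t) := by
    intro Y hYiso hYY hns t W hWinv hWnd hWdim
    obtain ⟨W', hW'le, -, -, hW'dim, hW'ty⟩ :=
      exists_inv_typed_of_sq_neg_one_nonsplit (plusForm d F) hnd h2F Y hYiso hYY hns t W hWinv hWnd
        (by omega)
    have : W' = W := Submodule.eq_of_le_of_finrank_eq hW'le (by rw [hW'dim, hWdim])
    rw [← this]
    exact hW'ty
  constructor
  · intro H
    by_contra hcon
    push Not at hcon
    obtain ⟨h1, h3, h4⟩ := hcon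
    have hns : ∀ a : F, a * a ≠ -1 := fun a ha => h4 (hsq_iff.mp ⟨a, ha⟩)
    have hdeven : Even d := by rw [Nat.even_iff]; omega
    obtain ⟨x, hxΩ, hxx⟩ := exists_omega_sq_neg_one h2F d hdeven (by omega)
    set A := ((x : GL (Fin d ⊕ Fin d) F) : Matrix (Fin d ⊕ Fin d) (Fin d ⊕ Fin d) F) with hA
    obtain ⟨W, hWdim, hWnd, hWhyp, hWinv⟩ := H (x : GL (Fin d ⊕ Fin d) F)
      (Subgroup.mem_map.mpr ⟨x, hxΩ, rfl⟩)
      ⟨-1, by
        rw [pow_two, Units.val_mul, hxx, neg_smul, one_smul]⟩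
      (fun z hz => by
        have hz' : A = z • (1 : Matrix (Fin d ⊕ Fin d) (Fin d ⊕ Fin d) F) := hz
        rw [hz'] at hxx
        rw [Matrix.smul_mul, Matrix.mul_smul, Matrix.one_mul, smul_smul] at hxx
        have h5 := congrFun (congrFun hxx (Sum.inl ⟨0, by omega⟩)) (Sum.inl ⟨0, by omega⟩)
        simp only [Matrix.smul_apply, Matrix.one_apply_eq, smul_eq_mul, mul_one,
          Matrix.neg_apply] at h5
        exact hns z h5)
    have hYY : Matrix.toLin' A * Matrix.toLin' A = -1 := by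
      rw [Module.End.mul_eq_comp, ← Matrix.toLin'_mul, hxx, map_neg, Matrix.toLin'_one]
      rfl
    have hty := htype (Matrix.toLin' A) (fun v => toLin_iso x v) hYY hns e W hWinv hWnd hWdim
    have hty1 := (hyp_iff_qType _ hWnd hWdim).mp hWhyp
    have heodd : Odd e := by rw [Nat.odd_iff]; omega
    rw [heodd.neg_one_pow] at hty
    have := hty1.unique hty
    norm_num at this
  · intro hrhs x hx ⟨z, hz⟩ _
    obtain ⟨g, hgΩ, rfl⟩ := Subgroup.mem_map.mp hx
    set A := ((g : GL (Fin d ⊕ Fin d) F) : Matrix (Fin d ⊕ Fin d) (Fin d ⊕ Fin d) F) with hA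
    have hz2 : z ^ 2 = 1 := sq_eq_one_of_pow_eq_smul (by omega) g hz
    have hAA : A * A = z • (1 : Matrix (Fin d ⊕ Fin d) (Fin d ⊕ Fin d) F) := by
      rw [← hz, pow_two, Units.val_mul]
      rfl
    have hiso : ∀ v, plusForm d F (Matrix.toLin' A v) = plusForm d F v := fun v => toLin_iso g v
    have hz' : z = 1 ∨ z = -1 := by
      have : (z - 1) * (z + 1) = 0 := by linear_combination hz2
      rcases mul_eq_zero.mp this with h | h
      · left; exact sub_eq_zero.mp h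
      · right; exact eq_neg_of_add_eq_zero_left h
    rcases hz' with rfl | rfl
    · -- an involution
      have hS : InvolSetup (pB (plusForm d F)) (Matrix.toLin' A) :=
        { symm := pB_symm _
          nondeg := hnd
          two_ne := h2F
          isom := isom_pB hiso
          sq := by
            intro v
            rw [← LinearMap.comp_apply, ← Matrix.toLin'_mul, hAA, one_smul, Matrix.toLin'_one]
            rfl }
      obtain ⟨W, -, hWinv, hWnd, hWdim, U, hUW, hUU, hUdim⟩ :=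
        invol_exists_inv_hyp hS e ⊤ (Cfsg.Agent.Helper59.InvChain.inv_top _) hndtop
          (by rw [finrank_top, finrank_pV]; omega)
      refine ⟨W, hWdim, hWnd, ⟨U, hUW, ?_, hUdim⟩, hWinv⟩
      intro u hu
      have h1 := hUU u hu u hu
      rw [pB_self] at h1
      exact (mul_eq_zero.mp h1).resolve_left h2F
    · -- `x² = -1`
      have hYY : Matrix.toLin' A * Matrix.toLin' A = -1 := by
        rw [Module.End.mul_eq_comp, ← Matrix.toLin'_mul, hAA, neg_smul, one_smul, map_neg,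
          Matrix.toLin'_one]
        rfl
      by_cases hsq : ∃ a : F, a * a = -1
      · obtain ⟨ι₀, hι⟩ := hsq
        obtain ⟨W, -, hWinv, hWnd, hWdim, hWhyp⟩ :=
          exists_inv_hyp_of_sq_neg_one_split (plusForm d F) hnd h2F (Matrix.toLin' A) hiso hYY hι e ⊤
            (Cfsg.Agent.Helper59.InvChain.inv_top _) hndtop (by rw [finrank_top, finrank_pV]; omega)
        exact ⟨W, hWdim, hWnd, hWhyp, hWinv⟩
      · have hns : ∀ a : F, a * a ≠ -1 := fun a ha => hsq ⟨a, ha⟩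
        -- `d` is even
        have htop := htype (Matrix.toLin' A) hiso hYY hns d ⊤
          (Cfsg.Agent.Helper59.InvChain.inv_top _) hndtop (by rw [finrank_top, finrank_pV])
        have hd1 : ((-1 : ℤ)) ^ d = 1 := (qType_top_plus.unique htop).symm
        have hdeven : Even d := by
          by_contra hodd
          rw [Nat.not_even_iff_odd] at hodd
          rw [hodd.neg_one_pow] at hd1
          norm_num at hd1
        have heeven : Even e := by
          rcases hrhs with h | h | h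
          · rw [Nat.even_iff] at hdeven; omega
          · rw [Nat.even_iff]; omega
          · exact absurd (hsq_iff.mpr h) hsq
        obtain ⟨W, -, hWinv, hWnd, hWdim, hWty⟩ :=
          exists_inv_typed_of_sq_neg_one_nonsplit (plusForm d F) hnd h2F (Matrix.toLin' A) hiso hYY
            hns e ⊤ (Cfsg.Agent.Helper59.InvChain.inv_top _) hndtop
            (by rw [finrank_top, finrank_pV]; omega)
        rw [heeven.neg_one_pow] at hWty
        exact ⟨W, hWdim, hWnd, (hyp_iff_qType _ hWnd hWdim).mpr hWty, hWinv⟩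

end two

end Cfsg.Agent.Helper99.QSpMain
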