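import Mathlib
import Cfsg.Prelude.Def_Classical
import Cfsg.Prelude.Def_LieClassical
import Cfsg.Agent.Helper43.GUPrimeB
import Cfsg.Agent.Helper43.JordanGL

set_option autoImplicit false

/-!
# Definitions for S5954 (unitary groups acting on nondegenerate `m`-spaces)

Everything is phrased for plain matrices over `F` (`|F| = q ^ 2`) and the standard Hermitian form
`Cfsg.hermForm n F q u v = Σ u_i v_i ^ q`.
-/

namespace Cfsg.Agent.Helper99.UNd

open Matrix Polynomial

variable {F : Type*} [Field F]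

/-- the matrix `A` preserves the standard Hermitian form (`g ∈ Cfsg.GU n F q ↔ IsUM n q ↑g` by `Iff.rfl`) -/
def IsUM (n q : ℕ) (A : Matrix (Fin n) (Fin n) F) : Prop :=
  ∀ u v : Fin n → F, Cfsg.hermForm n F q (A *ᵥ u) (A *ᵥ v) = Cfsg.hermForm n F q u v

/-- nondegenerate subspace, in the form used by the statement S5954 -/
def NdS (n q : ℕ) (W : Submodule F (Fin n → F)) : Prop :=
  ∀ u ∈ W, u ≠ 0 → ∃ v ∈ W, Cfsg.hermForm n F q u v ≠ 0

/-- the matrix `A` fixes some nondegenerate `m`-space -/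
def FixesNd (n q m : ℕ) (A : Matrix (Fin n) (Fin n) F) : Prop :=
  ∃ W : Submodule F (Fin n → F), Module.finrank F ↥W = m ∧ NdS n q W ∧
    W.map (Matrix.toLin' A) ≤ W

/-- block diagonal matrix `diag(B₁, B₂)` on `Fin n`, `n = a + b` (first `a` coordinates, then `b`) -/
def blk {a b n : ℕ} (h : a + b = n) (B₁ : Matrix (Fin a) (Fin a) F)
    (B₂ : Matrix (Fin b) (Fin b) F) : Matrix (Fin n) (Fin n) F :=
  Matrix.reindex (finSumFinEquiv.trans (finCongr h)) (finSumFinEquiv.trans (finCongr h))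
    (Matrix.fromBlocks B₁ 0 0 B₂)

/-- the elements of the statement: unitary, determinant one, `r`-th power scalar, not scalar -/
def IsElt (n q r : ℕ) (x : Matrix (Fin n) (Fin n) F) : Prop :=
  IsUM n q x ∧ x.det = 1 ∧ (∃ z : F, x ^ r = z • (1 : Matrix (Fin n) (Fin n) F)) ∧
    ∀ z : F, x ≠ z • (1 : Matrix (Fin n) (Fin n) F)

/-- every element of "order `r`" of `PSU_n(q)` fixes a nondegenerate `m`-space -/
def AllFix (F : Type*) [Field F] (n q m r : ℕ) : Prop :=
  ∀ x : Matrix (Fin n) (Fin n) F, IsElt n q r x → FixesNd n q m x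

/-- `f` is the product of two monic `utilde`-invariant polynomials, the first of degree `m` -/
def USplit (bar : F →+* F) (m : ℕ) (f : F[X]) : Prop :=
  ∃ f₁ f₂ : F[X], f₁.Monic ∧ f₂.Monic ∧ f₁.natDegree = m ∧
    Cfsg.Agent.Helper43.GUPrime.utilde bar f₁ = f₁ ∧
    Cfsg.Agent.Helper43.GUPrime.utilde bar f₂ = f₂ ∧ f = f₁ * f₂

/-- the order of `-q` modulo `r`, by the formula of the statement -/
def cOf (i : ℕ) : ℕ := if i % 4 = 0 then i else if i % 4 = 2 then i / 2 else 2 * i

/-- the partition condition of the statement for `r = p` -/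
def PartCond (p n m : ℕ) : Prop :=
  ∀ μ : Multiset ℕ, (∀ a ∈ μ, 0 < a ∧ a ≤ p) → μ.sum = n → ∃ ν : Multiset ℕ, ν ≤ μ ∧ ν.sum = m

end Cfsg.Agent.Helper99.UNd
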