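import Mathlib
import Cfsg.Prelude.Def_Classical

/-!
# Definitions for S2362 (spectra of `Ω_{2n+1}(q)` and `PSp_{2n}(q)` differ)

`fixS A` is the fixed space of an endomorphism, `movS A r` the kernel of `1 + A + ... + A^(r-1)`
(the "moving part" of an operator with `A ^ r = 1`).
-/

set_option autoImplicit false

namespace Cfsg.Agent.Helper99.BC

variable {F : Type*} [Field F] {V : Type*} [AddCommGroup V] [Module F V]

/-- the fixed space `ker (A - 1)` -/
def fixS (A : Module.End F V) : Submodule F V := LinearMap.ker (A - 1)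

/-- the kernel of `1 + A + ... + A^(r-1)` -/
def movS (A : Module.End F V) (r : ℕ) : Submodule F V :=
  LinearMap.ker (∑ i ∈ Finset.range r, A ^ i)

theorem mem_fixS {A : Module.End F V} {x : V} : x ∈ fixS A ↔ A x = x := by
  unfold fixS
  rw [LinearMap.mem_ker, LinearMap.sub_apply, Module.End.one_apply, sub_eq_zero]

theorem mem_movS {A : Module.End F V} {r : ℕ} {x : V} :
    x ∈ movS A r ↔ ∑ i ∈ Finset.range r, (A ^ i) x = 0 := by
  unfold movS
  rw [LinearMap.mem_ker, LinearMap.sum_apply]

end Cfsg.Agent.Helper99.BC
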