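import Mathlib
import Cfsg.Prelude.Def_Classical
import Cfsg.Agent.Helper99.BCDefs
import Cfsg.Agent.Helper44.Spinor

/-!
# S2362: isometries as endomorphisms
-/

set_option autoImplicit false

namespace Cfsg.Agent.Helper99.BC

open Module Matrix

variable {F : Type*} [Field F] {ι : Type} [Fintype ι] [DecidableEq ι] {Q : (ι → F) → F}

/-- the endomorphism of an isometry -/
noncomputable def lin (g : ↥(Cfsg.isometryGroup F Q)) : Module.End F (ι → F) :=
  Matrix.toLin' ((g.1 : Matrix.GeneralLinearGroup ι F) : Matrix ι ι F)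

theorem lin_apply (g : ↥(Cfsg.isometryGroup F Q)) (x : ι → F) :
    lin g x = ((g.1 : Matrix.GeneralLinearGroup ι F) : Matrix ι ι F) *ᵥ x := by
  unfold lin
  rw [Matrix.toLin'_apply]

theorem lin_mul (g h : ↥(Cfsg.isometryGroup F Q)) : lin (g * h) = lin g * lin h := by
  apply LinearMap.ext
  intro x
  rw [Module.End.mul_apply, lin_apply, lin_apply, lin_apply,
    Cfsg.Agent.Helper44.isometryGroup_mul_mulVec]

theorem lin_one : lin (1 : ↥(Cfsg.isometryGroup F Q)) = 1 := by
  apply LinearMap.ext
  intro x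
  rw [lin_apply, Cfsg.Agent.Helper44.isometryGroup_one_mulVec, Module.End.one_apply]

theorem lin_pow (g : ↥(Cfsg.isometryGroup F Q)) (j : ℕ) : lin (g ^ j) = lin g ^ j := by
  induction j with
  | zero => rw [pow_zero, pow_zero, lin_one]
  | succ j ih => rw [pow_succ, pow_succ, lin_mul, ih]

theorem lin_injective : Function.Injective (lin : ↥(Cfsg.isometryGroup F Q) → _) := by
  intro g h hgh
  apply Cfsg.Agent.Helper44.isometryGroup_ext
  intro x
  rw [← lin_apply, ← lin_apply, hgh]

theorem lin_iso (g : ↥(Cfsg.isometryGroup F Q)) (x : ι → F) : Q (lin g x) = Q x := by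
  rw [lin_apply]
  exact Cfsg.Agent.Helper44.isometryGroup_apply g x

theorem lin_eq_one_iff (g : ↥(Cfsg.isometryGroup F Q)) : lin g = 1 ↔ g = 1 := by
  constructor
  · intro h
    apply lin_injective
    rw [h, lin_one]
  · rintro rfl
    exact lin_one

theorem lin_commute {g h : ↥(Cfsg.isometryGroup F Q)} (hc : Commute g h) :
    Commute (lin g) (lin h) := by
  show lin g * lin h = lin h * lin g
  rw [← lin_mul, ← lin_mul, hc.eq]

end Cfsg.Agent.Helper99.BC
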