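import Mathlib
import Cfsg.Agent.Helper99.SpNdC

/-!
# Skew-adjoint nilpotent endomorphisms of alternating spaces: definitions

`Skew B Y`: `B (Y x) y = - B x (Y y)`.  `IsSys`: a *string system* in `(V, B, Y)` — generators
`g s` (`s : S`) of `Y`-strings `g s, Y (g s), …, Y ^ (len s - 1) (g s)` with the standard pairing
`B (g s) (Y ^ i (g t)) = coef s` if `t = par s` and `i + 1 = len s`, and `0` otherwise.
-/

set_option autoImplicit false

namespace Cfsg.Agent.Helper99.USp

open Module
open Cfsg.Agent.Helper99.SpStruct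

universe u v

variable {F : Type u} [Field F] {V : Type v} [AddCommGroup V] [Module F V]

/-- `Y` is skew-adjoint for `B` -/
def Skew (B : LinearMap.BilinForm F V) (Y : Module.End F V) : Prop :=
  ∀ x y, B (Y x) y = - B x (Y y)

theorem Skew.pow_left {B : LinearMap.BilinForm F V} {Y : Module.End F V} (hY : Skew B Y) (a : ℕ) :
    ∀ x y, B ((Y ^ a) x) y = (-1) ^ a * B x ((Y ^ a) y) := by
  induction a with
  | zero => intro x y; simp
  | succ a ih =>
    intro x y
    have h1 : (Y ^ (a + 1)) y = (Y ^ a) (Y y) := by rw [pow_succ, Module.End.mul_apply]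
    have h0 : (Y ^ (a + 1)) x = Y ((Y ^ a) x) := by rw [pow_succ', Module.End.mul_apply]
    rw [h0, h1, hY, ih, pow_succ]
    ring

theorem Skew.pow_right {B : LinearMap.BilinForm F V} {Y : Module.End F V} (hY : Skew B Y) (a : ℕ)
    (x y : V) : B x ((Y ^ a) y) = (-1) ^ a * B ((Y ^ a) x) y := by
  rw [hY.pow_left a, ← mul_assoc, ← mul_pow]
  simp

theorem pow_apply_pow (Y : Module.End F V) (a b : ℕ) (x : V) :
    (Y ^ a) ((Y ^ b) x) = (Y ^ (a + b)) x := by
  rw [pow_add, Module.End.mul_apply]

/-- a string system generating `M` -/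
structure IsSys (B : LinearMap.BilinForm F V) (Y : Module.End F V) {S : Type} (len : S → ℕ)
    (par : S → S) (coef : S → F) (g : S → V) (M : Submodule F V) : Prop where
  len_pos : ∀ s, 0 < len s
  par_par : ∀ s, par (par s) = s
  len_par : ∀ s, len (par s) = len s
  coef_ne : ∀ s, coef s ≠ 0
  top : ∀ s, (Y ^ len s) (g s) = 0
  form_eq : ∀ s, B (g s) ((Y ^ (len s - 1)) (g (par s))) = coef s
  form_ne : ∀ s t i, ¬ (t = par s ∧ i + 1 = len s) → B (g s) ((Y ^ i) (g t)) = 0
  span : Submodule.span F (Set.range fun x : S × ℕ => (Y ^ x.2) (g x.1)) = M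

end Cfsg.Agent.Helper99.USp
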