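import Mathlib
import Cfsg.Agent.Helper99.USpA

/-!
# String systems: Gram matrix, independence, nondegeneracy, kernel dimensions
-/

set_option autoImplicit false

namespace Cfsg.Agent.Helper99.USp

open Module
open Cfsg.Agent.Helper99.SpStruct Cfsg.Agent.Helper99.SpNd

universe u v

variable {F : Type u} [Field F] {V : Type v} [AddCommGroup V] [Module F V]

/-- the family of string vectors -/
def fam (Y : Module.End F V) {S : Type} (len : S → ℕ) (g : S → V) :
    (Σ s : S, Fin (len s)) → V := fun x => (Y ^ (x.2 : ℕ)) (g x.1)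

namespace IsSys

variable {B : LinearMap.BilinForm F V} {Y : Module.End F V} {S : Type} {len : S → ℕ}
  {par : S → S} {coef : S → F} {g : S → V} {M : Submodule F V}

theorem pow_eq_zero (h : IsSys B Y len par coef g M) (s : S) {a : ℕ} (ha : len s ≤ a) :
    (Y ^ a) (g s) = 0 := by
  obtain ⟨c, rfl⟩ := Nat.exists_eq_add_of_le ha
  rw [add_comm, pow_add, Module.End.mul_apply, h.top, map_zero]

theorem par_injective (h : IsSys B Y len par coef g M) : Function.Injective par := by
  intro s t hst
  rw [← h.par_par s, hst, h.par_par]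

theorem gram_eq (h : IsSys B Y len par coef g M) (hY : Skew B Y) (s : S) {a b : ℕ}
    (hab : a + b + 1 = len s) :
    B ((Y ^ a) (g s)) ((Y ^ b) (g (par s))) = (-1) ^ a * coef s := by
  rw [hY.pow_left, pow_apply_pow]
  have : a + b = len s - 1 := by omega
  rw [this, h.form_eq]

theorem gram_ne (h : IsSys B Y len par coef g M) (hY : Skew B Y) (s t : S) (a b : ℕ)
    (hne : ¬ (t = par s ∧ a + b + 1 = len s)) :
    B ((Y ^ a) (g s)) ((Y ^ b) (g t)) = 0 := by
  rw [hY.pow_left, pow_apply_pow, h.form_ne s t (a + b) (by simpa [add_assoc] using hne), mul_zero]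

theorem coef_par (h : IsSys B Y len par coef g M) (hB : B.IsAlt) (hY : Skew B Y) (s : S) :
    coef (par s) = (-1) ^ len s * coef s := by
  have h1 := h.form_eq (par s)
  rw [h.par_par, h.len_par] at h1
  have h2 := hB.neg_eq ((Y ^ (len s - 1)) (g s)) (g (par s))
  rw [← h1, ← h2, hY.pow_left, h.form_eq]
  have hpos := h.len_pos s
  obtain ⟨k, hk⟩ : ∃ k, len s = k + 1 := ⟨len s - 1, by omega⟩
  rw [hk, Nat.add_sub_cancel, pow_succ]
  ring

theorem mem (h : IsSys B Y len par coef g M) (s : S) (a : ℕ) : (Y ^ a) (g s) ∈ M := by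
  rw [← h.span]
  exact Submodule.subset_span ⟨(s, a), rfl⟩

theorem inv (h : IsSys B Y len par coef g M) : ∀ x ∈ M, Y x ∈ M := by
  intro x hx
  rw [← h.span] at hx
  induction hx using Submodule.span_induction with
  | mem x hx =>
    obtain ⟨⟨s, a⟩, rfl⟩ := hx
    show Y ((Y ^ a) (g s)) ∈ M
    rw [← Module.End.mul_apply, ← pow_succ']
    exact h.mem s (a + 1)
  | zero => rw [map_zero]; exact M.zero_mem
  | add x y _ _ hx hy => rw [map_add]; exact M.add_mem hx hy
  | smul c x _ hx => rw [map_smul]; exact M.smul_mem c hx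

theorem span_fam (h : IsSys B Y len par coef g M) :
    Submodule.span F (Set.range (fam Y len g)) = M := by
  apply le_antisymm
  · rw [Submodule.span_le]
    rintro _ ⟨⟨s, a⟩, rfl⟩
    exact h.mem s a
  · rw [← h.span, Submodule.span_le]
    rintro _ ⟨⟨s, a⟩, rfl⟩
    by_cases ha : a < len s
    · exact Submodule.subset_span ⟨⟨s, ⟨a, ha⟩⟩, rfl⟩
    · show (Y ^ a) (g s) ∈ _
      rw [h.pow_eq_zero s (by omega)]
      exact Submodule.zero_mem _

/-- pairing a combination of string vectors against the dual string vector -/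
theorem pair_sum (h : IsSys B Y len par coef g M) (hY : Skew B Y)
    (t : Finset (Σ s : S, Fin (len s))) (c : (Σ s : S, Fin (len s)) → F)
    (x : Σ s : S, Fin (len s)) (hx : x ∈ t) :
    B (∑ i ∈ t, c i • fam Y len g i) ((Y ^ (len x.1 - 1 - (x.2 : ℕ))) (g (par x.1)))
      = c x * ((-1) ^ (x.2 : ℕ) * coef x.1) := by
  classical
  rw [map_sum, LinearMap.sum_apply, Finset.sum_eq_single x]
  · rw [map_smul, LinearMap.smul_apply, smul_eq_mul]
    congr 1
    obtain ⟨s, a⟩ := x
    exact h.gram_eq hY s (by have := a.2; simp only; omega)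
  · intro i _ hi
    rw [map_smul, LinearMap.smul_apply, smul_eq_mul]
    obtain ⟨s, a⟩ := x
    obtain ⟨s', a'⟩ := i
    have : B (fam Y len g ⟨s', a'⟩) ((Y ^ (len s - 1 - (a : ℕ))) (g (par s))) = 0 := by
      apply h.gram_ne hY
      rintro ⟨h1, h2⟩
      have hs : s = s' := h.par_injective h1
      subst hs
      apply hi
      have h3 : (a' : ℕ) = (a : ℕ) := by
        have := a.2
        have := a'.2
        simp only at h2
        omega
      rw [Fin.ext h3]
    rw [this, mul_zero]
  · intro hx'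
    exact absurd hx hx'

theorem linearIndependent_fam (h : IsSys B Y len par coef g M) (hY : Skew B Y) :
    LinearIndependent F (fam Y len g) := by
  rw [linearIndependent_iff']
  intro t c hc x hx
  have h1 := h.pair_sum hY t c x hx
  rw [hc, map_zero, LinearMap.zero_apply] at h1
  have h2 : ((-1 : F) ^ (x.2 : ℕ) * coef x.1) ≠ 0 :=
    mul_ne_zero (pow_ne_zero _ (by norm_num)) (h.coef_ne _)
  rcases mul_eq_zero.1 h1.symm with h3 | h3
  · exact h3
  · exact absurd h3 h2

theorem nd (h : IsSys B Y len par coef g M) (hB : B.IsAlt) (hY : Skew B Y) : Nd B M := by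
  rw [nd_iff]
  intro u hu hu'
  rw [← h.span_fam] at hu
  obtain ⟨c, hc⟩ := (Finsupp.mem_span_range_iff_exists_finsupp).1 hu
  rw [Finsupp.sum] at hc
  have hzero : ∀ x ∈ c.support, c x = 0 := by
    intro x hx
    have h1 := h.pair_sum hY c.support c x hx
    rw [hc] at h1
    have h0 : B u ((Y ^ (len x.1 - 1 - (x.2 : ℕ))) (g (par x.1))) = 0 := by
      rw [← hB.neg_eq, hu' _ (h.mem _ _), neg_zero]
    rw [h0] at h1
    have h2 : ((-1 : F) ^ (x.2 : ℕ) * coef x.1) ≠ 0 :=
      mul_ne_zero (pow_ne_zero _ (by norm_num)) (h.coef_ne _)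
    rcases mul_eq_zero.1 h1.symm with h3 | h3
    · exact h3
    · exact absurd h3 h2
  rw [← hc]
  apply Finset.sum_eq_zero
  intro x hx
  rw [hzero x hx, zero_smul]

section fin

variable [Fintype S]

theorem finrank_eq (h : IsSys B Y len par coef g M) (hY : Skew B Y) :
    finrank F ↥M = ∑ s, len s := by
  rw [← h.span_fam, finrank_span_eq_card (h.linearIndependent_fam hY), Fintype.card_sigma]
  simp

omit [Fintype S] in
/-- the shifted family -/
theorem map_pow_eq (h : IsSys B Y len par coef g M) (l : ℕ) :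
    M.map (Y ^ l) = Submodule.span F (Set.range fun x : (Σ s : S, Fin (len s - l)) =>
      fam Y len g ⟨x.1, ⟨(x.2 : ℕ) + l, by have := x.2.2; omega⟩⟩) := by
  rw [← h.span, Submodule.map_span]
  apply le_antisymm
  · rw [Submodule.span_le]
    rintro _ ⟨_, ⟨⟨s, a⟩, rfl⟩, rfl⟩
    show (Y ^ l) ((Y ^ a) (g s)) ∈ _
    rw [pow_apply_pow]
    by_cases ha : l + a < len s
    · refine Submodule.subset_span ⟨⟨s, ⟨a, by omega⟩⟩, ?_⟩
      show (Y ^ (a + l)) (g s) = _
      rw [add_comm]
    · rw [h.pow_eq_zero s (by omega)]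
      exact Submodule.zero_mem _
  · rw [Submodule.span_le]
    rintro _ ⟨⟨s, a⟩, rfl⟩
    refine Submodule.subset_span ⟨(Y ^ (a : ℕ)) (g s), ⟨(s, (a : ℕ)), rfl⟩, ?_⟩
    show (Y ^ l) ((Y ^ (a : ℕ)) (g s)) = (Y ^ ((a : ℕ) + l)) (g s)
    rw [pow_apply_pow, add_comm]

theorem finrank_map_pow (h : IsSys B Y len par coef g M) (hY : Skew B Y) (l : ℕ) :
    finrank F ↥(M.map (Y ^ l)) = ∑ s, (len s - l) := by
  rw [h.map_pow_eq l]
  have hli : LinearIndependent F (fun x : (Σ s : S, Fin (len s - l)) =>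
      fam Y len g ⟨x.1, ⟨(x.2 : ℕ) + l, by have := x.2.2; omega⟩⟩) := by
    apply (h.linearIndependent_fam hY).comp
    rintro ⟨s, a⟩ ⟨s', a'⟩ hxy
    simp only [Sigma.mk.injEq] at hxy
    obtain ⟨rfl, h2⟩ := hxy
    have h3 := congrArg (fun z : Fin (len s) => (z : ℕ)) (eq_of_heq h2)
    simp only at h3
    have : a = a' := Fin.ext (by omega)
    rw [this]
  rw [finrank_span_eq_card hli, Fintype.card_sigma]
  simp

theorem kOn_eq [FiniteDimensional F V] (h : IsSys B Y len par coef g M) (hY : Skew B Y) (l : ℕ) :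
    kOn Y M l = ∑ s, min l (len s) := by
  have h1 := LinearMap.finrank_range_add_finrank_ker ((Y ^ l).domRestrict M)
  rw [LinearMap.range_domRestrict, LinearMap.ker_domRestrict, h.finrank_map_pow hY l,
    h.finrank_eq hY] at h1
  have h2 : finrank F ↥(Submodule.comap M.subtype (LinearMap.ker (Y ^ l))) = kOn Y M l := by
    unfold kOn
    rw [← Submodule.finrank_map_subtype_eq M, Submodule.map_comap_subtype]
  rw [h2] at h1
  have h3 : ∑ s, len s = ∑ s, (len s - l) + ∑ s, min l (len s) := by
    rw [← Finset.sum_add_distrib]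
    apply Finset.sum_congr rfl
    intro s _
    omega
  omega

end fin

end IsSys

end Cfsg.Agent.Helper99.USp
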