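import Mathlib
import Cfsg.Agent.Helper99.USpB

/-!
# String systems with the same data give isometric structures
-/

set_option autoImplicit false

namespace Cfsg.Agent.Helper99.USp

open Module
open Cfsg.Agent.Helper99.SpStruct Cfsg.Agent.Helper99.SpNd

universe u v w

variable {F : Type u} [Field F] {V : Type v} [AddCommGroup V] [Module F V]

namespace IsSys

variable {B : LinearMap.BilinForm F V} {Y : Module.End F V} {S : Type} {len : S → ℕ}
  {par : S → S} {coef : S → F} {g : S → V}

/-- the basis of string vectors -/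
noncomputable def basis (h : IsSys B Y len par coef g ⊤) (hY : Skew B Y) :
    Basis (Σ s : S, Fin (len s)) F V :=
  Basis.mk (h.linearIndependent_fam hY) (by rw [h.span_fam])

theorem basis_apply (h : IsSys B Y len par coef g ⊤) (hY : Skew B Y) (x : Σ s : S, Fin (len s)) :
    h.basis hY x = (Y ^ (x.2 : ℕ)) (g x.1) := by
  unfold basis
  rw [Basis.mk_apply]
  rfl

end IsSys

theorem exists_iso_of_sys {V' : Type w} [AddCommGroup V'] [Module F V']
    {B : LinearMap.BilinForm F V} {Y : Module.End F V} {B' : LinearMap.BilinForm F V'}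
    {Y' : Module.End F V'} {S S' : Type} {len : S → ℕ} {par : S → S} {coef : S → F} {g : S → V}
    {len' : S' → ℕ} {par' : S' → S'} {coef' : S' → F} {g' : S' → V'}
    (h : IsSys B Y len par coef g ⊤) (h' : IsSys B' Y' len' par' coef' g' ⊤)
    (hY : Skew B Y) (hY' : Skew B' Y') (σ : S ≃ S') (hlen : ∀ s, len' (σ s) = len s)
    (hpar : ∀ s, par' (σ s) = σ (par s)) (hcoef : ∀ s, coef' (σ s) = coef s) :
    ∃ T : V ≃ₗ[F] V', (∀ x y, B' (T x) (T y) = B x y) ∧ ∀ x, T (Y x) = Y' (T x) := by
  set b := h.basis hY with hb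
  set b' := h'.basis hY' with hb'
  set τ : (Σ s : S, Fin (len s)) ≃ (Σ s : S', Fin (len' s)) :=
    Equiv.sigmaCongr σ (fun s => finCongr (hlen s).symm) with hτ
  have hτ1 : ∀ x : Σ s : S, Fin (len s), (τ x).1 = σ x.1 := fun x => rfl
  have hτ2 : ∀ x : Σ s : S, Fin (len s), ((τ x).2 : ℕ) = (x.2 : ℕ) := fun x => rfl
  set T : V ≃ₗ[F] V' := b.equiv b' τ with hT
  have hTb : ∀ x, T (b x) = b' (τ x) := fun x => Basis.equiv_apply b x b' τ
  have hTfam : ∀ (s : S) (a : ℕ), T ((Y ^ a) (g s)) = (Y' ^ a) (g' (σ s)) := by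
    intro s a
    by_cases ha : a < len s
    · have h1 := hTb ⟨s, ⟨a, ha⟩⟩
      rw [hb, hb', IsSys.basis_apply, IsSys.basis_apply] at h1
      exact h1
    · rw [h.pow_eq_zero s (by omega), h'.pow_eq_zero (σ s) (by rw [hlen]; omega), map_zero]
  refine ⟨T, ?_, ?_⟩
  · have key : (B'.compl₁₂ (T : V →ₗ[F] V') (T : V →ₗ[F] V')) = B := by
      apply LinearMap.BilinForm.ext_basis b
      intro x y
      rw [LinearMap.compl₁₂_apply]
      show B' (T (b x)) (T (b y)) = B (b x) (b y)
      rw [hb, IsSys.basis_apply, IsSys.basis_apply, hTfam, hTfam]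
      obtain ⟨s, a⟩ := x
      obtain ⟨t, c⟩ := y
      simp only
      by_cases hc : t = par s ∧ (a : ℕ) + (c : ℕ) + 1 = len s
      · obtain ⟨h1, h2⟩ := hc
        subst h1
        rw [← hpar, h.gram_eq hY s h2, h'.gram_eq hY' (σ s) (by rw [hlen]; exact h2), hcoef]
      · rw [h.gram_ne hY _ _ _ _ hc, h'.gram_ne hY' _ _ _ _ (by
          rintro ⟨h1, h2⟩
          apply hc
          rw [hpar] at h1
          rw [hlen] at h2
          exact ⟨σ.injective h1, h2⟩)]
    intro x y
    have := congrArg (fun C : LinearMap.BilinForm F V => C x y) key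
    simpa [LinearMap.compl₁₂_apply] using this
  · have key : (T : V →ₗ[F] V') ∘ₗ Y = Y' ∘ₗ (T : V →ₗ[F] V') := by
      apply b.ext
      intro x
      show T (Y (b x)) = Y' (T (b x))
      rw [hb, IsSys.basis_apply, hTfam, ← Module.End.mul_apply, ← pow_succ',
        ← Module.End.mul_apply, ← pow_succ', hTfam]
    intro x
    exact LinearMap.congr_fun key x

end Cfsg.Agent.Helper99.USp
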