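import Mathlib
import Cfsg.Agent.Helper99.USpB

/-!
# Operations on string systems: orthogonal sums, reindexing, single atoms
-/

set_option autoImplicit false

namespace Cfsg.Agent.Helper99.USp

open Module
open Cfsg.Agent.Helper99.SpStruct Cfsg.Agent.Helper99.SpNd

universe u v

variable {F : Type u} [Field F] {V : Type v} [AddCommGroup V] [Module F V]
variable {B : LinearMap.BilinForm F V} {Y : Module.End F V}

theorem orth_symm_alt (hB : B.IsAlt) {x y : V} (h : B x y = 0) : B y x = 0 := by
  rw [← hB.neg_eq, h, neg_zero]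

/-- the orthogonal of an invariant subspace is invariant -/
theorem inv_orthogonal (hY : Skew B Y) {W : Submodule F V} (hW : ∀ x ∈ W, Y x ∈ W) :
    ∀ y ∈ B.orthogonal W, Y y ∈ B.orthogonal W := by
  intro y hy
  rw [LinearMap.BilinForm.mem_orthogonal_iff] at hy ⊢
  intro w hw
  have h1 := hY w y
  have h2 := hy (Y w) (hW w hw)
  rw [h2] at h1
  have : B w (Y y) = 0 := by
    have := neg_eq_zero.1 h1.symm
    exact this
  exact this

/-- orthogonal sum of two string systems -/
theorem IsSys.sum {S₁ S₂ : Type} {len₁ : S₁ → ℕ} {par₁ : S₁ → S₁} {coef₁ : S₁ → F} {g₁ : S₁ → V}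
    {M₁ : Submodule F V} {len₂ : S₂ → ℕ} {par₂ : S₂ → S₂} {coef₂ : S₂ → F} {g₂ : S₂ → V}
    {M₂ : Submodule F V} (h₁ : IsSys B Y len₁ par₁ coef₁ g₁ M₁)
    (h₂ : IsSys B Y len₂ par₂ coef₂ g₂ M₂) (hB : B.IsAlt) (horth : Orth B M₁ M₂) :
    IsSys B Y (Sum.elim len₁ len₂) (Sum.map par₁ par₂) (Sum.elim coef₁ coef₂) (Sum.elim g₁ g₂)
      (M₁ ⊔ M₂) where
  len_pos := by rintro (s | s); exacts [h₁.len_pos s, h₂.len_pos s]
  par_par := by
    rintro (s | s)
    · simp [h₁.par_par]
    · simp [h₂.par_par]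
  len_par := by
    rintro (s | s)
    · simp [h₁.len_par]
    · simp [h₂.len_par]
  coef_ne := by rintro (s | s); exacts [h₁.coef_ne s, h₂.coef_ne s]
  top := by rintro (s | s); exacts [h₁.top s, h₂.top s]
  form_eq := by rintro (s | s); exacts [h₁.form_eq s, h₂.form_eq s]
  form_ne := by
    rintro (s | s) (t | t) i hne
    · exact h₁.form_ne s t i (by simpa using hne)
    · exact horth _ (by simpa using h₁.mem s 0) _ (h₂.mem t i)
    · exact orth_symm_alt hB (horth _ (h₁.mem t i) _ (by simpa using h₂.mem s 0))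
    · exact h₂.form_ne s t i (by simpa using hne)
  span := by
    rw [← h₁.span, ← h₂.span, ← Submodule.span_union]
    congr 1
    ext x
    constructor
    · rintro ⟨⟨s | s, a⟩, rfl⟩
      · exact Or.inl ⟨(s, a), rfl⟩
      · exact Or.inr ⟨(s, a), rfl⟩
    · rintro (⟨⟨s, a⟩, rfl⟩ | ⟨⟨s, a⟩, rfl⟩)
      · exact ⟨(Sum.inl s, a), rfl⟩
      · exact ⟨(Sum.inr s, a), rfl⟩

/-- reindexing a string system -/
theorem IsSys.reindex {S S' : Type} {len : S → ℕ} {par : S → S} {coef : S → F} {g : S → V}
    {M : Submodule F V} (h : IsSys B Y len par coef g M) (e : S' ≃ S) :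
    IsSys B Y (len ∘ e) (e.symm ∘ par ∘ e) (coef ∘ e) (g ∘ e) M where
  len_pos := fun s => h.len_pos (e s)
  par_par := fun s => by simp [h.par_par]
  len_par := fun s => by simp [h.len_par]
  coef_ne := fun s => h.coef_ne (e s)
  top := fun s => h.top (e s)
  form_eq := fun s => by
    have := h.form_eq (e s)
    simpa using this
  form_ne := fun s t i hne => by
    apply h.form_ne (e s) (e t) i
    rintro ⟨h1, h2⟩
    apply hne
    refine ⟨?_, h2⟩
    simp only [Function.comp_apply]
    rw [← h1, Equiv.symm_apply_apply]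
  span := by
    rw [← h.span]
    congr 1
    ext x
    constructor
    · rintro ⟨⟨s, a⟩, rfl⟩
      exact ⟨(e s, a), rfl⟩
    · rintro ⟨⟨s, a⟩, rfl⟩
      exact ⟨(e.symm s, a), by simp⟩

/-- a change of data along equalities -/
theorem IsSys.congr {S : Type} {len len' : S → ℕ} {par par' : S → S} {coef coef' : S → F}
    {g g' : S → V} {M : Submodule F V} (h : IsSys B Y len par coef g M) (h1 : len = len')
    (h2 : par = par') (h3 : coef = coef') (h4 : g = g') : IsSys B Y len' par' coef' g' M := by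
  subst h1 h2 h3 h4
  exact h

/-- the cyclic subspace generated by a vector -/
def cyc (Y : Module.End F V) (v : V) : Submodule F V :=
  Submodule.span F (Set.range fun a : ℕ => (Y ^ a) v)

/-- an even atom as a string system on `Unit` -/
theorem isSys_even {j : ℕ} (hj : 0 < j) {v : V} {α : F} (hα : α ≠ 0)
    (htop : (Y ^ j) v = 0) (h1 : B v ((Y ^ (j - 1)) v) = α)
    (h0 : ∀ i, i + 1 ≠ j → B v ((Y ^ i) v) = 0) :
    IsSys B Y (fun _ : Unit => j) id (fun _ => α) (fun _ => v) (cyc Y v) where
  len_pos := fun _ => hj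
  par_par := fun _ => rfl
  len_par := fun _ => rfl
  coef_ne := fun _ => hα
  top := fun _ => htop
  form_eq := fun _ => h1
  form_ne := fun _ _ i hne => h0 i (fun h => hne ⟨rfl, h⟩)
  span := by
    unfold cyc
    congr 1
    ext x
    constructor
    · rintro ⟨⟨_, a⟩, rfl⟩
      exact ⟨a, rfl⟩
    · rintro ⟨a, rfl⟩
      exact ⟨((), a), rfl⟩

/-- an odd pair as a string system on `Bool` -/
theorem isSys_odd (hB : B.IsAlt) (hY : Skew B Y) {j : ℕ} (hj : Odd j) {v w : V}
    (htopv : (Y ^ j) v = 0) (htopw : (Y ^ j) w = 0)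
    (hvv : ∀ i, B v ((Y ^ i) v) = 0) (hww : ∀ i, B w ((Y ^ i) w) = 0)
    (h1 : B v ((Y ^ (j - 1)) w) = 1) (h0 : ∀ i, i + 1 ≠ j → B v ((Y ^ i) w) = 0) :
    IsSys B Y (fun _ : Bool => j) (fun b => !b) (fun b => if b then (1 : F) else -1)
      (fun b => if b then v else w) (cyc Y v ⊔ cyc Y w) where
  len_pos := fun _ => hj.pos
  par_par := fun b => by simp
  len_par := fun _ => rfl
  coef_ne := fun b => by cases b <;> simp
  top := fun b => by cases b <;> simp [htopv, htopw]
  form_eq := fun b => by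
    cases b
    · -- `B w (Y^(j-1) v) = -1`
      simp only [Bool.not_false, Bool.false_eq_true, if_false, if_true]
      rw [← hB.neg_eq, hY.pow_left, h1]
      obtain ⟨k, rfl⟩ := hj
      simp [pow_mul]
    · simp only [Bool.not_true, Bool.false_eq_true, if_false, if_true]
      exact h1
  form_ne := fun b c i hne => by
    cases b <;> cases c
    · simpa using hww i
    · simp only [Bool.false_eq_true, if_false, if_true]
      have hi : i + 1 ≠ j := fun h => hne ⟨by simp, h⟩
      rw [← hB.neg_eq, hY.pow_left, h0 i hi, mul_zero, neg_zero]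
    · simp only [Bool.false_eq_true, if_false, if_true]
      exact h0 i (fun h => hne ⟨by simp, h⟩)
    · simpa using hvv i
  span := by
    unfold cyc
    rw [← Submodule.span_union]
    congr 1
    ext x
    constructor
    · rintro ⟨⟨b, a⟩, rfl⟩
      cases b
      · exact Or.inr ⟨a, by simp⟩
      · exact Or.inl ⟨a, by simp⟩
    · rintro (⟨a, rfl⟩ | ⟨a, rfl⟩)
      · exact ⟨(true, a), by simp⟩
      · exact ⟨(false, a), by simp⟩

end Cfsg.Agent.Helper99.USp
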