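import Mathlib
import Cfsg.Agent.Helper99.USpD
import Cfsg.Agent.Helper68.USpN2

/-!
# Existence of atomic decompositions
-/

set_option autoImplicit false

namespace Cfsg.Agent.Helper99.USp

open Module
open Cfsg.Agent.Helper99.SpStruct Cfsg.Agent.Helper99.SpNd

universe u v

variable {F : Type u} [Field F] {V : Type v} [AddCommGroup V] [Module F V]

section data

variable {E P : Type}

/-- lengths of the strings of an atomic decomposition -/
def aLen (lenE : E → ℕ) (lenP : P → ℕ) : E ⊕ P × Bool → ℕ := Sum.elim lenE (fun x => lenP x.1)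

/-- partner map of an atomic decomposition -/
def aPar : E ⊕ P × Bool → E ⊕ P × Bool := Sum.map id (fun x => (x.1, !x.2))

/-- coefficients of an atomic decomposition -/
def aCoef (coefE : E → F) : E ⊕ P × Bool → F := Sum.elim coefE (fun x => if x.2 then 1 else -1)

/-- generators of an atomic decomposition -/
def aGen (gE : E → V) (gv gw : P → V) : E ⊕ P × Bool → V :=
  Sum.elim gE (fun x => if x.2 then gv x.1 else gw x.1)

/-- an atomic decomposition of `M`: even atoms indexed by `E`, odd pairs indexed by `P` -/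
structure IsDec (B : LinearMap.BilinForm F V) (Y : Module.End F V) (lenE : E → ℕ) (coefE : E → F)
    (gE : E → V) (lenP : P → ℕ) (gv gw : P → V) (M : Submodule F V) : Prop where
  sys : IsSys B Y (aLen lenE lenP) aPar (aCoef coefE) (aGen gE gv gw) M
  even : ∀ e, Even (lenE e)
  odd : ∀ q, Odd (lenP q)

end data

/-- reindexing for adding an even atom -/
def addEvenEquiv (E P : Type) : (Option E ⊕ P × Bool) ≃ Unit ⊕ (E ⊕ P × Bool) where
  toFun := fun x => match x with
    | Sum.inl none => Sum.inl ()
    | Sum.inl (some e) => Sum.inr (Sum.inl e)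
    | Sum.inr y => Sum.inr (Sum.inr y)
  invFun := fun x => match x with
    | Sum.inl _ => Sum.inl none
    | Sum.inr (Sum.inl e) => Sum.inl (some e)
    | Sum.inr (Sum.inr y) => Sum.inr y
  left_inv := by rintro ((_ | e) | y) <;> rfl
  right_inv := by rintro (_ | e | y) <;> rfl

/-- reindexing for adding an odd pair -/
def addOddEquiv (E P : Type) : (E ⊕ Option P × Bool) ≃ Bool ⊕ (E ⊕ P × Bool) where
  toFun := fun x => match x with
    | Sum.inl e => Sum.inr (Sum.inl e)
    | Sum.inr (none, b) => Sum.inl b
    | Sum.inr (some q, b) => Sum.inr (Sum.inr (q, b))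
  invFun := fun x => match x with
    | Sum.inl b => Sum.inr (none, b)
    | Sum.inr (Sum.inl e) => Sum.inl e
    | Sum.inr (Sum.inr (q, b)) => Sum.inr (some q, b)
  left_inv := by rintro (e | ⟨_ | q, b⟩) <;> rfl
  right_inv := by rintro (b | e | ⟨q, b⟩) <;> rfl

variable {B : LinearMap.BilinForm F V} {Y : Module.End F V}

theorem cyc_le [FiniteDimensional F V] {M : Submodule F V} (hinv : ∀ x ∈ M, Y x ∈ M) {v : V} (hv : v ∈ M) :
    cyc Y v ≤ M := by
  unfold cyc
  rw [Submodule.span_le]
  rintro _ ⟨a, rfl⟩
  exact pow_mem_of_inv hinv a v hv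

theorem IsDec.add_even {E P : Type} {lenE : E → ℕ} {coefE : E → F} {gE : E → V} {lenP : P → ℕ}
    {gv gw : P → V} {M' W : Submodule F V} (h : IsDec B Y lenE coefE gE lenP gv gw M')
    (hB : B.IsAlt) {j : ℕ} {α : F} {v : V} (hj : Even j)
    (hW : IsSys B Y (fun _ : Unit => j) id (fun _ => α) (fun _ => v) W) (horth : Orth B W M') :
    IsDec B Y (fun o : Option E => o.elim j lenE) (fun o => o.elim α coefE)
      (fun o => o.elim v gE) lenP gv gw (W ⊔ M') where
  even := by
    rintro (_ | e)
    · exact hj
    · exact h.even e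
  odd := h.odd
  sys := by
    have h1 := ((hW.sum h.sys hB horth).reindex (addEvenEquiv E P))
    refine h1.congr ?_ ?_ ?_ ?_
    · funext x
      rcases x with (_ | e) | y <;> rfl
    · funext x
      rcases x with (_ | e) | y <;> rfl
    · funext x
      rcases x with (_ | e) | y <;> rfl
    · funext x
      rcases x with (_ | e) | y <;> rfl

theorem IsDec.add_odd {E P : Type} {lenE : E → ℕ} {coefE : E → F} {gE : E → V} {lenP : P → ℕ}
    {gv gw : P → V} {M' W : Submodule F V} (h : IsDec B Y lenE coefE gE lenP gv gw M')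
    (hB : B.IsAlt) {j : ℕ} {v w : V} (hj : Odd j)
    (hW : IsSys B Y (fun _ : Bool => j) (fun b => !b) (fun b => if b then (1 : F) else -1)
      (fun b => if b then v else w) W) (horth : Orth B W M') :
    IsDec B Y lenE coefE gE (fun o : Option P => o.elim j lenP) (fun o => o.elim v gv)
      (fun o => o.elim w gw) (W ⊔ M') where
  even := h.even
  odd := by
    rintro (_ | q)
    · exact hj
    · exact h.odd q
  sys := by
    have h1 := ((hW.sum h.sys hB horth).reindex (addOddEquiv E P))
    refine h1.congr ?_ ?_ ?_ ?_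
    · funext x
      rcases x with e | ⟨_ | q, b⟩ <;> rfl
    · funext x
      rcases x with e | ⟨_ | q, b⟩ <;> rfl
    · funext x
      rcases x with e | ⟨_ | q, b⟩ <;> rfl
    · funext x
      rcases x with e | ⟨_ | q, b⟩ <;> rfl

theorem isDec_bot : IsDec B Y (fun e : Empty => e.elim) (fun e : Empty => e.elim)
    (fun e : Empty => e.elim) (fun e : Empty => e.elim) (fun e : Empty => e.elim)
    (fun e : Empty => e.elim) (⊥ : Submodule F V) where
  even := fun e => e.elim
  odd := fun e => e.elim
  sys :=
    { len_pos := by rintro (e | ⟨e, _⟩) <;> exact e.elim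
      par_par := by rintro (e | ⟨e, _⟩) <;> exact e.elim
      len_par := by rintro (e | ⟨e, _⟩) <;> exact e.elim
      coef_ne := by rintro (e | ⟨e, _⟩) <;> exact e.elim
      top := by rintro (e | ⟨e, _⟩) <;> exact e.elim
      form_eq := by rintro (e | ⟨e, _⟩) <;> exact e.elim
      form_ne := by rintro (e | ⟨e, _⟩) <;> exact e.elim
      span := by
        rw [Submodule.span_eq_bot]
        rintro _ ⟨⟨(e | ⟨e, _⟩), _⟩, _⟩ <;> exact e.elim }

/-- **existence of atomic decompositions** -/
theorem exists_dec [FiniteDimensional F V] (h2 : (2 : F) ≠ 0) (hB : B.IsAlt) (hY : Skew B Y)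
    (hnil : IsNilpotent Y) :
    ∀ n : ℕ, ∀ M : Submodule F V, finrank F ↥M = n → Nd B M → (∀ x ∈ M, Y x ∈ M) →
      ∃ (E P : Type) (_ : Fintype E) (_ : Fintype P) (lenE : E → ℕ) (coefE : E → F) (gE : E → V)
        (lenP : P → ℕ) (gv gw : P → V), IsDec B Y lenE coefE gE lenP gv gw M := by
  intro n
  induction n using Nat.strong_induction_on with
  | _ n ih =>
    intro M hn hM hinv
    by_cases hbot : M = ⊥
    · subst hbot
      exact ⟨Empty, Empty, inferInstance, inferInstance, _, _, _, _, _, _, isDec_bot⟩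
    · -- the nilpotency index on `M`
      have hex : ∃ j, ∀ x ∈ M, (Y ^ j) x = 0 := by
        obtain ⟨k, hk⟩ := hnil
        exact ⟨k, fun x _ => by rw [hk, LinearMap.zero_apply]⟩
      classical
      set j := Nat.find hex with hjdef
      have hjtop : ∀ x ∈ M, (Y ^ j) x = 0 := Nat.find_spec hex
      have hj0 : j ≠ 0 := by
        intro h0
        apply hbot
        rw [Submodule.eq_bot_iff]
        intro x hx
        have := hjtop x hx
        rwa [h0, pow_zero, Module.End.one_apply] at this
      have hne : ∃ x ∈ M, (Y ^ (j - 1)) x ≠ 0 := by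
        by_contra hcon
        push Not at hcon
        exact Nat.find_min hex (by omega : j - 1 < j) hcon
      rcases Nat.even_or_odd j with hje | hjo
      · obtain ⟨v, hvM, α, hα, h1, h0⟩ :=
          Cfsg.Agent.Helper68.USpN.exists_even_atom h2 B hB Y hY M hM hinv j hje hjtop hne
        have hW := isSys_even (B := B) (Y := Y) (Nat.pos_of_ne_zero hj0) hα (hjtop v hvM) h1 h0
        have hWM : cyc Y v ≤ M := cyc_le hinv hvM
        have hWnd := hW.nd hB hY
        have hWinv := hW.inv
        have hM'nd := hWnd.inf_orth hB.isRefl hWM hM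
        have hM'inv : ∀ x ∈ M ⊓ B.orthogonal (cyc Y v), Y x ∈ M ⊓ B.orthogonal (cyc Y v) :=
          fun x hx => ⟨hinv x hx.1, inv_orthogonal hY hWinv x hx.2⟩
        have hdim := hWnd.finrank_inf_orth hB.isRefl hWM
        have hWdim : finrank F ↥(cyc Y v) = j := by
          rw [hW.finrank_eq hY]
          simp
        obtain ⟨E, P, _, _, lenE, coefE, gE, lenP, gv, gw, hdec⟩ :=
          ih (finrank F ↥(M ⊓ B.orthogonal (cyc Y v))) (by omega) _ rfl hM'nd hM'inv
        have hsum := (hWnd.sup_inf_orth hB.isRefl hWM).1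
        have := hdec.add_even hB hje hW orth_inf_orth
        rw [hsum] at this
        exact ⟨Option E, P, inferInstance, inferInstance, _, _, _, _, _, _, this⟩
      · obtain ⟨v, hvM, w, hwM, hvv, hww, h1, h0⟩ :=
          Cfsg.Agent.Helper68.USpN.exists_odd_atom h2 B hB Y hY M hM hinv j hjo hjtop hne
        have hW := isSys_odd hB hY hjo (hjtop v hvM) (hjtop w hwM) hvv hww h1 h0
        have hWM : cyc Y v ⊔ cyc Y w ≤ M := sup_le (cyc_le hinv hvM) (cyc_le hinv hwM)
        have hWnd := hW.nd hB hY
        have hWinv := hW.inv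
        have hM'nd := hWnd.inf_orth hB.isRefl hWM hM
        have hM'inv : ∀ x ∈ M ⊓ B.orthogonal (cyc Y v ⊔ cyc Y w),
            Y x ∈ M ⊓ B.orthogonal (cyc Y v ⊔ cyc Y w) :=
          fun x hx => ⟨hinv x hx.1, inv_orthogonal hY hWinv x hx.2⟩
        have hdim := hWnd.finrank_inf_orth hB.isRefl hWM
        have hWdim : finrank F ↥(cyc Y v ⊔ cyc Y w) = 2 * j := by
          rw [hW.finrank_eq hY]
          simp
        obtain ⟨E, P, _, _, lenE, coefE, gE, lenP, gv, gw, hdec⟩ :=
          ih (finrank F ↥(M ⊓ B.orthogonal (cyc Y v ⊔ cyc Y w))) (by omega) _ rfl hM'nd hM'inv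
        have hsum := (hWnd.sup_inf_orth hB.isRefl hWM).1
        have := hdec.add_odd hB hjo hW orth_inf_orth
        rw [hsum] at this
        exact ⟨E, Option P, inferInstance, inferInstance, _, _, _, _, _, _, this⟩

end Cfsg.Agent.Helper99.USp
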