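import Mathlib
import Cfsg.Agent.Helper99.USpD

/-!
# Re-decomposition: scaling generators, mixing two even atoms of the same length
-/

set_option autoImplicit false

namespace Cfsg.Agent.Helper99.USp

open Module
open Cfsg.Agent.Helper99.SpStruct Cfsg.Agent.Helper99.SpNd

universe u v

variable {F : Type u} [Field F] {V : Type v} [AddCommGroup V] [Module F V]
variable {B : LinearMap.BilinForm F V} {Y : Module.End F V}

/-- a system inside `M` with the right number of vectors generates `M` -/
theorem IsSys.of_le [FiniteDimensional F V] {S : Type} [Fintype S] {len : S → ℕ} {par : S → S}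
    {coef : S → F} {g : S → V} {M N : Submodule F V} (h : IsSys B Y len par coef g N)
    (hY : Skew B Y) (hNM : N ≤ M) (hdim : finrank F ↥M = ∑ s, len s) :
    IsSys B Y len par coef g M := by
  have h1 : N = M := by
    apply Submodule.eq_of_le_of_finrank_eq hNM
    rw [h.finrank_eq hY, hdim]
  rw [← h1]
  exact h

/-- the span of the strings of a family of generators -/
def strSpan (Y : Module.End F V) {S : Type} (g : S → V) : Submodule F V :=
  Submodule.span F (Set.range fun x : S × ℕ => (Y ^ x.2) (g x.1))

theorem strSpan_le {S : Type} {g : S → V} {M : Submodule F V} (hinv : ∀ x ∈ M, Y x ∈ M)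
    (hg : ∀ s, g s ∈ M) : strSpan Y g ≤ M := by
  unfold strSpan
  rw [Submodule.span_le]
  rintro _ ⟨⟨s, a⟩, rfl⟩
  show (Y ^ a) (g s) ∈ M
  induction a with
  | zero => simpa using hg s
  | succ a ih =>
    rw [pow_succ', Module.End.mul_apply]
    exact hinv _ ih

/-- scaling the generators -/
theorem IsSys.scale [FiniteDimensional F V] {S : Type} [Fintype S] {len : S → ℕ} {par : S → S}
    {coef : S → F} {g : S → V} {M : Submodule F V} (h : IsSys B Y len par coef g M)
    (hY : Skew B Y) (c : S → F) (hc : ∀ s, c s ≠ 0) :
    IsSys B Y len par (fun s => c s * c (par s) * coef s) (fun s => c s • g s) M := by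
  have h0 : IsSys B Y len par (fun s => c s * c (par s) * coef s) (fun s => c s • g s)
      (strSpan Y (fun s => c s • g s)) :=
    { len_pos := h.len_pos
      par_par := h.par_par
      len_par := h.len_par
      coef_ne := fun s => mul_ne_zero (mul_ne_zero (hc s) (hc _)) (h.coef_ne s)
      top := fun s => by rw [map_smul, h.top, smul_zero]
      form_eq := fun s => by
        simp only [map_smul, LinearMap.smul_apply, smul_eq_mul, h.form_eq]
        ring
      form_ne := fun s t i hne => by
        simp only [map_smul, LinearMap.smul_apply, smul_eq_mul, h.form_ne s t i hne, mul_zero]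
      span := rfl }
  exact h0.of_le hY (strSpan_le h.inv (fun s => M.smul_mem _ (by simpa using h.mem s 0)))
    (h.finrank_eq hY)

/-- mixing two self-paired strings of the same length -/
theorem IsSys.mix [FiniteDimensional F V] {S : Type} [Fintype S] [DecidableEq S] {len : S → ℕ}
    {par : S → S} {coef : S → F} {g : S → V} {M : Submodule F V}
    (h : IsSys B Y len par coef g M) (hY : Skew B Y) {s₁ s₂ : S} (h12 : s₁ ≠ s₂)
    (hp1 : par s₁ = s₁) (hp2 : par s₂ = s₂) (hlen : len s₁ = len s₂) (x y : F)
    (hγ : coef s₁ * x ^ 2 + coef s₂ * y ^ 2 ≠ 0) :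
    IsSys B Y len par
      (Function.update (Function.update coef s₁ (coef s₁ * x ^ 2 + coef s₂ * y ^ 2)) s₂
        (coef s₁ * coef s₂ * (coef s₁ * x ^ 2 + coef s₂ * y ^ 2)))
      (Function.update (Function.update g s₁ (x • g s₁ + y • g s₂)) s₂
        ((-(coef s₂ * y)) • g s₁ + (coef s₁ * x) • g s₂)) M := by
  set α := coef s₁ with hα
  set β := coef s₂ with hβ
  set γ := α * x ^ 2 + β * y ^ 2 with hγdef
  set g' := Function.update (Function.update g s₁ (x • g s₁ + y • g s₂)) s₂
    ((-(β * y)) • g s₁ + (α * x) • g s₂) with hg'
  set coef' := Function.update (Function.update coef s₁ γ) s₂ (α * β * γ) with hcoef'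
  have hg1 : g' s₁ = x • g s₁ + y • g s₂ := by
    rw [hg', Function.update_of_ne h12, Function.update_self]
  have hg2 : g' s₂ = (-(β * y)) • g s₁ + (α * x) • g s₂ := by
    rw [hg', Function.update_self]
  have hg3 : ∀ s, s ≠ s₁ → s ≠ s₂ → g' s = g s := by
    intro s hs1 hs2
    rw [hg', Function.update_of_ne hs2, Function.update_of_ne hs1]
  have hc1 : coef' s₁ = γ := by
    rw [hcoef', Function.update_of_ne h12, Function.update_self]
  have hc2 : coef' s₂ = α * β * γ := by
    rw [hcoef', Function.update_self]
  have hc3 : ∀ s, s ≠ s₁ → s ≠ s₂ → coef' s = coef s := by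
    intro s hs1 hs2
    rw [hcoef', Function.update_of_ne hs2, Function.update_of_ne hs1]
  -- the old pairings among `s₁, s₂`
  have f11 : ∀ i, B (g s₁) ((Y ^ i) (g s₁)) = if i + 1 = len s₁ then α else 0 := by
    intro i
    split_ifs with hi
    · have := h.form_eq s₁
      rw [hp1] at this
      have hi' : i = len s₁ - 1 := by omega
      rw [hi', this]
    · exact h.form_ne s₁ s₁ i (fun hh => hi hh.2)
  have f22 : ∀ i, B (g s₂) ((Y ^ i) (g s₂)) = if i + 1 = len s₁ then β else 0 := by
    intro i
    split_ifs with hi
    · have := h.form_eq s₂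
      rw [hp2] at this
      have hi' : i = len s₂ - 1 := by omega
      rw [hi', this]
    · exact h.form_ne s₂ s₂ i (fun hh => hi (by rw [hlen]; exact hh.2))
  have f12 : ∀ i, B (g s₁) ((Y ^ i) (g s₂)) = 0 := fun i =>
    h.form_ne s₁ s₂ i (fun hh => h12 (by rw [hp1] at hh; exact hh.1.symm))
  have f21 : ∀ i, B (g s₂) ((Y ^ i) (g s₁)) = 0 := fun i =>
    h.form_ne s₂ s₁ i (fun hh => h12 (by rw [hp2] at hh; exact hh.1))
  have fo1 : ∀ s, s ≠ s₁ → s ≠ s₂ → ∀ i, B (g s₁) ((Y ^ i) (g s)) = 0 := fun s hs1 _ i =>
    h.form_ne s₁ s i (fun hh => hs1 (by rw [hp1] at hh; exact hh.1))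
  have fo2 : ∀ s, s ≠ s₁ → s ≠ s₂ → ∀ i, B (g s₂) ((Y ^ i) (g s)) = 0 := fun s _ hs2 i =>
    h.form_ne s₂ s i (fun hh => hs2 (by rw [hp2] at hh; exact hh.1))
  have f1o : ∀ s, s ≠ s₁ → s ≠ s₂ → ∀ i, B (g s) ((Y ^ i) (g s₁)) = 0 := fun s hs1 _ i =>
    h.form_ne s s₁ i (fun hh => hs1 (by
      have := congrArg par hh.1
      rw [h.par_par, hp1] at this
      exact this.symm))
  have f2o : ∀ s, s ≠ s₁ → s ≠ s₂ → ∀ i, B (g s) ((Y ^ i) (g s₂)) = 0 := fun s _ hs2 i =>
    h.form_ne s s₂ i (fun hh => hs2 (by
      have := congrArg par hh.1
      rw [h.par_par, hp2] at this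
      exact this.symm))
  have hpar_ne1 : ∀ s, s ≠ s₁ → par s ≠ s₁ := fun s hs hh => hs (by
    have := congrArg par hh
    rw [h.par_par, hp1] at this
    exact this)
  have hpar_ne2 : ∀ s, s ≠ s₂ → par s ≠ s₂ := fun s hs hh => hs (by
    have := congrArg par hh
    rw [h.par_par, hp2] at this
    exact this)
  have h0 : IsSys B Y len par coef' g' (strSpan Y g') :=
    { len_pos := h.len_pos
      par_par := h.par_par
      len_par := h.len_par
      coef_ne := fun s => by
        by_cases hs1 : s = s₁
        · rw [hs1, hc1]; exact hγ
        · by_cases hs2 : s = s₂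
          · rw [hs2, hc2]
            exact mul_ne_zero (mul_ne_zero (h.coef_ne s₁) (h.coef_ne s₂)) hγ
          · rw [hc3 s hs1 hs2]; exact h.coef_ne s
      top := fun s => by
        by_cases hs1 : s = s₁
        · rw [hs1, hg1, map_add, map_smul, map_smul, h.top, hlen, h.top, smul_zero, smul_zero,
            add_zero]
        · by_cases hs2 : s = s₂
          · rw [hs2, hg2, map_add, map_smul, map_smul, h.top, ← hlen, h.top, smul_zero,
              smul_zero, add_zero]
          · rw [hg3 s hs1 hs2]; exact h.top s
      form_eq := fun s => by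
        by_cases hs1 : s = s₁
        · rw [hs1, hp1, hc1, hg1]
          have hl : len s₁ - 1 + 1 = len s₁ := by have := h.len_pos s₁; omega
          simp only [map_add, map_smul, LinearMap.add_apply, LinearMap.smul_apply, smul_eq_mul,
            f11, f22, f12, f21, hl, if_true]
          ring
        · by_cases hs2 : s = s₂
          · rw [hs2, hp2, hc2, hg2, ← hlen]
            have hl : len s₁ - 1 + 1 = len s₁ := by have := h.len_pos s₁; omega
            simp only [map_add, map_smul, LinearMap.add_apply, LinearMap.smul_apply, smul_eq_mul,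
              f11, f22, f12, f21, hl, if_true]
            ring
          · rw [hg3 s hs1 hs2, hg3 (par s) (hpar_ne1 s hs1) (hpar_ne2 s hs2), hc3 s hs1 hs2]
            exact h.form_eq s
      form_ne := fun s t i hne => by
        by_cases hs1 : s = s₁
        · subst hs1
          by_cases ht1 : t = s
          · subst ht1
            rw [hg1]
            have hi : ¬ (i + 1 = len t) := fun hh => hne ⟨hp1.symm, hh⟩
            simp only [map_add, map_smul, LinearMap.add_apply, LinearMap.smul_apply, smul_eq_mul,
              f11, f22, f12, f21, hi, if_false]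
            ring
          · by_cases ht2 : t = s₂
            · subst ht2
              rw [hg1, hg2]
              simp only [map_add, map_smul, LinearMap.add_apply, LinearMap.smul_apply,
                smul_eq_mul, f11, f22, f12, f21]
              split_ifs <;> ring
            · rw [hg1, hg3 t ht1 ht2]
              simp only [map_add, map_smul, LinearMap.add_apply, LinearMap.smul_apply,
                smul_eq_mul, fo1 t ht1 ht2, fo2 t ht1 ht2]
              ring
        · by_cases hs2 : s = s₂
          · subst hs2
            by_cases ht1 : t = s₁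
            · subst ht1
              rw [hg1, hg2]
              simp only [map_add, map_smul, LinearMap.add_apply, LinearMap.smul_apply,
                smul_eq_mul, f11, f22, f12, f21]
              split_ifs <;> ring
            · by_cases ht2 : t = s
              · subst ht2
                rw [hg2]
                have hi : ¬ (i + 1 = len s₁) := fun hh => hne ⟨hp2.symm, by rw [← hlen]; exact hh⟩
                simp only [map_add, map_smul, LinearMap.add_apply, LinearMap.smul_apply,
                  smul_eq_mul, f11, f22, f12, f21, hi, if_false]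
                ring
              · rw [hg2, hg3 t ht1 ht2]
                simp only [map_add, map_smul, LinearMap.add_apply, LinearMap.smul_apply,
                  smul_eq_mul, fo1 t ht1 ht2, fo2 t ht1 ht2]
                ring
          · rw [hg3 s hs1 hs2]
            by_cases ht1 : t = s₁
            · subst ht1
              rw [hg1]
              simp only [map_add, map_smul, smul_eq_mul, f1o s hs1 hs2, f2o s hs1 hs2]
              ring
            · by_cases ht2 : t = s₂
              · subst ht2
                rw [hg2]
                simp only [map_add, map_smul, smul_eq_mul, f1o s hs1 hs2, f2o s hs1 hs2]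
                ring
              · rw [hg3 t ht1 ht2]
                exact h.form_ne s t i hne
      span := rfl }
  refine h0.of_le hY (strSpan_le h.inv (fun s => ?_)) (h.finrank_eq hY)
  have hm : ∀ s, g s ∈ M := fun s => by simpa using h.mem s 0
  by_cases hs1 : s = s₁
  · rw [hs1, hg1]
    exact M.add_mem (M.smul_mem _ (hm _)) (M.smul_mem _ (hm _))
  · by_cases hs2 : s = s₂
    · rw [hs2, hg2]
      exact M.add_mem (M.smul_mem _ (hm _)) (M.smul_mem _ (hm _))
    · rw [hg3 s hs1 hs2]
      exact hm s

end Cfsg.Agent.Helper99.USp
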