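import Mathlib
import Cfsg.Agent.Helper99.USpE
import Cfsg.Agent.Helper99.USpF

/-!
# Normalisation of the coefficients of an atomic decomposition over a finite field
-/

set_option autoImplicit false

namespace Cfsg.Agent.Helper99.USp

open Module
open Cfsg.Agent.Helper99.SpStruct Cfsg.Agent.Helper99.SpNd

universe u v

/-! ### finite fields -/

section ff

variable {F : Type u} [Field F] [Fintype F]

theorem exists_sq_sum_eq_one (hodd : Fintype.card F % 2 = 1) {α β : F} (hα : α ≠ 0) (hβ : β ≠ 0) :
    ∃ x y : F, α * x ^ 2 + β * y ^ 2 = 1 := by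
  open Polynomial in
  have h1 : (C α * X ^ 2 : F[X]).degree = 2 := by
    rw [degree_C_mul hα, degree_X_pow]
    rfl
  open Polynomial in
  have h2 : (C β * X ^ 2 - C 1 : F[X]).degree = 2 := by
    have h3 : (C β * X ^ 2 : F[X]).degree = 2 := by
      rw [degree_C_mul hβ, degree_X_pow]
      rfl
    rw [degree_sub_eq_left_of_degree_lt, h3]
    rw [h3]
    exact lt_of_le_of_lt degree_C_le (by norm_num)
  obtain ⟨a, b, hab⟩ := FiniteField.exists_root_sum_quadratic h1 h2 hodd
  refine ⟨a, b, ?_⟩
  simp only [Polynomial.eval_mul, Polynomial.eval_C, Polynomial.eval_pow, Polynomial.eval_X,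
    Polynomial.eval_sub] at hab
  linear_combination hab

theorem isSquare_mul_iff (h2 : (2 : F) ≠ 0) {a b : F} (ha : a ≠ 0) (hb : b ≠ 0) :
    IsSquare (a * b) ↔ (IsSquare a ↔ IsSquare b) := by
  classical
  have hF : ringChar F ≠ 2 := by
    intro h
    apply h2
    have := ringChar.Nat.cast_ringChar (R := F)
    rw [h] at this
    exact_mod_cast this
  rw [← quadraticChar_one_iff_isSquare (mul_ne_zero ha hb), ← quadraticChar_one_iff_isSquare ha,
    ← quadraticChar_one_iff_isSquare hb, map_mul]
  rcases quadraticChar_dichotomy ha with h1 | h1 <;> rcases quadraticChar_dichotomy hb with h3 | h3 <;>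
    rw [h1, h3] <;> decide

end ff

variable {F : Type u} [Field F] {V : Type v} [AddCommGroup V] [Module F V]
variable {B : LinearMap.BilinForm F V} {Y : Module.End F V}

section ops

variable {E P : Type} [Fintype E] [Fintype P] {lenE : E → ℕ} {coefE : E → F} {gE : E → V}
  {lenP : P → ℕ} {gv gw : P → V} {M : Submodule F V}

/-- scaling the generators of the even atoms -/
theorem IsDec.scale [FiniteDimensional F V] (h : IsDec B Y lenE coefE gE lenP gv gw M)
    (hY : Skew B Y) (c : E → F) (hc : ∀ e, c e ≠ 0) :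
    IsDec B Y lenE (fun e => c e ^ 2 * coefE e) (fun e => c e • gE e) lenP gv gw M where
  even := h.even
  odd := h.odd
  sys := by
    have h1 := h.sys.scale hY (Sum.elim c (fun _ => 1)) (by
      rintro (e | x)
      · exact hc e
      · exact one_ne_zero)
    refine h1.congr rfl rfl ?_ ?_
    · funext s
      rcases s with e | ⟨q, b⟩
      · show c e * c e * coefE e = c e ^ 2 * coefE e
        ring
      · show (1 : F) * 1 * (if b then 1 else -1) = if b then 1 else -1
        rw [one_mul, one_mul]
    · funext s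
      rcases s with e | ⟨q, b⟩
      · rfl
      · show (1 : F) • (if b then gv q else gw q) = if b then gv q else gw q
        rw [one_smul]

/-- mixing two even atoms of the same length -/
theorem IsDec.mix [FiniteDimensional F V] [DecidableEq E]
    (h : IsDec B Y lenE coefE gE lenP gv gw M) (hY : Skew B Y) {e₁ e₂ : E} (h12 : e₁ ≠ e₂)
    (hlen : lenE e₁ = lenE e₂) (x y : F) (hγ : coefE e₁ * x ^ 2 + coefE e₂ * y ^ 2 ≠ 0) :
    IsDec B Y lenE
      (Function.update (Function.update coefE e₁ (coefE e₁ * x ^ 2 + coefE e₂ * y ^ 2)) e₂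
        (coefE e₁ * coefE e₂ * (coefE e₁ * x ^ 2 + coefE e₂ * y ^ 2)))
      (Function.update (Function.update gE e₁ (x • gE e₁ + y • gE e₂)) e₂
        ((-(coefE e₂ * y)) • gE e₁ + (coefE e₁ * x) • gE e₂)) lenP gv gw M where
  even := h.even
  odd := h.odd
  sys := by
    classical
    have h1 := h.sys.mix hY (s₁ := Sum.inl e₁) (s₂ := Sum.inl e₂)
      (fun hh => h12 (Sum.inl_injective hh)) rfl rfl hlen x y hγ
    refine h1.congr rfl rfl ?_ ?_
    · unfold aCoef
      rw [Sum.update_elim_inl, Sum.update_elim_inl]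
      rfl
    · unfold aGen
      rw [Sum.update_elim_inl, Sum.update_elim_inl]
      rfl

end ops

end Cfsg.Agent.Helper99.USp

namespace Cfsg.Agent.Helper99.USp

open Module
open Cfsg.Agent.Helper99.SpStruct Cfsg.Agent.Helper99.SpNd

universe u v

variable {F : Type u} [Field F] {V : Type v} [AddCommGroup V] [Module F V]
variable {B : LinearMap.BilinForm F V} {Y : Module.End F V}

theorem prod_update_pair {E : Type} [DecidableEq E] (s : Finset E) (f : E → F) {e₁ e₂ : E}
    (h12 : e₁ ≠ e₂) (hmem : e₁ ∈ s ↔ e₂ ∈ s) (a b : F) (hab : a * b = f e₁ * f e₂) :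
    ∏ e ∈ s, Function.update (Function.update f e₁ a) e₂ b e = ∏ e ∈ s, f e := by
  by_cases h1 : e₁ ∈ s
  · have h2' : e₂ ∈ s := hmem.1 h1
    have h1' : e₁ ∈ s.erase e₂ := Finset.mem_erase.2 ⟨h12, h1⟩
    rw [← Finset.mul_prod_erase s _ h2', ← Finset.mul_prod_erase (s.erase e₂) _ h1',
      ← Finset.mul_prod_erase s f h2', ← Finset.mul_prod_erase (s.erase e₂) f h1',
      Function.update_self, Function.update_of_ne h12, Function.update_self]
    have h3 : ∏ e ∈ (s.erase e₂).erase e₁, Function.update (Function.update f e₁ a) e₂ b e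
        = ∏ e ∈ (s.erase e₂).erase e₁, f e := by
      apply Finset.prod_congr rfl
      intro e he
      have he1 : e ≠ e₁ := (Finset.mem_erase.1 he).1
      have he2 : e ≠ e₂ := (Finset.mem_erase.1 (Finset.mem_erase.1 he).2).1
      rw [Function.update_of_ne he2, Function.update_of_ne he1]
    rw [h3, ← mul_assoc, ← mul_assoc, mul_comm b a, hab, mul_comm (f e₂) (f e₁)]
  · have h2' : e₂ ∉ s := fun hh => h1 (hmem.2 hh)
    apply Finset.prod_congr rfl
    intro e he
    have he1 : e ≠ e₁ := fun hh => h1 (hh ▸ he)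
    have he2 : e ≠ e₂ := fun hh => h2' (hh ▸ he)
    rw [Function.update_of_ne he2, Function.update_of_ne he1]

section normalize

variable {E P : Type} [Fintype E] [Fintype P] {lenE : E → ℕ} {lenP : P → ℕ} {gv gw : P → V}
  {M : Submodule F V}

/-- the scaling constants -/
theorem exists_scale [Fintype F] (h2 : (2 : F) ≠ 0) {ν : F} (hν : ¬ IsSquare ν) {α : F}
    (hα : α ≠ 0) :
    ∃ c : F, c ≠ 0 ∧ (c ^ 2 * α = 1 ∨ c ^ 2 * α = ν) ∧ (α = 1 → c ^ 2 * α = 1) := by
  have hν0 : ν ≠ 0 := by
    rintro rfl
    exact hν ⟨0, by simp⟩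
  by_cases h1 : α = 1
  · exact ⟨1, one_ne_zero, Or.inl (by rw [h1]; ring), fun _ => by rw [h1]; ring⟩
  · by_cases hsq : IsSquare α
    · obtain ⟨s, hs⟩ := hsq
      have hs0 : s ≠ 0 := by
        rintro rfl
        apply hα
        rw [hs, mul_zero]
      refine ⟨s⁻¹, inv_ne_zero hs0, Or.inl ?_, fun hh => absurd hh h1⟩
      rw [hs]
      field_simp
    · have h3 : IsSquare (ν * α) := by
        rw [isSquare_mul_iff h2 hν0 hα]
        exact ⟨fun hh => absurd hh hν, fun hh => absurd hh hsq⟩
      obtain ⟨t, ht⟩ := h3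
      have ht0 : t ≠ 0 := by
        rintro rfl
        rw [mul_zero] at ht
        exact mul_ne_zero hν0 hα ht
      refine ⟨t / α, div_ne_zero ht0 hα, Or.inr ?_, fun hh => absurd hh h1⟩
      have : (t / α) ^ 2 * α = (t * t) / α := by
        field_simp
      rw [this, ← ht]
      field_simp

theorem IsDec.normalize [FiniteDimensional F V] [Fintype F] [DecidableEq F] [DecidableEq E]
    (h2 : (2 : F) ≠ 0)
    {ν : F} (hν : ¬ IsSquare ν) (hY : Skew B Y) :
    ∀ n : ℕ, ∀ (coefE : E → F) (gE : E → V), IsDec B Y lenE coefE gE lenP gv gw M →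
      (Finset.univ.filter (fun e => coefE e ≠ 1)).card = n →
      ∃ (coefE' : E → F) (gE' : E → V), IsDec B Y lenE coefE' gE' lenP gv gw M ∧
        (∀ e, coefE' e = 1 ∨ coefE' e = ν) ∧
        (∀ e e', lenE e = lenE e' → coefE' e = ν → coefE' e' = ν → e = e') ∧
        ∀ j, IsSquare ((∏ e ∈ Finset.univ.filter (fun e => lenE e = j), coefE e) *
          ∏ e ∈ Finset.univ.filter (fun e => lenE e = j), coefE' e) := by
  have hodd : Fintype.card F % 2 = 1 := by
    have hF : ringChar F ≠ 2 := by
      intro h
      apply h2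
      have := ringChar.Nat.cast_ringChar (R := F)
      rw [h] at this
      exact_mod_cast this
    exact FiniteField.odd_card_of_char_ne_two hF
  have hν1 : ν ≠ 1 := by
    rintro rfl
    exact hν ⟨1, by simp⟩
  intro n
  induction n using Nat.strong_induction_on with
  | _ n ih =>
    intro coefE gE h hn
    have hne : ∀ e, coefE e ≠ 0 := fun e => h.sys.coef_ne (Sum.inl e)
    by_cases hpair : ∃ e₁ e₂, e₁ ≠ e₂ ∧ lenE e₁ = lenE e₂ ∧ coefE e₁ ≠ 1 ∧ coefE e₂ ≠ 1
    · obtain ⟨e₁, e₂, h12, hlen, hb1, hb2⟩ := hpair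
      obtain ⟨x, y, hxy⟩ := exists_sq_sum_eq_one hodd (hne e₁) (hne e₂)
      have hmix := h.mix hY h12 hlen x y (by rw [hxy]; exact one_ne_zero)
      rw [hxy, mul_one] at hmix
      set coefE'' := Function.update (Function.update coefE e₁ 1) e₂ (coefE e₁ * coefE e₂)
        with hc''
      have hcard : (Finset.univ.filter (fun e => coefE'' e ≠ 1)).card < n := by
        rw [← hn]
        apply Finset.card_lt_card
        rw [Finset.ssubset_iff_of_subset]
        · refine ⟨e₁, by simp [hb1], ?_⟩
          simp only [Finset.mem_filter, Finset.mem_univ, true_and, not_not]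
          rw [hc'', Function.update_of_ne h12, Function.update_self]
        · intro e he
          simp only [Finset.mem_filter, Finset.mem_univ, true_and] at he ⊢
          by_cases he2 : e = e₂
          · rw [he2]; exact hb2
          · by_cases he1 : e = e₁
            · exfalso
              apply he
              rw [hc'', he1, Function.update_of_ne h12, Function.update_self]
            · rw [hc'', Function.update_of_ne he2, Function.update_of_ne he1] at he
              exact he
      obtain ⟨coefE', gE', hdec', hval, huniq, hsq⟩ := ih _ hcard coefE'' _ hmix rfl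
      refine ⟨coefE', gE', hdec', hval, huniq, fun j => ?_⟩
      have hprod : ∏ e ∈ Finset.univ.filter (fun e => lenE e = j), coefE'' e
          = ∏ e ∈ Finset.univ.filter (fun e => lenE e = j), coefE e := by
        apply prod_update_pair _ _ h12
        · simp only [Finset.mem_filter, Finset.mem_univ, true_and]
          rw [hlen]
        · rw [one_mul]
      rw [← hprod]
      exact hsq j
    · push Not at hpair
      have hex : ∀ e, ∃ c : F, c ≠ 0 ∧ (c ^ 2 * coefE e = 1 ∨ c ^ 2 * coefE e = ν) ∧
          (coefE e = 1 → c ^ 2 * coefE e = 1) := fun e => exists_scale h2 hν (hne e)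
      choose c hc0 hc1 hc2 using hex
      refine ⟨fun e => c e ^ 2 * coefE e, fun e => c e • gE e, h.scale hY c hc0, hc1, ?_, ?_⟩
      · intro e e' hlen he he'
        by_contra hee
        have he1 : c e ^ 2 * coefE e = ν := he
        have he2 : c e' ^ 2 * coefE e' = ν := he'
        have hb1 : coefE e ≠ 1 := fun hh => hν1 (by rw [← he1, hc2 e hh])
        have hb2 : coefE e' ≠ 1 := fun hh => hν1 (by rw [← he2, hc2 e' hh])
        exact hb2 (hpair e e' hee hlen hb1)
      · intro j
        refine ⟨(∏ e ∈ Finset.univ.filter (fun e => lenE e = j), c e) *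
          ∏ e ∈ Finset.univ.filter (fun e => lenE e = j), coefE e, ?_⟩
        rw [Finset.prod_mul_distrib, Finset.prod_pow]
        ring

end normalize

end Cfsg.Agent.Helper99.USp
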