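import Mathlib
import Cfsg.Agent.Helper99.USpG
import Cfsg.Agent.Helper99.USpC

/-!
# Atomic decompositions with the same invariants are isometric
-/

set_option autoImplicit false

namespace Cfsg.Agent.Helper99.USp

open Module
open Cfsg.Agent.Helper99.SpStruct Cfsg.Agent.Helper99.SpNd

universe u v w

/-- a bijection matching the fibres of two maps -/
theorem exists_equiv_of_card_fiber {E E' K : Type*} [Fintype E] [Fintype E'] [DecidableEq K]
    (κ : E → K) (κ' : E' → K)
    (h : ∀ k, Fintype.card {e // κ e = k} = Fintype.card {e' // κ' e' = k}) :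
    ∃ σ : E ≃ E', ∀ e, κ' (σ e) = κ e := by
  refine ⟨(Equiv.sigmaFiberEquiv κ).symm.trans
    ((Equiv.sigmaCongrRight fun k => Fintype.equivOfCardEq (h k)).trans
      (Equiv.sigmaFiberEquiv κ')), fun e => ?_⟩
  simp only [Equiv.trans_apply, Equiv.sigmaCongrRight_apply, Equiv.sigmaFiberEquiv_apply]
  exact ((Fintype.equivOfCardEq (h (κ e))) ⟨e, rfl⟩).2

variable {F : Type u} [Field F]

/-- products of values in `{1, ν}` -/
theorem prod_one_or {E : Type*} [DecidableEq F] (s : Finset E) (f : E → F) (ν : F)
    (hf : ∀ e ∈ s, f e = 1 ∨ f e = ν) :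
    ∏ e ∈ s, f e = ν ^ (s.filter (fun e => f e = ν)).card := by
  rw [← Finset.prod_filter_mul_prod_filter_not s (fun e => f e = ν)]
  have h1 : ∏ e ∈ s.filter (fun e => f e = ν), f e = ν ^ (s.filter (fun e => f e = ν)).card := by
    rw [Finset.prod_eq_pow_card]
    intro e he
    exact (Finset.mem_filter.1 he).2
  have h2 : ∏ e ∈ s.filter (fun e => ¬ f e = ν), f e = 1 := by
    apply Finset.prod_eq_one
    intro e he
    rcases hf e (Finset.mem_filter.1 he).1 with h | h
    · exact h
    · exact absurd h (Finset.mem_filter.1 he).2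
  rw [h1, h2, mul_one]

variable {V : Type v} [AddCommGroup V] [Module F V]
variable {B : LinearMap.BilinForm F V} {Y : Module.End F V}

section iso

variable {V' : Type w} [AddCommGroup V'] [Module F V'] {B' : LinearMap.BilinForm F V'}
  {Y' : Module.End F V'}
variable {E P E' P' : Type} [Fintype E] [Fintype P] [Fintype E'] [Fintype P']
  {lenE : E → ℕ} {coefE : E → F} {gE : E → V} {lenP : P → ℕ} {gv gw : P → V}
  {lenE' : E' → ℕ} {coefE' : E' → F} {gE' : E' → V'} {lenP' : P' → ℕ} {gv' gw' : P' → V'}

omit [Fintype E] [Fintype P] [Fintype E'] [Fintype P'] in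
/-- decompositions with matching data are isometric -/
theorem exists_iso_of_dec_match (h : IsDec B Y lenE coefE gE lenP gv gw ⊤)
    (h' : IsDec B' Y' lenE' coefE' gE' lenP' gv' gw' ⊤) (hY : Skew B Y) (hY' : Skew B' Y')
    (σE : E ≃ E') (σP : P ≃ P') (h1 : ∀ e, lenE' (σE e) = lenE e)
    (h2 : ∀ e, coefE' (σE e) = coefE e) (h3 : ∀ q, lenP' (σP q) = lenP q) :
    ∃ T : V ≃ₗ[F] V', (∀ x y, B' (T x) (T y) = B x y) ∧ ∀ x, T (Y x) = Y' (T x) := by
  refine exists_iso_of_sys h.sys h'.sys hY hY'
    (Equiv.sumCongr σE (Equiv.prodCongr σP (Equiv.refl Bool))) ?_ ?_ ?_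
  · rintro (e | ⟨q, b⟩)
    · exact h1 e
    · exact h3 q
  · rintro (e | ⟨q, b⟩) <;> rfl
  · rintro (e | ⟨q, b⟩)
    · exact h2 e
    · rfl

/-- **decompositions with the same invariants are isometric** -/
theorem exists_iso_of_dec [FiniteDimensional F V] [FiniteDimensional F V'] [Fintype F]
    (h2 : (2 : F) ≠ 0) (h : IsDec B Y lenE coefE gE lenP gv gw ⊤)
    (h' : IsDec B' Y' lenE' coefE' gE' lenP' gv' gw' ⊤) (hY : Skew B Y) (hY' : Skew B' Y')
    (hE : ∀ j, (Finset.univ.filter (fun e => lenE e = j)).card
      = (Finset.univ.filter (fun e => lenE' e = j)).card)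
    (hP : ∀ j, (Finset.univ.filter (fun q => lenP q = j)).card
      = (Finset.univ.filter (fun q => lenP' q = j)).card)
    (hS : ∀ j, IsSquare ((∏ e ∈ Finset.univ.filter (fun e => lenE e = j), coefE e) *
      ∏ e ∈ Finset.univ.filter (fun e => lenE' e = j), coefE' e)) :
    ∃ T : V ≃ₗ[F] V', (∀ x y, B' (T x) (T y) = B x y) ∧ ∀ x, T (Y x) = Y' (T x) := by
  classical
  have hF : ringChar F ≠ 2 := by
    intro hh
    apply h2
    have := ringChar.Nat.cast_ringChar (R := F)
    rw [hh] at this
    exact_mod_cast this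
  obtain ⟨ν, hν⟩ := FiniteField.exists_nonsquare hF
  have hν0 : ν ≠ 0 := by
    rintro rfl
    exact hν ⟨0, by simp⟩
  have hν1 : ν ≠ 1 := by
    rintro rfl
    exact hν ⟨1, by simp⟩
  obtain ⟨cE, gE₁, hd, hval, huniq, hsq⟩ := IsDec.normalize h2 hν hY _ coefE gE h rfl
  obtain ⟨cE', gE₁', hd', hval', huniq', hsq'⟩ := IsDec.normalize h2 hν hY' _ coefE' gE' h' rfl
  -- signs of the normalised decompositions
  have hne : ∀ e, coefE e ≠ 0 := fun e => h.sys.coef_ne (Sum.inl e)
  have hne' : ∀ e, coefE' e ≠ 0 := fun e => h'.sys.coef_ne (Sum.inl e)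
  have hcne : ∀ e, cE e ≠ 0 := fun e => hd.sys.coef_ne (Sum.inl e)
  have hcne' : ∀ e, cE' e ≠ 0 := fun e => hd'.sys.coef_ne (Sum.inl e)
  have hbad : ∀ j, (Finset.univ.filter (fun e => lenE e = j ∧ cE e = ν)).card
      = (Finset.univ.filter (fun e => lenE' e = j ∧ cE' e = ν)).card := by
    intro j
    set s := Finset.univ.filter (fun e => lenE e = j) with hs
    set s' := Finset.univ.filter (fun e => lenE' e = j) with hs'
    have e1 : Finset.univ.filter (fun e => lenE e = j ∧ cE e = ν)
        = s.filter (fun e => cE e = ν) := by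
      rw [hs, Finset.filter_filter]
    have e2 : Finset.univ.filter (fun e => lenE' e = j ∧ cE' e = ν)
        = s'.filter (fun e => cE' e = ν) := by
      rw [hs', Finset.filter_filter]
    rw [e1, e2]
    have p1 := prod_one_or s cE ν (fun e _ => hval e)
    have p2 := prod_one_or s' cE' ν (fun e _ => hval' e)
    have le1 : (s.filter (fun e => cE e = ν)).card ≤ 1 := by
      rw [Finset.card_le_one]
      intro a ha b hb
      simp only [hs, Finset.mem_filter, Finset.mem_univ, true_and] at ha hb
      exact huniq a b (by rw [ha.1, hb.1]) ha.2 hb.2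
    have le2 : (s'.filter (fun e => cE' e = ν)).card ≤ 1 := by
      rw [Finset.card_le_one]
      intro a ha b hb
      simp only [hs', Finset.mem_filter, Finset.mem_univ, true_and] at ha hb
      exact huniq' a b (by rw [ha.1, hb.1]) ha.2 hb.2
    -- squareness
    have n1 : (∏ e ∈ s, coefE e) ≠ 0 := Finset.prod_ne_zero_iff.2 (fun e _ => hne e)
    have n2 : (∏ e ∈ s', coefE' e) ≠ 0 := Finset.prod_ne_zero_iff.2 (fun e _ => hne' e)
    have n3 : (∏ e ∈ s, cE e) ≠ 0 := Finset.prod_ne_zero_iff.2 (fun e _ => hcne e)
    have n4 : (∏ e ∈ s', cE' e) ≠ 0 := Finset.prod_ne_zero_iff.2 (fun e _ => hcne' e)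
    have q1 := (isSquare_mul_iff h2 n1 n3).1 (hsq j)
    have q2 := (isSquare_mul_iff h2 n2 n4).1 (hsq' j)
    have q3 := (isSquare_mul_iff h2 n1 n2).1 (hS j)
    have q4 : IsSquare (∏ e ∈ s, cE e) ↔ IsSquare (∏ e ∈ s', cE' e) := by
      rw [← q1, ← q2, q3]
    rw [p1, p2] at q4
    have hc1 : (s.filter (fun e => cE e = ν)).card = 0 ∨ (s.filter (fun e => cE e = ν)).card = 1 := by
      omega
    have hc2 : (s'.filter (fun e => cE' e = ν)).card = 0 ∨
        (s'.filter (fun e => cE' e = ν)).card = 1 := by
      omega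
    rcases hc1 with hc1 | hc1 <;> rcases hc2 with hc2 | hc2
    · rw [hc1, hc2]
    · exfalso
      rw [hc1, hc2, pow_zero, pow_one] at q4
      exact hν (q4.1 ⟨1, by simp⟩)
    · exfalso
      rw [hc1, hc2, pow_zero, pow_one] at q4
      exact hν (q4.2 ⟨1, by simp⟩)
    · rw [hc1, hc2]
  -- matching
  have hfib : ∀ k : ℕ × F, Fintype.card {e // (fun e => (lenE e, cE e)) e = k}
      = Fintype.card {e' // (fun e => (lenE' e, cE' e)) e' = k} := by
    rintro ⟨j, c⟩
    rw [Fintype.card_subtype, Fintype.card_subtype]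
    simp only [Prod.mk.injEq]
    by_cases hcν : c = ν
    · rw [hcν]
      exact hbad j
    · by_cases hc1 : c = 1
      · rw [hc1]
        have t1 : (Finset.univ.filter (fun e => lenE e = j ∧ cE e = 1)).card
            + (Finset.univ.filter (fun e => lenE e = j ∧ cE e = ν)).card
            = (Finset.univ.filter (fun e => lenE e = j)).card := by
          rw [← Finset.card_union_of_disjoint]
          · congr 1
            ext e
            simp only [Finset.mem_union, Finset.mem_filter, Finset.mem_univ, true_and]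
            constructor
            · rintro (hh | hh) <;> exact hh.1
            · intro hh
              rcases hval e with h0 | h0
              · exact Or.inl ⟨hh, h0⟩
              · exact Or.inr ⟨hh, h0⟩
          · rw [Finset.disjoint_filter]
            intro e _ hh hh'
            exact hν1 (by rw [← hh'.2, hh.2])
        have t2 : (Finset.univ.filter (fun e => lenE' e = j ∧ cE' e = 1)).card
            + (Finset.univ.filter (fun e => lenE' e = j ∧ cE' e = ν)).card
            = (Finset.univ.filter (fun e => lenE' e = j)).card := by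
          rw [← Finset.card_union_of_disjoint]
          · congr 1
            ext e
            simp only [Finset.mem_union, Finset.mem_filter, Finset.mem_univ, true_and]
            constructor
            · rintro (hh | hh) <;> exact hh.1
            · intro hh
              rcases hval' e with h0 | h0
              · exact Or.inl ⟨hh, h0⟩
              · exact Or.inr ⟨hh, h0⟩
          · rw [Finset.disjoint_filter]
            intro e _ hh hh'
            exact hν1 (by rw [← hh'.2, hh.2])
        have := hbad j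
        have := hE j
        omega
      · have z1 : Finset.univ.filter (fun e => lenE e = j ∧ cE e = c) = ∅ := by
          rw [Finset.filter_eq_empty_iff]
          intro e _ hh
          rcases hval e with h0 | h0
          · exact hc1 (by rw [← hh.2, h0])
          · exact hcν (by rw [← hh.2, h0])
        have z2 : Finset.univ.filter (fun e => lenE' e = j ∧ cE' e = c) = ∅ := by
          rw [Finset.filter_eq_empty_iff]
          intro e _ hh
          rcases hval' e with h0 | h0
          · exact hc1 (by rw [← hh.2, h0])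
          · exact hcν (by rw [← hh.2, h0])
        rw [z1, z2, Finset.card_empty, Finset.card_empty]
  obtain ⟨σE, hσE⟩ := exists_equiv_of_card_fiber (fun e => (lenE e, cE e))
    (fun e => (lenE' e, cE' e)) hfib
  have hfibP : ∀ k : ℕ, Fintype.card {q // lenP q = k} = Fintype.card {q' // lenP' q' = k} := by
    intro k
    rw [Fintype.card_subtype, Fintype.card_subtype]
    exact hP k
  obtain ⟨σP, hσP⟩ := exists_equiv_of_card_fiber lenP lenP' hfibP
  exact exists_iso_of_dec_match hd hd' hY hY' σE σP
    (fun e => (Prod.mk.inj (hσE e)).1) (fun e => (Prod.mk.inj (hσE e)).2) hσP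

end iso

end Cfsg.Agent.Helper99.USp
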