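import Mathlib
import Cfsg.Agent.Helper99.USpH
import Cfsg.Agent.Helper57.USpN4

/-!
# Invariants of atomic decompositions: string lengths and discriminants
-/

set_option autoImplicit false

namespace Cfsg.Agent.Helper99.USp

open Module
open Cfsg.Agent.Helper99.SpStruct Cfsg.Agent.Helper99.SpNd Cfsg.Agent.Helper99.KdimSplit

universe u v w

variable {F : Type u} [Field F] {V : Type v} [AddCommGroup V] [Module F V]
variable {B : LinearMap.BilinForm F V} {Y : Module.End F V}

namespace IsSys

variable {S : Type} [Fintype S] {len : S → ℕ} {par : S → S} {coef : S → F} {g : S → V}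

/-- coefficients of a vector killed by `Y ^ j` -/
theorem repr_eq_zero (h : IsSys B Y len par coef g ⊤) (hY : Skew B Y) {j : ℕ} {x : V}
    (hx : (Y ^ j) x = 0) (i : Σ s : S, Fin (len s)) (hi : (i.2 : ℕ) + j < len i.1) :
    (h.basis hY).repr x i = 0 := by
  classical
  set b := h.basis hY with hb
  set c := fun i => b.repr x i with hc
  have hsum : x = ∑ i, c i • b i := (b.sum_repr x).symm
  obtain ⟨s, a⟩ := i
  simp only at hi
  -- pair `Y^j x` with the dual vector
  have h1 : B ((Y ^ j) x) ((Y ^ (len s - 1 - ((a : ℕ) + j))) (g (par s))) = 0 := by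
    rw [hx, map_zero, LinearMap.zero_apply]
  have hab : j + (a : ℕ) + (len s - 1 - ((a : ℕ) + j)) + 1 = len s := by omega
  rw [hsum, map_sum, map_sum, LinearMap.sum_apply, Finset.sum_eq_single ⟨s, a⟩] at h1
  · rw [map_smul, map_smul, LinearMap.smul_apply, smul_eq_mul, hb, basis_apply, pow_apply_pow,
      h.gram_eq hY s hab] at h1
    have h2 : ((-1 : F) ^ (j + (a : ℕ)) * coef s) ≠ 0 :=
      mul_ne_zero (pow_ne_zero _ (by norm_num)) (h.coef_ne _)
    rcases mul_eq_zero.1 h1 with h3 | h3
    · exact h3
    · exact absurd h3 h2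
  · rintro ⟨s', a'⟩ _ hne
    rw [map_smul, map_smul, LinearMap.smul_apply, smul_eq_mul, hb, basis_apply, pow_apply_pow,
      h.gram_ne hY, mul_zero]
    rintro ⟨h3, h4⟩
    have hs : s = s' := h.par_injective h3
    subst hs
    apply hne
    have : (a' : ℕ) = (a : ℕ) := by
      simp only at h4
      omega
    rw [Fin.ext this]
  · intro hh
    exact absurd (Finset.mem_univ _) hh

/-- vectors killed by `Y ^ j`: the generators of the strings of length `j` modulo the radical of
`(x, y) ↦ B x (Y ^ (j - 1) y)` on the kernel of `Y ^ j` -/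
theorem exists_decomp_ker [DecidableEq S] (h : IsSys B Y len par coef g ⊤)
    (hY : Skew B Y) {j : ℕ} (hj : 0 < j) {x : V} (hx : (Y ^ j) x = 0) :
    ∃ (c : S → F) (r : V), x = ∑ s ∈ Finset.univ.filter (fun s => len s = j), c s • g s + r ∧
      (Y ^ j) r = 0 ∧ ∀ y, (Y ^ j) y = 0 → B r ((Y ^ (j - 1)) y) = 0 ∧ B y ((Y ^ (j - 1)) r) = 0 := by
  classical
  set b := h.basis hY with hb
  set c := fun i => b.repr x i with hc
  have hsum : x = ∑ i, c i • b i := (b.sum_repr x).symm
  -- the radical
  let Rad : Submodule F V :=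
    { carrier := {r | (Y ^ j) r = 0 ∧ ∀ y, (Y ^ j) y = 0 →
        B r ((Y ^ (j - 1)) y) = 0 ∧ B y ((Y ^ (j - 1)) r) = 0}
      add_mem' := by
        rintro r₁ r₂ ⟨h1, h1'⟩ ⟨h2, h2'⟩
        refine ⟨by rw [map_add, h1, h2, add_zero], fun y hy => ⟨?_, ?_⟩⟩
        · rw [map_add, LinearMap.add_apply, (h1' y hy).1, (h2' y hy).1, add_zero]
        · rw [map_add, map_add, (h1' y hy).2, (h2' y hy).2, add_zero]
      zero_mem' := by
        refine ⟨map_zero _, fun y _ => ⟨?_, ?_⟩⟩
        · rw [map_zero, LinearMap.zero_apply]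
        · rw [map_zero, map_zero]
      smul_mem' := by
        rintro a r ⟨h1, h1'⟩
        refine ⟨by rw [map_smul, h1, smul_zero], fun y hy => ⟨?_, ?_⟩⟩
        · rw [map_smul, LinearMap.smul_apply, (h1' y hy).1, smul_zero]
        · rw [map_smul, map_smul, (h1' y hy).2, smul_zero] }
  have hRad : ∀ r, r ∈ Rad ↔ ((Y ^ j) r = 0 ∧ ∀ y, (Y ^ j) y = 0 →
      B r ((Y ^ (j - 1)) y) = 0 ∧ B y ((Y ^ (j - 1)) r) = 0) := fun r => Iff.rfl
  -- the terms outside the main part lie in the radical
  have hterm : ∀ i : Σ s : S, Fin (len s), ¬ ((i.2 : ℕ) = 0 ∧ len i.1 = j) → c i • b i ∈ Rad := by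
    rintro ⟨s, a⟩ hmain
    simp only at hmain
    by_cases hlow : (a : ℕ) + j < len s
    · have : c ⟨s, a⟩ = 0 := h.repr_eq_zero hY hx ⟨s, a⟩ hlow
      rw [this, zero_smul]
      exact Rad.zero_mem
    · apply Rad.smul_mem
      rw [hb, basis_apply, hRad]
      simp only
      by_cases ha : (a : ℕ) = 0
      · -- a short string
        have hlt : len s < j := by
          have : len s ≠ j := fun hh => hmain ⟨ha, hh⟩
          omega
        rw [ha, pow_zero, Module.End.one_apply]
        refine ⟨h.pow_eq_zero s (by omega), fun y _ => ⟨?_, ?_⟩⟩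
        · rw [hY.pow_right, h.pow_eq_zero s (by omega), map_zero, LinearMap.zero_apply, mul_zero]
        · rw [h.pow_eq_zero s (by omega), map_zero]
      · -- a vector in the image of `Y`
        refine ⟨by rw [pow_apply_pow]; exact h.pow_eq_zero s (by omega), fun y hy => ⟨?_, ?_⟩⟩
        · obtain ⟨a', ha'⟩ : ∃ a', (a : ℕ) = a' + 1 := ⟨(a : ℕ) - 1, by omega⟩
          rw [ha', pow_succ', Module.End.mul_apply, hY]
          rw [← Module.End.mul_apply, ← pow_succ', Nat.sub_add_cancel hj, hy, map_zero, neg_zero]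
        · rw [pow_apply_pow, hY.pow_right, ]
          have : (Y ^ (j - 1 + (a : ℕ))) y = 0 := by
            have h5 : j - 1 + (a : ℕ) = (a : ℕ) - 1 + j := by omega
            rw [h5, pow_add, Module.End.mul_apply, hy, map_zero]
          rw [this, map_zero, LinearMap.zero_apply, mul_zero]
  -- split the sum
  let main : Finset (Σ s : S, Fin (len s)) :=
    Finset.univ.filter (fun i => (i.2 : ℕ) = 0 ∧ len i.1 = j)
  have hsplit : x = ∑ i ∈ main, c i • b i + ∑ i ∈ Finset.univ.filter
      (fun i : Σ s : S, Fin (len s) => ¬ ((i.2 : ℕ) = 0 ∧ len i.1 = j)), c i • b i := by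
    rw [Finset.sum_filter_add_sum_filter_not]
    exact hsum
  have hr : ∑ i ∈ Finset.univ.filter
      (fun i : Σ s : S, Fin (len s) => ¬ ((i.2 : ℕ) = 0 ∧ len i.1 = j)), c i • b i ∈ Rad := by
    apply Submodule.sum_mem
    intro i hi
    exact hterm i (Finset.mem_filter.1 hi).2
  -- the main part as a sum over strings
  have hmain : ∑ i ∈ main, c i • b i
      = ∑ s ∈ Finset.univ.filter (fun s => len s = j),
        (if hs : 0 < len s then c ⟨s, ⟨0, hs⟩⟩ else 0) • g s := by
    symm
    apply Finset.sum_bij (fun s _ => (⟨s, ⟨0, h.len_pos s⟩⟩ : Σ s : S, Fin (len s)))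
    · intro s hs
      simpa [main] using hs
    · intro s₁ _ s₂ _ hh
      exact (Sigma.mk.inj_iff.1 hh).1
    · rintro ⟨s, a⟩ hi
      simp only [main, Finset.mem_filter, Finset.mem_univ, true_and] at hi
      refine ⟨s, by simpa using hi.2, ?_⟩
      have : a = ⟨0, h.len_pos s⟩ := Fin.ext hi.1
      rw [this]
    · intro s _
      rw [dif_pos (h.len_pos s), hb, basis_apply]
      simp
  refine ⟨fun s => if hs : 0 < len s then c ⟨s, ⟨0, hs⟩⟩ else 0, _, ?_, ((hRad _).1 hr).1,
    ((hRad _).1 hr).2⟩
  rw [← hmain]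
  exact hsplit

end IsSys

section inv

variable {V' : Type w} [AddCommGroup V'] [Module F V'] {B' : LinearMap.BilinForm F V'}
  {Y' : Module.End F V'}
variable {E P E' P' : Type} [Fintype E] [Fintype P] [Fintype E'] [Fintype P']
  {lenE : E → ℕ} {coefE : E → F} {gE : E → V} {lenP : P → ℕ} {gv gw : P → V}
  {lenE' : E' → ℕ} {coefE' : E' → F} {gE' : E' → V'} {lenP' : P' → ℕ} {gv' gw' : P' → V'}

/-- the multiset of string lengths -/
def decSizes (lenE : E → ℕ) (lenP : P → ℕ) : Multiset ℕ :=
  Finset.univ.val.map lenE + (Finset.univ.val.map lenP + Finset.univ.val.map lenP)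

theorem decSizes_pos (h : IsDec B Y lenE coefE gE lenP gv gw ⊤) :
    ∀ b ∈ decSizes lenE lenP, 0 < b := by
  intro b hb
  unfold decSizes at hb
  simp only [Multiset.mem_add, Multiset.mem_map, Finset.mem_val, Finset.mem_univ, true_and,
    or_self] at hb
  rcases hb with ⟨e, rfl⟩ | ⟨q, rfl⟩
  · exact h.sys.len_pos (Sum.inl e)
  · exact h.sys.len_pos (Sum.inr (q, true))

theorem kdim_eq_minSum [FiniteDimensional F V] (h : IsDec B Y lenE coefE gE lenP gv gw ⊤)
    (hY : Skew B Y) (l : ℕ) :
    finrank F ↥(LinearMap.ker (Y ^ l)) = minSum (decSizes lenE lenP) l := by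
  have h1 := h.sys.kOn_eq hY l
  unfold kOn at h1
  rw [top_inf_eq] at h1
  rw [h1, Fintype.sum_sum_type, Fintype.sum_prod_type]
  unfold minSum decSizes
  simp only [Multiset.map_add, Multiset.map_map, Multiset.sum_add, Function.comp_def]
  simp only [aLen, Sum.elim_inl, Sum.elim_inr, Fintype.sum_bool]
  rw [Finset.sum_add_distrib]
  rfl

/-- an equivariant isomorphism preserves the string lengths -/
theorem decSizes_eq_of_iso [FiniteDimensional F V] [FiniteDimensional F V']
    (h : IsDec B Y lenE coefE gE lenP gv gw ⊤)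
    (h' : IsDec B' Y' lenE' coefE' gE' lenP' gv' gw' ⊤) (hY : Skew B Y) (hY' : Skew B' Y')
    (T : V ≃ₗ[F] V') (hT : ∀ x, T (Y x) = Y' (T x)) :
    decSizes lenE lenP = decSizes lenE' lenP' := by
  apply eq_of_minSum_eq _ _ (decSizes_pos h) (decSizes_pos h')
  intro l
  rw [← kdim_eq_minSum h hY, ← kdim_eq_minSum h' hY']
  have hpow : ∀ x, T ((Y ^ l) x) = (Y' ^ l) (T x) := by
    induction l with
    | zero => intro x; simp
    | succ l ih =>
      intro x
      rw [pow_succ', Module.End.mul_apply, hT, ih, pow_succ', Module.End.mul_apply]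
  have hmap : (LinearMap.ker (Y ^ l)).map (T : V →ₗ[F] V') = LinearMap.ker (Y' ^ l) := by
    ext x'
    rw [Submodule.mem_map, LinearMap.mem_ker]
    constructor
    · rintro ⟨x, hx, rfl⟩
      show (Y' ^ l) (T x) = 0
      rw [← hpow, LinearMap.mem_ker.1 hx, map_zero]
    · intro hx'
      refine ⟨T.symm x', ?_, by simp⟩
      rw [LinearMap.mem_ker]
      apply T.injective
      rw [hpow, T.apply_symm_apply, hx', map_zero]
  rw [← hmap]
  exact (LinearEquiv.finrank_map_eq T _).symm

/-- counting the atoms of a given length from the multiset of sizes -/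
theorem count_decSizes (lenE : E → ℕ) (lenP : P → ℕ) (j : ℕ) :
    (decSizes lenE lenP).count j = (Finset.univ.filter (fun e => lenE e = j)).card
      + 2 * (Finset.univ.filter (fun q => lenP q = j)).card := by
  classical
  unfold decSizes
  rw [Multiset.count_add, Multiset.count_add, Multiset.count_map, Multiset.count_map]
  have e1 : (Multiset.filter (fun a => j = lenE a) Finset.univ.val).card
      = (Finset.univ.filter (fun e => lenE e = j)).card := by
    rw [← Finset.filter_val, Finset.card_val]
    congr 1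
    ext e
    simp [eq_comm]
  have e2 : (Multiset.filter (fun a => j = lenP a) Finset.univ.val).card
      = (Finset.univ.filter (fun q => lenP q = j)).card := by
    rw [← Finset.filter_val, Finset.card_val]
    congr 1
    ext e
    simp [eq_comm]
  rw [e1, e2]
  ring

theorem card_filter_eq_of_sizes (h : IsDec B Y lenE coefE gE lenP gv gw ⊤)
    (h' : IsDec B' Y' lenE' coefE' gE' lenP' gv' gw' ⊤)
    (hs : decSizes lenE lenP = decSizes lenE' lenP') (j : ℕ) :
    (Finset.univ.filter (fun e => lenE e = j)).card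
        = (Finset.univ.filter (fun e => lenE' e = j)).card ∧
      (Finset.univ.filter (fun q => lenP q = j)).card
        = (Finset.univ.filter (fun q => lenP' q = j)).card := by
  have c1 := count_decSizes lenE lenP j
  have c2 := count_decSizes lenE' lenP' j
  rw [hs] at c1
  rcases Nat.even_or_odd j with hj | hj
  · have z1 : Finset.univ.filter (fun q => lenP q = j) = ∅ := by
      rw [Finset.filter_eq_empty_iff]
      intro q _ hq
      have := h.odd q
      rw [hq] at this
      exact (Nat.not_odd_iff_even.2 hj) this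
    have z2 : Finset.univ.filter (fun q => lenP' q = j) = ∅ := by
      rw [Finset.filter_eq_empty_iff]
      intro q _ hq
      have := h'.odd q
      rw [hq] at this
      exact (Nat.not_odd_iff_even.2 hj) this
    rw [z1, Finset.card_empty] at c1
    rw [z2, Finset.card_empty] at c2
    rw [z1, z2, Finset.card_empty, Finset.card_empty]
    omega
  · have z1 : Finset.univ.filter (fun e => lenE e = j) = ∅ := by
      rw [Finset.filter_eq_empty_iff]
      intro e _ he
      have := h.even e
      rw [he] at this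
      exact (Nat.not_even_iff_odd.2 hj) this
    have z2 : Finset.univ.filter (fun e => lenE' e = j) = ∅ := by
      rw [Finset.filter_eq_empty_iff]
      intro e _ he
      have := h'.even e
      rw [he] at this
      exact (Nat.not_even_iff_odd.2 hj) this
    rw [z1, Finset.card_empty] at c1
    rw [z2, Finset.card_empty] at c2
    rw [z1, z2, Finset.card_empty, Finset.card_empty]
    omega

end inv

end Cfsg.Agent.Helper99.USp
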