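import Mathlib
import Cfsg.Agent.Helper99.USpI

/-!
# The discriminants of the even atoms are invariants
-/

set_option autoImplicit false

namespace Cfsg.Agent.Helper99.USp

open Module
open Cfsg.Agent.Helper99.SpStruct Cfsg.Agent.Helper99.SpNd Cfsg.Agent.Helper99.KdimSplit

universe u v w

variable {F : Type u} [Field F] {V : Type v} [AddCommGroup V] [Module F V]
variable {B : LinearMap.BilinForm F V} {Y : Module.End F V}
variable {V' : Type w} [AddCommGroup V'] [Module F V'] {B' : LinearMap.BilinForm F V'}
  {Y' : Module.End F V'}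
variable {E P E' P' : Type} [Fintype E] [Fintype P] [Fintype E'] [Fintype P']
  {lenE : E → ℕ} {coefE : E → F} {gE : E → V} {lenP : P → ℕ} {gv gw : P → V}
  {lenE' : E' → ℕ} {coefE' : E' → F} {gE' : E' → V'} {lenP' : P' → ℕ} {gv' gw' : P' → V'}

/-- the form `(x, y) ↦ B x (Y ^ (j - 1) y)` on the kernel of `Y ^ j` -/
noncomputable def topForm (B : LinearMap.BilinForm F V) (Y : Module.End F V) (j : ℕ) :
    LinearMap.BilinForm F ↥(LinearMap.ker (Y ^ j)) :=
  LinearMap.BilinForm.restrict (B.compl₂ (Y ^ (j - 1))) (LinearMap.ker (Y ^ j))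

theorem topForm_apply (B : LinearMap.BilinForm F V) (Y : Module.End F V) (j : ℕ)
    (x y : ↥(LinearMap.ker (Y ^ j))) :
    topForm B Y j x y = B (x : V) ((Y ^ (j - 1)) (y : V)) := by
  unfold topForm
  rw [LinearMap.BilinForm.restrict_apply, LinearMap.domRestrict_apply, LinearMap.compl₂_apply]

theorem isSquare_sgn_of_iso [FiniteDimensional F V] [FiniteDimensional F V']
    (h : IsDec B Y lenE coefE gE lenP gv gw ⊤)
    (h' : IsDec B' Y' lenE' coefE' gE' lenP' gv' gw' ⊤) (hY : Skew B Y) (hY' : Skew B' Y')
    (T : V ≃ₗ[F] V') (hTB : ∀ x y, B' (T x) (T y) = B x y) (hT : ∀ x, T (Y x) = Y' (T x))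
    (j : ℕ) :
    IsSquare ((∏ e ∈ Finset.univ.filter (fun e => lenE e = j), coefE e) *
      ∏ e ∈ Finset.univ.filter (fun e => lenE' e = j), coefE' e) := by
  classical
  by_cases hj : Even j ∧ 0 < j
  swap
  · have z1 : Finset.univ.filter (fun e => lenE e = j) = ∅ := by
      rw [Finset.filter_eq_empty_iff]
      intro e _ he
      apply hj
      rw [← he]
      exact ⟨h.even e, h.sys.len_pos (Sum.inl e)⟩
    have z2 : Finset.univ.filter (fun e => lenE' e = j) = ∅ := by
      rw [Finset.filter_eq_empty_iff]
      intro e _ he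
      apply hj
      rw [← he]
      exact ⟨h'.even e, h'.sys.len_pos (Sum.inl e)⟩
    rw [z1, z2, Finset.prod_empty, Finset.prod_empty]
    exact ⟨1, by simp⟩
  obtain ⟨hje, hj0⟩ := hj
  have hpow : ∀ l x, T ((Y ^ l) x) = (Y' ^ l) (T x) := by
    intro l
    induction l with
    | zero => intro x; simp
    | succ l ih =>
      intro x
      rw [pow_succ', Module.End.mul_apply, hT, ih, pow_succ', Module.End.mul_apply]
  have hsz := decSizes_eq_of_iso h h' hY hY' T hT
  have hcard := (card_filter_eq_of_sizes h h' hsz j).1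
  have hcard' : Fintype.card {e : E // lenE e = j} = Fintype.card {e : E' // lenE' e = j} := by
    rw [Fintype.card_subtype, Fintype.card_subtype]
    exact hcard
  set φ : {e : E // lenE e = j} ≃ {e : E' // lenE' e = j} := Fintype.equivOfCardEq hcard' with hφ
  -- the restricted isometry
  have hTK : ∀ x ∈ LinearMap.ker (Y ^ j), (T : V →ₗ[F] V') x ∈ LinearMap.ker (Y' ^ j) := by
    intro x hx
    rw [LinearMap.mem_ker] at hx ⊢
    show (Y' ^ j) (T x) = 0
    rw [← hpow, hx, map_zero]
  set TK := (T : V →ₗ[F] V').restrict hTK with hTKdef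
  have hgE : ∀ a : {e : E // lenE e = j}, gE a.1 ∈ LinearMap.ker (Y ^ j) := by
    rintro ⟨e, he⟩
    rw [LinearMap.mem_ker]
    have := h.sys.top (Sum.inl e)
    have hl : aLen lenE lenP (Sum.inl e) = j := he
    rw [hl] at this
    exact this
  have hgE' : ∀ a : {e : E' // lenE' e = j}, gE' a.1 ∈ LinearMap.ker (Y' ^ j) := by
    rintro ⟨e, he⟩
    rw [LinearMap.mem_ker]
    have := h'.sys.top (Sum.inl e)
    have hl : aLen lenE' lenP' (Sum.inl e) = j := he
    rw [hl] at this
    exact this
  have key := Cfsg.Agent.Helper57.USp.isSquare_prod_mul_prod (topForm B Y j) (topForm B' Y' j) TK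
    (by
      intro x y
      rw [topForm_apply, topForm_apply]
      show B' (T (x : V)) ((Y' ^ (j - 1)) (T (y : V))) = _
      rw [← hpow, hTB])
    (fun a => (⟨gE a.1, hgE a⟩ : ↥(LinearMap.ker (Y ^ j))))
    (fun a => (⟨gE' (φ a).1, hgE' (φ a)⟩ : ↥(LinearMap.ker (Y' ^ j))))
    (fun a => coefE a.1) (fun a => coefE' (φ a).1)
    (by
      intro a b
      rw [topForm_apply]
      simp only
      by_cases hab : a = b
      · rw [if_pos hab, ← hab]
        have := h.sys.form_eq (Sum.inl a.1)
        have hl : aLen lenE lenP (Sum.inl a.1) = j := a.2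
        rw [hl] at this
        exact this
      · rw [if_neg hab]
        apply h.sys.form_ne (Sum.inl a.1) (Sum.inl b.1) (j - 1)
        rintro ⟨h1, _⟩
        apply hab
        apply Subtype.ext
        exact (Sum.inl_injective h1).symm)
    (by
      intro a b
      rw [topForm_apply]
      simp only
      by_cases hab : a = b
      · rw [if_pos hab, ← hab]
        have := h'.sys.form_eq (Sum.inl (φ a).1)
        have hl : aLen lenE' lenP' (Sum.inl (φ a).1) = j := (φ a).2
        rw [hl] at this
        exact this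
      · rw [if_neg hab]
        apply h'.sys.form_ne (Sum.inl (φ a).1) (Sum.inl (φ b).1) (j - 1)
        rintro ⟨h1, _⟩
        apply hab
        apply φ.injective
        apply Subtype.ext
        exact (Sum.inl_injective h1).symm)
    (by
      intro x
      obtain ⟨c, r, hx, hr0, hr⟩ := h'.sys.exists_decomp_ker hY' hj0 (LinearMap.mem_ker.1 x.2)
      refine ⟨fun a => c (Sum.inl (φ a).1), ⟨r, LinearMap.mem_ker.2 hr0⟩, ?_, ?_⟩
      · apply Subtype.ext
        rw [Submodule.coe_add, Submodule.coe_sum]
        simp only [Submodule.coe_smul]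
        rw [hx]
        congr 1
        rw [Finset.sum_filter, Fintype.sum_sum_type]
        have hz : ∑ x : P' × Bool, (if aLen lenE' lenP' (Sum.inr x) = j
            then c (Sum.inr x) • aGen gE' gv' gw' (Sum.inr x) else 0) = 0 := by
          apply Finset.sum_eq_zero
          rintro ⟨q, b⟩ _
          rw [if_neg]
          intro hq
          have h1 : lenP' q = j := hq
          have h2 := h'.odd q
          rw [h1] at h2
          exact (Nat.not_odd_iff_even.2 hje) h2
        rw [hz, add_zero]
        rw [← Finset.sum_filter]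
        have s1 : ∑ x : {e : E // lenE e = j}, c (Sum.inl (φ x).1) • gE' (φ x).1
            = ∑ a' : {e : E' // lenE' e = j}, c (Sum.inl a'.1) • gE' a'.1 :=
          Equiv.sum_comp φ (fun a' => c (Sum.inl a'.1) • gE' a'.1)
        have s2 : ∑ a' : {e : E' // lenE' e = j}, c (Sum.inl a'.1) • gE' a'.1
            = ∑ e ∈ Finset.univ.filter (fun e => lenE' e = j), c (Sum.inl e) • gE' e :=
          (Finset.sum_subtype (Finset.univ.filter (fun e => lenE' e = j))
            (fun e => by simp) (fun e => c (Sum.inl e) • gE' e)).symm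
        rw [s1, s2]
        rfl
      · intro y
        rw [topForm_apply, topForm_apply]
        exact hr (y : V') (LinearMap.mem_ker.1 y.2))
  have e1 : ∏ a : {e : E // lenE e = j}, coefE a.1
      = ∏ e ∈ Finset.univ.filter (fun e => lenE e = j), coefE e := by
    rw [← Finset.prod_subtype (Finset.univ.filter (fun e => lenE e = j)) (fun e => by simp)
      (fun e => coefE e)]
  have e2 : ∏ a : {e : E // lenE e = j}, coefE' (φ a).1
      = ∏ e ∈ Finset.univ.filter (fun e => lenE' e = j), coefE' e := by
    rw [Equiv.prod_comp φ (fun a' => coefE' a'.1)]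
    rw [← Finset.prod_subtype (Finset.univ.filter (fun e => lenE' e = j)) (fun e => by simp)
      (fun e => coefE' e)]
  rw [e1, e2] at key
  exact key

end Cfsg.Agent.Helper99.USp
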