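import Mathlib
import Cfsg.Agent.Helper99.USpJ

/-!
# The invariants `(μ, D)` of a skew nilpotent endomorphism of an alternating space
-/

set_option autoImplicit false

namespace Cfsg.Agent.Helper99.USp

open Module
open Cfsg.Agent.Helper99.SpStruct Cfsg.Agent.Helper99.SpNd Cfsg.Agent.Helper99.KdimSplit

universe u v w

variable {F : Type u} [Field F] {V : Type v} [AddCommGroup V] [Module F V]
variable {B : LinearMap.BilinForm F V} {Y : Module.End F V}
variable {V' : Type w} [AddCommGroup V'] [Module F V'] {B' : LinearMap.BilinForm F V'}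
  {Y' : Module.End F V'}

theorem map_pow_of_equivariant (T : V →ₗ[F] V') (hT : ∀ x, T (Y x) = Y' (T x)) (l : ℕ) (x : V) :
    T ((Y ^ l) x) = (Y' ^ l) (T x) := by
  induction l generalizing x with
  | zero => simp
  | succ l ih =>
    rw [pow_succ', Module.End.mul_apply, hT, ih, pow_succ', Module.End.mul_apply]

/-- transport of a string system along an equivariant isometry -/
theorem IsSys.map {S : Type} {len : S → ℕ} {par : S → S} {coef : S → F} {g : S → V}
    {M : Submodule F V} (h : IsSys B Y len par coef g M) (T : V ≃ₗ[F] V')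
    (hTB : ∀ x y, B' (T x) (T y) = B x y) (hT : ∀ x, T (Y x) = Y' (T x)) :
    IsSys B' Y' len par coef (fun s => T (g s)) (M.map (T : V →ₗ[F] V')) where
  len_pos := h.len_pos
  par_par := h.par_par
  len_par := h.len_par
  coef_ne := h.coef_ne
  top := fun s => by
    have := map_pow_of_equivariant (T : V →ₗ[F] V') hT (len s) (g s)
    simp only [LinearEquiv.coe_coe] at this
    rw [← this, h.top, map_zero]
  form_eq := fun s => by
    have := map_pow_of_equivariant (T : V →ₗ[F] V') hT (len s - 1) (g (par s))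
    simp only [LinearEquiv.coe_coe] at this
    rw [← this, hTB]
    exact h.form_eq s
  form_ne := fun s t i hne => by
    have := map_pow_of_equivariant (T : V →ₗ[F] V') hT i (g t)
    simp only [LinearEquiv.coe_coe] at this
    rw [← this, hTB]
    exact h.form_ne s t i hne
  span := by
    rw [← h.span, Submodule.map_span]
    congr 1
    ext y
    constructor
    · rintro ⟨x, rfl⟩
      refine ⟨(Y ^ x.2) (g x.1), ⟨x, rfl⟩, ?_⟩
      exact map_pow_of_equivariant (T : V →ₗ[F] V') hT x.2 (g x.1)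
    · rintro ⟨_, ⟨x, rfl⟩, rfl⟩
      refine ⟨x, ?_⟩
      exact (map_pow_of_equivariant (T : V →ₗ[F] V') hT x.2 (g x.1)).symm

section dec

variable {E P : Type} {lenE : E → ℕ} {coefE : E → F} {gE : E → V} {lenP : P → ℕ} {gv gw : P → V}

/-- transport of an atomic decomposition along an equivariant isometry -/
theorem IsDec.map {M : Submodule F V} (h : IsDec B Y lenE coefE gE lenP gv gw M) (T : V ≃ₗ[F] V')
    (hTB : ∀ x y, B' (T x) (T y) = B x y) (hT : ∀ x, T (Y x) = Y' (T x)) :
    IsDec B' Y' lenE coefE (fun e => T (gE e)) lenP (fun q => T (gv q)) (fun q => T (gw q))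
      (M.map (T : V →ₗ[F] V')) where
  sys := by
    refine (h.sys.map T hTB hT).congr rfl rfl rfl ?_
    funext s
    rcases s with e | ⟨q, b⟩
    · rfl
    · cases b <;> rfl
  even := h.even
  odd := h.odd

end dec

/-- the invariants of `(B, Y)`: the multiset of string lengths and the set of even lengths with
nonsquare discriminant -/
def HasData (B : LinearMap.BilinForm F V) (Y : Module.End F V) (μ : Multiset ℕ) (D : Finset ℕ) :
    Prop :=
  ∃ (E P : Type) (_ : Fintype E) (_ : Fintype P) (lenE : E → ℕ) (coefE : E → F) (gE : E → V)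
    (lenP : P → ℕ) (gv gw : P → V), IsDec B Y lenE coefE gE lenP gv gw ⊤ ∧
      decSizes lenE lenP = μ ∧
      ∀ j, j ∈ D ↔ ¬ IsSquare (∏ e ∈ Finset.univ.filter (fun e => lenE e = j), coefE e)

theorem filter_len_eq_empty {E P : Type} [Fintype E] [Fintype P] (lenE : E → ℕ) (lenP : P → ℕ)
    {j : ℕ} (hj : j ∉ decSizes lenE lenP) : Finset.univ.filter (fun e => lenE e = j) = ∅ := by
  rw [Finset.filter_eq_empty_iff]
  intro e _ he
  apply hj
  unfold decSizes
  rw [Multiset.mem_add]
  left
  rw [Multiset.mem_map]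
  exact ⟨e, Finset.mem_univ_val e, he⟩

/-- **existence of the invariants** -/
theorem exists_hasData [FiniteDimensional F V] (h2 : (2 : F) ≠ 0) (hB : B.IsAlt) (hnd : Nd B ⊤)
    (hY : Skew B Y) (hnil : IsNilpotent Y) : ∃ μ D, HasData B Y μ D := by
  classical
  obtain ⟨E, P, _, _, lenE, coefE, gE, lenP, gv, gw, h⟩ :=
    exists_dec h2 hB hY hnil _ ⊤ rfl hnd (fun x _ => Submodule.mem_top)
  refine ⟨decSizes lenE lenP, (decSizes lenE lenP).toFinset.filter (fun j =>
    ¬ IsSquare (∏ e ∈ Finset.univ.filter (fun e => lenE e = j), coefE e)),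
    E, P, _, _, lenE, coefE, gE, lenP, gv, gw, h, rfl, ?_⟩
  intro j
  rw [Finset.mem_filter]
  constructor
  · exact fun h => h.2
  · intro hns
    refine ⟨?_, hns⟩
    by_contra hj
    apply hns
    rw [Multiset.mem_toFinset] at hj
    rw [filter_len_eq_empty lenE lenP hj, Finset.prod_empty]
    exact ⟨1, by simp⟩

theorem prod_coef_ne_zero {E P : Type} [Fintype E] {lenE : E → ℕ} {coefE : E → F} {gE : E → V}
    {lenP : P → ℕ} {gv gw : P → V} {M : Submodule F V}
    (h : IsDec B Y lenE coefE gE lenP gv gw M) (j : ℕ) :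
    (∏ e ∈ Finset.univ.filter (fun e => lenE e = j), coefE e) ≠ 0 := by
  rw [Finset.prod_ne_zero_iff]
  intro e _
  exact h.sys.coef_ne (Sum.inl e)

/-- **uniqueness of the invariants** -/
theorem HasData.unique [FiniteDimensional F V] [FiniteDimensional F V'] [Fintype F]
    (h2 : (2 : F) ≠ 0) {μ μ' : Multiset ℕ} {D D' : Finset ℕ} (h : HasData B Y μ D)
    (h' : HasData B' Y' μ' D') (hY : Skew B Y) (hY' : Skew B' Y') (T : V ≃ₗ[F] V')
    (hTB : ∀ x y, B' (T x) (T y) = B x y) (hT : ∀ x, T (Y x) = Y' (T x)) :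
    μ = μ' ∧ D = D' := by
  obtain ⟨E, P, _, _, lenE, coefE, gE, lenP, gv, gw, hd, hs, hD⟩ := h
  obtain ⟨E', P', _, _, lenE', coefE', gE', lenP', gv', gw', hd', hs', hD'⟩ := h'
  refine ⟨?_, ?_⟩
  · rw [← hs, ← hs']
    exact decSizes_eq_of_iso hd hd' hY hY' T hT
  · ext j
    rw [hD j, hD' j, not_iff_not]
    exact (isSquare_mul_iff h2 (prod_coef_ne_zero hd j) (prod_coef_ne_zero hd' j)).1
      (isSquare_sgn_of_iso hd hd' hY hY' T hTB hT j)

/-- **the invariants determine `(B, Y)` up to equivariant isometry** -/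
theorem HasData.exists_iso [FiniteDimensional F V] [FiniteDimensional F V'] [Fintype F]
    (h2 : (2 : F) ≠ 0) {μ : Multiset ℕ} {D : Finset ℕ} (h : HasData B Y μ D)
    (h' : HasData B' Y' μ D) (hY : Skew B Y) (hY' : Skew B' Y') :
    ∃ T : V ≃ₗ[F] V', (∀ x y, B' (T x) (T y) = B x y) ∧ ∀ x, T (Y x) = Y' (T x) := by
  obtain ⟨E, P, _, _, lenE, coefE, gE, lenP, gv, gw, hd, hs, hD⟩ := h
  obtain ⟨E', P', _, _, lenE', coefE', gE', lenP', gv', gw', hd', hs', hD'⟩ := h'
  have hss : decSizes lenE lenP = decSizes lenE' lenP' := hs.trans hs'.symm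
  refine exists_iso_of_dec h2 hd hd' hY hY'
    (fun j => (card_filter_eq_of_sizes hd hd' hss j).1)
    (fun j => (card_filter_eq_of_sizes hd hd' hss j).2) (fun j => ?_)
  refine (isSquare_mul_iff h2 (prod_coef_ne_zero hd j) (prod_coef_ne_zero hd' j)).2 ?_
  rw [← not_iff_not, ← hD j, ← hD' j]

/-- transport of the invariants along an equivariant isometry -/
theorem HasData.map {μ : Multiset ℕ} {D : Finset ℕ} (h : HasData B Y μ D) (T : V ≃ₗ[F] V')
    (hTB : ∀ x y, B' (T x) (T y) = B x y) (hT : ∀ x, T (Y x) = Y' (T x)) :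
    HasData B' Y' μ D := by
  obtain ⟨E, P, _, _, lenE, coefE, gE, lenP, gv, gw, hd, hs, hD⟩ := h
  have := hd.map T hTB hT
  rw [Submodule.map_top, LinearMap.range_eq_top.2 T.surjective] at this
  exact ⟨E, P, _, _, lenE, coefE, _, lenP, _, _, this, hs, hD⟩

section props

variable {μ : Multiset ℕ} {D : Finset ℕ}

theorem HasData.pos (h : HasData B Y μ D) : ∀ a ∈ μ, 0 < a := by
  obtain ⟨E, P, _, _, lenE, coefE, gE, lenP, gv, gw, hd, hs, hD⟩ := h
  rw [← hs]
  exact decSizes_pos hd

theorem HasData.sum_eq (h : HasData B Y μ D) (hY : Skew B Y) : μ.sum = finrank F V := by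
  obtain ⟨E, P, _, _, lenE, coefE, gE, lenP, gv, gw, hd, hs, hD⟩ := h
  have h1 := hd.sys.finrank_eq hY
  rw [finrank_top] at h1
  rw [h1, ← hs, Fintype.sum_sum_type, Fintype.sum_prod_type]
  unfold decSizes
  simp only [Multiset.sum_add, aLen, Sum.elim_inl, Sum.elim_inr, Fintype.sum_bool,
    Finset.sum_add_distrib]
  rfl

theorem HasData.even_count (h : HasData B Y μ D) : ∀ j, Odd j → Even (μ.count j) := by
  obtain ⟨E, P, _, _, lenE, coefE, gE, lenP, gv, gw, hd, hs, hD⟩ := h
  intro j hj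
  rw [← hs, count_decSizes]
  have z1 : Finset.univ.filter (fun e => lenE e = j) = ∅ := by
    rw [Finset.filter_eq_empty_iff]
    intro e _ he
    have := hd.even e
    rw [he] at this
    exact (Nat.not_even_iff_odd.2 hj) this
  rw [z1, Finset.card_empty, zero_add]
  exact even_two_mul _

theorem HasData.le_of_pow (h : HasData B Y μ D) {n : ℕ} (hn : Y ^ n = 0) : ∀ a ∈ μ, a ≤ n := by
  obtain ⟨E, P, _, _, lenE, coefE, gE, lenP, gv, gw, hd, hs, hD⟩ := h
  have key : ∀ s : E ⊕ P × Bool, aLen lenE lenP s ≤ n := by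
    intro s
    by_contra hlt
    push Not at hlt
    have h1 := hd.sys.form_eq s
    have h3 : (Y ^ (aLen lenE lenP s - 1)) = Y ^ (aLen lenE lenP s - 1 - n) * Y ^ n := by
      rw [← pow_add]
      congr 1
      omega
    rw [h3, hn, mul_zero, LinearMap.zero_apply, map_zero] at h1
    exact hd.sys.coef_ne s h1.symm
  intro a ha
  rw [← hs] at ha
  unfold decSizes at ha
  simp only [Multiset.mem_add, Multiset.mem_map, Finset.mem_val, Finset.mem_univ, true_and,
    or_self] at ha
  rcases ha with ⟨e, rfl⟩ | ⟨q, rfl⟩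
  · exact key (Sum.inl e)
  · exact key (Sum.inr (q, true))

theorem HasData.subset (h : HasData B Y μ D) : ∀ j ∈ D, Even j ∧ j ∈ μ := by
  obtain ⟨E, P, _, _, lenE, coefE, gE, lenP, gv, gw, hd, hs, hD⟩ := h
  intro j hj
  rw [hD j] at hj
  have hne : (Finset.univ.filter (fun e => lenE e = j)).Nonempty := by
    rw [Finset.nonempty_iff_ne_empty]
    intro he
    apply hj
    rw [he, Finset.prod_empty]
    exact ⟨1, by simp⟩
  obtain ⟨e, he⟩ := hne
  rw [Finset.mem_filter] at he
  refine ⟨he.2 ▸ hd.even e, ?_⟩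
  rw [← hs]
  unfold decSizes
  rw [Multiset.mem_add]
  left
  rw [Multiset.mem_map]
  exact ⟨e, Finset.mem_univ_val e, he.2⟩

end props

/-- `Y ^ n = 0` when all the strings have length at most `n` -/
theorem IsSys.pow_eq_zero_top {S : Type} {len : S → ℕ} {par : S → S} {coef : S → F} {g : S → V}
    (h : IsSys B Y len par coef g ⊤) {n : ℕ} (hn : ∀ s, len s ≤ n) : Y ^ n = 0 := by
  have hle : (⊤ : Submodule F V) ≤ LinearMap.ker (Y ^ n) := by
    rw [← h.span, Submodule.span_le]
    rintro _ ⟨x, rfl⟩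
    show (Y ^ n) ((Y ^ x.2) (g x.1)) = 0
    rw [pow_apply_pow, add_comm, ← pow_apply_pow, h.pow_eq_zero x.1 (hn x.1), map_zero]
  apply LinearMap.ext
  intro x
  exact hle (Submodule.mem_top : x ∈ ⊤)

end Cfsg.Agent.Helper99.USp
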