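import Mathlib
import Cfsg.Agent.Helper99.USpK
import Cfsg.Agent.Helper76.USpCay
import Cfsg.Agent.Helper43.SpCountE
import Cfsg.Agent.Helper13.Symp

/-!
# Elements of order `p` of the symplectic group and their invariants
-/

set_option autoImplicit false

namespace Cfsg.Agent.Helper99.USp

open Module Matrix
open Cfsg.Agent.Helper99.SpStruct Cfsg.Agent.Helper43.SpSS Cfsg.Agent.Helper76.USpCay

universe u

variable {F : Type u} [Field F] {m : ℕ}

/-- the endomorphism of a symplectic matrix -/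
noncomputable def linOf (g : ↥(Matrix.symplecticGroup (Fin m) F)) :
    Module.End F (Fin m ⊕ Fin m → F) :=
  Matrix.toLin' (g : Matrix (Fin m ⊕ Fin m) (Fin m ⊕ Fin m) F)

theorem linOf_mul (g h : ↥(Matrix.symplecticGroup (Fin m) F)) :
    linOf (g * h) = linOf g * linOf h := by
  unfold linOf
  rw [Submonoid.coe_mul, Matrix.toLin'_mul]
  rfl

theorem linOf_one : linOf (1 : ↥(Matrix.symplecticGroup (Fin m) F)) = 1 := by
  unfold linOf
  rw [Submonoid.coe_one, Matrix.toLin'_one]
  rfl

theorem linOf_pow (g : ↥(Matrix.symplecticGroup (Fin m) F)) (k : ℕ) :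
    linOf (g ^ k) = linOf g ^ k := by
  induction k with
  | zero => rw [pow_zero, pow_zero, linOf_one]
  | succ k ih => rw [pow_succ, pow_succ, linOf_mul, ih]

theorem linOf_injective :
    Function.Injective (linOf : ↥(Matrix.symplecticGroup (Fin m) F) → _) := by
  intro g h hgh
  unfold linOf at hgh
  exact Subtype.ext (Matrix.toLin'.injective hgh)

theorem linOf_iso (g : ↥(Matrix.symplecticGroup (Fin m) F)) (x y : Fin m ⊕ Fin m → F) :
    Bn m F (linOf g x) (linOf g y) = Bn m F x y := by
  unfold linOf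
  rw [Bn_apply, Bn_apply, Matrix.toLin'_apply, Matrix.toLin'_apply]
  exact (Cfsg.Agent.Helper13.mem_symplecticGroup_iff_preserves _).mp g.2 x y

theorem exists_linOf_eq (u : Module.End F (Fin m ⊕ Fin m → F))
    (hu : ∀ x y, Bn m F (u x) (u y) = Bn m F x y) :
    ∃ g : ↥(Matrix.symplecticGroup (Fin m) F), linOf g = u := by
  have hA : LinearMap.toMatrix' u ∈ Matrix.symplecticGroup (Fin m) F := by
    rw [Cfsg.Agent.Helper13.mem_symplecticGroup_iff_preserves]
    intro x y
    rw [← Matrix.toLin'_apply, ← Matrix.toLin'_apply, Matrix.toLin'_toMatrix', ← Bn_apply,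
      ← Bn_apply]
    exact hu x y
  refine ⟨⟨_, hA⟩, ?_⟩
  unfold linOf
  exact Matrix.toLin'_toMatrix' u

/-- the linear equivalence of a symplectic matrix -/
noncomputable def equivOf (x : ↥(Matrix.symplecticGroup (Fin m) F)) :
    (Fin m ⊕ Fin m → F) ≃ₗ[F] (Fin m ⊕ Fin m → F) :=
  LinearEquiv.ofLinearMap (linOf x) (linOf x⁻¹)
    (by
      show linOf x * linOf x⁻¹ = 1
      rw [← linOf_mul, mul_inv_cancel, linOf_one])
    (by
      show linOf x⁻¹ * linOf x = 1
      rw [← linOf_mul, inv_mul_cancel, linOf_one])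

theorem equivOf_apply (x : ↥(Matrix.symplecticGroup (Fin m) F)) (v : Fin m ⊕ Fin m → F) :
    equivOf x v = linOf x v := rfl

section main

variable (p : ℕ) [Fact p.Prime] [CharP F p] (hp : p ≠ 2)

/-- the skew nilpotent endomorphism of an element of order dividing `p` -/
noncomputable def yG (g : ↥(Matrix.symplecticGroup (Fin m) F)) :
    Module.End F (Fin m ⊕ Fin m → F) := yOf p (linOf g)

include hp

omit [Fact p.Prime] [CharP F p] hp in
theorem linOf_pow_eq_one {g : ↥(Matrix.symplecticGroup (Fin m) F)} (hg : g ^ p = 1) :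
    linOf g ^ p = 1 := by
  rw [← linOf_pow, hg, linOf_one]

theorem skew_yG {g : ↥(Matrix.symplecticGroup (Fin m) F)} (hg : g ^ p = 1) :
    Skew (Bn m F) (yG p g) :=
  skew_yOf p hp (Bn m F) (linOf g) (linOf_pow_eq_one p hg) (linOf_iso g)

theorem yG_pow {g : ↥(Matrix.symplecticGroup (Fin m) F)} (hg : g ^ p = 1) :
    yG p g ^ p = 0 :=
  yOf_pow p hp (linOf g) (linOf_pow_eq_one p hg)

omit [Fact p.Prime] [CharP F p] hp in
theorem nd_Bn : Nd (Bn m F) ⊤ := by
  rw [nd_iff]
  intro u _ hu
  by_contra hne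
  have hnd := (Bn_nondeg (n := m) (F := F))
  have hrefl : (Bn m F).IsRefl := (Bn_alt (n := m) (F := F)).isRefl
  have hsep := (LinearMap.IsRefl.nondegenerate_iff_separatingLeft hrefl).mp hnd
  apply hne
  apply hsep u
  intro w
  exact hrefl _ _ (hu w Submodule.mem_top)

/-- existence of the invariants -/
theorem exists_data {g : ↥(Matrix.symplecticGroup (Fin m) F)} (hg : g ^ p = 1) :
    ∃ μ D, HasData (Bn m F) (yG p g) μ D :=
  exists_hasData (two_ne_zero_of_char F p hp) Bn_alt nd_Bn (skew_yG p hp hg)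
    ⟨p, yG_pow p hp hg⟩

/-- conjugate elements have the same invariants -/
theorem data_eq_of_isConj [Fintype F] {g g' : ↥(Matrix.symplecticGroup (Fin m) F)}
    (hg : g ^ p = 1) (hg' : g' ^ p = 1) (hc : IsConj g g') {μ μ' : Multiset ℕ} {D D' : Finset ℕ}
    (h : HasData (Bn m F) (yG p g) μ D) (h' : HasData (Bn m F) (yG p g') μ' D') :
    μ = μ' ∧ D = D' := by
  obtain ⟨x, hx⟩ := isConj_iff.1 hc
  have hxg : x * g = g' * x := by
    rw [← hx]
    group
  refine HasData.unique (two_ne_zero_of_char F p hp) h h' (skew_yG p hp hg) (skew_yG p hp hg')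
    (equivOf x) (fun a b => linOf_iso x a b) ?_
  intro v
  apply yOf_conj p (equivOf x).toLinearMap (linOf g) (linOf g')
  intro w
  show linOf x (linOf g w) = linOf g' (linOf x w)
  rw [← Module.End.mul_apply, ← Module.End.mul_apply, ← linOf_mul, ← linOf_mul, hxg]

/-- elements with the same invariants are conjugate -/
theorem isConj_of_data [Fintype F] {g g' : ↥(Matrix.symplecticGroup (Fin m) F)}
    (hg : g ^ p = 1) (hg' : g' ^ p = 1) {μ : Multiset ℕ} {D : Finset ℕ}
    (h : HasData (Bn m F) (yG p g) μ D) (h' : HasData (Bn m F) (yG p g') μ D) :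
    IsConj g g' := by
  obtain ⟨T, hTB, hT⟩ := HasData.exists_iso (two_ne_zero_of_char F p hp) h h'
    (skew_yG p hp hg) (skew_yG p hp hg')
  obtain ⟨x, hx⟩ := exists_linOf_eq T.toLinearMap hTB
  have hTu : ∀ v, T.toLinearMap (linOf g v) = linOf g' (T.toLinearMap v) := by
    intro v
    have h1 : T.toLinearMap (cay p (yG p g) v) = cay p (yG p g') (T.toLinearMap v) :=
      cay_conj p T.toLinearMap (yG p g) (yG p g') (fun x => hT x) v
    have e1 : cay p (yG p g) = linOf g := cay_yOf p hp _ (linOf_pow_eq_one p hg)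
    have e2 : cay p (yG p g') = linOf g' := cay_yOf p hp _ (linOf_pow_eq_one p hg')
    rw [e1, e2] at h1
    exact h1
  have hxg : x * g = g' * x := by
    apply linOf_injective
    rw [linOf_mul, linOf_mul, hx]
    apply LinearMap.ext
    intro v
    exact hTu v
  rw [isConj_iff]
  refine ⟨x, ?_⟩
  rw [hxg]
  group

/-- realization of a skew nilpotent endomorphism by an element of order dividing `p` -/
theorem exists_elt_of_skew (Y : Module.End F (Fin m ⊕ Fin m → F)) (hY : Y ^ p = 0)
    (hs : Skew (Bn m F) Y) :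
    ∃ g : ↥(Matrix.symplecticGroup (Fin m) F), g ^ p = 1 ∧ yG p g = Y := by
  obtain ⟨g, hg⟩ := exists_linOf_eq (cay p Y) (iso_cay p hp (Bn m F) Y hY hs)
  refine ⟨g, ?_, ?_⟩
  · apply linOf_injective
    rw [linOf_pow, hg, cay_pow p hp Y hY, linOf_one]
  · unfold yG
    rw [hg, yOf_cay p hp Y hY]

end main

end Cfsg.Agent.Helper99.USp
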