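import Mathlib
import Cfsg.Prelude.Def_Classical
import Cfsg.Agent.Helper99.BCDefs
import Cfsg.Agent.Helper43.BCA1b
import Cfsg.Agent.Helper43.BCA2
import Cfsg.Agent.Helper51.BCCT1
import Cfsg.Agent.Helper51.BCCT2
import Cfsg.Agent.Helper51.BCLA7
import Cfsg.Agent.Helper51.BCLA8
import Cfsg.Agent.Helper52.BCTDa
import Cfsg.Agent.Helper52.BCTDb
import Cfsg.Agent.Helper63.BCAR1
import Cfsg.Agent.Helper63.BCB0
import Cfsg.Agent.Helper76.BCAR2
import Cfsg.Agent.Helper76.BCPM1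
import Cfsg.Agent.Helper87.BCLA3
import Cfsg.Agent.Helper87.BCLA5
import Cfsg.Agent.Helper87.BCLA6
import Cfsg.Agent.Helper87.BCLA9
import Cfsg.Agent.Helper93.BCA1a
import Cfsg.Agent.Helper93.BCA3
import Cfsg.Agent.Helper93.BCDT
import Cfsg.Agent.Helper93.BCLA1
import Cfsg.Agent.Helper93.BCLA2
import Cfsg.Agent.Helper93.BCLA4
import Cfsg.Agent.Helper97.BCTDc
import Cfsg.Agent.Helper44.Spinor
import Cfsg.Agent.Helper44.StdForms
import Cfsg.Agent.S0246

/-!
# Glue for S2362: the pieces of WANTED #9932, restated under uniform names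
-/

set_option autoImplicit false

namespace Cfsg.Agent.Helper99.BCGlue

open Module Polynomial Cfsg.Agent.Helper99.BC

/-! ## Arithmetic -/

/-- (AR1) a Zsigmondy prime of `q ^ (2k) - 1` (use `Cfsg.Agent.S2904.result q (2 * k)`). -/
theorem exists_ppd_prime (q k : ℕ) (hq : 3 ≤ q) (hodd : Odd q) (hk : 2 ≤ k) :
    ∃ r : ℕ, r.Prime ∧ r ∣ q ^ k + 1 ∧ ¬ r ∣ q ∧ r ≠ 2 ∧
      ∀ j : ℕ, 0 < j → r ∣ q ^ j - 1 → 2 * k ∣ j :=
  Cfsg.Agent.Helper63.BC.exists_ppd_prime q k hq hodd hk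

/-- (AR2) parity of the number of regular orbits -/
theorem odd_orbit_count (q k N3 K : ℕ) (hq : 3 ≤ q) (hodd : Odd q) (hk : 2 ≤ k)
    (hN3 : N3 = q ^ 2 + q ∨ N3 = q ^ 2 - q)
    (hK : K * (q ^ k + 1) + N3 = q ^ (2 * (k + 1)) + q ^ (k + 1)) : Odd K :=
  Cfsg.Agent.Helper76.BC.odd_orbit_count q k N3 K hq hodd hk hN3 hK

/-! ## Permutations -/

/-- (PM1) a permutation all of whose non-trivial cycles have the same even length `M` -/
theorem sign_of_uniform_period {X : Type*} [Fintype X] [DecidableEq X] (σ : Equiv.Perm X) (M : ℕ)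
    (hM : Even M) (hM0 : 0 < M)
    (h : ∀ x, σ x ≠ x → Function.minimalPeriod σ x = M) :
    ∃ K : ℕ, K * M + Fintype.card {x : X // σ x = x} = Fintype.card X ∧
      Equiv.Perm.sign σ = (-1) ^ K :=
  Cfsg.Agent.Helper76.BC.sign_of_uniform_period σ M hM hM0 h

/-! ## Counting points on quadrics -/

/-- (CT1) level sets of `x₀² + Σ xᵢ yᵢ` -/
theorem card_levelSet_quadFormOdd {F : Type*} [Field F] [Fintype F] (n : ℕ) (h2 : (2 : F) ≠ 0)
    {c : F} (hc : c ≠ 0) :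
    (IsSquare c → Nat.card {x : Unit ⊕ (Fin n ⊕ Fin n) → F // Cfsg.quadFormOdd n F x = c} =
      Fintype.card F ^ (2 * n) + Fintype.card F ^ n) ∧
    (¬ IsSquare c → Nat.card {x : Unit ⊕ (Fin n ⊕ Fin n) → F // Cfsg.quadFormOdd n F x = c} =
      Fintype.card F ^ (2 * n) - Fintype.card F ^ n) :=
  Cfsg.Agent.Helper51.BC.card_levelSet_quadFormOdd n h2 hc

/-- (CT2) level sets of a non-degenerate ternary quadratic form -/
theorem card_levelSet_three {F : Type*} [Field F] [Fintype F] {U : Type*} [AddCommGroup U]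
    [Module F U] [FiniteDimensional F U] (Q : QuadraticForm F U) (hU : finrank F U = 3)
    (h2 : (2 : F) ≠ 0) (hnd : ∀ x : U, (∀ y, QuadraticMap.polar Q x y = 0) → x = 0)
    {c : F} (hc : c ≠ 0) :
    Nat.card {x : U // Q x = c} = Fintype.card F ^ 2 + Fintype.card F ∨
    Nat.card {x : U // Q x = c} = Fintype.card F ^ 2 - Fintype.card F :=
  Cfsg.Agent.Helper51.BC.card_levelSet_three Q hU h2 hnd hc

/-! ## Abstract linear algebra: an operator of prime order `r` -/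

section LA

variable {F : Type*} [Field F] {V : Type*} [AddCommGroup V] [Module F V]

/-- (LA1) -/
theorem isCompl_fixS_movS (A : Module.End F V) (r : ℕ) (hr : (r : F) ≠ 0) (hA : A ^ r = 1) :
    IsCompl (fixS A) (movS A r) :=
  Cfsg.Agent.Helper93.BC.isCompl_fixS_movS A r hr hA

/-- (LA2a) -/
theorem map_mem_fixS {A T : Module.End F V} (h : Commute T A) {x : V} (hx : x ∈ fixS A) :
    T x ∈ fixS A :=
  Cfsg.Agent.Helper93.BC.map_mem_fixS h hx

/-- (LA2b) -/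
theorem map_mem_movS {A T : Module.End F V} (h : Commute T A) {r : ℕ} {x : V}
    (hx : x ∈ movS A r) : T x ∈ movS A r :=
  Cfsg.Agent.Helper93.BC.map_mem_movS h hx

/-- (LA3) orbit counting: `⟨A⟩` acts without fixed points on `W' \ {0}` -/
theorem prime_dvd_card_pow_sub_one [Fintype F] [FiniteDimensional F V] (A : Module.End F V)
    (r : ℕ) (hrp : r.Prime) (hA : A ^ r = 1) (hr : (r : F) ≠ 0) (W' : Submodule F V)
    (hW' : W' ≤ movS A r) (hinv : ∀ x ∈ W', A x ∈ W') :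
    r ∣ Fintype.card F ^ finrank F W' - 1 :=
  Cfsg.Agent.Helper87.BC.prime_dvd_card_pow_sub_one A r hrp hA hr W' hW' hinv

/-- (LA4) the fixed space is orthogonal to the moving space -/
theorem polar_eq_zero_of_fixS_movS (Q : QuadraticForm F V) (A : Module.End F V) (r : ℕ)
    (hr : (r : F) ≠ 0) (hA : A ^ r = 1) (hiso : ∀ x, Q (A x) = Q x) {x y : V}
    (hx : x ∈ fixS A) (hy : y ∈ movS A r) : QuadraticMap.polar Q x y = 0 :=
  Cfsg.Agent.Helper93.BC.polar_eq_zero_of_fixS_movS Q A r hr hA hiso hx hy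

/-- (LA5) dimensions -/
theorem finrank_movS_fixS [Fintype F] [FiniteDimensional F V] (A : Module.End F V)
    (r : ℕ) (hrp : r.Prime) (hA : A ^ r = 1) (hA1 : A ≠ 1) (hr : (r : F) ≠ 0) (k : ℕ) (hk : 2 ≤ k)
    (hV : finrank F V = 2 * k + 3)
    (hppd : ∀ j : ℕ, 0 < j → r ∣ Fintype.card F ^ j - 1 → 2 * k ∣ j) :
    finrank F (movS A r) = 2 * k ∧ finrank F (fixS A) = 3 :=
  Cfsg.Agent.Helper87.BC.finrank_movS_fixS A r hrp hA hA1 hr k hk hV hppd

/-- (LA6) the moving space is irreducible -/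
theorem eq_bot_or_eq_movS [Fintype F] [FiniteDimensional F V] (A : Module.End F V)
    (r : ℕ) (hrp : r.Prime) (hA : A ^ r = 1) (hr : (r : F) ≠ 0) (k : ℕ) (hk : 1 ≤ k)
    (hW : finrank F (movS A r) = 2 * k)
    (hppd : ∀ j : ℕ, 0 < j → r ∣ Fintype.card F ^ j - 1 → 2 * k ∣ j)
    (W' : Submodule F V) (hW' : W' ≤ movS A r) (hinv : ∀ x ∈ W', A x ∈ W') :
    W' = ⊥ ∨ W' = movS A r :=
  Cfsg.Agent.Helper87.BC.eq_bot_or_eq_movS A r hrp hA hr k hk hW hppd W' hW' hinv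

/-- (LA7) a commuting unipotent operator is trivial on the moving space -/
theorem unipotent_trivial_on_movS [Fintype F] [FiniteDimensional F V] (p : ℕ) [Fact p.Prime]
    [CharP F p] (A : Module.End F V)
    (r : ℕ) (hrp : r.Prime) (hA : A ^ r = 1) (hr : (r : F) ≠ 0) (k : ℕ) (hk : 1 ≤ k)
    (hW : finrank F (movS A r) = 2 * k)
    (hppd : ∀ j : ℕ, 0 < j → r ∣ Fintype.card F ^ j - 1 → 2 * k ∣ j)
    (Y : Module.End F V) (hYA : Commute Y A) (hYp : Y ^ p = 1) :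
    ∀ w ∈ movS A r, Y w = w :=
  Cfsg.Agent.Helper51.BC.unipotent_trivial_on_movS p A r hrp hA hr k hk hW hppd Y hYA hYp

/-- (LA8) a commuting operator fixes all or nothing of the moving space -/
theorem fix_all_or_none [Fintype F] [FiniteDimensional F V] (A : Module.End F V)
    (r : ℕ) (hrp : r.Prime) (hA : A ^ r = 1) (hr : (r : F) ≠ 0) (k : ℕ) (hk : 1 ≤ k)
    (hW : finrank F (movS A r) = 2 * k)
    (hppd : ∀ j : ℕ, 0 < j → r ∣ Fintype.card F ^ j - 1 → 2 * k ∣ j)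
    (T : Module.End F V) (hTA : Commute T A) :
    (∀ w ∈ movS A r, T w = w) ∨ (∀ w ∈ movS A r, T w = w → w = 0) :=
  Cfsg.Agent.Helper51.BC.fix_all_or_none A r hrp hA hr k hk hW hppd T hTA

/-- (LA9) the form is non-degenerate on the fixed space -/
theorem nondeg_on_fixS (Q : QuadraticForm F V) (A : Module.End F V) (r : ℕ)
    (hr : (r : F) ≠ 0) (hA : A ^ r = 1) (hiso : ∀ x, Q (A x) = Q x)
    (hnd : ∀ x : V, (∀ y, QuadraticMap.polar Q x y = 0) → x = 0) :
    ∀ x ∈ fixS A, (∀ y ∈ fixS A, QuadraticMap.polar Q x y = 0) → x = 0 :=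
  Cfsg.Agent.Helper87.BC.nondeg_on_fixS Q A r hr hA hiso hnd

end LA

/-! ## Three-dimensional orthogonal spaces -/

section ThreeD

variable {F : Type*} [Field F] {U : Type*} [AddCommGroup U] [Module F U] [FiniteDimensional F U]

/-- (TDa) a non-trivial unipotent isometry of a ternary space is regular -/
theorem sq_ne_zero_of_isometry (Q : QuadraticForm F U) (hU : finrank F U = 3) (h2 : (2 : F) ≠ 0)
    (hnd : ∀ x : U, (∀ y, QuadraticMap.polar Q x y = 0) → x = 0)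
    (Y : Module.End F U) (hY : ∀ x, Q (Y x) = Q x) (hY1 : Y ≠ 1) : (Y - 1) ^ 2 ≠ 0 :=
  Cfsg.Agent.Helper52.BC.sq_ne_zero_of_isometry Q hU h2 hnd Y hY hY1

/-- (TDb) the commutant of a regular nilpotent operator in dimension three -/
theorem exists_coeffs_of_commute (hU : finrank F U = 3) (N S : Module.End F U)
    (hN2 : N ^ 2 ≠ 0) (hN3 : N ^ 3 = 0) (hSN : Commute S N) :
    ∃ a b c : F, S = a • (1 : Module.End F U) + b • N + c • N ^ 2 :=
  Cfsg.Agent.Helper52.BC.exists_coeffs_of_commute hU N S hN2 hN3 hSN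

/-- (TDc) a semisimple isometry commuting with a non-trivial unipotent isometry is `±1` -/
theorem eq_one_or_neg_one_of_commute (p : ℕ) [Fact p.Prime] [CharP F p] (hp2 : p ≠ 2)
    (Q : QuadraticForm F U) (hU : finrank F U = 3)
    (hnd : ∀ x : U, (∀ y, QuadraticMap.polar Q x y = 0) → x = 0)
    (Y S : Module.End F U) (hYS : Commute Y S) (hY : ∀ x, Q (Y x) = Q x)
    (hS : ∀ x, Q (S x) = Q x) (hYp : Y ^ p = 1) (hY1 : Y ≠ 1) (m : ℕ) (hm : m.Coprime p)
    (hSm : S ^ m = 1) : S = 1 ∨ S = -1 :=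
  Cfsg.Agent.Helper97.BC.eq_one_or_neg_one_of_commute p hp2 Q hU hnd Y S hYS hY hS hYp hY1 m hm hSm

end ThreeD

/-! ## Determinants -/

/-- (DT) an isometry without eigenvalue `-1` has determinant one -/
theorem det_eq_one_of_isometry {F : Type*} [Field F] {ι : Type*} [Fintype ι] [DecidableEq ι]
    (Q : QuadraticForm F (ι → F)) (h2 : (2 : F) ≠ 0)
    (hnd : ∀ x : ι → F, (∀ y, QuadraticMap.polar Q x y = 0) → x = 0)
    (M : Matrix ι ι F) (hM : ∀ x, Q (M.mulVec x) = Q x)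
    (hker : ∀ x, M.mulVec x = -x → x = 0) : M.det = 1 :=
  Cfsg.Agent.Helper93.BC.det_eq_one_of_isometry Q h2 hnd M hM hker

/-! ## Symplectic side -/

section SpSide

variable {F : Type*} [Field F] [Fintype F]

/-- (A1a) a self-reciprocal irreducible polynomial whose roots have order `q ^ k + 1` -/
theorem exists_selfrec_irreducible (h2 : (2 : F) ≠ 0) (k : ℕ) (hk : 1 ≤ k) :
    ∃ f : F[X], f.Monic ∧ Irreducible f ∧ f.natDegree = 2 * k ∧ f.reverse = f ∧
      f ∣ X ^ (Fintype.card F ^ k + 1) - 1 ∧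
      ∀ j : ℕ, 0 < j → j < Fintype.card F ^ k + 1 → ¬ f ∣ X ^ j - 1 :=
  Cfsg.Agent.Helper93.BC.exists_selfrec_irreducible h2 k hk

/-- (A1b) a symplectic matrix with irreducible characteristic polynomial `f` has the order of
the roots of `f` -/
theorem exists_sp_orderOf (p : ℕ) [Fact p.Prime] [CharP F p] (k M : ℕ) (hM : 0 < M) (f : F[X])
    (hfm : f.Monic) (hfi : Irreducible f) (hfd : f.natDegree = 2 * k) (hfr : f.reverse = f)
    (hfM : f ∣ X ^ M - 1) (hfj : ∀ j : ℕ, 0 < j → j < M → ¬ f ∣ X ^ j - 1) :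
    ∃ t : ↥(Matrix.symplecticGroup (Fin k) F), orderOf t = M :=
  Cfsg.Agent.Helper43.BC.exists_sp_orderOf p k M hM f hfm hfi hfd hfr hfM hfj

/-- (A2) the element `(transvection, t)` of `Sp_2 × Sp_{2k} ≤ Sp_{2k+2}` -/
theorem exists_sp_block (p : ℕ) [Fact p.Prime] [CharP F p] (hp2 : p ≠ 2) (k M : ℕ)
    (hMp : M.Coprime p) (t : ↥(Matrix.symplecticGroup (Fin k) F)) (ht : orderOf t = M) :
    ∃ g : ↥(Matrix.symplecticGroup (Fin (k + 1)) F), g ^ (p * M) = 1 ∧
      ∀ j : ℕ, (g ^ j = 1 ∨ g ^ j = Cfsg.Agent.S0246.negOne (k + 1) F) → p * M ∣ j :=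
  Cfsg.Agent.Helper43.BC.exists_sp_block p hp2 k M hMp t ht

/-- (A3) passage to `PSp` -/
theorem orderOf_mk_PSp (m N : ℕ) (hm : 1 ≤ m) (hN : 0 < N)
    (g : ↥(Matrix.symplecticGroup (Fin m) F)) (hg : g ^ N = 1)
    (hmin : ∀ j : ℕ, (g ^ j = 1 ∨ g ^ j = Cfsg.Agent.S0246.negOne m F) → N ∣ j) :
    orderOf (QuotientGroup.mk g : Cfsg.PSp m F) = N :=
  Cfsg.Agent.Helper93.BC.orderOf_mk_PSp m N hm hN g hg hmin

end SpSide

/-! ## Orthogonal side: group level -/

section OSide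

variable {F : Type*} [Field F] [Fintype F]

/-- (B0) lifting from `PΩ` (the centre of `Ω_{2n+1}` is trivial; see the proof of
`Cfsg.Agent.S0292.result`) -/
theorem exists_lift_orderOf (n : ℕ) (hn : 3 ≤ n) (h2 : (2 : F) ≠ 0)
    (g : Cfsg.POmega F (Cfsg.quadFormOdd n F)) :
    ∃ x : ↥(Cfsg.isometryGroup F (Cfsg.quadFormOdd n F)),
      x ∈ Cfsg.Omega F (Cfsg.quadFormOdd n F) ∧ orderOf x = orderOf g :=
  Cfsg.Agent.Helper63.BC.exists_lift_orderOf n hn h2 g

end OSide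

end Cfsg.Agent.Helper99.BCGlue
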