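import Mathlib
import Cfsg.Agent.Helper99.BCGlue
import Cfsg.Agent.Helper99.BCLin

/-!
# S2362: restriction to the ternary fixed space
-/

set_option autoImplicit false

namespace Cfsg.Agent.Helper99.BC

open Module Cfsg.Agent.Helper99.BCGlue

variable {F : Type*} [Field F] {V : Type*} [AddCommGroup V] [Module F V] [FiniteDimensional F V]

/-- the semisimple part acts as `±1` on the ternary fixed space -/
theorem pm_one_on_fixS (p : ℕ) [Fact p.Prime] [CharP F p] (hp2 : p ≠ 2)
    (Q : QuadraticForm F V) (U : Submodule F V) (hU : finrank F U = 3)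
    (hnd : ∀ x ∈ U, (∀ y ∈ U, QuadraticMap.polar Q x y = 0) → x = 0)
    (Y S : Module.End F V) (hYS : Commute Y S) (hY : ∀ x, Q (Y x) = Q x)
    (hS : ∀ x, Q (S x) = Q x) (hYU : ∀ x ∈ U, Y x ∈ U) (hSU : ∀ x ∈ U, S x ∈ U)
    (hYp : Y ^ p = 1) (hY1 : ∃ x ∈ U, Y x ≠ x) (m : ℕ) (hm : m.Coprime p) (hSm : S ^ m = 1) :
    (∀ x ∈ U, S x = x) ∨ (∀ x ∈ U, S x = -x) := by
  set QU : QuadraticForm F U := Q.comp U.subtype with hQU
  have hpolar : ∀ x y : U, QuadraticMap.polar QU x y = QuadraticMap.polar Q (x : V) (y : V) := by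
    intro x y
    unfold QuadraticMap.polar
    rw [hQU, QuadraticMap.comp_apply, QuadraticMap.comp_apply, QuadraticMap.comp_apply]
    rfl
  have hndU : ∀ x : U, (∀ y, QuadraticMap.polar QU x y = 0) → x = 0 := by
    intro x hx
    have := hnd x.1 x.2 (fun y hy => by
      have := hx ⟨y, hy⟩
      rwa [hpolar] at this)
    exact Subtype.ext this
  set YU : Module.End F U := Y.restrict hYU with hYUdef
  set SU : Module.End F U := S.restrict hSU with hSUdef
  have hcomm : Commute YU SU := by
    show YU * SU = SU * YU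
    apply LinearMap.ext
    intro x
    apply Subtype.ext
    rw [Module.End.mul_apply, Module.End.mul_apply, hYUdef, hSUdef]
    simp only [LinearMap.coe_restrict_apply]
    have := congrArg (fun T : Module.End F V => T (x : V)) hYS.eq
    simpa [Module.End.mul_apply] using this
  have hYiso : ∀ x, QU (YU x) = QU x := by
    intro x
    rw [hQU, QuadraticMap.comp_apply, QuadraticMap.comp_apply]
    exact hY x
  have hSiso : ∀ x, QU (SU x) = QU x := by
    intro x
    rw [hQU, QuadraticMap.comp_apply, QuadraticMap.comp_apply]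
    exact hS x
  have hYUp : YU ^ p = 1 := by
    rw [hYUdef, Module.End.pow_restrict p hYU]
    apply LinearMap.ext
    intro x
    apply Subtype.ext
    rw [LinearMap.coe_restrict_apply, hYp]
    rfl
  have hSUm : SU ^ m = 1 := by
    rw [hSUdef, Module.End.pow_restrict m hSU]
    apply LinearMap.ext
    intro x
    apply Subtype.ext
    rw [LinearMap.coe_restrict_apply, hSm]
    rfl
  have hYU1 : YU ≠ 1 := by
    intro h
    obtain ⟨x, hxU, hx⟩ := hY1
    apply hx
    have := congrArg (fun T : Module.End F U => ((T ⟨x, hxU⟩ : U) : V)) h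
    simpa [hYUdef] using this
  rcases eq_one_or_neg_one_of_commute p hp2 QU hU hndU YU SU hcomm hYiso hSiso hYUp hYU1 m hm hSUm
    with h | h
  · left
    intro x hx
    have := congrArg (fun T : Module.End F U => ((T ⟨x, hx⟩ : U) : V)) h
    simpa [hSUdef] using this
  · right
    intro x hx
    have := congrArg (fun T : Module.End F U => ((T ⟨x, hx⟩ : U) : V)) h
    simpa [hSUdef] using this

end Cfsg.Agent.Helper99.BC
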