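import Mathlib
import Cfsg.Agent.Helper99.BCGlue
import Cfsg.Agent.Helper99.BCLin
import Cfsg.Agent.Helper99.BCOrthA
import Cfsg.Agent.Helper44.OrthOddA
import Cfsg.Agent.Helper44.SpinorMain

/-!
# S2362: the two cases `s|_U = -1` (determinant) and `s|_U = 1` (sign on a level set)
-/

set_option autoImplicit false

namespace Cfsg.Agent.Helper99.BC

open Module Matrix Cfsg.Agent.Helper99.BCGlue

variable {F : Type*} [Field F] {ι : Type} [Fintype ι] [DecidableEq ι]

/-- decomposition along complementary subspaces -/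
theorem exists_decomp {V : Type*} [AddCommGroup V] [Module F V] {U W : Submodule F V}
    (h : IsCompl U W) (v : V) : ∃ u ∈ U, ∃ w ∈ W, v = u + w := by
  have hv : v ∈ U ⊔ W := by rw [h.sup_eq_top]; trivial
  obtain ⟨u, hu, w, hw, huw⟩ := Submodule.mem_sup.mp hv
  exact ⟨u, hu, w, hw, huw.symm⟩

theorem eq_zero_of_add_eq_zero {V : Type*} [AddCommGroup V] [Module F V] {U W : Submodule F V}
    (h : IsCompl U W) {u w : V} (hu : u ∈ U) (hw : w ∈ W) (huw : u + w = 0) : u = 0 ∧ w = 0 := by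
  have h1 : u = -w := eq_neg_of_add_eq_zero_left huw
  have h2 : u ∈ W := by rw [h1]; exact W.neg_mem hw
  have h3 : u = 0 := by
    have := h.disjoint.le_bot (show u ∈ U ⊓ W from ⟨hu, h2⟩)
    simpa using this
  refine ⟨h3, ?_⟩
  rw [h3, zero_add] at huw
  exact huw

/-- **Determinant case.** -/
theorem det_case (Q : QuadraticForm F (ι → F)) (h2 : (2 : F) ≠ 0)
    (hnd : ∀ x : ι → F, (∀ y, QuadraticMap.polar Q x y = 0) → x = 0)
    (hodd : Odd (Fintype.card ι))
    (s : ↥(Cfsg.isometryGroup F ⇑Q)) (U W : Submodule F (ι → F)) (hUW : IsCompl U W)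
    (hSW : ∀ w ∈ W, lin s w ∈ W)
    (hU : ∀ x ∈ U, lin s x = -x)
    (hW : ∀ w ∈ W, lin s w = w → w = 0) :
    (((s.1 : Matrix.GeneralLinearGroup ι F) : Matrix ι ι F)).det = -1 := by
  set Ms : Matrix ι ι F := ((s.1 : Matrix.GeneralLinearGroup ι F) : Matrix ι ι F) with hMs
  have hiso : ∀ x, Q ((-Ms).mulVec x) = Q x := by
    intro x
    rw [Matrix.neg_mulVec, QuadraticMap.map_neg, hMs, ← lin_apply]
    exact lin_iso s x
  have hker : ∀ x, (-Ms).mulVec x = -x → x = 0 := by
    intro x hx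
    rw [Matrix.neg_mulVec, neg_inj, hMs, ← lin_apply] at hx
    obtain ⟨u, hu, w, hw, rfl⟩ := exists_decomp hUW x
    rw [map_add, hU u hu] at hx
    have h0 : (-(2 : F) • u) + (lin s w - w) = 0 := by
      have : -u + lin s w = u + w := hx
      rw [neg_smul, two_smul]
      have h3 : lin s w = u + w + u := by rw [← this]; abel
      rw [h3]; abel
    obtain ⟨h4, h5⟩ := eq_zero_of_add_eq_zero hUW (U.smul_mem _ hu)
      (W.sub_mem (hSW w hw) hw) h0
    have hu0 : u = 0 := by
      rcases smul_eq_zero.mp h4 with h | h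
      · exact absurd (neg_eq_zero.mp h) h2
      · exact h
    have hw0 : w = 0 := hW w hw (sub_eq_zero.mp h5)
    rw [hu0, hw0, add_zero]
  have h1 := det_eq_one_of_isometry Q h2 hnd (-Ms) hiso hker
  rw [Matrix.det_neg, hodd.neg_one_pow] at h1
  linear_combination -h1

end Cfsg.Agent.Helper99.BC
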