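import Mathlib
import Cfsg.Prelude.Def_Classical

/-!
# Definitions for S2474 (prime graphs of `Ω_{2n+1}(q)` and `PSp_{2n}(q)` coincide)

`SpModel F m N`: there is a non-degenerate alternating space of dimension `2m` over `F` with an
isometry of order `N`.  `OModel F m N`: the same for a non-degenerate quadratic space.
-/

set_option autoImplicit false

universe u

namespace Cfsg.Agent.Helper99.PG

open Module

/-- the isometry group of `x₀² + Σ xᵢ yᵢ` in dimension `2n+1` -/
abbrev OOdd (n : ℕ) (F : Type u) [Field F] :=
  ↥(Cfsg.isometryGroup F (Cfsg.quadFormOdd n F))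

/-- `Sp_{2n}(F)` -/
abbrev SpG (n : ℕ) (F : Type u) [Field F] := ↥(Matrix.symplecticGroup (Fin n) F)

/-- a symplectic model: a non-degenerate alternating space of dimension `2m` with an isometry of
order `N` -/
def SpModel (F : Type u) [Field F] (m N : ℕ) : Prop :=
  ∃ (W : Type u) (_ : AddCommGroup W) (_ : Module F W) (_ : FiniteDimensional F W)
    (B : LinearMap.BilinForm F W) (g : Module.End F W),
    B.IsAlt ∧ B.Nondegenerate ∧ finrank F W = 2 * m ∧ (∀ x y, B (g x) (g y) = B x y) ∧
      orderOf g = N

/-- an orthogonal model: a non-degenerate quadratic space of dimension `2m` with an isometry of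
order `N` -/
def OModel (F : Type u) [Field F] (m N : ℕ) : Prop :=
  ∃ (W : Type u) (_ : AddCommGroup W) (_ : Module F W) (_ : FiniteDimensional F W)
    (Q : QuadraticForm F W) (g : Module.End F W),
    (∀ x, (∀ y, QuadraticMap.polar Q x y = 0) → x = 0) ∧ finrank F W = 2 * m ∧
      (∀ x, Q (g x) = Q x) ∧ orderOf g = N

end Cfsg.Agent.Helper99.PG
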