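import Mathlib
import Cfsg.Agent.Helper99.QSpDefs

/-!
# Quadratic spaces over finite fields in arbitrary characteristic: elliptic pairs and elliptic
frames (definitions for counting the elliptic subspaces, S5988 / S5990).

`ζ` is a parameter with `t ^ 2 + t + ζ` irreducible; an elliptic pair is a pair `(u, v)` with
`Q u = 1`, `B(u, v) = 1`, `Q v = ζ` (a standard basis of an anisotropic plane).
-/

set_option autoImplicit false
set_option linter.unusedSectionVars false

namespace Cfsg.Agent.Helper99.QSp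

open Module
open Cfsg.Agent.Helper99.SpStruct
open Cfsg.Agent.Helper44 Cfsg.Agent.Helper44.QType

universe u v

variable {F : Type u} [Field F]
variable {V : Type v} [AddCommGroup V] [Module F V]

/-- elliptic pairs for `Q` with parameter `ζ` -/
def IsEPair (Q : QuadraticForm F V) (ζ : F) (p : V × V) : Prop :=
  Q p.1 = 1 ∧ pB Q p.1 p.2 = 1 ∧ Q p.2 = ζ

/-- elliptic frames: a hyperbolic frame and an elliptic pair orthogonal to it -/
def IsQEFrame (Q : QuadraticForm F V) (ζ : F) {e : ℕ} (x : (Fin e → V × V) × (V × V)) : Prop :=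
  IsQFrame Q x.1 ∧
    x.2.1 ∈ (pB Q).orthogonal (Cfsg.Agent.Helper94.Tn.hSpan (F := F) x.1) ∧
    x.2.2 ∈ (pB Q).orthogonal (Cfsg.Agent.Helper94.Tn.hSpan (F := F) x.1) ∧
    IsEPair Q ζ x.2

/-- the span of an elliptic frame -/
def qeSpan {e : ℕ} (x : (Fin e → V × V) × (V × V)) : Submodule F V :=
  Cfsg.Agent.Helper94.Tn.hSpan (F := F) x.1 ⊔ Submodule.span F {x.2.1, x.2.2}

/-- the consequence of `r ∣ #(elliptic 2e-spaces)` for a space of plus type, in terms of `i` -/
def StarEllP (i d e : ℕ) : Prop :=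
  i ∣ d ∨ i ∣ d - e ∨ ∃ j : ℕ, d - e + 1 ≤ j ∧ j + 1 ≤ d ∧ i ∣ 2 * j

/-- the consequence of `r ∣ #(elliptic 2e-spaces)` for a space of minus type, in terms of `i` -/
def StarEllM (i d e : ℕ) : Prop :=
  (i ∣ 2 * d ∧ ¬ i ∣ d) ∨ (i ∣ 2 * (d - e) ∧ ¬ i ∣ d - e) ∨
    ∃ j : ℕ, d - e + 1 ≤ j ∧ j + 1 ≤ d ∧ i ∣ 2 * j

end Cfsg.Agent.Helper99.QSp
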