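import Mathlib
import Cfsg.Agent.Helper43.JTMat
import Cfsg.Agent.Helper99.KdimSplit

set_option autoImplicit false

/-!
# Unipotent elements of `SL_n(F)` with a prescribed Jordan type (a multiset of block sizes)
-/

namespace Cfsg.Agent.Helper99.JordanElt

open Module Matrix
open Cfsg.Agent.Helper43.JT
open Cfsg.Agent.Helper99.KdimSplit

universe u

variable {F : Type u} [Field F]

/-- block sizes as a function on `Fin` -/
noncomputable def dOf (μ : Multiset ℕ) : Fin μ.toList.length → ℕ := fun k => μ.toList.get k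

theorem sum_dOf (μ : Multiset ℕ) (g : ℕ → ℕ) : ∑ k, g (dOf μ k) = (μ.map g).sum := by
  unfold dOf
  have h1 : ∑ k : Fin μ.toList.length, g (μ.toList.get k) = (μ.toList.map g).sum := by
    simpa using Fin.sum_univ_get' μ.toList g
  rw [h1]
  conv_rhs => rw [← Multiset.coe_toList μ]
  rw [Multiset.map_coe, Multiset.sum_coe]

theorem kdim_Nd_dOf (μ : Multiset ℕ) (l : ℕ) : kdim (Nd (dOf μ) F) l = minSum μ l := by
  rw [kdim_Nd, sum_dOf]
  rfl

theorem card_idx (μ : Multiset ℕ) :
    Fintype.card ((k : Fin μ.toList.length) × Fin (dOf μ k)) = μ.sum := by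
  rw [Fintype.card_sigma]
  have := sum_dOf μ id
  simp only [id, Multiset.map_id'] at this
  rw [← this]
  apply Finset.sum_congr rfl
  intro k _
  rw [Fintype.card_fin]

/-- reindexing a matrix does not change the kernel dimensions of its linear map -/
theorem kdim_toLin'_reindex {ι κ : Type*} [Fintype ι] [DecidableEq ι] [Fintype κ] [DecidableEq κ]
    (e : ι ≃ κ) (A : Matrix ι ι F) (l : ℕ) :
    kdim (Matrix.toLin' (Matrix.reindex e e A)) l = kdim (Matrix.toLin' A) l := by
  symm
  apply kdim_conj (LinearEquiv.funCongrLeft F F e.symm)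
  intro x
  rw [Matrix.toLin'_reindex]
  simp only [LinearMap.coe_comp, LinearEquiv.coe_coe, Function.comp_apply]
  congr 2
  ext i
  simp [LinearEquiv.funCongrLeft_apply, LinearMap.funLeft_apply]


theorem minSum_one_lt (μ : Multiset ℕ) (hpos : ∀ b ∈ μ, 0 < b) (hne : ∃ b ∈ μ, 2 ≤ b) :
    minSum μ 1 < μ.sum := by
  unfold minSum
  conv_rhs => rw [← Multiset.map_id μ]
  apply Multiset.sum_lt_sum
  · intro b hb
    have := hpos b hb
    simp only [id]
    omega
  · obtain ⟨b, hb, h2⟩ := hne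
    exact ⟨b, hb, by simp only [id]; omega⟩

theorem pow_eq_zero_of_kdim_eq {V : Type*} [AddCommGroup V] [Module F V] [FiniteDimensional F V]
    (N : Module.End F V) (l : ℕ) (h : kdim N l = finrank F V) : N ^ l = 0 := by
  unfold kdim at h
  exact LinearMap.ker_eq_top.mp (Submodule.eq_top_of_finrank_eq h)

theorem exists_unip {p : ℕ} [Fact p.Prime] [CharP F p] (n : ℕ) (μ : Multiset ℕ)
    (hμ : ∀ b ∈ μ, 0 < b ∧ b ≤ p) (hsum : μ.sum = n) (hne : ∃ b ∈ μ, 2 ≤ b) :
    ∃ x : Matrix.SpecialLinearGroup (Fin n) F,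
      ((x : Matrix (Fin n) (Fin n) F) ^ p = 1) ∧
      (∀ z : F, (x : Matrix (Fin n) (Fin n) F) ≠ z • (1 : Matrix (Fin n) (Fin n) F)) ∧
      (∀ l, kdim (Matrix.toLin' ((x : Matrix (Fin n) (Fin n) F) - 1)) l = minSum μ l) := by
  classical
  have hp : p.Prime := Fact.out
  have hnpos : 0 < n := by
    obtain ⟨b, hb, h2⟩ := hne
    have := Multiset.le_sum_of_mem hb
    omega
  have : Nonempty (Fin n) := ⟨⟨0, hnpos⟩⟩
  let e : ((k : Fin μ.toList.length) × Fin (dOf μ k)) ≃ Fin n :=
    Fintype.equivFinOfCardEq ((card_idx μ).trans hsum)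
  set J : Matrix ((k : Fin μ.toList.length) × Fin (dOf μ k))
    ((k : Fin μ.toList.length) × Fin (dOf μ k)) F := Cfsg.jordanTypeMatrix (dOf μ) F with hJ
  set M : Matrix (Fin n) (Fin n) F := Matrix.reindex e e J with hM
  have hM1 : M - 1 = Matrix.reindex e e (J - 1) := by
    rw [hM, Matrix.reindex_apply, Matrix.reindex_apply]
    ext i j
    simp [Matrix.submatrix_apply, Matrix.one_apply]
  have hk : ∀ l, kdim (Matrix.toLin' (M - 1)) l = minSum μ l := by
    intro l
    rw [hM1, kdim_toLin'_reindex]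
    exact kdim_Nd_dOf μ l
  have hfin : finrank F (Fin n → F) = n := Module.finrank_fin_fun F
  have hNp : (M - 1) ^ p = 0 := by
    have h1 : kdim (Matrix.toLin' (M - 1)) p = finrank F (Fin n → F) := by
      rw [hk, hfin, minSum_of_le μ p (fun b hb => (hμ b hb).2), hsum]
    have h2 := pow_eq_zero_of_kdim_eq _ p h1
    rw [← Matrix.toLin'_pow] at h2
    apply (Matrix.toLin' (R := F)).injective
    rw [h2, map_zero]
  have hMp : M ^ p = 1 := by
    have h1 : M = (M - 1) + 1 := by abel
    have h2 : ((M - 1) + 1) ^ p = (M - 1) ^ p + 1 ^ p :=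
      add_pow_char_of_commute p (Commute.one_right _)
    rw [h1, h2, hNp, one_pow, zero_add]
  have hdet : M.det = 1 := by
    have h1 : M.det ^ p = 1 := by rw [← Matrix.det_pow, hMp, Matrix.det_one]
    have h2 : (M.det - 1) ^ p = 0 := by rw [sub_pow_char, h1, one_pow, sub_self]
    exact sub_eq_zero.mp (pow_eq_zero_iff hp.ne_zero |>.mp h2)
  refine ⟨⟨M, hdet⟩, hMp, ?_, hk⟩
  intro z hz
  change M = z • (1 : Matrix (Fin n) (Fin n) F) at hz
  have h1 : M - 1 = (z - 1) • (1 : Matrix (Fin n) (Fin n) F) := by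
    rw [hz, sub_smul, one_smul]
  have h2 : ((z - 1) ^ p) • (1 : Matrix (Fin n) (Fin n) F) = 0 := by
    rw [← hNp, h1, smul_pow, one_pow]
  have h3 : (z - 1) ^ p = 0 := by
    have := congrFun (congrFun h2 ⟨0, hnpos⟩) ⟨0, hnpos⟩
    simpa using this
  have h4 : z - 1 = 0 := (pow_eq_zero_iff hp.ne_zero).mp h3
  have h5 : M - 1 = 0 := by rw [h1, h4, zero_smul]
  have h6 := hk 1
  rw [h5, map_zero] at h6
  have h7 : kdim (0 : Module.End F (Fin n → F)) 1 = n := by
    unfold kdim
    rw [pow_one, LinearMap.ker_zero, finrank_top, hfin]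
  rw [h7] at h6
  have := minSum_one_lt μ (fun b hb => (hμ b hb).1) hne
  omega


theorem minSum_pred_add_count (μ : Multiset ℕ) (p : ℕ) (hp : 0 < p) (hμ : ∀ b ∈ μ, b ≤ p) :
    minSum μ (p - 1) + μ.count p = μ.sum := by
  induction μ using Multiset.induction_on with
  | empty => simp [minSum]
  | cons c μ ih =>
    rw [Multiset.forall_mem_cons] at hμ
    have h1 := ih hμ.2
    rw [minSum_cons, Multiset.count_cons, Multiset.sum_cons]
    have h2 := hμ.1
    split_ifs with hc <;> omega

/-- the rank of `N^(p-1)` counts the blocks of size `p` (when all blocks have size `≤ p`). -/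
theorem finrank_range_pow_pred {V : Type*} [AddCommGroup V] [Module F V] [FiniteDimensional F V]
    (N : Module.End F V) (μ : Multiset ℕ) (hk : ∀ l, kdim N l = minSum μ l)
    (hsum : μ.sum = finrank F V) (p : ℕ) (hp : 0 < p) (hμ : ∀ b ∈ μ, b ≤ p) :
    finrank F ↥(LinearMap.range (N ^ (p - 1))) = μ.count p := by
  have h1 := LinearMap.finrank_range_add_finrank_ker (N ^ (p - 1))
  have h2 : finrank F ↥(LinearMap.ker (N ^ (p - 1))) = minSum μ (p - 1) := hk (p - 1)
  have h3 := minSum_pred_add_count μ p hp hμ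
  omega

end Cfsg.Agent.Helper99.JordanElt
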