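import Mathlib
import Cfsg.Prelude.Def_Classical
import Cfsg.Agent.Helper99.OrthJTC

/-!
# Transfer of the abstract data to the standard hyperbolic quadratic space `Σ xᵢ yᵢ`
-/

set_option autoImplicit false

namespace Cfsg.Agent.Helper99.OrthJT

open Module
open Cfsg.Agent.Helper43 Cfsg.Agent.Helper43.JT

universe u

variable {F : Type u} [Field F]

section transfer

variable {V : Type u} [AddCommGroup V] [Module F V]

/-- The coordinate map attached to a hyperbolic family indexed by `Fin d`. -/
def coordMap {d : ℕ} (a b : Fin d → V) : (Fin d ⊕ Fin d → F) →ₗ[F] V where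
  toFun c := ∑ i, c (Sum.inl i) • a i + ∑ i, c (Sum.inr i) • b i
  map_add' c c' := by
    simp only [Pi.add_apply, add_smul, Finset.sum_add_distrib]
    abel
  map_smul' r c := by
    simp only [Pi.smul_apply, smul_eq_mul, mul_smul, RingHom.id_apply, smul_add, Finset.smul_sum]

theorem coordMap_apply {d : ℕ} (a b : Fin d → V) (c : Fin d ⊕ Fin d → F) :
    coordMap a b c = ∑ i, c (Sum.inl i) • a i + ∑ i, c (Sum.inr i) • b i := rfl

theorem form_coordMap {d : ℕ} (B : LinearMap.BilinForm F V) (hs : ∀ x y, B x y = B y x)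
    (a b : Fin d → V) (hf : HFam B a b) (c c' : Fin d ⊕ Fin d → F) :
    B (coordMap a b c) (coordMap a b c')
      = ∑ i, (c (Sum.inl i) * c' (Sum.inr i) + c (Sum.inr i) * c' (Sum.inl i)) := by
  classical
  have hab : ∀ i j, B (a i) (b j) = if i = j then 1 else 0 := by
    intro i j
    by_cases h : i = j
    · rw [if_pos h, h, hf.ab_same]
    · rw [if_neg h, hf.ab_ne i j h]
  have hba : ∀ i j, B (b i) (a j) = if i = j then 1 else 0 := by
    intro i j
    rw [hs, hab]
    by_cases h : i = j
    · rw [if_pos h, if_pos h.symm]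
    · rw [if_neg h, if_neg (fun h' => h h'.symm)]
  rw [coordMap_apply, coordMap_apply]
  simp only [map_add, map_sum, map_smul, LinearMap.add_apply, LinearMap.sum_apply,
    LinearMap.smul_apply, smul_eq_mul, hf.aa, hf.bb, hab, hba, mul_zero, Finset.sum_const_zero,
    add_zero, zero_add, mul_ite, mul_one, Finset.sum_ite_eq', Finset.mem_univ,
    if_true]
  rw [← Finset.sum_add_distrib]
  apply Finset.sum_congr rfl
  intro i _
  ring

end transfer

/-- From the abstract data to a matrix preserving `Σ xᵢ yᵢ`. -/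
theorem exists_plus_isometry (h2 : (2 : F) ≠ 0) {κ : ℕ → ℕ} {d : ℕ} (h : HGood F κ) (L : ℕ)
    (hκ : ∀ l, L ≤ l → κ l = 2 * d) :
    ∃ x : Matrix.GeneralLinearGroup (Fin d ⊕ Fin d) F,
      (∀ v, Cfsg.quadFormPlus d F ((x : Matrix (Fin d ⊕ Fin d) (Fin d ⊕ Fin d) F).mulVec v)
        = Cfsg.quadFormPlus d F v) ∧
      ∀ l, kdim (Matrix.toLin' ((x : Matrix (Fin d ⊕ Fin d) (Fin d ⊕ Fin d) F) - 1)) l = κ l := by
  classical
  obtain ⟨V, _, _, _, N, B, hN, hk, hs, hi, ι, _, a, b, hf, hc⟩ := h
  -- the dimension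
  have hfin : finrank F V = 2 * d := by
    obtain ⟨L', hL'⟩ := hN
    have h1 : N ^ (max L L') = 0 := by
      rw [← Nat.sub_add_cancel (le_max_right L L'), pow_add, hL', mul_zero]
    have h3 : kdim N (max L L') = finrank F V := by
      unfold kdim
      rw [h1, LinearMap.ker_zero, finrank_top]
    rw [← h3, hk, hκ _ (le_max_left L L')]
  have hcard : Fintype.card ι = d := by omega
  let σ : ι ≃ Fin d := Fintype.equivFinOfCardEq hcard
  set a' : Fin d → V := fun i => a (σ.symm i) with ha'
  set b' : Fin d → V := fun i => b (σ.symm i) with hb'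
  have hf' : HFam B a' b' := by
    refine ⟨fun i j => hf.aa _ _, fun i j => hf.bb _ _, fun i => hf.ab_same _, fun i j hij => ?_⟩
    apply hf.ab_ne
    intro h
    exact hij (σ.symm.injective h)
  set ψ := coordMap (F := F) a' b' with hψ
  have hform := form_coordMap B hs a' b' hf'
  have hQ : ∀ c : Fin d ⊕ Fin d → F, B (ψ c) (ψ c) = 2 * Cfsg.quadFormPlus d F c := by
    intro c
    rw [hψ, hform]
    unfold Cfsg.quadFormPlus
    rw [Finset.mul_sum]
    apply Finset.sum_congr rfl
    intro i _
    ring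
  have hinj : Function.Injective ψ := by
    rw [← LinearMap.ker_eq_bot, LinearMap.ker_eq_bot']
    intro c hc0
    funext x
    rcases x with i | i
    · have h1 := hform c (Pi.single (Sum.inr i) 1)
      rw [← hψ, hc0, map_zero, LinearMap.zero_apply] at h1
      simp only [Pi.single_apply, Sum.inr.injEq, reduceCtorEq, if_false, mul_zero, add_zero,
        mul_ite, mul_one, Finset.sum_ite_eq, Finset.mem_univ, if_true] at h1
      simpa using h1.symm
    · have h1 := hform c (Pi.single (Sum.inl i) 1)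
      rw [← hψ, hc0, map_zero, LinearMap.zero_apply] at h1
      simp only [Pi.single_apply, Sum.inl.injEq, reduceCtorEq, if_false, mul_zero, zero_add,
        mul_ite, mul_one, Finset.sum_ite_eq, Finset.mem_univ, if_true] at h1
      simpa using h1.symm
  have hdim : finrank F (Fin d ⊕ Fin d → F) = finrank F V := by
    rw [Module.finrank_fintype_fun_eq_card, Fintype.card_sum, Fintype.card_fin, hfin, two_mul]
  let e : (Fin d ⊕ Fin d → F) ≃ₗ[F] V := LinearEquiv.ofInjectiveOfFinrankEq ψ hinj hdim
  have he : ∀ c, e c = ψ c := fun c => rfl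
  obtain ⟨u, hu⟩ := hN.isUnit_one_add
  set T : Module.End F (Fin d ⊕ Fin d → F) :=
    e.symm.toLinearMap ∘ₗ (u : Module.End F V) ∘ₗ e.toLinearMap with hT
  set T' : Module.End F (Fin d ⊕ Fin d → F) :=
    e.symm.toLinearMap ∘ₗ ((u⁻¹ : (Module.End F V)ˣ) : Module.End F V) ∘ₗ e.toLinearMap with hT'
  have hTT' : T * T' = 1 := by
    apply LinearMap.ext
    intro c
    simp only [hT, hT', Module.End.mul_apply, LinearMap.comp_apply, LinearEquiv.coe_coe,
      LinearEquiv.apply_symm_apply, Module.End.one_apply]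
    rw [← Module.End.mul_apply, Units.mul_inv, Module.End.one_apply, LinearEquiv.symm_apply_apply]
  have hT'T : T' * T = 1 := by
    apply LinearMap.ext
    intro c
    simp only [hT, hT', Module.End.mul_apply, LinearMap.comp_apply, LinearEquiv.coe_coe,
      LinearEquiv.apply_symm_apply, Module.End.one_apply]
    rw [← Module.End.mul_apply, Units.inv_mul, Module.End.one_apply, LinearEquiv.symm_apply_apply]
  set X : Matrix (Fin d ⊕ Fin d) (Fin d ⊕ Fin d) F := LinearMap.toMatrix' T with hX
  set X' : Matrix (Fin d ⊕ Fin d) (Fin d ⊕ Fin d) F := LinearMap.toMatrix' T' with hX'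
  have hXX' : X * X' = 1 := by
    rw [hX, hX', ← LinearMap.toMatrix'_mul, hTT', LinearMap.toMatrix'_one]
  have hX'X : X' * X = 1 := by
    rw [hX, hX', ← LinearMap.toMatrix'_mul, hT'T, LinearMap.toMatrix'_one]
  have hXv : ∀ v, X.mulVec v = T v := by
    intro v
    rw [hX, LinearMap.toMatrix'_mulVec]
  have heT : ∀ v, e (T v) = e v + N (e v) := by
    intro v
    simp only [hT, LinearMap.comp_apply, LinearEquiv.coe_coe, LinearEquiv.apply_symm_apply]
    rw [hu]
    rfl
  obtain ⟨x, hx⟩ : ∃ x : Matrix.GeneralLinearGroup (Fin d ⊕ Fin d) F,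
      (x : Matrix (Fin d ⊕ Fin d) (Fin d ⊕ Fin d) F) = X := ⟨⟨X, X', hXX', hX'X⟩, rfl⟩
  refine ⟨x, ?_, ?_⟩
  · intro v
    rw [hx]
    have h1 := hQ (T v)
    have h3 := hQ v
    rw [← he, heT, hi, he, h3] at h1
    rw [hXv]
    exact (mul_left_cancel₀ h2 h1).symm
  · intro l
    rw [hx, ← hk]
    apply kdim_conj e
    intro v
    rw [Matrix.toLin'_apply, Matrix.sub_mulVec, Matrix.one_mulVec, hXv, map_sub, heT]
    abel

end Cfsg.Agent.Helper99.OrthJT
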