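import Mathlib
import Cfsg.Agent.Helper99.KdimSplit
import Cfsg.Agent.Helper43.JTOrthA

/-!
# The Jordan type of a unipotent isometry on an invariant nondegenerate subspace
-/

set_option autoImplicit false

namespace Cfsg.Agent.Helper99.OrthJT

open Module
open Cfsg.Agent.Helper43 Cfsg.Agent.Helper43.JT
open Cfsg.Agent.Helper99.KdimSplit

universe u v

/-- the combinatorial core, with parity. -/
theorem exists_sub_multiset_even (μ : Multiset ℕ) (kU kW : ℕ → ℕ) (a : ℕ)
    (hadd : ∀ l, minSum μ l = kU l + kW l)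
    (hU0 : kU 0 = 0)
    (hUc : ∀ l, kU (l + 2) + kU l ≤ 2 * kU (l + 1))
    (hWc : ∀ l, kW (l + 2) + kW l ≤ 2 * kW (l + 1))
    (L : ℕ) (hL : kU L = a) (hL1 : kU (L + 1) = a)
    (hodd : ∀ k, Even (kU (2 * k + 1))) :
    ∃ ν : Multiset ℕ, ν ≤ μ ∧ ν.sum = a ∧ ∀ e : ℕ, Even e → Even (ν.count e) := by
  classical
  set c : ℕ → ℕ := fun j => 2 * kU (j + 1) - kU j - kU (j + 2) with hc
  have hceq : ∀ j, c j + kU j + kU (j + 2) = 2 * kU (j + 1) := by
    intro j
    have := hUc j
    simp only [hc]
    omega
  have hcle : ∀ j, c j ≤ μ.count (j + 1) := by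
    intro j
    have h1 := minSum_second_diff μ j
    rw [hadd, hadd, hadd] at h1
    have h2 := hWc j
    have h3 := hceq j
    omega
  have hcount : ∀ j0 : ℕ, (∑ j ∈ Finset.range L, Multiset.replicate (c j) (j + 1)).count (j0 + 1)
      = if j0 ∈ Finset.range L then c j0 else 0 := by
    intro j0
    rw [Multiset.count_sum']
    simp only [Multiset.count_replicate]
    calc ∑ j ∈ Finset.range L, (if j + 1 = j0 + 1 then c j else 0)
        = ∑ j ∈ Finset.range L, (if j0 = j then c j else 0) := by
          apply Finset.sum_congr rfl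
          intro j _
          by_cases h : j = j0
          · subst h; simp
          · rw [if_neg (by omega), if_neg (by omega)]
      _ = if j0 ∈ Finset.range L then c j0 else 0 := Finset.sum_ite_eq _ _ _
  have hcount0 : (∑ j ∈ Finset.range L, Multiset.replicate (c j) (j + 1)).count 0 = 0 := by
    rw [Multiset.count_sum']
    simp only [Multiset.count_replicate]
    apply Finset.sum_eq_zero
    intro j _
    rw [if_neg (by omega)]
  refine ⟨∑ j ∈ Finset.range L, Multiset.replicate (c j) (j + 1), ?_, ?_, ?_⟩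
  · rw [Multiset.le_iff_count]
    intro b
    rcases Nat.eq_zero_or_pos b with hb | hb
    · subst hb
      rw [hcount0]
      exact Nat.zero_le _
    · obtain ⟨j0, rfl⟩ : ∃ j0, b = j0 + 1 := ⟨b - 1, by omega⟩
      rw [hcount]
      calc (if j0 ∈ Finset.range L then c j0 else 0) ≤ c j0 := by split_ifs <;> omega
        _ ≤ μ.count (j0 + 1) := hcle j0
  · have hsum : (∑ j ∈ Finset.range L, Multiset.replicate (c j) (j + 1)).sum =
        ∑ j ∈ Finset.range L, c j * (j + 1) := by
      rw [Multiset.sum_sum]
      apply Finset.sum_congr rfl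
      intro j _
      rw [Multiset.sum_replicate, smul_eq_mul]
    rw [hsum]
    have htel : ∀ M, ∑ j ∈ Finset.range M, c j * (j + 1) + M * kU (M + 1) = (M + 1) * kU M := by
      intro M
      induction M with
      | zero => simp [hU0]
      | succ M ih =>
        rw [Finset.sum_range_succ]
        have h3 := hceq M
        have h4 : M + 1 + 1 = M + 2 := rfl
        rw [h4]
        have h5 : c M * (M + 1) + kU M * (M + 1) + kU (M + 2) * (M + 1) =
            2 * kU (M + 1) * (M + 1) := by
          rw [← h3]; ring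
        nlinarith [ih, h5]
    have := htel L
    rw [hL, hL1] at this
    nlinarith [this]
  · intro e he
    rcases Nat.eq_zero_or_pos e with h0 | hpos
    · subst h0
      rw [hcount0]
      exact Even.zero
    · obtain ⟨j0, rfl⟩ : ∃ j0, e = j0 + 1 := ⟨e - 1, by omega⟩
      rw [hcount]
      split_ifs
      · obtain ⟨k, hk⟩ : ∃ k, j0 = 2 * k + 1 := by
          obtain ⟨t, ht⟩ := he
          exact ⟨t - 1, by omega⟩
        subst hk
        have h1 := hceq (2 * k + 1)
        obtain ⟨s1, hs1⟩ := hodd k
        obtain ⟨s2, hs2⟩ := hodd (k + 1)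
        have h4 : 2 * k + 1 + 2 = 2 * (k + 1) + 1 := by omega
        rw [h4, hs2, hs1] at h1
        exact ⟨kU (2 * k + 1 + 1) - s1 - s2, by omega⟩
      · exact Even.zero

variable {F : Type u} [Field F] {V : Type v} [AddCommGroup V] [Module F V] [FiniteDimensional F V]

/-- **The restriction lemma.**  A unipotent isometry `u` (characteristic not two) of Jordan type `μ`
leaving a nondegenerate even dimensional subspace `W` invariant: the Jordan type of `u` on `W` is a
sub-multiset of `μ` in which the even parts have even multiplicity. -/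
theorem exists_sub_multiset_of_nondeg (h2 : (2 : F) ≠ 0) (B : LinearMap.BilinForm F V)
    (hs : ∀ x y, B x y = B y x) (u : Module.End F V) (hu : ∀ x y, B (u x) (u y) = B x y)
    (hnil : IsNilpotent (u - 1)) (μ : Multiset ℕ) (hμ : ∀ l, kdim (u - 1) l = minSum μ l)
    (hsum : μ.sum = finrank F V) (W : Submodule F V) (hW : ∀ x ∈ W, u x ∈ W)
    (hnd : ∀ w ∈ W, w ≠ 0 → ∃ x ∈ W, B x w ≠ 0) (hev : Even (finrank F ↥W)) :
    ∃ ν : Multiset ℕ, ν ≤ μ ∧ ν.sum = finrank F ↥W ∧ ∀ e : ℕ, Even e → Even (ν.count e) := by
  set N : Module.End F V := u - 1 with hN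
  have huN : ∀ x, u x = x + N x := by
    intro x
    rw [hN, LinearMap.sub_apply, Module.End.one_apply]
    abel
  have hNW : ∀ x ∈ W, N x ∈ W := by
    intro x hx
    rw [hN, LinearMap.sub_apply, Module.End.one_apply]
    exact W.sub_mem (hW x hx) hx
  have hrefl : B.IsRefl := isRefl_of_symm hs
  have hdisj : Disjoint W (B.orthogonal W) := by
    rw [Submodule.disjoint_def]
    intro x hx hx'
    by_contra hx0
    obtain ⟨y, hy, hyx⟩ := hnd x hx hx0
    rw [LinearMap.BilinForm.mem_orthogonal_iff] at hx'
    exact hyx (hx' y hy)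
  have hcompl : IsCompl W (B.orthogonal W) :=
    (LinearMap.BilinForm.isCompl_orthogonal_iff_disjoint hrefl).mpr hdisj
  -- `u` is bijective on `W`
  have huu : IsUnit u := by
    have := hnil.isUnit_one_add
    rwa [hN, add_sub_cancel] at this
  have huinj : Function.Injective u := by
    obtain ⟨w, hw⟩ := huu
    rw [← hw]
    exact (LinearMap.GeneralLinearGroup.generalLinearEquiv F V w).injective
  have hsurjW : ∀ w ∈ W, ∃ w' ∈ W, u w' = w := by
    have hinj : Function.Injective (u.restrict hW) := by
      intro x y hxy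
      apply Subtype.ext
      apply huinj
      have := congrArg Subtype.val hxy
      simpa [LinearMap.restrict_apply] using this
    have hsurj := LinearMap.injective_iff_surjective.mp hinj
    intro w hw
    obtain ⟨w', hw'⟩ := hsurj ⟨w, hw⟩
    refine ⟨w'.1, w'.2, ?_⟩
    have := congrArg Subtype.val hw'
    simpa [LinearMap.restrict_apply] using this
  have hNperp : ∀ y ∈ B.orthogonal W, N y ∈ B.orthogonal W := by
    intro y hy
    rw [LinearMap.BilinForm.mem_orthogonal_iff] at hy ⊢
    intro w hw
    obtain ⟨w', hw', rfl⟩ := hsurjW w hw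
    rw [hN, LinearMap.sub_apply, Module.End.one_apply, map_sub, hu, hy w' hw', hy _ (hW w' hw'),
      sub_zero]
  have hadd := kdim_of_isCompl N W (B.orthogonal W) hcompl hNW hNperp
  -- the restricted data
  set NW : Module.End F ↥W := N.restrict hNW with hNWdef
  set BW : LinearMap.BilinForm F ↥W := B.restrict W with hBW
  have hBWa : ∀ x y : ↥W, BW x y = B x y := fun x y => rfl
  have hsymW : ∀ x y : ↥W, BW x y = BW y x := fun x y => hs _ _
  have hndW : BW.Nondegenerate := by
    refine (LinearMap.IsRefl.nondegenerate_iff_separatingLeft (isRefl_of_symm hsymW)).mpr ?_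
    intro x hx
    by_contra hx0
    have hx0' : (x : V) ≠ 0 := fun h => hx0 (Subtype.ext h)
    obtain ⟨y, hy, hyx⟩ := hnd x x.2 hx0'
    apply hyx
    rw [hs]
    exact hx ⟨y, hy⟩
  have hnilW : IsNilpotent NW := by
    obtain ⟨n, hn⟩ := hnil
    refine ⟨n, ?_⟩
    rw [hNWdef, Module.End.pow_restrict n hNW]
    apply LinearMap.ext
    intro x
    apply Subtype.ext
    rw [LinearMap.restrict_apply]
    show (N ^ n) x = 0
    rw [hn]
    rfl
  have hisoW : ∀ x y : ↥W, BW (x + NW x) (y + NW y) = BW x y := by
    intro x y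
    rw [hBWa, hBWa]
    have h1 : ∀ z : ↥W, ((z + NW z : ↥W) : V) = u z := by
      intro z
      rw [huN]
      rfl
    rw [h1, h1, hu]
  have hparity : ∀ k, Even (kdim NW (2 * k + 1)) := by
    intro k
    have h1 := even_finrank_range_odd_pow_of_isom h2 BW hsymW hndW NW hnilW hisoW k
    have h3 := LinearMap.finrank_range_add_finrank_ker (NW ^ (2 * k + 1))
    unfold kdim
    obtain ⟨s, hs'⟩ := h1
    obtain ⟨t, ht⟩ := hev
    exact ⟨t - s, by omega⟩
  have hfin := Submodule.finrank_add_eq_of_isCompl hcompl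
  have hbig : ∀ l, μ.sum ≤ l → kdim NW l = finrank F ↥W := by
    intro l hl
    have h1 : minSum μ l = μ.sum :=
      minSum_of_le μ l (fun b hb => (Multiset.le_sum_of_mem hb).trans hl)
    have h3 := hadd l
    rw [hμ, h1, hsum] at h3
    have h4 := kdim_le_finrank NW l
    have h5 := kdim_le_finrank (N.restrict hNperp) l
    omega
  exact exists_sub_multiset_even μ (kdim NW) (kdim (N.restrict hNperp)) _
    (fun l => by rw [← hμ, hadd]) (kdim_zero _) (kdim_concave _) (kdim_concave _) μ.sum
    (hbig _ le_rfl) (hbig _ (Nat.le_succ _)) hparity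

end Cfsg.Agent.Helper99.OrthJT
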