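import Mathlib
import Cfsg.Prelude.Def_GeometricClasses
import Cfsg.Agent.Helper99.OrthJTD
import Cfsg.Agent.Helper99.OrthJTE
import Cfsg.Agent.Helper99.JordanElt
import Cfsg.Agent.Helper44.OmegaIndex
import Cfsg.Agent.Helper44.StdNondeg

/-!
# Unipotent elements of `Ω⁺` with a prescribed Jordan type; Jordan types on invariant nondegenerate
subspaces (concrete version)
-/

set_option autoImplicit false

namespace Cfsg.Agent.Helper99.OrthJT

open Module
open Cfsg.Agent.Helper43 Cfsg.Agent.Helper43.JT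
open Cfsg.Agent.Helper99.KdimSplit

universe u

variable {F : Type u} [Field F]

/-- An isometry of odd order lies in `Ω` (odd characteristic). -/
theorem mem_omegaGL_of_pow_eq_one [Fintype F] {ι : Type} [Fintype ι] [DecidableEq ι]
    (Q : QuadraticForm F (ι → F)) (h2 : (2 : F) ≠ 0)
    (hQ : (QuadraticMap.polarBilin Q).Nondegenerate) (x : Matrix.GeneralLinearGroup ι F)
    (hx : x ∈ Cfsg.isometryGroup F ⇑Q) (n : ℕ) (hn : Odd n) (hxn : x ^ n = 1) :
    x ∈ Cfsg.Geo.omegaGL ⇑Q := by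
  obtain ⟨c, hc⟩ := FiniteField.exists_nonsquare
    (Cfsg.Agent.Helper44.ringChar_ne_two_of_two_ne_zero h2)
  set g : Cfsg.isometryGroup F ⇑Q := ⟨x, hx⟩ with hg
  have hgΩ : g ∈ Cfsg.Omega F ⇑Q := by
    rw [← Cfsg.Agent.Helper44.ker_omegaChar Q h2 hQ hc, MonoidHom.mem_ker]
    have hgn : g ^ n = 1 := Subtype.ext hxn
    have h1 : (Cfsg.Agent.Helper44.omegaChar Q c g) ^ n = 1 := by
      rw [← map_pow, hgn, map_one]
    have h3 : ∀ y : ℤˣ × ℤˣ, y ^ 2 = 1 := by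
      rintro ⟨a, b⟩
      rw [Prod.pow_mk, Int.units_sq, Int.units_sq]
      rfl
    obtain ⟨k, hk⟩ := hn
    rw [hk, pow_succ, pow_mul, h3, one_pow, one_mul] at h1
    exact h1
  exact Subgroup.mem_map.mpr ⟨g, hgΩ, rfl⟩

/-- A matrix with `kdim (M - 1) p` maximal has `M ^ p = 1` in characteristic `p`. -/
theorem pow_char_eq_one_of_kdim {p : ℕ} [Fact p.Prime] [CharP F p] {ι : Type} [Fintype ι]
    [DecidableEq ι] [Nonempty ι] (M : Matrix ι ι F)
    (h : kdim (Matrix.toLin' (M - 1)) p = Fintype.card ι) : (M - 1) ^ p = 0 ∧ M ^ p = 1 := by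
  have hNp : (M - 1) ^ p = 0 := by
    have h1 : kdim (Matrix.toLin' (M - 1)) p = finrank F (ι → F) := by
      rw [h, Module.finrank_fintype_fun_eq_card]
    have h2 := Cfsg.Agent.Helper99.JordanElt.pow_eq_zero_of_kdim_eq _ p h1
    rw [← Matrix.toLin'_pow] at h2
    apply (Matrix.toLin' (R := F)).injective
    rw [h2, map_zero]
  refine ⟨hNp, ?_⟩
  have h1 : M = (M - 1) + 1 := by abel
  have h2 : ((M - 1) + 1) ^ p = (M - 1) ^ p + 1 ^ p :=
    add_pow_char_of_commute p (Commute.one_right _)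
  rw [h1, h2, hNp, one_pow, zero_add]

/-- A matrix with `M - 1` nilpotent and nonzero is not scalar. -/
theorem not_scalar_of_kdim {ι : Type} [Fintype ι] [DecidableEq ι] [Nonempty ι] (M : Matrix ι ι F)
    (n : ℕ) (hn : (M - 1) ^ n = 0) (h1 : kdim (Matrix.toLin' (M - 1)) 1 < Fintype.card ι) :
    ∀ z : F, M ≠ z • (1 : Matrix ι ι F) := by
  intro z hz
  have h1' : M - 1 = (z - 1) • (1 : Matrix ι ι F) := by
    rw [hz, sub_smul, one_smul]
  have h3 : ((z - 1) ^ n) • (1 : Matrix ι ι F) = 0 := by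
    rw [← hn, h1', smul_pow, one_pow]
  obtain ⟨i⟩ := ‹Nonempty ι›
  have h4 : (z - 1) ^ n = 0 := by
    have := congrFun (congrFun h3 i) i
    simpa using this
  have h5 : z - 1 = 0 := by
    rcases Nat.eq_zero_or_pos n with h0 | hpos
    · rw [h0, pow_zero] at h4
      exact absurd h4 one_ne_zero
    · exact (pow_eq_zero_iff hpos.ne').mp h4
  have h6 : M - 1 = 0 := by rw [h1', h5, zero_smul]
  rw [h6, map_zero] at h1
  have h7 : kdim (0 : Module.End F (ι → F)) 1 = Fintype.card ι := by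
    unfold kdim
    rw [pow_one, LinearMap.ker_zero, finrank_top, Module.finrank_fintype_fun_eq_card]
  omega

/-- **Existence.** Unipotent elements of `Ω⁺_{2d}(q)`, `q` odd, of every admissible Jordan type. -/
theorem exists_plus_unip [Fintype F] {p : ℕ} [Fact p.Prime] [CharP F p] (h2 : (2 : F) ≠ 0)
    (d : ℕ) (μ : Multiset ℕ) (hμ : ∀ b ∈ μ, 0 < b ∧ b ≤ p)
    (heven : ∀ e : ℕ, Even e → Even (μ.count e)) (hsum : μ.sum = 2 * d)
    (hne : ∃ b ∈ μ, 2 ≤ b) :
    ∃ x : Matrix.GeneralLinearGroup (Fin d ⊕ Fin d) F,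
      x ∈ Cfsg.Geo.omegaGL (Cfsg.quadFormPlus d F) ∧ x ^ p = 1 ∧
      ((x : Matrix (Fin d ⊕ Fin d) (Fin d ⊕ Fin d) F) - 1) ^ p = 0 ∧
      (∀ z : F, (x : Matrix (Fin d ⊕ Fin d) (Fin d ⊕ Fin d) F) ≠ z • 1) ∧
      (∀ v, Cfsg.quadFormPlus d F ((x : Matrix (Fin d ⊕ Fin d) (Fin d ⊕ Fin d) F).mulVec v)
        = Cfsg.quadFormPlus d F v) ∧
      ∀ l, kdim (Matrix.toLin' ((x : Matrix (Fin d ⊕ Fin d) (Fin d ⊕ Fin d) F) - 1)) l
        = minSum μ l := by
  classical
  have hp : p.Prime := Fact.out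
  have hp2 : p ≠ 2 := by
    intro h
    apply h2
    have := CharP.cast_eq_zero F p
    rw [h] at this
    exact_mod_cast this
  have hpodd : Odd p := hp.odd_of_ne_two hp2
  have hg := hgood_of_multiset (F := F) h2 _ μ rfl heven ⟨d, by omega⟩
  obtain ⟨x, hxQ, hxk⟩ := exists_plus_isometry h2 (d := d) hg μ.sum (fun l hl => by
    rw [minSum_of_le μ l (fun b hb => (Multiset.le_sum_of_mem hb).trans hl), hsum])
  have hcard : Fintype.card (Fin d ⊕ Fin d) = 2 * d := by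
    rw [Fintype.card_sum, Fintype.card_fin, two_mul]
  have hkp : kdim (Matrix.toLin' ((x : Matrix (Fin d ⊕ Fin d) (Fin d ⊕ Fin d) F) - 1)) p
      = Fintype.card (Fin d ⊕ Fin d) := by
    rw [hxk, hcard, minSum_of_le μ p (fun b hb => (hμ b hb).2), hsum]
  have hdpos : 0 < d := by
    obtain ⟨b, hb, hb2⟩ := hne
    have := Multiset.le_sum_of_mem hb
    omega
  have : Nonempty (Fin d ⊕ Fin d) := ⟨Sum.inl ⟨0, hdpos⟩⟩
  obtain ⟨hNp, hMp⟩ := pow_char_eq_one_of_kdim _ hkp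
  have hxp : x ^ p = 1 := by
    apply Units.ext
    rw [Units.val_pow_eq_pow_val, hMp]
    rfl
  have hns := not_scalar_of_kdim (x : Matrix (Fin d ⊕ Fin d) (Fin d ⊕ Fin d) F) p hNp (by
    rw [hxk, hcard, ← hsum]
    exact Cfsg.Agent.Helper99.JordanElt.minSum_one_lt μ (fun b hb => (hμ b hb).1) hne)
  have hxiso : x ∈ Cfsg.isometryGroup F ⇑(Cfsg.Agent.Helper44.plusForm d F) :=
    fun u _ => hxQ u
  have hΩ := mem_omegaGL_of_pow_eq_one (Cfsg.Agent.Helper44.plusForm d F) h2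
    (Cfsg.Agent.Helper44.nondegenerate_plusForm d) x hxiso p hpodd hxp
  exact ⟨x, hΩ, hxp, hNp, hns, hxQ, hxk⟩

/-- **Restriction.** The Jordan type of a unipotent isometry on an invariant nondegenerate subspace of
even dimension. -/
theorem exists_sub_multiset_of_quad {ι : Type} [Fintype ι] [DecidableEq ι] (h2 : (2 : F) ≠ 0)
    (Q : QuadraticForm F (ι → F)) (x : Matrix ι ι F) (hx : ∀ v, Q (x.mulVec v) = Q v) (n : ℕ)
    (hnil : (x - 1) ^ n = 0) (μ : Multiset ℕ)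
    (hμ : ∀ l, kdim (Matrix.toLin' (x - 1)) l = minSum μ l) (hsum : μ.sum = Fintype.card ι)
    (W : Submodule F (ι → F)) (hW : W.map (Matrix.toLin' x) ≤ W)
    (hnd : Cfsg.Geo.IsNondegenerateOn (QuadraticMap.polar ⇑Q) W) (hev : Even (finrank F ↥W)) :
    ∃ ν : Multiset ℕ, ν ≤ μ ∧ ν.sum = finrank F ↥W ∧ ∀ e : ℕ, Even e → Even (ν.count e) := by
  have hB : ∀ a b, QuadraticMap.polarBilin Q a b = QuadraticMap.polar ⇑Q a b :=
    fun a b => QuadraticMap.polarBilin_apply_apply Q a b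
  have hsub : Matrix.toLin' x - 1 = Matrix.toLin' (x - 1) := by
    rw [map_sub, Matrix.toLin'_one]
    rfl
  refine exists_sub_multiset_of_nondeg h2 (QuadraticMap.polarBilin Q) ?_ (Matrix.toLin' x) ?_ ?_ μ
    ?_ ?_ W ?_ ?_ hev
  · intro a b
    rw [hB, hB, QuadraticMap.polar_comm]
  · intro a b
    rw [hB, hB]
    unfold QuadraticMap.polar
    rw [← map_add, Matrix.toLin'_apply, Matrix.toLin'_apply, Matrix.toLin'_apply, hx, hx, hx]
  · refine ⟨n, ?_⟩
    rw [hsub, ← Matrix.toLin'_pow, hnil, map_zero]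
  · intro l
    rw [hsub, hμ]
  · rw [hsum, Module.finrank_fintype_fun_eq_card]
  · intro v hv
    exact hW (Submodule.mem_map_of_mem hv)
  · intro w hw hw0
    obtain ⟨⟨y, hy, hyw⟩, _⟩ := hnd w hw hw0
    exact ⟨y, hy, by rw [hB]; exact hyw⟩

end Cfsg.Agent.Helper99.OrthJT
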