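import Mathlib
import Cfsg.Agent.Helper78.Frobenius

set_option autoImplicit false

namespace Cfsg.Agent.Helper99

variable {G : Type*} [Group G]

/-- the map from the classes of involutions of a Sylow `2`-subgroup to those of the group -/
def invClassMap (S : Sylow 2 G) :
    {C : ConjClasses ↥(S : Subgroup G) //
        ∃ t : ↥(S : Subgroup G), orderOf t = 2 ∧ ConjClasses.mk t = C} →
      {C : ConjClasses G // ∃ t : G, orderOf t = 2 ∧ ConjClasses.mk t = C} :=
  fun C => ⟨ConjClasses.map (S : Subgroup G).subtype C.1, by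
    obtain ⟨t, ht, hC⟩ := C.2
    refine ⟨(t : G), by rw [Subgroup.orderOf_coe]; exact ht, ?_⟩
    rw [← hC]
    rfl⟩

theorem invClassMap_mk (S : Sylow 2 G) (t : ↥(S : Subgroup G)) (ht : orderOf t = 2) :
    (invClassMap S ⟨ConjClasses.mk t, t, ht, rfl⟩ : ConjClasses G) = ConjClasses.mk (t : G) := rfl

theorem invClassMap_surjective [Finite G] (S : Sylow 2 G) : Function.Surjective (invClassMap S) := by
  have : Fact (Nat.Prime 2) := ⟨Nat.prime_two⟩
  rintro ⟨D, u, hu, rfl⟩
  have hup : IsPGroup 2 (Subgroup.zpowers u) := by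
    apply IsPGroup.of_card (n := 1)
    rw [Nat.card_zpowers, hu, pow_one]
  obtain ⟨P', hP'⟩ := hup.exists_le_sylow
  obtain ⟨y, hy⟩ := MulAction.exists_smul_eq G P' S
  have htS : y * u * y⁻¹ ∈ (S : Subgroup G) := by
    rw [← hy, Cfsg.Agent.Helper78.mem_smul_sylow']
    have e : y⁻¹ * (y * u * y⁻¹) * y = u := by group
    rw [e]
    exact hP' (Subgroup.mem_zpowers u)
  have hto : orderOf (⟨y * u * y⁻¹, htS⟩ : ↥(S : Subgroup G)) = 2 := by
    rw [← Subgroup.orderOf_coe]
    have : y * u * y⁻¹ = MulAut.conj y u := rfl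
    show orderOf (y * u * y⁻¹) = 2
    rw [this, MulEquiv.orderOf_eq, hu]
  refine ⟨⟨ConjClasses.mk ⟨y * u * y⁻¹, htS⟩, ⟨_, hto, rfl⟩⟩, ?_⟩
  apply Subtype.ext
  show ConjClasses.mk (y * u * y⁻¹) = ConjClasses.mk u
  rw [ConjClasses.mk_eq_mk_iff_isConj, isConj_comm, isConj_iff]
  exact ⟨y, rfl⟩

/-- three classes of involutions in `S`, two of which fuse in `G` while a third stays apart:
two classes in `G` -/
theorem card_involution_classes_eq_two [Finite G] (S : Sylow 2 G)
    (h3 : Nat.card {C : ConjClasses ↥(S : Subgroup G) //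
      ∃ t : ↥(S : Subgroup G), orderOf t = 2 ∧ ConjClasses.mk t = C} = 3)
    (z z' t : G) (hz : z ∈ (S : Subgroup G)) (hz' : z' ∈ (S : Subgroup G))
    (hzo : orderOf z = 2) (hz'o : orderOf z' = 2) (hto : orderOf t = 2)
    (hconj : ∃ g : G, g * z * g⁻¹ = z') (hnS : ∀ s ∈ (S : Subgroup G), s * z * s⁻¹ ≠ z')
    (hnt : ∀ g : G, g * z * g⁻¹ ≠ t) :
    Nat.card {C : ConjClasses G // ∃ t : G, orderOf t = 2 ∧ ConjClasses.mk t = C} = 2 := by
  classical
  have hfinX : Finite {C : ConjClasses ↥(S : Subgroup G) //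
      ∃ t : ↥(S : Subgroup G), orderOf t = 2 ∧ ConjClasses.mk t = C} := inferInstance
  have hfinY : Finite {C : ConjClasses G // ∃ t : G, orderOf t = 2 ∧ ConjClasses.mk t = C} :=
    inferInstance
  have := Fintype.ofFinite {C : ConjClasses ↥(S : Subgroup G) //
      ∃ t : ↥(S : Subgroup G), orderOf t = 2 ∧ ConjClasses.mk t = C}
  have := Fintype.ofFinite {C : ConjClasses G // ∃ t : G, orderOf t = 2 ∧ ConjClasses.mk t = C}
  have hzS : orderOf (⟨z, hz⟩ : ↥(S : Subgroup G)) = 2 := by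
    rw [← Subgroup.orderOf_coe]; exact hzo
  have hz'S : orderOf (⟨z', hz'⟩ : ↥(S : Subgroup G)) = 2 := by
    rw [← Subgroup.orderOf_coe]; exact hz'o
  have hni : ¬ Function.Injective (invClassMap S) := by
    intro hi
    have h1 : invClassMap S ⟨ConjClasses.mk ⟨z, hz⟩, _, hzS, rfl⟩ =
        invClassMap S ⟨ConjClasses.mk ⟨z', hz'⟩, _, hz'S, rfl⟩ := by
      apply Subtype.ext
      rw [invClassMap_mk S _ hzS, invClassMap_mk S _ hz'S]
      show ConjClasses.mk z = ConjClasses.mk z'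
      rw [ConjClasses.mk_eq_mk_iff_isConj, isConj_iff]
      exact hconj
    have h2 := congrArg Subtype.val (hi h1)
    simp only at h2
    rw [ConjClasses.mk_eq_mk_iff_isConj, isConj_iff] at h2
    obtain ⟨s, hs⟩ := h2
    exact hnS s s.2 (congrArg Subtype.val hs)
  have hlt := Fintype.card_lt_of_surjective_not_injective _ (invClassMap_surjective S) hni
  rw [← Nat.card_eq_fintype_card, ← Nat.card_eq_fintype_card, h3] at hlt
  have hge : 1 < Nat.card {C : ConjClasses G // ∃ t : G, orderOf t = 2 ∧ ConjClasses.mk t = C} := by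
    rw [Finite.one_lt_card_iff_nontrivial]
    refine ⟨⟨⟨ConjClasses.mk z, z, hzo, rfl⟩, ⟨ConjClasses.mk t, t, hto, rfl⟩, ?_⟩⟩
    intro h
    have h2 := congrArg Subtype.val h
    simp only at h2
    rw [ConjClasses.mk_eq_mk_iff_isConj, isConj_iff] at h2
    obtain ⟨g, hg⟩ := h2
    exact hnt g hg
  omega

end Cfsg.Agent.Helper99
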