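import Mathlib
import Cfsg.Agent.Helper34.Focal

set_option autoImplicit false

namespace Cfsg.Agent.Helper99

open Cfsg.Agent.Helper34

variable {G : Type*} [Group G] {p : ℕ}

theorem chain_fixed (P : Sylow p G) (ζ : G)
    (hstep : ∀ (Q : Sylow p G) (x : G), AStep P Q x → ζ ∈ (P : Subgroup G) ⊓ (Q : Subgroup G) →
      x⁻¹ * ζ * x = ζ) (L : List (Sylow p G × G)) :
    AValid P {ζ} L → (cprod L)⁻¹ * ζ * cprod L = ζ := by
  induction L with
  | nil =>
    intro _
    rw [cprod_nil]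
    simp
  | cons a L ih =>
    obtain ⟨Q, x⟩ := a
    intro h
    rw [aValid_cons] at h
    obtain ⟨hs, hb, hL⟩ := h
    have hx := hstep Q x hs (hb rfl)
    have hr : rconj x ({ζ} : Set G) = {ζ} := by
      unfold rconj
      simp [hx]
    rw [hr] at hL
    have h2 := ih hL
    rw [cprod_cons]
    calc (x * cprod L)⁻¹ * ζ * (x * cprod L) = (cprod L)⁻¹ * (x⁻¹ * ζ * x) * cprod L := by group
      _ = ζ := by rw [hx, h2]

/-- an element of `P` fixed by all steps of Alperin's theorem has no other conjugate in `P` -/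
theorem alperin_fixed_of_steps [Finite G] [Fact p.Prime] (P : Sylow p G) (ζ : G)
    (hζ : ζ ∈ (P : Subgroup G))
    (hstep : ∀ (Q : Sylow p G) (x : G), AStep P Q x → ζ ∈ (P : Subgroup G) ⊓ (Q : Subgroup G) →
      x⁻¹ * ζ * x = ζ) (g : G) (hg : g⁻¹ * ζ * g ∈ (P : Subgroup G)) : g⁻¹ * ζ * g = ζ := by
  obtain ⟨L, hL, hprod⟩ := alperin_fusion_list P {ζ} g
    (by intro a ha; rw [Set.mem_singleton_iff] at ha; rw [ha]; exact hζ)
    (by
      rintro _ ⟨a, ha, rfl⟩
      rw [Set.mem_singleton_iff] at ha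
      rw [ha]
      exact hg)
  rw [← hprod]
  exact chain_fixed P ζ hstep L hL

end Cfsg.Agent.Helper99
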