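import Mathlib
import Cfsg.Agent.Helper78.Frobenius

set_option autoImplicit false

namespace Cfsg.Agent.Helper99

open Subgroup

variable {G : Type*} [Group G]

/-- an element of `N(H)` of order prime to `p` inducing a `p`-power torsion automorphism centralizes `H` -/
theorem mem_centralizer_of_aut_pow {p : ℕ} (H : Subgroup G) (k : G)
    (hk : k ∈ normalizer (H : Set G)) (hcop : (orderOf k).Coprime p) (j : ℕ)
    (hpow : (H.normalizerMonoidHom ⟨k, hk⟩) ^ (p ^ j) = 1) : k ∈ centralizer (H : Set G) := by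
  have h1 : (H.normalizerMonoidHom ⟨k, hk⟩) ^ (orderOf k) = 1 := by
    rw [← map_pow]
    have : (⟨k, hk⟩ : normalizer (H : Set G)) ^ (orderOf k) = 1 :=
      Subtype.ext (by rw [Subgroup.coe_pow, Subgroup.coe_one]; exact pow_orderOf_eq_one k)
    rw [this, map_one]
  have h2 : H.normalizerMonoidHom ⟨k, hk⟩ = 1 := by
    have hd1 := orderOf_dvd_of_pow_eq_one h1
    have hd2 := orderOf_dvd_of_pow_eq_one hpow
    have : orderOf (H.normalizerMonoidHom ⟨k, hk⟩) = 1 :=
      Nat.eq_one_of_dvd_coprimes (hcop.pow_right j) hd1 hd2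
    exact orderOf_eq_one_iff.mp this
  have h3 : (⟨k, hk⟩ : normalizer (H : Set G)) ∈ H.normalizerMonoidHom.ker := h2
  rw [normalizerMonoidHom_ker, mem_subgroupOf] at h3
  exact h3

theorem not_isPGroup_mulAut_of_normalizer {p : ℕ} (H : Subgroup G) (k : G)
    (hk : k ∈ normalizer (H : Set G)) (hcop : (orderOf k).Coprime p)
    (hkc : k ∉ centralizer (H : Set G)) : ¬ IsPGroup p (MulAut H) := by
  intro h
  obtain ⟨j, hj⟩ := h (H.normalizerMonoidHom ⟨k, hk⟩)
  exact hkc (mem_centralizer_of_aut_pow H k hk hcop j hj)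

/-- if `|N(H) : C(H)| = 2`, the odd order elements of `N(H)` centralize `H` -/
theorem mem_centralizer_of_relIndex_two (H : Subgroup G) (k : G)
    (hk : k ∈ normalizer (H : Set G)) (hodd : (orderOf k).Coprime 2)
    (hidx : (centralizer (H : Set G)).relIndex (normalizer (H : Set G)) = 2) :
    k ∈ centralizer (H : Set G) := by
  apply mem_centralizer_of_aut_pow (p := 2) H k hk hodd 1
  have hker : H.normalizerMonoidHom.ker.index = 2 := by
    rw [normalizerMonoidHom_ker]; exact hidx
  rw [Subgroup.index_ker] at hker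
  have h1 : (⟨H.normalizerMonoidHom ⟨k, hk⟩, MonoidHom.mem_range.mpr ⟨_, rfl⟩⟩ :
      H.normalizerMonoidHom.range) ^ 2 = 1 := by
    rw [← hker]; exact pow_card_eq_one'
  have h2 := congrArg Subtype.val h1
  rw [Subgroup.coe_pow, Subgroup.coe_one] at h2
  rw [pow_one]
  exact h2

theorem normalizer_le_normalizer_centralizer' (H : Subgroup G) :
    normalizer (H : Set G) ≤ normalizer ((centralizer (H : Set G) : Subgroup G) : Set G) := by
  intro n hn c
  have key : ∀ m : G, m ∈ normalizer (H : Set G) → ∀ c ∈ centralizer (H : Set G),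
      m * c * m⁻¹ ∈ centralizer (H : Set G) := by
    intro m hm c hc
    rw [mem_centralizer_iff] at hc ⊢
    intro x hx
    have hx' : m⁻¹ * x * m ∈ (H : Set G) := (mem_normalizer_iff''.mp hm x).mp hx
    have := hc _ hx'
    calc x * (m * c * m⁻¹) = m * ((m⁻¹ * x * m) * c) * m⁻¹ := by group
      _ = m * (c * (m⁻¹ * x * m)) * m⁻¹ := by rw [this]
      _ = m * c * m⁻¹ * x := by group
  constructor
  · exact key n hn c
  · intro h
    have := key n⁻¹ (inv_mem hn) _ h
    have e : n⁻¹ * (n * c * n⁻¹) * n⁻¹⁻¹ = c := by group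
    rwa [e] at this

/-- if `|N(V) : V C(V)| = 2` and `V` is a `2`-group, the odd order elements of `N(V)` centralize `V` -/
theorem mem_centralizer_of_relIndex_two_sup (V : Subgroup G) (k : G)
    (hk : k ∈ normalizer (V : Set G)) (hodd : (orderOf k).Coprime 2)
    (hidx : (V ⊔ centralizer (V : Set G)).relIndex (normalizer (V : Set G)) = 2)
    (a : ℕ) (hV : ∀ v ∈ V, v ^ (2 ^ a) = 1) : k ∈ centralizer (V : Set G) := by
  have h1 : (⟨k, hk⟩ : normalizer (V : Set G)) ^ 2 ∈
      (V ⊔ centralizer (V : Set G)).subgroupOf (normalizer (V : Set G)) :=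
    Subgroup.sq_mem_of_index_two hidx _
  have h2 : k ^ 2 ∈ V ⊔ centralizer (V : Set G) := by
    rw [mem_subgroupOf, Subgroup.coe_pow] at h1
    exact h1
  have h3 : k ∈ V ⊔ centralizer (V : Set G) := by
    obtain ⟨b, hb⟩ := exists_pow_eq_self_of_coprime (x := k) (n := 2) hodd.symm
    rw [← hb]
    exact pow_mem h2 b
  have hle : V ≤ normalizer ((centralizer (V : Set G) : Subgroup G) : Set G) :=
    le_trans le_normalizer (normalizer_le_normalizer_centralizer' V)
  rw [← SetLike.mem_coe, coe_mul_of_left_le_normalizer_right V _ hle] at h3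
  obtain ⟨v, hv, c, hc, hvc⟩ := h3
  have hvN : v ∈ normalizer (V : Set G) := le_normalizer hv
  have hcN : c ∈ normalizer (V : Set G) := centralizer_le_normalizer _ hc
  apply mem_centralizer_of_aut_pow (p := 2) V k hk hodd a
  have e1 : (⟨k, hk⟩ : normalizer (V : Set G)) = ⟨v, hvN⟩ * ⟨c, hcN⟩ := Subtype.ext hvc.symm
  have e2 : V.normalizerMonoidHom ⟨c, hcN⟩ = 1 := by
    have : (⟨c, hcN⟩ : normalizer (V : Set G)) ∈ V.normalizerMonoidHom.ker := by
      rw [normalizerMonoidHom_ker, mem_subgroupOf]; exact hc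
    exact this
  have e3 : (⟨v, hvN⟩ : normalizer (V : Set G)) ^ (2 ^ a) = 1 :=
    Subtype.ext (by rw [Subgroup.coe_pow, Subgroup.coe_one]; exact hV v hv)
  rw [e1, map_mul, e2, mul_one, ← map_pow, e3, map_one]

end Cfsg.Agent.Helper99
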