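import Mathlib
import Cfsg.Agent.Helper99.OddAct

set_option autoImplicit false

namespace Cfsg.Agent.Helper99

open Subgroup

variable {G : Type*} [Group G]

theorem conj_mem_normalizer_map (E : Subgroup G) (y k : G) (hk : k ∈ normalizer (E : Set G)) :
    y * k * y⁻¹ ∈ normalizer ((E.map (MulAut.conj y).toMonoidHom : Subgroup G) : Set G) := by
  rw [← map_equiv_normalizer_eq]
  exact ⟨k, hk, rfl⟩

theorem mem_centralizer_of_conj_mem_centralizer_map (E : Subgroup G) (y k : G)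
    (hk : y * k * y⁻¹ ∈ centralizer ((E.map (MulAut.conj y).toMonoidHom : Subgroup G) : Set G)) :
    k ∈ centralizer (E : Set G) := by
  rw [mem_centralizer_iff] at hk ⊢
  intro e he
  have := hk (y * e * y⁻¹) ⟨e, he, rfl⟩
  have h2 : y * (e * k) * y⁻¹ = y * (k * e) * y⁻¹ := by
    calc y * (e * k) * y⁻¹ = (y * e * y⁻¹) * (y * k * y⁻¹) := by group
      _ = (y * k * y⁻¹) * (y * e * y⁻¹) := this
      _ = y * (k * e) * y⁻¹ := by group
  exact mul_left_cancel (mul_right_cancel h2)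

theorem normalizer_sup_of_mem {A B : Subgroup G} {k : G} (hA : k ∈ normalizer (A : Set G))
    (hB : k ∈ normalizer (B : Set G)) : k ∈ normalizer ((A ⊔ B : Subgroup G) : Set G) := by
  rw [mem_normalizer_iff_map_conj_eq] at hA hB ⊢
  rw [Subgroup.map_sup, hA, hB]

/-- the bad pairs -/
def BadPair (p : ℕ) (E : Subgroup G) : Prop :=
  IsPGroup p E ∧ ∃ k ∈ normalizer (E : Set G), (orderOf k).Coprime p ∧ k ∉ centralizer (E : Set G)

theorem BadPair.conj {p : ℕ} {E : Subgroup G} (h : BadPair p E) (y : G) :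
    BadPair p (E.map (MulAut.conj y).toMonoidHom) := by
  obtain ⟨hE, k, hk, hcop, hkc⟩ := h
  refine ⟨hE.map _, y * k * y⁻¹, conj_mem_normalizer_map E y k hk, ?_, ?_⟩
  · have : y * k * y⁻¹ = MulAut.conj y k := rfl
    rw [this, MulEquiv.orderOf_eq]
    exact hcop
  · intro hcon
    exact hkc (mem_centralizer_of_conj_mem_centralizer_map E y k hcon)

end Cfsg.Agent.Helper99

namespace Cfsg.Agent.Helper99

open Subgroup

variable {G : Type*} [Group G]

/-- a bad pair of maximal order is centric: every `p`-subgroup of `C(E)` lies in `E` -/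
theorem exists_max_badPair {p : ℕ} [hp : Fact p.Prime] [Finite G]
    (h : ∃ E : Subgroup G, BadPair p E) :
    ∃ E : Subgroup G, BadPair p E ∧
      ∀ R : Subgroup G, IsPGroup p R → R ≤ centralizer (E : Set G) → R ≤ E := by
  classical
  obtain ⟨E, hE, hmax⟩ : ∃ E : Subgroup G, BadPair p E ∧
      ∀ E' : Subgroup G, BadPair p E' → Nat.card E' ≤ Nat.card E := by
    obtain ⟨E₀, hE₀⟩ := h
    have : Nonempty {E : Subgroup G // BadPair p E} := ⟨⟨E₀, hE₀⟩⟩
    obtain ⟨x₀, hx₀⟩ := Finite.exists_max (fun E : {E : Subgroup G // BadPair p E} => Nat.card E.1)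
    exact ⟨x₀.1, x₀.2, fun E' hE' => hx₀ ⟨E', hE'⟩⟩
  refine ⟨E, hE, ?_⟩
  intro R hR hRC
  by_contra hRE
  obtain ⟨hEp, k, hk, hcop, hkc⟩ := hE
  set C := centralizer (E : Set G) with hCdef
  obtain ⟨R₀, hR₀⟩ := (hR.comap_subtype (K := C)).exists_le_sylow
  set R₁ : Subgroup G := (R₀ : Subgroup C).map C.subtype with hR₁def
  have hR₁C : R₁ ≤ C := by
    rintro _ ⟨x, -, rfl⟩
    exact x.2
  have hRR₁ : R ≤ R₁ := fun x hx => ⟨⟨x, hRC hx⟩, hR₀ (show (⟨x, hRC hx⟩ : C) ∈ R.comap C.subtype from hx), rfl⟩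
  have hR₁p : IsPGroup p R₁ := R₀.isPGroup'.map _
  have hkC : k ∈ normalizer ((C : Subgroup G) : Set G) := normalizer_le_normalizer_centralizer' E hk
  set R₂ : Subgroup G := R₁.map (MulAut.conj k).toMonoidHom with hR₂def
  have hR₂C : R₂ ≤ C := by
    rintro _ ⟨x, hx, rfl⟩
    exact (mem_normalizer_iff.mp hkC x).mp (hR₁C hx)
  have hcardR₁ : Nat.card R₁ = Nat.card (R₀ : Subgroup C) :=
    Subgroup.card_map_of_injective C.subtype_injective
  have hcard : Nat.card (R₂.subgroupOf C) = p ^ (Nat.card C).factorization p := by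
    rw [Nat.card_congr (Subgroup.subgroupOfEquivOfLe hR₂C).toEquiv, hR₂def,
      Subgroup.card_map_of_injective (MulAut.conj k).injective, hcardR₁]
    exact R₀.card_eq_multiplicity
  set R₃ : Sylow p C := Sylow.ofCard (R₂.subgroupOf C) hcard with hR₃def
  obtain ⟨c, hc⟩ := MulAction.exists_smul_eq C R₃ R₀
  set k' : G := (c : G) * k with hk'def
  have hk'R₁ : k' ∈ normalizer (R₁ : Set G) := by
    rw [mem_normalizer_iff_map_conj_eq]
    apply Subgroup.eq_of_le_of_card_ge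
    · rintro _ ⟨x, hx, rfl⟩
      have hx₂ : k * x * k⁻¹ ∈ R₂ := ⟨x, hx, rfl⟩
      have hx₃ : (⟨k * x * k⁻¹, hR₂C hx₂⟩ : C) ∈ (R₃ : Subgroup C) := by
        rw [hR₃def, Sylow.coe_ofCard, mem_subgroupOf]
        exact hx₂
      have hx₄ : c * (⟨k * x * k⁻¹, hR₂C hx₂⟩ : C) * c⁻¹ ∈ ((c • R₃ : Sylow p C) : Subgroup C) := by
        rw [Cfsg.Agent.Helper78.mem_smul_sylow']
        have e : c⁻¹ * (c * (⟨k * x * k⁻¹, hR₂C hx₂⟩ : C) * c⁻¹) * c = ⟨k * x * k⁻¹, hR₂C hx₂⟩ := by group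
        rw [e]
        exact hx₃
      rw [hc] at hx₄
      refine ⟨_, hx₄, ?_⟩
      show (c : G) * (k * x * k⁻¹) * (c : G)⁻¹ = k' * x * k'⁻¹
      rw [hk'def]
      group
    · exact le_of_eq (Subgroup.card_map_of_injective (f := (MulAut.conj k').toMonoidHom) (K := R₁)
        (MulAut.conj k').injective).symm
  have hk'E : k' ∈ normalizer (E : Set G) := mul_mem (centralizer_le_normalizer _ c.2) hk
  obtain ⟨a, m, hm, hord⟩ := Nat.exists_eq_pow_mul_and_not_dvd (orderOf_pos k').ne' p hp.out.ne_one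
  set k'' : G := k' ^ (p ^ a) with hk''def
  have hk''ord : (orderOf k'').Coprime p := by
    have h1 : k'' ^ m = 1 := by rw [hk''def, ← pow_mul, ← hord, pow_orderOf_eq_one]
    have hd := orderOf_dvd_of_pow_eq_one h1
    exact Nat.Coprime.coprime_dvd_left hd ((Nat.Prime.coprime_iff_not_dvd hp.out).mpr hm).symm
  have hk''E : k'' ∈ normalizer (E : Set G) := pow_mem hk'E _
  have hk''R₁ : k'' ∈ normalizer (R₁ : Set G) := pow_mem hk'R₁ _
  have hk''c : k'' ∉ centralizer (E : Set G) := by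
    intro hcon
    apply hkc
    apply mem_centralizer_of_aut_pow E k hk hcop a
    have hcN : (c : G) ∈ normalizer (E : Set G) := centralizer_le_normalizer _ c.2
    have e1 : (⟨k', hk'E⟩ : normalizer (E : Set G)) = ⟨(c : G), hcN⟩ * ⟨k, hk⟩ := rfl
    have e2 : E.normalizerMonoidHom ⟨(c : G), hcN⟩ = 1 := by
      have : (⟨(c : G), hcN⟩ : normalizer (E : Set G)) ∈ E.normalizerMonoidHom.ker := by
        rw [normalizerMonoidHom_ker, mem_subgroupOf]; exact c.2
      exact this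
    have e3 : E.normalizerMonoidHom ⟨k'', hk''E⟩ = 1 := by
      have : (⟨k'', hk''E⟩ : normalizer (E : Set G)) ∈ E.normalizerMonoidHom.ker := by
        rw [normalizerMonoidHom_ker, mem_subgroupOf]; exact hcon
      exact this
    have e4 : (⟨k'', hk''E⟩ : normalizer (E : Set G)) = ⟨k', hk'E⟩ ^ (p ^ a) := rfl
    calc E.normalizerMonoidHom ⟨k, hk⟩ ^ (p ^ a)
        = (E.normalizerMonoidHom ⟨k', hk'E⟩) ^ (p ^ a) := by rw [e1, map_mul, e2, one_mul]
      _ = E.normalizerMonoidHom ⟨k'', hk''E⟩ := by rw [e4, map_pow]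
      _ = 1 := e3
  have hER₁ : E ≤ normalizer (R₁ : Set G) := by
    apply le_trans _ (centralizer_le_normalizer _)
    rw [le_centralizer_iff]
    exact hR₁C
  have hE'p : IsPGroup p (E ⊔ R₁ : Subgroup G) := hEp.to_sup_of_normal_right' hR₁p hER₁
  have hbad' : BadPair p (E ⊔ R₁) :=
    ⟨hE'p, k'', normalizer_sup_of_mem hk''E hk''R₁, hk''ord,
      fun hcon => hk''c (centralizer_le (by exact_mod_cast (le_sup_left : E ≤ E ⊔ R₁)) hcon)⟩
  have hlt : E < E ⊔ R₁ := by
    refine lt_of_le_of_ne le_sup_left ?_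
    intro heq
    apply hRE
    rw [heq]
    exact le_trans hRR₁ le_sup_right
  exact absurd (hmax _ hbad') (not_le.mpr (Cfsg.Agent.Helper78.card_lt_card_of_lt hlt))

end Cfsg.Agent.Helper99

namespace Cfsg.Agent.Helper99

open Subgroup

variable {G : Type*} [Group G]

/-- without a normal `p`-complement there is a centric subgroup of `P` with a nontrivial `p'`-automorphism
induced from `G` -/
theorem exists_centric_bad_of_not_complement {p : ℕ} [hp : Fact p.Prime] [Finite G] (P : Sylow p G)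
    (hno : ¬ ∃ N : Subgroup G, N.Normal ∧ N.IsComplement' (P : Subgroup G)) :
    ∃ E : Subgroup G, E ≤ (P : Subgroup G) ∧ BadPair p E ∧
      centralizer (E : Set G) ⊓ (P : Subgroup G) ≤ E := by
  rw [Cfsg.Agent.Helper78.frobenius_normal_pComplement_iff P] at hno
  push Not at hno
  obtain ⟨Q, hQP, g, hg, hcop, hgc⟩ := hno
  obtain ⟨E₁, hbad, hcen⟩ := exists_max_badPair ⟨Q, P.2.to_le hQP, g, hg, hcop, hgc⟩
  obtain ⟨P', hP'⟩ := hbad.1.exists_le_sylow
  obtain ⟨y, hy⟩ := MulAction.exists_smul_eq G P' P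
  refine ⟨E₁.map (MulAut.conj y).toMonoidHom, ?_, hbad.conj y, ?_⟩
  · rintro _ ⟨x, hx, rfl⟩
    rw [← hy, Cfsg.Agent.Helper78.mem_smul_sylow']
    have e : y⁻¹ * ((MulAut.conj y).toMonoidHom x) * y = x := by
      show y⁻¹ * (y * x * y⁻¹) * y = x
      group
    rw [e]
    exact hP' hx
  · intro x hx
    obtain ⟨hxC, hxP⟩ := Subgroup.mem_inf.mp hx
    -- the `p`-group `zpowers x` conjugated back
    have hR : IsPGroup p ((Subgroup.zpowers x).map (MulAut.conj y⁻¹).toMonoidHom : Subgroup G) := by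
      apply IsPGroup.map
      apply P.2.to_le
      rw [Subgroup.zpowers_le]
      exact hxP
    have hRC : (Subgroup.zpowers x).map (MulAut.conj y⁻¹).toMonoidHom ≤ centralizer (E₁ : Set G) := by
      rw [Subgroup.map_le_iff_le_comap, Subgroup.zpowers_le, Subgroup.mem_comap]
      show y⁻¹ * x * y⁻¹⁻¹ ∈ centralizer (E₁ : Set G)
      rw [mem_centralizer_iff] at hxC ⊢
      intro e he
      have := hxC (y * e * y⁻¹) ⟨e, he, rfl⟩
      calc e * (y⁻¹ * x * y⁻¹⁻¹) = y⁻¹ * ((y * e * y⁻¹) * x) * y := by group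
        _ = y⁻¹ * (x * (y * e * y⁻¹)) * y := by rw [this]
        _ = y⁻¹ * x * y⁻¹⁻¹ * e := by group
    have h1 := hcen _ hR hRC
    have h2 : y⁻¹ * x * y⁻¹⁻¹ ∈ E₁ := h1 ⟨x, Subgroup.mem_zpowers x, rfl⟩
    refine ⟨y⁻¹ * x * y⁻¹⁻¹, h2, ?_⟩
    show y * (y⁻¹ * x * y⁻¹⁻¹) * y⁻¹ = x
    group

/-- with a normal complement, fusion in `P` is controlled by `P` -/
theorem conj_in_of_isComplement' (P N : Subgroup G) [hN : N.Normal] (hc : N.IsComplement' P)
    (x y : G) (hx : x ∈ P) (hy : y ∈ P) (g : G) (hg : g * x * g⁻¹ = y) :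
    ∃ s ∈ P, s * x * s⁻¹ = y := by
  obtain ⟨⟨⟨n, hn⟩, ⟨s, hs⟩⟩, hns, -⟩ := hc.existsUnique g
  simp only at hns
  refine ⟨s, hs, ?_⟩
  have hx' : s * x * s⁻¹ ∈ P := P.mul_mem (P.mul_mem hs hx) (P.inv_mem hs)
  have hy' : y = n * (s * x * s⁻¹) * n⁻¹ := by rw [← hg, ← hns]; group
  have h1 : y * (s * x * s⁻¹)⁻¹ ∈ N := by
    rw [hy']
    have : n * (s * x * s⁻¹) * n⁻¹ * (s * x * s⁻¹)⁻¹ = n * ((s * x * s⁻¹) * n⁻¹ * (s * x * s⁻¹)⁻¹) := by
      group
    rw [this]
    exact N.mul_mem hn (hN.conj_mem _ (N.inv_mem hn) _)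
  have h2 : y * (s * x * s⁻¹)⁻¹ ∈ P := P.mul_mem hy (P.inv_mem hx')
  have h3 : y * (s * x * s⁻¹)⁻¹ = 1 := by
    have hdisj := hc.disjoint
    rw [Subgroup.disjoint_def] at hdisj
    exact hdisj h1 h2
  exact (mul_inv_eq_one.mp h3).symm

end Cfsg.Agent.Helper99

namespace Cfsg.Agent.Helper99

open Subgroup

variable {G : Type*} [Group G]

/-- with a normal `2`-complement, the classes of involutions of `G` correspond to those of `S` -/
theorem card_involution_classes_eq [Finite G] (S : Sylow 2 G) (N : Subgroup G) [N.Normal]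
    (hc : N.IsComplement' (S : Subgroup G)) :
    Nat.card {C : ConjClasses G // ∃ t : G, orderOf t = 2 ∧ ConjClasses.mk t = C} =
      Nat.card {C : ConjClasses ↥(S : Subgroup G) //
        ∃ t : ↥(S : Subgroup G), orderOf t = 2 ∧ ConjClasses.mk t = C} := by
  have : Fact (Nat.Prime 2) := ⟨Nat.prime_two⟩
  symm
  let f : {C : ConjClasses ↥(S : Subgroup G) //
        ∃ t : ↥(S : Subgroup G), orderOf t = 2 ∧ ConjClasses.mk t = C} →
      {C : ConjClasses G // ∃ t : G, orderOf t = 2 ∧ ConjClasses.mk t = C} :=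
    fun C => ⟨ConjClasses.map (S : Subgroup G).subtype C.1, by
      obtain ⟨t, ht, hC⟩ := C.2
      refine ⟨(t : G), by rw [Subgroup.orderOf_coe]; exact ht, ?_⟩
      rw [← hC]
      rfl⟩
  apply Nat.card_eq_of_bijective f
  constructor
  · rintro ⟨C, t, ht, rfl⟩ ⟨C', t', ht', rfl⟩ hff
    have h1 : (ConjClasses.mk ((t : G)) : ConjClasses G) = ConjClasses.mk ((t' : G)) :=
      congrArg Subtype.val hff
    rw [ConjClasses.mk_eq_mk_iff_isConj, isConj_iff] at h1
    obtain ⟨g, hg⟩ := h1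
    obtain ⟨s, hs, hst⟩ := conj_in_of_isComplement' (S : Subgroup G) N hc t t' t.2 t'.2 g hg
    apply Subtype.ext
    show ConjClasses.mk t = ConjClasses.mk t'
    rw [ConjClasses.mk_eq_mk_iff_isConj, isConj_iff]
    exact ⟨⟨s, hs⟩, Subtype.ext hst⟩
  · rintro ⟨D, u, hu, rfl⟩
    have hup : IsPGroup 2 (Subgroup.zpowers u) := by
      apply IsPGroup.of_card (n := 1)
      rw [Nat.card_zpowers, hu, pow_one]
    obtain ⟨P', hP'⟩ := hup.exists_le_sylow
    obtain ⟨y, hy⟩ := MulAction.exists_smul_eq G P' S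
    have htS : y * u * y⁻¹ ∈ (S : Subgroup G) := by
      rw [← hy, Cfsg.Agent.Helper78.mem_smul_sylow']
      have e : y⁻¹ * (y * u * y⁻¹) * y = u := by group
      rw [e]
      exact hP' (Subgroup.mem_zpowers u)
    have hto : orderOf (⟨y * u * y⁻¹, htS⟩ : ↥(S : Subgroup G)) = 2 := by
      rw [← Subgroup.orderOf_coe]
      have : y * u * y⁻¹ = MulAut.conj y u := rfl
      show orderOf (y * u * y⁻¹) = 2
      rw [this, MulEquiv.orderOf_eq, hu]
    refine ⟨⟨ConjClasses.mk ⟨y * u * y⁻¹, htS⟩, ⟨_, hto, rfl⟩⟩, ?_⟩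
    apply Subtype.ext
    show ConjClasses.mk (y * u * y⁻¹) = ConjClasses.mk u
    rw [ConjClasses.mk_eq_mk_iff_isConj, isConj_comm, isConj_iff]
    exact ⟨y, rfl⟩

end Cfsg.Agent.Helper99
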