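import Mathlib
import Cfsg.Agent.Helper99.OddAct2
import Cfsg.Agent.Helper87.SylowNormal

set_option autoImplicit false

namespace Cfsg.Agent.Helper99

open Subgroup

variable {G : Type*} [Group G]

/-- the Sylow subgroup `N_P(D)` of `N_G(D)`, for `D` with `N_P(D)` of index prime to `p` in `N_G(D)` -/
noncomputable def tameSylow {p : ℕ} [Fact p.Prime] (P : Sylow p G) (D : Subgroup G)
    (htame : ¬ p ∣ ((P : Subgroup G) ⊓ normalizer (D : Set G)).relIndex (normalizer (D : Set G))) :
    Sylow p ↥(normalizer (D : Set G)) :=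
  (P.2.comap_subtype (K := normalizer (D : Set G))).toSylow (by
    rw [inf_relIndex_right] at htame; exact htame)

theorem mem_tameSylow {p : ℕ} [Fact p.Prime] (P : Sylow p G) (D : Subgroup G)
    (htame : ¬ p ∣ ((P : Subgroup G) ⊓ normalizer (D : Set G)).relIndex (normalizer (D : Set G)))
    (a : ↥(normalizer (D : Set G))) :
    a ∈ ((tameSylow P D htame : Sylow p ↥(normalizer (D : Set G))) :
      Subgroup ↥(normalizer (D : Set G))) ↔ (a : G) ∈ (P : Subgroup G) := Iff.rfl

/-- Frattini argument in `N_G(D)` for a tame `D`: modulo `C_G(D)`, every element of `N_G(D)`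
normalizes `C_P(D)` -/
theorem exists_mul_of_tame {p : ℕ} [Fact p.Prime] [Finite G] (P : Sylow p G) (D : Subgroup G)
    (htame : ¬ p ∣ ((P : Subgroup G) ⊓ normalizer (D : Set G)).relIndex (normalizer (D : Set G)))
    (k : G) (hk : k ∈ normalizer (D : Set G)) :
    ∃ g ∈ normalizer (D : Set G),
      g ∈ normalizer ((centralizer (D : Set G) ⊓ (P : Subgroup G) : Subgroup G) : Set G) ∧
      ∃ c ∈ centralizer (D : Set G), k = g * c := by
  have hCN : centralizer (D : Set G) ≤ normalizer (D : Set G) := centralizer_le_normalizer _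
  obtain ⟨g, hg, n, hn, hkgn⟩ := Cfsg.Agent.Helper87.exists_mul_of_normal (tameSylow P D htame)
    D.normalizerMonoidHom.ker ⟨k, hk⟩
  rw [normalizerMonoidHom_ker, mem_subgroupOf] at hn
  refine ⟨(g : G), g.2, ?_, (n : G), hn, congrArg Subtype.val hkgn⟩
  have key : ∀ y : ↥(normalizer (D : Set G)),
      y ∈ normalizer ((((tameSylow P D htame : Sylow p ↥(normalizer (D : Set G))) :
        Subgroup ↥(normalizer (D : Set G))) ⊓ D.normalizerMonoidHom.ker :
          Subgroup ↥(normalizer (D : Set G))) : Set ↥(normalizer (D : Set G))) →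
      ∀ x ∈ centralizer (D : Set G) ⊓ (P : Subgroup G),
        (y : G) * x * (y : G)⁻¹ ∈ centralizer (D : Set G) ⊓ (P : Subgroup G) := by
    intro y hy x hx
    have hxN : x ∈ normalizer (D : Set G) := hCN hx.1
    have h1 : (⟨x, hxN⟩ : ↥(normalizer (D : Set G))) ∈
        (((tameSylow P D htame : Sylow p ↥(normalizer (D : Set G))) :
        Subgroup ↥(normalizer (D : Set G))) ⊓ D.normalizerMonoidHom.ker :
          Subgroup ↥(normalizer (D : Set G))) := by
      rw [Subgroup.mem_inf]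
      refine ⟨?_, ?_⟩
      · exact hx.2
      · rw [normalizerMonoidHom_ker, mem_subgroupOf]; exact hx.1
    have h2 := (mem_normalizer_iff.mp hy _).mp h1
    rw [Subgroup.mem_inf] at h2
    obtain ⟨h3, h4⟩ := h2
    rw [normalizerMonoidHom_ker, mem_subgroupOf] at h4
    exact ⟨h4, h3⟩
  rw [mem_normalizer_iff]
  intro x
  constructor
  · intro hx
    exact key g hg x hx
  · intro hx
    have h1 := key g⁻¹ (inv_mem hg) _ hx
    have e : ((g⁻¹ : ↥(normalizer (D : Set G))) : G) * ((g : G) * x * (g : G)⁻¹) *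
        ((g⁻¹ : ↥(normalizer (D : Set G))) : G)⁻¹ = x := by
      rw [Subgroup.coe_inv]; group
    rwa [e] at h1

/-- a tame bad subgroup `D` of `P` extends to the bad subgroup `D C_P(D)` -/
theorem BadPair.sup_centralizer_of_tame {p : ℕ} [hp : Fact p.Prime] [Finite G] (P : Sylow p G)
    (D : Subgroup G) (hDP : D ≤ (P : Subgroup G))
    (htame : ¬ p ∣ ((P : Subgroup G) ⊓ normalizer (D : Set G)).relIndex (normalizer (D : Set G)))
    (hbad : BadPair p D) :
    BadPair p (D ⊔ (centralizer (D : Set G) ⊓ (P : Subgroup G))) := by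
  obtain ⟨hDp, k, hk, hcop, hkc⟩ := hbad
  obtain ⟨g, hgD, hgR, c, hc, hkgc⟩ := exists_mul_of_tame P D htame k hk
  obtain ⟨a, m, hm, hord⟩ := Nat.exists_eq_pow_mul_and_not_dvd (orderOf_pos g).ne' p hp.out.ne_one
  set g' : G := g ^ (p ^ a) with hg'def
  have hg'ord : (orderOf g').Coprime p := by
    have h1 : g' ^ m = 1 := by rw [hg'def, ← pow_mul, ← hord, pow_orderOf_eq_one]
    have hd := orderOf_dvd_of_pow_eq_one h1
    exact Nat.Coprime.coprime_dvd_left hd ((Nat.Prime.coprime_iff_not_dvd hp.out).mpr hm).symm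
  have hg'D : g' ∈ normalizer (D : Set G) := pow_mem hgD _
  have hg'R : g' ∈ normalizer ((centralizer (D : Set G) ⊓ (P : Subgroup G) : Subgroup G) : Set G) :=
    pow_mem hgR _
  have hg'c : g' ∉ centralizer (D : Set G) := by
    intro hcon
    apply hkc
    apply mem_centralizer_of_aut_pow D k hk hcop a
    have hcN : c ∈ normalizer (D : Set G) := centralizer_le_normalizer _ hc
    have e1 : (⟨k, hk⟩ : normalizer (D : Set G)) = ⟨g, hgD⟩ * ⟨c, hcN⟩ := Subtype.ext hkgc
    have e2 : D.normalizerMonoidHom ⟨c, hcN⟩ = 1 := by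
      have : (⟨c, hcN⟩ : normalizer (D : Set G)) ∈ D.normalizerMonoidHom.ker := by
        rw [normalizerMonoidHom_ker, mem_subgroupOf]; exact hc
      exact this
    have e3 : D.normalizerMonoidHom ⟨g', hg'D⟩ = 1 := by
      have : (⟨g', hg'D⟩ : normalizer (D : Set G)) ∈ D.normalizerMonoidHom.ker := by
        rw [normalizerMonoidHom_ker, mem_subgroupOf]; exact hcon
      exact this
    have e4 : (⟨g', hg'D⟩ : normalizer (D : Set G)) = ⟨g, hgD⟩ ^ (p ^ a) := rfl
    calc D.normalizerMonoidHom ⟨k, hk⟩ ^ (p ^ a)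
        = (D.normalizerMonoidHom ⟨g, hgD⟩) ^ (p ^ a) := by rw [e1, map_mul, e2, mul_one]
      _ = D.normalizerMonoidHom ⟨g', hg'D⟩ := by rw [e4, map_pow]
      _ = 1 := e3
  refine ⟨P.2.to_le (sup_le hDP inf_le_right), g', normalizer_sup_of_mem hg'D hg'R, hg'ord, ?_⟩
  intro hcon
  exact hg'c (centralizer_le (by exact_mod_cast (le_sup_left :
    D ≤ D ⊔ (centralizer (D : Set G) ⊓ (P : Subgroup G)))) hcon)

/-- `D C_P(D)` is centric in `P` -/
theorem centralizer_sup_inf_le {p : ℕ} (P : Sylow p G) (D : Subgroup G) :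
    centralizer ((D ⊔ (centralizer (D : Set G) ⊓ (P : Subgroup G)) : Subgroup G) : Set G) ⊓
      (P : Subgroup G) ≤ D ⊔ (centralizer (D : Set G) ⊓ (P : Subgroup G)) := by
  intro x hx
  apply (le_sup_right : centralizer (D : Set G) ⊓ (P : Subgroup G) ≤ _)
  refine ⟨?_, hx.2⟩
  exact centralizer_le (by exact_mod_cast (le_sup_left :
    D ≤ D ⊔ (centralizer (D : Set G) ⊓ (P : Subgroup G)))) hx.1

/-- if `D` is not bad, `N_G(D)/C_G(D)` is a `p`-group -/
theorem isPGroup_range_of_not_badPair {p : ℕ} [hp : Fact p.Prime] [Finite G] (D : Subgroup G)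
    (hDp : IsPGroup p D) (hnb : ¬ BadPair p D) : IsPGroup p D.normalizerMonoidHom.range := by
  rintro ⟨α, a, rfl⟩
  obtain ⟨j, m, hm, hord⟩ :=
    Nat.exists_eq_pow_mul_and_not_dvd (orderOf_pos (a : G)).ne' p hp.out.ne_one
  refine ⟨j, ?_⟩
  apply Subtype.ext
  rw [Subgroup.coe_pow, Subgroup.coe_one, ← map_pow]
  have hmem : ((a : G) ^ (p ^ j)) ∈ centralizer (D : Set G) := by
    by_contra hcon
    apply hnb
    refine ⟨hDp, (a : G) ^ (p ^ j), pow_mem a.2 _, ?_, hcon⟩
    have h1 : ((a : G) ^ (p ^ j)) ^ m = 1 := by rw [← pow_mul, ← hord, pow_orderOf_eq_one]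
    exact Nat.Coprime.coprime_dvd_left (orderOf_dvd_of_pow_eq_one h1)
      ((Nat.Prime.coprime_iff_not_dvd hp.out).mpr hm).symm
  have : a ^ (p ^ j) ∈ D.normalizerMonoidHom.ker := by
    rw [normalizerMonoidHom_ker, mem_subgroupOf, Subgroup.coe_pow]; exact hmem
  exact this

/-- if the tame subgroup `D` is not bad then `N_G(D) = N_P(D) C_G(D)` -/
theorem exists_mul_of_not_badPair {p : ℕ} [hp : Fact p.Prime] [Finite G] (P : Sylow p G)
    (D : Subgroup G) (hDp : IsPGroup p D)
    (htame : ¬ p ∣ ((P : Subgroup G) ⊓ normalizer (D : Set G)).relIndex (normalizer (D : Set G)))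
    (hnb : ¬ BadPair p D) (x : G) (hx : x ∈ normalizer (D : Set G)) :
    ∃ s ∈ (P : Subgroup G), s ∈ normalizer (D : Set G) ∧
      ∃ c ∈ centralizer (D : Set G), x = s * c := by
  have hsurj : Function.Surjective D.normalizerMonoidHom.rangeRestrict :=
    D.normalizerMonoidHom.rangeRestrict_surjective
  set T := (tameSylow P D htame).mapSurjective hsurj with hTdef
  have hR := isPGroup_range_of_not_badPair D hDp hnb
  have htop : (T : Subgroup D.normalizerMonoidHom.range) = ⊤ := by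
    have hQ : IsPGroup p (⊤ : Subgroup D.normalizerMonoidHom.range) := by
      intro g
      obtain ⟨j, hj⟩ := hR g.1
      exact ⟨j, Subtype.ext hj⟩
    exact (T.is_maximal' hQ le_top).symm
  have h1 : D.normalizerMonoidHom.rangeRestrict ⟨x, hx⟩ ∈ (T : Subgroup D.normalizerMonoidHom.range) := by
    rw [htop]; trivial
  rw [hTdef, Sylow.coe_mapSurjective] at h1
  obtain ⟨s, hs, hsx⟩ := h1
  rw [SetLike.mem_coe] at hs
  have hsP : (s : G) ∈ (P : Subgroup G) := hs
  have h2 : s⁻¹ * ⟨x, hx⟩ ∈ D.normalizerMonoidHom.ker := by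
    rw [MonoidHom.mem_ker, map_mul, map_inv]
    have h3 := congrArg Subtype.val hsx
    simp only [MonoidHom.coe_rangeRestrict] at h3
    rw [h3, inv_mul_cancel]
  rw [normalizerMonoidHom_ker, mem_subgroupOf] at h2
  refine ⟨(s : G), hsP, s.2, _, h2, ?_⟩
  rw [Subgroup.coe_mul, Subgroup.coe_inv]
  group

end Cfsg.Agent.Helper99
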