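import Mathlib

set_option autoImplicit false

namespace Cfsg.Agent.Helper99

section Transport
variable {G H : Type*} [Group G] [Group H]

theorem map_center_equiv (e : G ≃* H) :
    (Subgroup.center G).map e.toMonoidHom = Subgroup.center H := by
  ext w
  rw [Subgroup.mem_map, Subgroup.mem_center_iff]
  constructor
  · rintro ⟨v, hv, rfl⟩ g
    rw [Subgroup.mem_center_iff] at hv
    obtain ⟨g', rfl⟩ := e.surjective g
    show e g' * e v = e v * e g'
    rw [← map_mul, ← map_mul, hv g']
  · intro hw
    refine ⟨e.symm w, ?_, e.apply_symm_apply w⟩
    rw [Subgroup.mem_center_iff]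
    intro g
    apply e.injective
    rw [map_mul, map_mul, e.apply_symm_apply]
    exact hw (e g)

theorem map_commutator_equiv (e : G ≃* H) :
    (commutator G).map e.toMonoidHom = commutator H := by
  rw [commutator_def, commutator_def, Subgroup.map_commutator]
  have : (⊤ : Subgroup G).map e.toMonoidHom = ⊤ := by
    rw [← MonoidHom.range_eq_map]
    exact MonoidHom.range_eq_top.mpr e.surjective
  rw [this]

/-- commutator subgroups of isomorphic groups are isomorphic -/
noncomputable def commutatorCongr (e : G ≃* H) : commutator G ≃* commutator H :=
  (e.subgroupMap (commutator G)).trans (MulEquiv.subgroupCongr (map_commutator_equiv e))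

/-- central quotients of isomorphic groups are isomorphic -/
noncomputable def centerQuotCongr (e : G ≃* H) : G ⧸ Subgroup.center G ≃* H ⧸ Subgroup.center H :=
  QuotientGroup.congr (Subgroup.center G) (Subgroup.center H) e (map_center_equiv e)

theorem isCyclic_of_mulEquiv {A B : Type*} [Group A] [Group B] (e : A ≃* B) [IsCyclic A] : IsCyclic B :=
  isCyclic_of_surjective e.toMonoidHom e.surjective

end Transport

end Cfsg.Agent.Helper99
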