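import Mathlib

set_option autoImplicit false

namespace Cfsg.Agent.Helper99

variable {G : Type*} [Group G]

/-- Iterating an automorphism that maps `g` to `g * c` and fixes `c`. -/
theorem aut_pow_apply_of_apply_eq_mul (ψ : MulAut G) (g c : G)
    (h : ψ g = g * c) (hc : ψ c = c) (k : ℕ) : (ψ ^ k) g = g * c ^ k := by
  induction k with
  | zero => simp
  | succ k ih =>
    rw [pow_succ', MulAut.mul_apply, ih, map_mul, map_pow, h, hc, mul_assoc, ← pow_succ']

/-- some `2`-power iterate of `α` fixes `K` pointwise -/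
def FixPow (α : MulAut G) (K : Set G) : Prop :=
  ∃ e : ℕ, ∀ x ∈ K, (α ^ (2 ^ e)) x = x

theorem FixPow.mono {α : MulAut G} {K L : Set G} (h : FixPow α L) (hKL : K ⊆ L) : FixPow α K := by
  obtain ⟨e, he⟩ := h
  exact ⟨e, fun x hx => he x (hKL hx)⟩

theorem fixPow_one (α : MulAut G) : FixPow α {x : G | x = 1} :=
  ⟨0, fun x hx => by rw [Set.mem_ofPred_eq] at hx; rw [hx, map_one]⟩

/-- a set stable under all automorphisms -/
def CharSet (K : Set G) : Prop := ∀ (α : MulAut G) (x : G), x ∈ K → α x ∈ K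

theorem CharSet.iff {K : Set G} (hK : CharSet K) (α : MulAut G) (x : G) : α x ∈ K ↔ x ∈ K := by
  constructor
  · intro h
    have h1 := hK α⁻¹ (α x) h
    have h2 : α⁻¹ (α x) = x := by
      rw [← MulAut.mul_apply, inv_mul_cancel, MulAut.one_apply]
    rwa [h2] at h1
  · exact hK α x

theorem CharSet.inter {K L : Set G} (hK : CharSet K) (hL : CharSet L) : CharSet (K ∩ L) :=
  fun α x hx => ⟨hK α x hx.1, hL α x hx.2⟩

theorem CharSet.pow_mem {K : Set G} (hK : CharSet K) (m : ℕ) : CharSet {x : G | x ^ m ∈ K} := by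
  intro α x hx
  rw [Set.mem_ofPred_eq] at hx ⊢
  rw [← map_pow]
  exact hK α _ hx

theorem charSet_pow_eq_one (m : ℕ) : CharSet {x : G | x ^ m = 1} := by
  intro α x hx
  rw [Set.mem_ofPred_eq] at hx ⊢
  rw [← map_pow, hx, map_one]

theorem charSet_pow_image (m : ℕ) : CharSet {x : G | ∃ y : G, x = y ^ m} := by
  rintro α x ⟨y, rfl⟩
  exact ⟨α y, map_pow α y m⟩

theorem charSet_univ : CharSet (Set.univ : Set G) := fun _ _ _ => Set.mem_univ _

/-- one step of the chain argument -/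
theorem fixPow_step (α : MulAut G) (K L : Set G) (hK : CharSet K) (hL : CharSet L)
    (hfix : FixPow α K)
    (hidx : ∀ x ∈ L, x ∉ K → ∀ y ∈ L, y ∉ K → x⁻¹ * y ∈ K)
    (f : ℕ) (hexp : ∀ g : G, g ^ (2 ^ f) = 1) : FixPow α L := by
  obtain ⟨e, he⟩ := hfix
  refine ⟨e + f, ?_⟩
  intro x hx
  set β := α ^ (2 ^ e) with hβ
  have hpow : α ^ (2 ^ (e + f)) = β ^ (2 ^ f) := by rw [hβ, ← pow_mul, ← pow_add]
  rw [hpow]
  by_cases hxK : x ∈ K
  · have := aut_pow_apply_of_apply_eq_mul β x 1 (by rw [mul_one]; exact he x hxK) (map_one β) (2 ^ f)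
    rw [this, one_pow, mul_one]
  · have hβxL : β x ∈ L := (hL.iff β x).mpr hx
    have hβxK : β x ∉ K := fun h => hxK ((hK.iff β x).mp h)
    have hc : x⁻¹ * β x ∈ K := hidx x hx hxK (β x) hβxL hβxK
    have h1 := aut_pow_apply_of_apply_eq_mul β x (x⁻¹ * β x) (by group) (he _ hc) (2 ^ f)
    rw [h1, hexp, mul_one]

/-- a chain indexed by `ℕ` -/
theorem fixPow_chain (α : MulAut G) (K : ℕ → Set G) (hK : ∀ i, CharSet (K i))
    (h0 : FixPow α (K 0))
    (hidx : ∀ i, ∀ x ∈ K (i + 1), x ∉ K i → ∀ y ∈ K (i + 1), y ∉ K i → x⁻¹ * y ∈ K i)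
    (f : ℕ) (hexp : ∀ g : G, g ^ (2 ^ f) = 1) (i : ℕ) : FixPow α (K i) := by
  induction i with
  | zero => exact h0
  | succ i ih => exact fixPow_step α (K i) (K (i + 1)) (hK i) (hK (i + 1)) ih (hidx i) f hexp

theorem isPGroup_mulAut_of_fixPow (h : ∀ α : MulAut G, FixPow α (Set.univ : Set G)) :
    IsPGroup 2 (MulAut G) := by
  intro α
  obtain ⟨e, he⟩ := h α
  refine ⟨e, ?_⟩
  ext x
  rw [MulAut.one_apply]
  exact he x (Set.mem_univ x)

end Cfsg.Agent.Helper99
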