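import Mathlib
import Cfsg.Prelude.Def_CaseTheorems

set_option autoImplicit false

namespace Cfsg.Agent.Helper99

/-- model of the wreath product `Z_N ≀ Z_2`: `(a, b, c)` stands for `x^a y^b z^c` -/
@[ext] structure Wr (N : ℕ) where
  a : ZMod N
  b : ZMod N
  c : Bool

namespace Wr
variable {N : ℕ}

instance : Mul (Wr N) :=
  ⟨fun u v => ⟨u.a + (bif u.c then v.b else v.a), u.b + (bif u.c then v.a else v.b), xor u.c v.c⟩⟩

instance : One (Wr N) := ⟨⟨0, 0, false⟩⟩

instance : Inv (Wr N) :=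
  ⟨fun u => ⟨-(bif u.c then u.b else u.a), -(bif u.c then u.a else u.b), u.c⟩⟩

@[simp] theorem mul_a (u v : Wr N) : (u * v).a = u.a + (bif u.c then v.b else v.a) := rfl
@[simp] theorem mul_b (u v : Wr N) : (u * v).b = u.b + (bif u.c then v.a else v.b) := rfl
@[simp] theorem mul_c (u v : Wr N) : (u * v).c = xor u.c v.c := rfl
@[simp] theorem one_a : (1 : Wr N).a = 0 := rfl
@[simp] theorem one_b : (1 : Wr N).b = 0 := rfl
@[simp] theorem one_c : (1 : Wr N).c = false := rfl
@[simp] theorem inv_a (u : Wr N) : (u⁻¹).a = -(bif u.c then u.b else u.a) := rfl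
@[simp] theorem inv_b (u : Wr N) : (u⁻¹).b = -(bif u.c then u.a else u.b) := rfl
@[simp] theorem inv_c (u : Wr N) : (u⁻¹).c = u.c := rfl

instance : Group (Wr N) where
  mul_assoc u v w := by
    obtain ⟨a, b, c⟩ := u
    obtain ⟨a', b', c'⟩ := v
    obtain ⟨a'', b'', c''⟩ := w
    cases c <;> cases c' <;> cases c'' <;> ext <;> simp <;> ring
  one_mul u := by
    obtain ⟨a, b, c⟩ := u
    ext <;> simp
  mul_one u := by
    obtain ⟨a, b, c⟩ := u
    cases c <;> ext <;> simp
  inv_mul_cancel u := by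
    obtain ⟨a, b, c⟩ := u
    cases c <;> ext <;> simp

instance : DecidableEq (Wr N) := fun u v =>
  decidable_of_iff (u.a = v.a ∧ u.b = v.b ∧ u.c = v.c) (by
    constructor
    · rintro ⟨h1, h2, h3⟩; exact Wr.ext h1 h2 h3
    · rintro rfl; exact ⟨rfl, rfl, rfl⟩)

/-- equivalence with a product, for counting -/
def equivProd (N : ℕ) : Wr N ≃ (ZMod N × ZMod N) × Bool where
  toFun u := ((u.a, u.b), u.c)
  invFun p := ⟨p.1.1, p.1.2, p.2⟩
  left_inv u := rfl
  right_inv p := rfl

instance [NeZero N] : Fintype (Wr N) := Fintype.ofEquiv _ (equivProd N).symm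

theorem card [NeZero N] : Nat.card (Wr N) = 2 * N * N := by
  rw [Nat.card_congr (equivProd N), Nat.card_prod, Nat.card_prod, Nat.card_eq_fintype_card,
    ZMod.card, Nat.card_eq_fintype_card, Fintype.card_bool]
  ring

end Wr

end Cfsg.Agent.Helper99
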