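import Mathlib
import Cfsg.Agent.Helper99.Wreathed

set_option autoImplicit false

namespace Cfsg.Agent.Helper99

namespace Wr
variable {N : ℕ}

theorem comm_ff {u v : Wr N} (hu : u.c = false) (hv : v.c = false) : u * v = v * u := by
  obtain ⟨a, b, c⟩ := u
  obtain ⟨a', b', c'⟩ := v
  simp only at hu hv
  subst hu hv
  ext <;> simp <;> ring

theorem comm_ft_iff {u v : Wr N} (hu : u.c = false) (hv : v.c = true) :
    u * v = v * u ↔ u.a = u.b := by
  obtain ⟨a, b, c⟩ := u
  obtain ⟨a', b', c'⟩ := v
  simp only at hu hv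
  subst hu hv
  rw [Wr.ext_iff]
  simp only [mul_a, mul_b, mul_c, cond_false, cond_true, Bool.false_xor, Bool.xor_false, and_true]
  constructor
  · rintro ⟨h1, -⟩
    linear_combination h1
  · intro h
    exact ⟨by linear_combination h, by linear_combination -h⟩

theorem comm_tf_iff {u v : Wr N} (hu : u.c = true) (hv : v.c = false) :
    u * v = v * u ↔ v.a = v.b := by
  rw [eq_comm, comm_ft_iff hv hu]

theorem comm_tt_iff {u v : Wr N} (hu : u.c = true) (hv : v.c = true) :
    u * v = v * u ↔ u.a + v.b = v.a + u.b := by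
  obtain ⟨a, b, c⟩ := u
  obtain ⟨a', b', c'⟩ := v
  simp only at hu hv
  subst hu hv
  rw [Wr.ext_iff]
  simp only [mul_a, mul_b, mul_c, cond_true, Bool.xor_self, and_true]
  constructor
  · rintro ⟨h1, -⟩
    exact h1
  · intro h
    exact ⟨h, by linear_combination -h⟩

/-- central elements -/
theorem central_iff [Fact (1 < N)] (w : Wr N) : (∀ s : Wr N, w * s = s * w) ↔ w.c = false ∧ w.a = w.b := by
  constructor
  · intro h
    have hc : w.c = false := by
      by_contra hc
      rw [Bool.not_eq_false] at hc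
      have h1 := h ⟨1, 0, false⟩
      rw [comm_tf_iff hc rfl] at h1
      exact one_ne_zero h1
    refine ⟨hc, ?_⟩
    have h1 := h ⟨0, 0, true⟩
    rwa [comm_ft_iff hc rfl] at h1
  · rintro ⟨hc, hab⟩ s
    cases hs : s.c
    · exact comm_ff hc hs
    · exact (comm_ft_iff hc hs).mpr hab

end Wr

end Cfsg.Agent.Helper99
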