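import Mathlib
import Cfsg.Agent.Helper99.WreathedModel
import Cfsg.Agent.S3224

set_option autoImplicit false

namespace Cfsg.Agent.Helper99

namespace Wr
variable {N : ℕ}
open scoped commutatorElement

/-- the abelian subgroup `c = false` -/
def abel (N : ℕ) : Subgroup (Wr N) where
  carrier := {u | u.c = false}
  mul_mem' {u v} hu hv := by
    simp only [Set.mem_ofPred_eq] at hu hv ⊢
    simp [hu, hv]
  one_mem' := rfl
  inv_mem' {u} hu := by
    simp only [Set.mem_ofPred_eq] at hu ⊢
    simp [hu]

@[simp] theorem mem_abel (u : Wr N) : u ∈ abel N ↔ u.c = false := Iff.rfl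

/-- diagonal embedding, onto the centre -/
def diag (N : ℕ) : Multiplicative (ZMod N) →* Wr N where
  toFun a := ⟨a.toAdd, a.toAdd, false⟩
  map_one' := rfl
  map_mul' a b := by ext <;> simp

/-- antidiagonal embedding, onto the derived subgroup -/
def anti (N : ℕ) : Multiplicative (ZMod N) →* Wr N where
  toFun a := ⟨a.toAdd, -a.toAdd, false⟩
  map_one' := by ext <;> simp
  map_mul' a b := by ext <;> simp <;> ring

theorem diag_injective : Function.Injective (diag N) := by
  intro a b h
  have := congrArg Wr.a h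
  exact this

theorem anti_injective : Function.Injective (anti N) := by
  intro a b h
  have := congrArg Wr.a h
  exact this

theorem center_eq [Fact (1 < N)] : Subgroup.center (Wr N) = (diag N).range := by
  ext w
  rw [Subgroup.mem_center_iff, MonoidHom.mem_range]
  constructor
  · intro h
    have := (central_iff w).mp (fun s => (h s).symm)
    refine ⟨Multiplicative.ofAdd w.a, ?_⟩
    ext
    · rfl
    · exact this.2
    · exact this.1.symm
  · rintro ⟨a, rfl⟩ s
    exact (((central_iff (diag N a)).mpr ⟨rfl, rfl⟩) s).symm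

theorem commutator_mem (u v : Wr N) :
    (u * v * u⁻¹ * v⁻¹).c = false ∧ (u * v * u⁻¹ * v⁻¹).a + (u * v * u⁻¹ * v⁻¹).b = 0 := by
  obtain ⟨a, b, c⟩ := u
  obtain ⟨a', b', c'⟩ := v
  cases c <;> cases c' <;> refine ⟨by simp, ?_⟩ <;> simp <;> ring

theorem commutator_eq : commutator (Wr N) = (anti N).range := by
  apply le_antisymm
  · rw [commutator_eq_closure, Subgroup.closure_le]
    rintro _ ⟨u, v, rfl⟩
    obtain ⟨h1, h2⟩ := commutator_mem u v
    refine ⟨Multiplicative.ofAdd (u * v * u⁻¹ * v⁻¹).a, ?_⟩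
    ext
    · rfl
    · show -(u * v * u⁻¹ * v⁻¹).a = _
      linear_combination -h2
    · exact h1.symm
  · rintro _ ⟨a, rfl⟩
    have : anti N a = ⁅(⟨a.toAdd, 0, false⟩ : Wr N), ⟨0, 0, true⟩⁆ := by
      rw [commutatorElement_def]
      ext <;> simp [anti]
    rw [this]
    exact Subgroup.commutator_mem_commutator (Subgroup.mem_top _) (Subgroup.mem_top _)

/-- generators -/
def xel (N : ℕ) : Wr N := ⟨1, 0, false⟩
def yel (N : ℕ) : Wr N := ⟨0, 1, false⟩
def zel (N : ℕ) : Wr N := ⟨0, 0, true⟩

theorem xel_pow (k : ℕ) : (xel N) ^ k = ⟨(k : ZMod N), 0, false⟩ := by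
  induction k with
  | zero => ext <;> simp
  | succ k ih =>
    rw [pow_succ, ih]
    ext <;> simp [xel]

theorem zel_mul_self : zel N * zel N = 1 := by
  ext <;> simp [zel]

theorem center_le_abel [Fact (1 < N)] : Subgroup.center (Wr N) ≤ abel N := by
  intro w hw
  rw [Subgroup.mem_center_iff] at hw
  exact ((central_iff w).mp (fun s => (hw s).symm)).1

theorem card_center [NeZero N] [Fact (1 < N)] : Nat.card (Subgroup.center (Wr N)) = N := by
  rw [center_eq, ← Nat.card_congr (MonoidHom.ofInjective (diag_injective (N := N))).toEquiv]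
  rw [Nat.card_eq_fintype_card, Fintype.card_multiplicative]
  exact ZMod.card N

theorem mem_center_iff' [Fact (1 < N)] (w : Wr N) : w ∈ Subgroup.center (Wr N) ↔ w.c = false ∧ w.a = w.b := by
  rw [Subgroup.mem_center_iff, ← central_iff]
  exact ⟨fun h s => (h s).symm, fun h s => (h s).symm⟩

theorem quot_dihedral [NeZero N] [Fact (1 < N)] :
    Nonempty (Wr N ⧸ Subgroup.center (Wr N) ≃* DihedralGroup N) := by
  set a : Wr N ⧸ Subgroup.center (Wr N) := QuotientGroup.mk (xel N) with ha
  set t : Wr N ⧸ Subgroup.center (Wr N) := QuotientGroup.mk (zel N) with ht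
  have ht2 : t * t = 1 := by
    rw [ht, ← QuotientGroup.mk_mul, zel_mul_self]
    rfl
  have hrel : t * a * t⁻¹ = a⁻¹ := by
    rw [ht, ha, ← QuotientGroup.mk_mul, ← QuotientGroup.mk_inv, ← QuotientGroup.mk_mul,
      ← QuotientGroup.mk_inv, QuotientGroup.eq, mem_center_iff']
    constructor
    · simp [zel, xel]
    · simp [zel, xel]
  have hpow : ∀ k : ℕ, a ^ k = 1 ↔ N ∣ k := by
    intro k
    rw [ha, ← QuotientGroup.mk_pow, QuotientGroup.eq_one_iff, mem_center_iff', xel_pow]
    simp only [true_and]
    exact ZMod.natCast_eq_zero_iff k N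
  have hord : orderOf a = N := by
    apply Nat.dvd_antisymm
    · exact orderOf_dvd_of_pow_eq_one ((hpow N).mpr dvd_rfl)
    · exact (hpow _).mp (pow_orderOf_eq_one a)
  have hta : t ∉ Subgroup.zpowers a := by
    intro hmem
    have hle : Subgroup.zpowers a ≤ (abel N).map (QuotientGroup.mk' (Subgroup.center (Wr N))) := by
      rw [Subgroup.zpowers_le]
      exact ⟨xel N, rfl, rfl⟩
    obtain ⟨u, hu, hut⟩ := hle hmem
    have h1 : (QuotientGroup.mk u : Wr N ⧸ Subgroup.center (Wr N)) = QuotientGroup.mk (zel N) := hut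
    rw [QuotientGroup.eq] at h1
    have h2 := center_le_abel h1
    have h3 : zel N = u * (u⁻¹ * zel N) := by group
    have h4 : zel N ∈ abel N := by
      rw [h3]
      exact (abel N).mul_mem hu h2
    exact absurd h4 (by simp [zel])
  have hcard : Nat.card (Wr N ⧸ Subgroup.center (Wr N)) = 2 * orderOf a := by
    have h1 := Subgroup.card_eq_card_quotient_mul_card_subgroup (Subgroup.center (Wr N))
    rw [card, card_center] at h1
    rw [hord]
    have hN : 0 < N := Nat.pos_of_ne_zero (NeZero.ne N)
    exact (Nat.eq_of_mul_eq_mul_right hN h1).symm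
  have := Cfsg.Agent.S3224.dihedral_iso a t ht2 hrel hta hcard
  rwa [hord] at this


end Wr

end Cfsg.Agent.Helper99
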