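import Mathlib
import Cfsg.Agent.Helper99.WreathedModel2

set_option autoImplicit false

namespace Cfsg.Agent.Helper99

namespace Wr
variable {N : ℕ}

/-- the embedding of `Z_N × Z_N` onto `abel` -/
def prodHom (N : ℕ) : Multiplicative (ZMod N × ZMod N) →* Wr N where
  toFun p := ⟨p.toAdd.1, p.toAdd.2, false⟩
  map_one' := rfl
  map_mul' p q := by ext <;> simp

theorem prodHom_injective : Function.Injective (prodHom N) := by
  intro p q h
  have h1 := congrArg Wr.a h
  have h2 := congrArg Wr.b h
  exact Prod.ext h1 h2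

theorem abel_eq_range : abel N = (prodHom N).range := by
  ext w
  rw [mem_abel, MonoidHom.mem_range]
  constructor
  · intro h
    refine ⟨Multiplicative.ofAdd (w.a, w.b), ?_⟩
    ext
    · rfl
    · rfl
    · exact h.symm
  · rintro ⟨p, rfl⟩
    rfl

/-- `abel ≃* Z_N × Z_N` -/
noncomputable def abelEquiv (N : ℕ) : abel N ≃* Multiplicative (ZMod N × ZMod N) :=
  (MulEquiv.subgroupCongr abel_eq_range).trans (MonoidHom.ofInjective prodHom_injective).symm

theorem card_abel [NeZero N] : Nat.card (abel N) = N * N := by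
  rw [Nat.card_congr (abelEquiv N).toEquiv, Nat.card_eq_fintype_card, Fintype.card_multiplicative,
    Fintype.card_prod, ZMod.card]

instance abel_comm : IsMulCommutative (abel N) :=
  ⟨⟨fun u v => Subtype.ext (comm_ff u.2 v.2)⟩⟩

/-- the sign homomorphism, with kernel `abel` -/
def cHom (N : ℕ) : Wr N →* Multiplicative (ZMod 2) where
  toFun u := Multiplicative.ofAdd (bif u.c then 1 else 0)
  map_one' := rfl
  map_mul' u v := by
    obtain ⟨a, b, c⟩ := u
    obtain ⟨a', b', c'⟩ := v
    cases c <;> cases c' <;> simp <;> rfl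

theorem cHom_ker : (cHom N).ker = abel N := by
  ext u
  rw [MonoidHom.mem_ker, mem_abel]
  obtain ⟨a, b, c⟩ := u
  cases c
  · simp [cHom]
  · simp only [cHom, MonoidHom.coe_mk, OneHom.coe_mk, cond_true, reduceCtorEq, iff_false]
    intro h
    have : (1 : ZMod 2) = 0 := h
    exact one_ne_zero this

theorem relIndex_abel_le (U : Subgroup (Wr N)) : (abel N).relIndex U ≤ 2 := by
  rw [← cHom_ker, Subgroup.relIndex_ker]
  calc Nat.card (U.map (cHom N)) ≤ Nat.card (Multiplicative (ZMod 2)) :=
        Nat.card_le_card_of_injective _ Subtype.val_injective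
    _ = 2 := by
        rw [Nat.card_eq_fintype_card, Fintype.card_multiplicative, ZMod.card]

/-- a commutative subgroup not inside `abel` has order at most `2N` -/
theorem card_le_of_comm_of_not_le [NeZero N] [Fact (1 < N)] (U : Subgroup (Wr N))
    (hU : ∀ u ∈ U, ∀ v ∈ U, u * v = v * u) (hnot : ¬ U ≤ abel N) : Nat.card U ≤ 2 * N := by
  obtain ⟨w, hwU, hw⟩ : ∃ w ∈ U, w.c = true := by
    by_contra hcon
    push Not at hcon
    apply hnot
    intro u hu
    simpa using hcon u hu
  have hle : (abel N).subgroupOf U ≤ (Subgroup.center (Wr N)).subgroupOf U := by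
    intro u hu
    rw [Subgroup.mem_subgroupOf] at hu ⊢
    rw [mem_center_iff']
    exact ⟨hu, (comm_ft_iff hu hw).mp (hU _ u.2 _ hwU)⟩
  have h1 : Nat.card ((abel N).subgroupOf U) ≤ N := by
    calc Nat.card ((abel N).subgroupOf U) ≤ Nat.card ((Subgroup.center (Wr N)).subgroupOf U) :=
          Subgroup.card_le_of_le hle
      _ ≤ Nat.card (Subgroup.center (Wr N)) :=
          Nat.card_le_card_of_injective (fun u => (⟨u.1.1, u.2⟩ : Subgroup.center (Wr N)))
            (fun u v h => by
              have := congrArg Subtype.val h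
              exact Subtype.ext (Subtype.ext this))
      _ = N := card_center
  have h2 := Subgroup.card_mul_index ((abel N).subgroupOf U)
  have h3 : ((abel N).subgroupOf U).index ≤ 2 := relIndex_abel_le U
  calc Nat.card U = Nat.card ((abel N).subgroupOf U) * ((abel N).subgroupOf U).index := h2.symm
    _ ≤ N * 2 := Nat.mul_le_mul h1 h3
    _ = 2 * N := by ring

end Wr

end Cfsg.Agent.Helper99
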