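import Mathlib
import Cfsg.Agent.Helper99.WreathedModel3

set_option autoImplicit false

namespace Cfsg.Agent.Helper99

namespace Wr
variable {N : ℕ}

/-- the homomorphism `(a, b, c) ↦ a + b (mod h)` where `h ∣ N` -/
def sHom {N h : ℕ} (hd : h ∣ N) : Wr N →* Multiplicative (ZMod h) where
  toFun u := Multiplicative.ofAdd (ZMod.castHom hd (ZMod h) (u.a + u.b))
  map_one' := by simp
  map_mul' u v := by
    obtain ⟨a, b, c⟩ := u
    obtain ⟨a', b', c'⟩ := v
    rw [← ofAdd_add, ← map_add]
    congr 2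
    cases c <;> simp <;> ring

theorem sHom_surjective {N h : ℕ} (hd : h ∣ N) : Function.Surjective (sHom hd) := by
  intro t
  obtain ⟨a, ha⟩ := ZMod.castHom_surjective hd t.toAdd
  refine ⟨⟨a, 0, false⟩, ?_⟩
  simp only [sHom, MonoidHom.coe_mk, OneHom.coe_mk, add_zero, ha]
  rfl

theorem card_ker_sHom {N h : ℕ} [NeZero N] [NeZero h] (hd : h ∣ N) :
    Nat.card (sHom hd).ker * h = 2 * N * N := by
  have h1 := Subgroup.card_mul_index (sHom hd).ker
  rw [Subgroup.index_ker, MonoidHom.range_eq_top.mpr (sHom_surjective hd), Subgroup.card_top,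
    Nat.card_eq_fintype_card (α := Multiplicative (ZMod h)), Fintype.card_multiplicative, ZMod.card,
    card] at h1
  exact h1

/-- residues killed by reduction mod `h` when `N = 2h` -/
theorem eq_zero_or_of_cast {h : ℕ} [NeZero N] (hN : N = 2 * h) (s : ZMod N)
    (hs : ZMod.castHom (Dvd.intro_left 2 hN.symm) (ZMod h) s = 0) : s = 0 ∨ s = (h : ZMod N) := by
  have hval : ((s.val : ℕ) : ZMod N) = s := ZMod.natCast_zmod_val s
  rw [← hval, ZMod.castHom_apply, ZMod.cast_natCast (Dvd.intro_left 2 hN.symm),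
    ZMod.natCast_eq_zero_iff] at hs
  have hlt : s.val < N := ZMod.val_lt s
  obtain ⟨k, hk⟩ := hs
  have hk01 : k = 0 ∨ k = 1 := by
    rcases Nat.lt_or_ge k 2 with h2 | h2
    · omega
    · exfalso
      have : h * 2 ≤ h * k := Nat.mul_le_mul_left h h2
      omega
  rcases hk01 with rfl | rfl
  · left
    rw [← hval, hk, mul_zero, Nat.cast_zero]
  · right
    rw [← hval, hk, mul_one]

theorem cast_eq_zero_of_two_mul {h : ℕ} [NeZero N] (hN : N = 2 * h) (s : ZMod N) (hs : 2 * s = 0) :
    ZMod.castHom (Dvd.intro_left 2 hN.symm) (ZMod h) s = 0 := by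
  have hval : ((s.val : ℕ) : ZMod N) = s := ZMod.natCast_zmod_val s
  rw [← hval] at hs ⊢
  rw [ZMod.castHom_apply, ZMod.cast_natCast (Dvd.intro_left 2 hN.symm), ZMod.natCast_eq_zero_iff]
  have : ((2 * s.val : ℕ) : ZMod N) = 0 := by
    push_cast
    exact hs
  rw [ZMod.natCast_eq_zero_iff] at this
  obtain ⟨k, hk⟩ := this
  refine ⟨k, ?_⟩
  obtain ⟨v, hv⟩ : ∃ v, s.val = v := ⟨_, rfl⟩
  rw [hv] at hk ⊢
  have : 2 * v = 2 * (h * k) := by rw [hk, hN]; ring
  omega

theorem orderOf_eq_two_iff {G : Type*} [Group G] (g : G) : orderOf g = 2 ↔ g * g = 1 ∧ g ≠ 1 := by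
  rw [orderOf_eq_iff (by norm_num)]
  constructor
  · rintro ⟨h1, h2⟩
    refine ⟨by rwa [pow_two] at h1, ?_⟩
    have := h2 1 (by norm_num) (by norm_num)
    rwa [pow_one] at this
  · rintro ⟨h1, h2⟩
    refine ⟨by rwa [pow_two], ?_⟩
    intro m hm hm0
    have : m = 1 := by omega
    rw [this, pow_one]
    exact h2

/-- the subgroup generated by the involutions -/
theorem closure_involutions {h : ℕ} [NeZero N] (hN : N = 2 * h) (hh : 0 < h) :
    Subgroup.closure {u : Wr N | orderOf u = 2} = (sHom (Dvd.intro_left 2 hN.symm)).ker := by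
  have hNpos : 0 < N := by omega
  apply le_antisymm
  · rw [Subgroup.closure_le]
    intro u hu
    rw [Set.mem_ofPred_eq, orderOf_eq_two_iff] at hu
    obtain ⟨hsq, hne⟩ := hu
    rw [SetLike.mem_coe, MonoidHom.mem_ker]
    obtain ⟨a, b, c⟩ := u
    cases c
    · have h1 := congrArg Wr.a hsq
      have h2 := congrArg Wr.b hsq
      simp only [mul_a, mul_b, cond_false, one_a, one_b] at h1 h2
      simp only [sHom, MonoidHom.coe_mk, OneHom.coe_mk, map_add]
      rw [cast_eq_zero_of_two_mul hN a (by rw [two_mul]; exact h1),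
        cast_eq_zero_of_two_mul hN b (by rw [two_mul]; exact h2)]
      simp
    · have h1 := congrArg Wr.a hsq
      simp only [mul_a, cond_true, one_a] at h1
      simp only [sHom, MonoidHom.coe_mk, OneHom.coe_mk, h1, map_zero]
      rfl
  · -- generators
    set Ω := Subgroup.closure {u : Wr N | orderOf u = 2} with hΩ
    have hh' : (h : ZMod N) ≠ 0 := by
      rw [Ne, ZMod.natCast_eq_zero_iff]
      intro hdvd
      have := Nat.le_of_dvd hh hdvd
      omega
    have h2h : (h : ZMod N) + (h : ZMod N) = 0 := by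
      have : ((2 * h : ℕ) : ZMod N) = 0 := by rw [← hN]; exact ZMod.natCast_self N
      rw [← this]; push_cast; ring
    have hz : (⟨0, 0, true⟩ : Wr N) ∈ Ω := by
      apply Subgroup.subset_closure
      rw [Set.mem_ofPred_eq, orderOf_eq_two_iff]
      refine ⟨by ext <;> simp, ?_⟩
      intro hc
      have := congrArg Wr.c hc
      simp at this
    have hanti_t : ∀ a : ZMod N, (⟨a, -a, true⟩ : Wr N) ∈ Ω := by
      intro a
      apply Subgroup.subset_closure
      rw [Set.mem_ofPred_eq, orderOf_eq_two_iff]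
      refine ⟨by ext <;> simp, ?_⟩
      intro hc
      have := congrArg Wr.c hc
      simp at this
    have hanti : ∀ a : ZMod N, (⟨a, -a, false⟩ : Wr N) ∈ Ω := by
      intro a
      have : (⟨a, -a, false⟩ : Wr N) = ⟨a, -a, true⟩ * ⟨0, 0, true⟩ := by ext <;> simp
      rw [this]
      exact Ω.mul_mem (hanti_t a) hz
    have hy : (⟨0, (h : ZMod N), false⟩ : Wr N) ∈ Ω := by
      apply Subgroup.subset_closure
      rw [Set.mem_ofPred_eq, orderOf_eq_two_iff]
      refine ⟨by ext <;> simp [h2h], ?_⟩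
      intro hc
      have := congrArg Wr.b hc
      exact hh' this
    have hA : ∀ a b : ZMod N, ZMod.castHom (Dvd.intro_left 2 hN.symm) (ZMod h) (a + b) = 0 →
        (⟨a, b, false⟩ : Wr N) ∈ Ω := by
      intro a b hab
      rcases eq_zero_or_of_cast hN (a + b) hab with h0 | h0
      · have : b = -a := by linear_combination h0
        rw [this]
        exact hanti a
      · have : (⟨a, b, false⟩ : Wr N) = ⟨a, -a, false⟩ * ⟨0, (h : ZMod N), false⟩ := by
          ext
          · simp
          · simp only [mul_b, cond_false]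
            linear_combination h0
          · simp
        rw [this]
        exact Ω.mul_mem (hanti a) hy
    intro u hu
    rw [MonoidHom.mem_ker] at hu
    obtain ⟨a, b, c⟩ := u
    have hab : ZMod.castHom (Dvd.intro_left 2 hN.symm) (ZMod h) (a + b) = 0 := hu
    cases c
    · exact hA a b hab
    · have : (⟨a, b, true⟩ : Wr N) = ⟨a, b, false⟩ * ⟨0, 0, true⟩ := by ext <;> simp
      rw [this]
      exact Ω.mul_mem (hA a b hab) hz

end Wr

end Cfsg.Agent.Helper99
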