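import Mathlib
import Cfsg.Agent.Helper99.WreathedOmega

set_option autoImplicit false

namespace Cfsg.Agent.Helper99

theorem isKleinFour_of_mulEquiv {G H : Type*} [Group G] [Group H] (e : G ≃* H) [hG : IsKleinFour G] :
    IsKleinFour H :=
  ⟨by rw [← Nat.card_congr e.toEquiv]; exact hG.card_four,
   by rw [← Monoid.exponent_eq_of_mulEquiv e]; exact hG.exponent_two⟩

namespace Wr
variable {N : ℕ}

/-- solutions of `2 s = 0` in `ZMod (2h)` -/
theorem two_mul_eq_zero_iff {h : ℕ} [NeZero N] (hN : N = 2 * h) (s : ZMod N) :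
    2 * s = 0 ↔ s = 0 ∨ s = (h : ZMod N) := by
  constructor
  · intro hs
    exact eq_zero_or_of_cast hN s (cast_eq_zero_of_two_mul hN s hs)
  · rintro (rfl | rfl)
    · simp
    · have : ((2 * h : ℕ) : ZMod N) = 0 := by rw [← hN]; exact ZMod.natCast_self N
      rw [← this]; push_cast; ring

theorem half_ne_zero {h : ℕ} [NeZero N] (hN : N = 2 * h) (hh : 0 < h) : (h : ZMod N) ≠ 0 := by
  rw [Ne, ZMod.natCast_eq_zero_iff]
  intro hdvd
  have := Nat.le_of_dvd hh hdvd
  omega

/-- the normal four-group `Ω₁` of the abelian subgroup -/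
def fourT (N : ℕ) : Subgroup (Wr N) where
  carrier := {u | u.c = false ∧ 2 * u.a = 0 ∧ 2 * u.b = 0}
  mul_mem' {u v} hu hv := by
    obtain ⟨h1, h2, h3⟩ := hu
    obtain ⟨h4, h5, h6⟩ := hv
    refine ⟨by simp [h1, h4], ?_, ?_⟩
    · simp only [mul_a, h1, cond_false]
      linear_combination h2 + h5
    · simp only [mul_b, h1, cond_false]
      linear_combination h3 + h6
  one_mem' := ⟨rfl, by simp, by simp⟩
  inv_mem' {u} hu := by
    obtain ⟨h1, h2, h3⟩ := hu
    refine ⟨by simp [h1], ?_, ?_⟩
    · simp only [inv_a, h1, cond_false]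
      linear_combination -h2
    · simp only [inv_b, h1, cond_false]
      linear_combination -h3

theorem mem_fourT (u : Wr N) : u ∈ fourT N ↔ u.c = false ∧ 2 * u.a = 0 ∧ 2 * u.b = 0 := Iff.rfl

theorem fourT_normal : (fourT N).Normal := by
  constructor
  intro u hu g
  obtain ⟨h1, h2, h3⟩ := hu
  obtain ⟨a, b, c⟩ := u
  obtain ⟨a', b', c'⟩ := g
  simp only at h1 h2 h3
  subst h1
  rw [mem_fourT]
  cases c'
  · refine ⟨by simp, ?_, ?_⟩
    · simp only [mul_a, mul_b, mul_c, inv_a, inv_b, inv_c, cond_false, Bool.xor_false]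
      linear_combination h2
    · simp only [mul_a, mul_b, mul_c, inv_a, inv_b, inv_c, cond_false, Bool.xor_false]
      linear_combination h3
  · refine ⟨by simp, ?_, ?_⟩
    · simp only [mul_a, mul_b, mul_c, inv_a, inv_b, inv_c, cond_false, cond_true, Bool.true_xor,
        Bool.not_false]
      linear_combination h3
    · simp only [mul_a, mul_b, mul_c, inv_a, inv_b, inv_c, cond_false, cond_true, Bool.true_xor,
        Bool.not_false]
      linear_combination h2

theorem card_fourT {h : ℕ} [NeZero N] (hN : N = 2 * h) (hh : 0 < h) : Nat.card (fourT N) = 4 := by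
  have hne := half_ne_zero hN hh
  have h2h : 2 * (h : ZMod N) = 0 := (two_mul_eq_zero_iff hN _).mpr (Or.inr rfl)
  let f : Bool × Bool → fourT N := fun p =>
    ⟨⟨bif p.1 then (h : ZMod N) else 0, bif p.2 then (h : ZMod N) else 0, false⟩, by
      refine ⟨rfl, ?_, ?_⟩
      · cases p.1 <;> simp [h2h]
      · cases p.2 <;> simp [h2h]⟩
  have hf : Function.Bijective f := by
    constructor
    · rintro ⟨p1, p2⟩ ⟨q1, q2⟩ hpq
      have h1 := congrArg (fun t : fourT N => t.1.a) hpq
      have h2 := congrArg (fun t : fourT N => t.1.b) hpq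
      simp only [f] at h1 h2
      have e1 : p1 = q1 := by
        cases p1 <;> cases q1 <;> simp_all
      have e2 : p2 = q2 := by
        cases p2 <;> cases q2 <;> simp_all
      rw [e1, e2]
    · rintro ⟨u, hu⟩
      obtain ⟨h1, h2, h3⟩ := hu
      rcases (two_mul_eq_zero_iff hN _).mp h2 with ha | ha <;>
      rcases (two_mul_eq_zero_iff hN _).mp h3 with hb | hb
      · exact ⟨(false, false), Subtype.ext (Wr.ext ha.symm hb.symm h1.symm)⟩
      · exact ⟨(false, true), Subtype.ext (Wr.ext ha.symm hb.symm h1.symm)⟩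
      · exact ⟨(true, false), Subtype.ext (Wr.ext ha.symm hb.symm h1.symm)⟩
      · exact ⟨(true, true), Subtype.ext (Wr.ext ha.symm hb.symm h1.symm)⟩
  rw [← Nat.card_congr (Equiv.ofBijective f hf)]
  simp

theorem fourT_isKleinFour {h : ℕ} [NeZero N] (hN : N = 2 * h) (hh : 0 < h) : IsKleinFour (fourT N) := by
  refine ⟨card_fourT hN hh, ?_⟩
  have hdvd : Monoid.exponent (fourT N) ∣ 2 := by
    apply Monoid.exponent_dvd_of_forall_pow_eq_one
    rintro ⟨u, h1, h2, h3⟩
    apply Subtype.ext
    rw [pow_two]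
    show u * u = 1
    ext
    · simp only [mul_a, h1, cond_false, one_a]; linear_combination h2
    · simp only [mul_b, h1, cond_false, one_b]; linear_combination h3
    · simp [h1]
  have hne1 : Monoid.exponent (fourT N) ≠ 1 := by
    intro h1
    have hsub : Subsingleton (fourT N) := Monoid.exp_eq_one_iff.mp h1
    have hc := card_fourT hN hh
    rw [Nat.card_eq_one_iff_unique.mpr ⟨hsub, ⟨1⟩⟩] at hc
    omega
  rcases (Nat.dvd_prime Nat.prime_two).mp hdvd with h1 | h2
  · exact absurd h1 hne1
  · exact h2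

/-- the other four-groups -/
def fourK (a : ZMod N) : Subgroup (Wr N) where
  carrier := {u | (u.c = false ∧ u.a = u.b ∧ 2 * u.a = 0) ∨
    (u.c = true ∧ u.a + u.b = 0 ∧ 2 * (u.a - a) = 0)}
  mul_mem' {u v} hu hv := by
    obtain ⟨a₁, b₁, c₁⟩ := u
    obtain ⟨a₂, b₂, c₂⟩ := v
    rcases hu with ⟨h1, h2, h3⟩ | ⟨h1, h2, h3⟩ <;> rcases hv with ⟨h4, h5, h6⟩ | ⟨h4, h5, h6⟩ <;>
      simp only at h1 h2 h3 h4 h5 h6 <;> subst h1 h4
    · left
      refine ⟨by simp, ?_, ?_⟩
      · simp only [mul_a, mul_b, cond_false]; linear_combination h2 + h5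
      · simp only [mul_a, cond_false]; linear_combination h3 + h6
    · right
      refine ⟨by simp, ?_, ?_⟩
      · simp only [mul_a, mul_b, cond_false]; linear_combination h3 - h2 + h5
      · simp only [mul_a, cond_false]; linear_combination h3 + h6
    · right
      refine ⟨by simp, ?_, ?_⟩
      · simp only [mul_a, mul_b, cond_true]; linear_combination h2 + h6 - h5
      · simp only [mul_a, cond_true]; linear_combination h3 + h6 - 2 * h5
    · left
      refine ⟨by simp, ?_, ?_⟩
      · simp only [mul_a, mul_b, cond_true]; linear_combination h3 - h6 - h2 + h5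
      · simp only [mul_a, cond_true]; linear_combination h3 - h6 + 2 * h5
  one_mem' := Or.inl ⟨rfl, rfl, by simp⟩
  inv_mem' {u} hu := by
    obtain ⟨a₁, b₁, c₁⟩ := u
    rcases hu with ⟨h1, h2, h3⟩ | ⟨h1, h2, h3⟩ <;> simp only at h1 h2 h3 <;> subst h1
    · left
      refine ⟨by simp, ?_, ?_⟩
      · simp only [inv_a, inv_b, cond_false]; linear_combination -h2
      · simp only [inv_a, cond_false]; linear_combination -h3
    · right
      refine ⟨by simp, ?_, ?_⟩
      · simp only [inv_a, inv_b, cond_true]; linear_combination -h2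
      · simp only [inv_a, cond_true]; linear_combination h3 - 2 * h2

theorem mem_fourK (a : ZMod N) (u : Wr N) : u ∈ fourK a ↔
    (u.c = false ∧ u.a = u.b ∧ 2 * u.a = 0) ∨ (u.c = true ∧ u.a + u.b = 0 ∧ 2 * (u.a - a) = 0) :=
  Iff.rfl

theorem conj_mem_fourK (a c : ZMod N) (u : Wr N) (hu : u ∈ fourK a) :
    (⟨c, 0, false⟩ : Wr N) * u * (⟨c, 0, false⟩ : Wr N)⁻¹ ∈ fourK (a + c) := by
  obtain ⟨a₁, b₁, c₁⟩ := u
  rcases hu with ⟨h1, h2, h3⟩ | ⟨h1, h2, h3⟩ <;> simp only at h1 h2 h3 <;> subst h1
  · left
    refine ⟨by simp, ?_, ?_⟩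
    · simp only [mul_a, mul_b, mul_c, inv_a, inv_b, inv_c, cond_false, Bool.xor_false]
      linear_combination h2
    · simp only [mul_a, mul_b, mul_c, inv_a, inv_b, inv_c, cond_false, Bool.xor_false]
      linear_combination h3
  · right
    refine ⟨by simp, ?_, ?_⟩
    · simp only [mul_a, mul_b, mul_c, inv_a, inv_b, inv_c, cond_false, cond_true, Bool.false_xor]
      linear_combination h2
    · simp only [mul_a, mul_b, mul_c, inv_a, inv_b, inv_c, cond_false, cond_true, Bool.false_xor]
      linear_combination h3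

theorem map_conj_fourK (a c : ZMod N) :
    (fourK a).map (MulAut.conj (⟨c, 0, false⟩ : Wr N)).toMonoidHom = fourK (a + c) := by
  apply le_antisymm
  · rintro _ ⟨u, hu, rfl⟩
    exact conj_mem_fourK a c u hu
  · intro v hv
    refine ⟨(⟨c, 0, false⟩ : Wr N)⁻¹ * v * (⟨c, 0, false⟩ : Wr N), ?_, ?_⟩
    · have h1 := conj_mem_fourK (a + c) (-c) v hv
      have h2 : (⟨-c, 0, false⟩ : Wr N) = (⟨c, 0, false⟩ : Wr N)⁻¹ := by ext <;> simp
      rw [h2, inv_inv] at h1
      have h3 : a + c + -c = a := by ring
      rwa [h3] at h1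
    · show (⟨c, 0, false⟩ : Wr N) * ((⟨c, 0, false⟩ : Wr N)⁻¹ * v * (⟨c, 0, false⟩ : Wr N)) *
        (⟨c, 0, false⟩ : Wr N)⁻¹ = v
      group

/-- classification of the four-groups other than `fourT` -/
theorem exists_fourK {h : ℕ} [NeZero N] [Fact (1 < N)] (hN : N = 2 * h) (hh : 0 < h)
    (T₁ : Subgroup (Wr N)) (hK : IsKleinFour T₁) (hne : T₁ ≠ fourT N) : ∃ a, T₁ = fourK a := by
  have hsq : ∀ u ∈ T₁, u * u = 1 := by
    intro u hu
    have := IsKleinFour.mul_self (⟨u, hu⟩ : T₁)
    exact congrArg Subtype.val this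
  have hcomm : ∀ u ∈ T₁, ∀ v ∈ T₁, u * v = v * u := by
    intro u hu v hv
    have := (IsKleinFour.isMulCommutative (G := T₁)).is_comm.comm ⟨u, hu⟩ ⟨v, hv⟩
    exact congrArg Subtype.val this
  have hcard : Nat.card T₁ = 4 := hK.card_four
  have hnot : ¬ T₁ ≤ abel N := by
    intro hle
    apply hne
    apply Subgroup.eq_of_le_of_card_ge
    · intro u hu
      have h1 : u.c = false := hle hu
      have h2 := hsq u hu
      refine ⟨h1, ?_, ?_⟩
      · have := congrArg Wr.a h2
        simp only [mul_a, h1, cond_false, one_a] at this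
        linear_combination this
      · have := congrArg Wr.b h2
        simp only [mul_b, h1, cond_false, one_b] at this
        linear_combination this
    · rw [card_fourT hN hh, hcard]
  obtain ⟨w, hwT, hwc⟩ : ∃ w ∈ T₁, w.c = true := by
    by_contra hcon
    push Not at hcon
    apply hnot
    intro u hu
    simpa using hcon u hu
  have hwab : w.a + w.b = 0 := by
    have := congrArg Wr.a (hsq w hwT)
    simpa only [mul_a, hwc, cond_true, one_a] using this
  refine ⟨w.a, ?_⟩
  have hle : T₁ ≤ fourK w.a := by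
    intro u hu
    cases huc : u.c
    · left
      have h1 : u.a = u.b := (comm_ft_iff huc hwc).mp (hcomm u hu w hwT)
      refine ⟨huc, h1, ?_⟩
      have := congrArg Wr.a (hsq u hu)
      simp only [mul_a, huc, cond_false, one_a] at this
      linear_combination this
    · right
      have h1 : u.a + u.b = 0 := by
        have := congrArg Wr.a (hsq u hu)
        simpa only [mul_a, huc, cond_true, one_a] using this
      have h2 := (comm_tt_iff huc hwc).mp (hcomm u hu w hwT)
      refine ⟨huc, h1, ?_⟩
      linear_combination h2 + h1 - hwab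
  apply le_antisymm hle
  -- the central involution lies in T₁
  have hβ : ∃ β ∈ T₁, β.c = false ∧ β ≠ 1 := by
    have h1 := Subgroup.card_mul_index ((abel N).subgroupOf T₁)
    have h2 : ((abel N).subgroupOf T₁).index ≤ 2 := relIndex_abel_le T₁
    rw [hcard] at h1
    have h3 : 2 ≤ Nat.card ((abel N).subgroupOf T₁) := by
      by_contra hlt
      push Not at hlt
      have : Nat.card ((abel N).subgroupOf T₁) * ((abel N).subgroupOf T₁).index ≤ 1 * 2 :=
        Nat.mul_le_mul (by omega) h2
      omega
    have hnt : Nontrivial ((abel N).subgroupOf T₁) := by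
      rw [← Finite.one_lt_card_iff_nontrivial]
      omega
    obtain ⟨β, hβ⟩ := exists_ne (1 : (abel N).subgroupOf T₁)
    refine ⟨β.1.1, β.1.2, β.2, ?_⟩
    intro h1
    apply hβ
    exact Subtype.ext (Subtype.ext h1)
  obtain ⟨β, hβT, hβc, hβ1⟩ := hβ
  have hhalf := half_ne_zero hN hh
  have h2h : 2 * (h : ZMod N) = 0 := (two_mul_eq_zero_iff hN _).mpr (Or.inr rfl)
  have hι : (⟨(h : ZMod N), (h : ZMod N), false⟩ : Wr N) ∈ T₁ := by
    rcases hle hβT with ⟨-, h2, h3⟩ | ⟨h1, -, -⟩
    · rcases (two_mul_eq_zero_iff hN _).mp h3 with h0 | h0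
      · exfalso
        apply hβ1
        ext
        · exact h0
        · rw [← h2]; exact h0
        · exact hβc
      · have : β = ⟨(h : ZMod N), (h : ZMod N), false⟩ := by
          ext
          · exact h0
          · show β.b = _
            rw [← h2]; exact h0
          · exact hβc
        rw [← this]; exact hβT
    · rw [hβc] at h1; exact absurd h1 (by simp)
  intro u hu
  rcases hu with ⟨h1, h2, h3⟩ | ⟨h1, h2, h3⟩
  · rcases (two_mul_eq_zero_iff hN _).mp h3 with h0 | h0
    · have : u = 1 := by
        ext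
        · exact h0
        · show u.b = 0
          rw [← h2]; exact h0
        · exact h1
      rw [this]; exact T₁.one_mem
    · have : u = ⟨(h : ZMod N), (h : ZMod N), false⟩ := by
        ext
        · exact h0
        · show u.b = _
          rw [← h2]; exact h0
        · exact h1
      rw [this]; exact hι
  · rcases (two_mul_eq_zero_iff hN _).mp h3 with h0 | h0
    · have : u = w := by
        ext
        · linear_combination h0
        · linear_combination h2 - hwab - h0
        · rw [h1, hwc]
      rw [this]; exact hwT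
    · have : u = ⟨(h : ZMod N), (h : ZMod N), false⟩ * w := by
        ext
        · simp only [mul_a, cond_false]; linear_combination h0
        · simp only [mul_b, cond_false]; linear_combination h2 - hwab - h0 - h2h
        · simp [h1, hwc]
      rw [this]; exact T₁.mul_mem hι hwT


end Wr

end Cfsg.Agent.Helper99
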