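import Mathlib
import Cfsg.Agent.Helper99.WreathedKlein
import Cfsg.Agent.Helper20.QuatIso

set_option autoImplicit false

namespace Cfsg.Agent.Helper99

namespace Wr
variable {N : ℕ}

theorem half_add_half {h : ℕ} (hN : N = 2 * h) : (h : ZMod N) + h = 0 := by
  have : ((2 * h : ℕ) : ZMod N) = 0 := by rw [← hN]; exact ZMod.natCast_self N
  push_cast at this
  rw [← two_mul]; exact this

/-- the sum homomorphism `(a, b, c) ↦ a + b` -/
def sumHom (N : ℕ) : Wr N →* Multiplicative (ZMod N) where
  toFun u := Multiplicative.ofAdd (u.a + u.b)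
  map_one' := by simp
  map_mul' u v := by
    obtain ⟨a, b, c⟩ := u
    obtain ⟨a', b', c'⟩ := v
    rw [← ofAdd_add]
    congr 1
    cases c <;> simp <;> ring

/-- homomorphism whose kernel is the generalized quaternion subgroup -/
def quatHom {h : ℕ} (hN : N = 2 * h) : Wr N →* Multiplicative (ZMod N) where
  toFun u := Multiplicative.ofAdd (u.a + u.b + (bif u.c then (h : ZMod N) else 0))
  map_one' := by simp
  map_mul' u v := by
    obtain ⟨a, b, c⟩ := u
    obtain ⟨a', b', c'⟩ := v
    rw [← ofAdd_add]
    congr 1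
    have h2 := half_add_half hN
    cases c <;> cases c' <;> simp
    · ring
    · ring
    · ring
    · linear_combination (-1 : ZMod N) * h2

/-- the generalized quaternion subgroup of order `2N` -/
def quatQ {h : ℕ} (hN : N = 2 * h) : Subgroup (Wr N) := (quatHom hN).ker

theorem mem_quatQ {h : ℕ} (hN : N = 2 * h) (u : Wr N) :
    u ∈ quatQ hN ↔ u.a + u.b + (bif u.c then (h : ZMod N) else 0) = 0 := by
  rw [quatQ, MonoidHom.mem_ker]
  exact Iff.rfl

instance quatQ_normal {h : ℕ} (hN : N = 2 * h) : (quatQ hN).Normal := by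
  rw [quatQ]; infer_instance

theorem quatHom_surjective {h : ℕ} (hN : N = 2 * h) : Function.Surjective (quatHom hN) := by
  intro t
  refine ⟨⟨t.toAdd, 0, false⟩, ?_⟩
  simp only [quatHom, MonoidHom.coe_mk, OneHom.coe_mk, add_zero, cond_false]
  rfl

theorem card_quatQ {h : ℕ} [NeZero N] (hN : N = 2 * h) : Nat.card (quatQ hN) = 2 * N := by
  have h1 := Subgroup.card_mul_index (quatHom hN).ker
  rw [Subgroup.index_ker, MonoidHom.range_eq_top.mpr (quatHom_surjective hN), Subgroup.card_top,
    Nat.card_eq_fintype_card (α := Multiplicative (ZMod N)), Fintype.card_multiplicative, ZMod.card,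
    card] at h1
  have hpos : 0 < N := Nat.pos_of_ne_zero (NeZero.ne N)
  rw [quatQ]
  exact Nat.eq_of_mul_eq_mul_right hpos h1

theorem anti_one_pow (k : ℕ) : (⟨1, -1, false⟩ : Wr N) ^ k = ⟨(k : ZMod N), -(k : ZMod N), false⟩ := by
  induction k with
  | zero => rw [pow_zero]; ext <;> simp
  | succ k ih =>
    rw [pow_succ, ih]
    ext <;> simp
    ring

theorem orderOf_anti_one [NeZero N] : orderOf (⟨1, -1, false⟩ : Wr N) = N := by
  have h1 : (⟨1, -1, false⟩ : Wr N) = anti N (Multiplicative.ofAdd 1) := rfl
  rw [h1, orderOf_injective (anti N) anti_injective, orderOf_ofAdd_eq_addOrderOf, ZMod.addOrderOf_one]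

/-- generator of the cyclic part of the quaternion subgroup -/
def qα {h : ℕ} (hN : N = 2 * h) : quatQ hN := ⟨⟨1, -1, false⟩, by rw [mem_quatQ]; simp⟩

/-- element of order four outside the cyclic part -/
def qβ {h : ℕ} (hN : N = 2 * h) : quatQ hN :=
  ⟨⟨h, 0, true⟩, by rw [mem_quatQ]; simpa using half_add_half hN⟩

theorem quatQ_iso {h : ℕ} [NeZero N] [NeZero h] (hN : N = 2 * h) :
    Nonempty (quatQ hN ≃* QuaternionGroup h) := by
  have h2 := half_add_half hN
  have hneg : -(h : ZMod N) = h := by linear_combination (-1 : ZMod N) * h2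
  apply Cfsg.Agent.Helper20.quaternion_iso h (qα hN) (qβ hN)
  · rw [qα, Subgroup.orderOf_mk, orderOf_anti_one, hN]
  · apply Subtype.ext
    rw [Subgroup.coe_mul, Subgroup.coe_pow]
    show (⟨h, 0, true⟩ : Wr N) * ⟨h, 0, true⟩ = (⟨1, -1, false⟩ : Wr N) ^ h
    rw [anti_one_pow]
    ext <;> simp
    exact hneg.symm
  · apply Subtype.ext
    rw [Subgroup.coe_mul, Subgroup.coe_mul, Subgroup.coe_inv, Subgroup.coe_inv]
    show (⟨h, 0, true⟩ : Wr N) * ⟨1, -1, false⟩ * (⟨h, 0, true⟩ : Wr N)⁻¹ = (⟨1, -1, false⟩ : Wr N)⁻¹
    ext <;> simp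
  · intro hmem
    rw [Subgroup.mem_zpowers_iff] at hmem
    obtain ⟨k, hk⟩ := hmem
    have h3 := congrArg Subtype.val hk
    rw [Subgroup.coe_zpow] at h3
    have h4 : ((qα hN : quatQ hN) : Wr N) ^ k ∈ abel N := Subgroup.zpow_mem _ (by rw [mem_abel]; rfl) k
    rw [h3, mem_abel] at h4
    exact absurd h4 (by simp [qβ])
  · rw [card_quatQ, hN]; ring


theorem centralizer_comm {w p q : Wr N} (hw : w.c = true) (hp : p * w = w * p) (hq : q * w = w * q) :
    p * q = q * p := by
  cases hpc : p.c <;> cases hqc : q.c
  · exact comm_ff hpc hqc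
  · rw [comm_ft_iff hpc hqc]; exact (comm_ft_iff hpc hw).mp hp
  · rw [comm_tf_iff hpc hqc]; exact (comm_ft_iff hqc hw).mp hq
  · rw [comm_tt_iff hpc hqc]
    have h1 := (comm_tt_iff hpc hw).mp hp
    have h2 := (comm_tt_iff hqc hw).mp hq
    linear_combination h1 - h2

theorem quat_noncomm {h : ℕ} (hh : 2 ≤ h) :
    (QuaternionGroup.a 1 : QuaternionGroup h) * QuaternionGroup.xa 0 ≠
      QuaternionGroup.xa 0 * QuaternionGroup.a 1 := by
  rw [QuaternionGroup.a_mul_xa, QuaternionGroup.xa_mul_a]
  intro hcon
  have h1 : (0 : ZMod (2 * h)) - 1 = 0 + 1 := by injection hcon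
  have h3 : ((2 : ℕ) : ZMod (2 * h)) = 0 := by push_cast; linear_combination -h1
  rw [ZMod.natCast_eq_zero_iff] at h3
  have := Nat.le_of_dvd (by norm_num) h3
  omega

theorem eq_quatQ {h : ℕ} [NeZero N] [NeZero h] (hN : N = 2 * h) (hh : 2 ≤ h) (Y : Subgroup (Wr N))
    (ψ : Y ≃* QuaternionGroup h) : Y = quatQ hN := by
  have hcardY : Nat.card Y = 2 * N := by
    rw [Nat.card_congr ψ.toEquiv, Nat.card_eq_fintype_card, QuaternionGroup.card, hN]; ring
  have h2 := half_add_half hN
  have h2' : ((h : ℕ) : ZMod (2 * h)) + h = 0 := half_add_half (N := 2 * h) rfl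
  have hpos : 0 < h := by omega
  have hnc := quat_noncomm hh
  set P : Y := ψ.symm (QuaternionGroup.a 1) with hP
  set Q : Y := ψ.symm (QuaternionGroup.xa 0) with hQ
  have hPQ : (P : Wr N) * Q ≠ Q * P := by
    intro hcon
    apply hnc
    have : P * Q = Q * P := Subtype.ext hcon
    have := congrArg ψ this
    simpa [hP, hQ] using this
  -- step 2
  have key : ∀ w ∈ Y, w.c = true → w ∈ quatQ hN := by
    intro w hw hc
    rw [mem_quatQ, hc]
    simp only [cond_true]
    have hsq : w * w = ⟨w.a + w.b, w.a + w.b, false⟩ := by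
      ext <;> simp [hc]
      ring
    suffices hs : 2 * (w.a + w.b) = 0 ∧ w.a + w.b ≠ 0 by
      rcases (two_mul_eq_zero_iff hN _).mp hs.1 with h0 | h0
      · exact absurd h0 hs.2
      · rw [h0]; exact h2
    set W : Y := ⟨w, hw⟩ with hW
    rcases hgi : ψ W with i | i
    · -- `a i`
      constructor
      · have h5 : ψ (W * Q * W) = ψ Q := by
          rw [map_mul, map_mul, hgi, hQ, MulEquiv.apply_symm_apply, QuaternionGroup.a_mul_xa,
            QuaternionGroup.xa_mul_a]
          congr 1
          ring
        have h6 := congrArg Subtype.val (ψ.injective h5)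
        rw [Subgroup.coe_mul, Subgroup.coe_mul] at h6
        have h7 := congrArg (sumHom N) h6
        rw [map_mul, map_mul] at h7
        have h8 : (sumHom N w).toAdd + (sumHom N (Q : Wr N)).toAdd + (sumHom N w).toAdd
            = (sumHom N (Q : Wr N)).toAdd := congrArg Multiplicative.toAdd h7
        have h9 : (sumHom N w).toAdd = w.a + w.b := rfl
        rw [h9] at h8
        linear_combination h8
      · intro hs0
        have hww : W * W = 1 := by
          apply Subtype.ext
          rw [Subgroup.coe_mul, Subgroup.coe_one]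
          show w * w = 1
          rw [hsq, hs0]; rfl
        have h5 := congrArg ψ hww
        rw [map_mul, map_one, hgi, QuaternionGroup.a_mul_a, QuaternionGroup.one_def] at h5
        have h6 : i + i = 0 := by injection h5
        have : NeZero (2 * h) := ⟨by omega⟩
        rcases (two_mul_eq_zero_iff (N := 2 * h) rfl i).mp (by linear_combination h6) with h0 | h0
        · rw [h0, ← QuaternionGroup.one_def] at hgi
          have hW1 : W = 1 := ψ.injective (by rw [hgi, map_one])
          have := congrArg Subtype.val hW1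
          rw [Subgroup.coe_one] at this
          have h7 : w = 1 := this
          rw [h7] at hc
          exact absurd hc (by simp)
        · -- `ψ W = a h` is central
          have hcen : ∀ x : QuaternionGroup h, x * ψ W = ψ W * x := by
            intro x
            rw [hgi, h0]
            rcases x with j | j
            · rw [QuaternionGroup.a_mul_a, QuaternionGroup.a_mul_a, add_comm]
            · rw [QuaternionGroup.a_mul_xa, QuaternionGroup.xa_mul_a]
              congr 1
              linear_combination h2'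
          have hpw : (P : Wr N) * w = w * P := by
            have : P * W = W * P := ψ.injective (by rw [map_mul, map_mul]; exact hcen _)
            exact congrArg Subtype.val this
          have hqw : (Q : Wr N) * w = w * Q := by
            have : Q * W = W * Q := ψ.injective (by rw [map_mul, map_mul]; exact hcen _)
            exact congrArg Subtype.val this
          exact hPQ (centralizer_comm hc hpw hqw)
    · -- `xa i`
      have hgg : ψ (W * W) = QuaternionGroup.a (h : ZMod (2 * h)) := by
        rw [map_mul, hgi, QuaternionGroup.xa_mul_xa]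
        congr 1
        ring
      constructor
      · have h5 : ψ ((W * W) * (W * W)) = 1 := by
          rw [map_mul, hgg, QuaternionGroup.a_mul_a, h2', QuaternionGroup.one_def]
        have h6 : (W * W) * (W * W) = 1 := ψ.injective (by rw [h5, map_one])
        have h7 := congrArg Subtype.val h6
        rw [Subgroup.coe_mul, Subgroup.coe_mul, Subgroup.coe_one] at h7
        have h8 : (w * w) * (w * w) = 1 := h7
        rw [hsq] at h8
        have h9 := congrArg Wr.a h8
        simp only [mul_a, cond_false, one_a] at h9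
        rw [two_mul]; exact h9
      · intro hs0
        have hww : W * W = 1 := by
          apply Subtype.ext
          rw [Subgroup.coe_mul, Subgroup.coe_one]
          show w * w = 1
          rw [hsq, hs0]; rfl
        rw [hww, map_one, QuaternionGroup.one_def] at hgg
        have h6 : (0 : ZMod (2 * h)) = (h : ZMod (2 * h)) := by injection hgg
        have : NeZero (2 * h) := ⟨by omega⟩
        exact half_ne_zero (N := 2 * h) rfl hpos h6.symm
  -- step 3
  obtain ⟨w₀, hw₀, hc₀⟩ : ∃ w ∈ Y, w.c = true := by
    by_contra hcon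
    push Not at hcon
    apply hPQ
    exact comm_ff (by simpa using hcon _ P.2) (by simpa using hcon _ Q.2)
  have hle : Y ≤ quatQ hN := by
    intro u hu
    cases huc : u.c
    · have h5 : u * w₀ ∈ quatQ hN := key _ (Y.mul_mem hu hw₀) (by simp [huc, hc₀])
      have h6 : w₀ ∈ quatQ hN := key _ hw₀ hc₀
      have : u = (u * w₀) * w₀⁻¹ := by group
      rw [this]
      exact (quatQ hN).mul_mem h5 ((quatQ hN).inv_mem h6)
    · exact key u hu huc
  exact Subgroup.eq_of_le_of_card_ge hle (by rw [card_quatQ, hcardY])

end Wr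

end Cfsg.Agent.Helper99
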