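import Mathlib
import Cfsg.Agent.Helper99.WreathedQuat
import Cfsg.Agent.Helper99.AutChain

set_option autoImplicit false

namespace Cfsg.Agent.Helper99

namespace Wr
variable {N : ℕ}

theorem pow_ff (u : Wr N) (hu : u.c = false) (k : ℕ) :
    u ^ k = ⟨(k : ZMod N) * u.a, (k : ZMod N) * u.b, false⟩ := by
  induction k with
  | zero => rw [pow_zero]; ext <;> simp
  | succ k ih =>
    rw [pow_succ, ih]
    ext <;> simp [hu] <;> ring

theorem sq_tt (u : Wr N) (hu : u.c = true) : u * u = ⟨u.a + u.b, u.a + u.b, false⟩ := by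
  ext <;> simp [hu]
  ring

section chainB
variable (X : Subgroup (Wr N))

/-- elements of `X` in the abelian subgroup -/
def Bset : Set X := {x | x.val.c = false}
/-- elements of `X` in the centre of the wreath product -/
def Zset : Set X := {x | x.val.c = false ∧ x.val.a = x.val.b}
/-- the chain inside the centre -/
def Kset (i : ℕ) : Set X := Zset X ∩ {x | x ^ (2 ^ i) = 1}
/-- the chain between the centre and the abelian part -/
def Lset (i : ℕ) : Set X := Bset X ∩ {x | x ^ (2 ^ i) ∈ Zset X}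

theorem mem_Bset (x : X) : x ∈ Bset X ↔ x.val.c = false := Iff.rfl
theorem mem_Zset (x : X) : x ∈ Zset X ↔ x.val.c = false ∧ x.val.a = x.val.b := Iff.rfl

theorem pow_eq_one_iff_ff (x : X) (hx : x.val.c = false) (k : ℕ) :
    x ^ k = 1 ↔ (k : ZMod N) * x.val.a = 0 ∧ (k : ZMod N) * x.val.b = 0 := by
  rw [Subtype.ext_iff, Subgroup.coe_pow, Subgroup.coe_one, pow_ff _ hx, Wr.ext_iff]
  simp

theorem pow_mem_Zset_iff (x : X) (hx : x.val.c = false) (k : ℕ) :
    x ^ k ∈ Zset X ↔ (k : ZMod N) * x.val.a = (k : ZMod N) * x.val.b := by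
  rw [mem_Zset, Subgroup.coe_pow, pow_ff _ hx]
  simp

theorem charSet_Zset (hB : CharSet (Bset X)) (w₀ : X) (hw₀ : w₀.val.c = true) :
    CharSet (Zset X) := by
  intro α x hx
  have hc : (α x).val.c = false := hB α x hx.1
  refine ⟨hc, ?_⟩
  have hxc : ∀ y : X, x * y = y * x := by
    intro y
    apply Subtype.ext
    rw [Subgroup.coe_mul, Subgroup.coe_mul]
    cases hy : y.val.c
    · exact comm_ff hx.1 hy
    · exact (comm_ft_iff hx.1 hy).mpr hx.2
  have h1 : α x * w₀ = w₀ * α x := by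
    have h2 := congrArg α (hxc (α⁻¹ w₀))
    rw [map_mul, map_mul] at h2
    have h3 : α (α⁻¹ w₀) = w₀ := by
      rw [← MulAut.mul_apply, mul_inv_cancel, MulAut.one_apply]
    rwa [h3] at h2
  have h4 := congrArg Subtype.val h1
  rw [Subgroup.coe_mul, Subgroup.coe_mul] at h4
  exact (comm_ft_iff hc hw₀).mp h4

theorem Kset_step {h : ℕ} [NeZero N] (hN : N = 2 * h) (i : ℕ) :
    ∀ x ∈ Kset X (i + 1), x ∉ Kset X i → ∀ y ∈ Kset X (i + 1), y ∉ Kset X i →
      x⁻¹ * y ∈ Kset X i := by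
  have key : ∀ x ∈ Kset X (i + 1), x ∉ Kset X i →
      x.val.c = false ∧ x.val.a = x.val.b ∧ (2 : ZMod N) ^ i * x.val.a = h := by
    rintro x ⟨hxZ, hxp⟩ hxn
    have hxp' : x ^ (2 ^ (i + 1)) = 1 := hxp
    rw [pow_eq_one_iff_ff X x hxZ.1] at hxp'
    have hne : (2 : ZMod N) ^ i * x.val.a ≠ 0 := by
      intro h0
      apply hxn
      refine ⟨hxZ, ?_⟩
      show x ^ (2 ^ i) = 1
      rw [pow_eq_one_iff_ff X x hxZ.1]
      push_cast
      exact ⟨h0, by rw [← hxZ.2]; exact h0⟩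
    have h2 : 2 * ((2 : ZMod N) ^ i * x.val.a) = 0 := by
      have := hxp'.1
      push_cast at this
      rw [pow_succ] at this
      linear_combination this
    rcases (two_mul_eq_zero_iff hN _).mp h2 with h0 | h0
    · exact absurd h0 hne
    · exact ⟨hxZ.1, hxZ.2, h0⟩
  intro x hx hxn y hy hyn
  obtain ⟨hxc, hxab, hxh⟩ := key x hx hxn
  obtain ⟨hyc, hyab, hyh⟩ := key y hy hyn
  have hc : (x⁻¹ * y).val.c = false := by
    rw [Subgroup.coe_mul, Subgroup.coe_inv]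
    simp [hxc, hyc]
  have ha : (x⁻¹ * y).val.a = -x.val.a + y.val.a := by
    rw [Subgroup.coe_mul, Subgroup.coe_inv]
    simp [hxc]
  have hb : (x⁻¹ * y).val.b = -x.val.b + y.val.b := by
    rw [Subgroup.coe_mul, Subgroup.coe_inv]
    simp [hxc]
  refine ⟨⟨hc, by rw [ha, hb, hxab, hyab]⟩, ?_⟩
  show (x⁻¹ * y) ^ (2 ^ i) = 1
  rw [pow_eq_one_iff_ff X _ hc, ha, hb, ← hxab, ← hyab]
  push_cast
  have : (2 : ZMod N) ^ i * (-x.val.a + y.val.a) = 0 := by
    linear_combination hyh - hxh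
  exact ⟨this, this⟩

theorem Lset_step {h : ℕ} [NeZero N] (hN : N = 2 * h) (i : ℕ) :
    ∀ x ∈ Lset X (i + 1), x ∉ Lset X i → ∀ y ∈ Lset X (i + 1), y ∉ Lset X i →
      x⁻¹ * y ∈ Lset X i := by
  have key : ∀ x ∈ Lset X (i + 1), x ∉ Lset X i →
      x.val.c = false ∧ (2 : ZMod N) ^ i * (x.val.a - x.val.b) = h := by
    rintro x ⟨hxB, hxp⟩ hxn
    have hxB' : x.val.c = false := hxB
    have hxp' : x ^ (2 ^ (i + 1)) ∈ Zset X := hxp
    rw [pow_mem_Zset_iff X x hxB'] at hxp'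
    have hne : (2 : ZMod N) ^ i * (x.val.a - x.val.b) ≠ 0 := by
      intro h0
      apply hxn
      refine ⟨hxB, ?_⟩
      show x ^ (2 ^ i) ∈ Zset X
      rw [pow_mem_Zset_iff X x hxB']
      push_cast
      linear_combination h0
    have h2 : 2 * ((2 : ZMod N) ^ i * (x.val.a - x.val.b)) = 0 := by
      push_cast at hxp'
      rw [pow_succ] at hxp'
      linear_combination hxp'
    rcases (two_mul_eq_zero_iff hN _).mp h2 with h0 | h0
    · exact absurd h0 hne
    · exact ⟨hxB', h0⟩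
  intro x hx hxn y hy hyn
  obtain ⟨hxc, hxh⟩ := key x hx hxn
  obtain ⟨hyc, hyh⟩ := key y hy hyn
  have hc : (x⁻¹ * y).val.c = false := by
    rw [Subgroup.coe_mul, Subgroup.coe_inv]
    simp [hxc, hyc]
  have ha : (x⁻¹ * y).val.a = -x.val.a + y.val.a := by
    rw [Subgroup.coe_mul, Subgroup.coe_inv]
    simp [hxc]
  have hb : (x⁻¹ * y).val.b = -x.val.b + y.val.b := by
    rw [Subgroup.coe_mul, Subgroup.coe_inv]
    simp [hxc]
  refine ⟨hc, ?_⟩
  show (x⁻¹ * y) ^ (2 ^ i) ∈ Zset X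
  rw [pow_mem_Zset_iff X _ hc, ha, hb]
  push_cast
  linear_combination hyh - hxh

theorem two_pow_eq_zero {n : ℕ} (hn : N = 2 ^ n) : (2 : ZMod N) ^ n = 0 := by
  have : ((2 ^ n : ℕ) : ZMod N) = 0 := by rw [← hn]; exact ZMod.natCast_self N
  push_cast at this
  exact this

theorem Lset_zero_subset {n : ℕ} (hn : N = 2 ^ n) : Lset X 0 ⊆ Kset X n := by
  rintro x ⟨hxB, hxp⟩
  have hxZ : x ∈ Zset X := by
    have : x ^ (2 ^ 0) ∈ Zset X := hxp
    simpa using this
  refine ⟨hxZ, ?_⟩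
  show x ^ (2 ^ n) = 1
  rw [pow_eq_one_iff_ff X x hxZ.1]
  push_cast
  rw [two_pow_eq_zero hn]
  simp

theorem Bset_subset_Lset {n : ℕ} (hn : N = 2 ^ n) : Bset X ⊆ Lset X n := by
  intro x hxB
  refine ⟨hxB, ?_⟩
  show x ^ (2 ^ n) ∈ Zset X
  rw [pow_mem_Zset_iff X x hxB]
  push_cast
  rw [two_pow_eq_zero hn]
  simp

theorem Bset_step : ∀ x ∈ (Set.univ : Set X), x ∉ Bset X → ∀ y ∈ (Set.univ : Set X), y ∉ Bset X →
    x⁻¹ * y ∈ Bset X := by
  intro x _ hx y _ hy
  rw [mem_Bset, Bool.not_eq_false] at hx hy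
  rw [mem_Bset, Subgroup.coe_mul, Subgroup.coe_inv]
  simp [hx, hy]

theorem pow_card_bound {n : ℕ} [NeZero N] (hn : N = 2 ^ n) (g : X) : g ^ (2 ^ (2 * n + 1)) = 1 := by
  have h1 : (g : Wr N) ^ Nat.card (Wr N) = 1 := pow_card_eq_one'
  rw [card] at h1
  apply Subtype.ext
  rw [Subgroup.coe_pow, Subgroup.coe_one]
  have : 2 ^ (2 * n + 1) = 2 * N * N := by rw [hn]; ring
  rw [this]
  exact h1

/-- if the abelian part of `X` is stable under all automorphisms, `Aut X` is a `2`-group -/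
theorem isPGroup_aut_of_charSet_Bset {h n : ℕ} [NeZero N] (hN : N = 2 * h) (hn : N = 2 ^ n)
    (hB : CharSet (Bset X)) (w₀ : X) (hw₀ : w₀.val.c = true) : IsPGroup 2 (MulAut X) := by
  apply isPGroup_mulAut_of_fixPow
  intro α
  have hexp := pow_card_bound X hn
  have hZ := charSet_Zset X hB w₀ hw₀
  have hKchar : ∀ i, CharSet (Kset X i) := fun i => hZ.inter (charSet_pow_eq_one _)
  have hLchar : ∀ i, CharSet (Lset X i) := fun i => hB.inter (hZ.pow_mem _)
  have hK0 : FixPow α (Kset X 0) := by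
    apply (fixPow_one α).mono
    rintro x ⟨-, hx⟩
    have : x ^ (2 ^ 0) = 1 := hx
    simpa using this
  have h1 : ∀ i, FixPow α (Kset X i) :=
    fixPow_chain α (Kset X) hKchar hK0 (Kset_step X hN) _ hexp
  have h2 : FixPow α (Lset X 0) := (h1 n).mono (Lset_zero_subset X hn)
  have h3 : ∀ i, FixPow α (Lset X i) :=
    fixPow_chain α (Lset X) hLchar h2 (Lset_step X hN) _ hexp
  have h4 : FixPow α (Bset X) := (h3 n).mono (Bset_subset_Lset X hn)
  exact fixPow_step α (Bset X) Set.univ hB charSet_univ h4 (Bset_step X) _ hexp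

end chainB

end Wr

end Cfsg.Agent.Helper99
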