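import Mathlib
import Cfsg.Agent.Helper99.WreathedAut

set_option autoImplicit false

namespace Cfsg.Agent.Helper99

namespace Wr
variable {N : ℕ}
open scoped commutatorElement

section charB
variable (X : Subgroup (Wr N))

theorem commutatorElement_c (u v : Wr N) : (⁅u, v⁆).c = false := by
  rw [commutatorElement_def]
  simp only [mul_c, inv_c]
  cases u.c <;> cases v.c <;> rfl

theorem commutatorElement_ft (g w : Wr N) (hg : g.c = false) (hw : w.c = true) :
    ⁅g, w⁆ = ⟨g.a - g.b, -(g.a - g.b), false⟩ := by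
  rw [commutatorElement_def]
  ext <;> simp [hg, hw] <;> ring

theorem coe_commutatorElement' (y₁ y₂ : X) :
    ((⁅y₁, y₂⁆ : X) : Wr N) = ⁅(y₁ : Wr N), (y₂ : Wr N)⁆ :=
  map_commutatorElement X.subtype y₁ y₂

/-- when the abelian part is wide, it is the centralizer of the commutators -/
theorem charSet_Bset_of_wide (g : X) (hg : g.val.c = false) (hg2 : 2 * (g.val.a - g.val.b) ≠ 0)
    (w₀ : X) (hw₀ : w₀.val.c = true) : CharSet (Bset X) := by
  have hiff : ∀ x : X, x ∈ Bset X ↔ ∀ y₁ y₂ : X, x * ⁅y₁, y₂⁆ = ⁅y₁, y₂⁆ * x := by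
    intro x
    constructor
    · intro hx y₁ y₂
      apply Subtype.ext
      rw [Subgroup.coe_mul, Subgroup.coe_mul]
      apply comm_ff hx
      rw [coe_commutatorElement']
      exact commutatorElement_c _ _
    · intro hx
      by_contra hcon
      rw [mem_Bset, Bool.not_eq_false] at hcon
      have h1 := congrArg Subtype.val (hx g w₀)
      rw [Subgroup.coe_mul, Subgroup.coe_mul, coe_commutatorElement',
        commutatorElement_ft _ _ hg hw₀] at h1
      rw [comm_tf_iff hcon rfl] at h1
      apply hg2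
      linear_combination h1
  intro α x hx
  rw [hiff] at hx ⊢
  intro y₁ y₂
  have h3 : ∀ y : X, α (α⁻¹ y) = y := by
    intro y
    rw [← MulAut.mul_apply, mul_inv_cancel, MulAut.one_apply]
  have h1 := congrArg α (hx (α⁻¹ y₁) (α⁻¹ y₂))
  rw [map_mul, map_mul, map_commutatorElement, h3, h3] at h1
  exact h1

theorem half_mul_eq_zero {h : ℕ} [NeZero N] (hN : N = 2 * h) (hh : 0 < h) (s : ZMod N)
    (hs : (h : ZMod N) * s = 0) : ∃ k : ZMod N, s = 2 * k := by
  have hval : ((s.val : ℕ) : ZMod N) = s := ZMod.natCast_zmod_val s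
  rw [← hval] at hs
  have h1 : ((h * s.val : ℕ) : ZMod N) = 0 := by push_cast; exact hs
  rw [ZMod.natCast_eq_zero_iff] at h1
  obtain ⟨k, hk⟩ := h1
  have h2 : s.val = 2 * k := by
    have : h * s.val = h * (2 * k) := by rw [hk, hN]; ring
    exact Nat.eq_of_mul_eq_mul_left hh this
  refine ⟨(k : ZMod N), ?_⟩
  rw [← hval, h2]
  push_cast
  ring

/-- when all elements outside the abelian part have odd sum, the abelian part is `{x | x ^ N = 1}` -/
theorem charSet_Bset_of_odd {h : ℕ} [NeZero N] (hN : N = 2 * h) (hh : 0 < h)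
    (hodd : ∀ x : X, x.val.c = true → ¬ ∃ k : ZMod N, x.val.a + x.val.b = 2 * k) :
    CharSet (Bset X) := by
  have hiff : ∀ x : X, x ∈ Bset X ↔ x ^ N = 1 := by
    intro x
    constructor
    · intro hx
      rw [pow_eq_one_iff_ff X x hx, ZMod.natCast_self]
      simp
    · intro hx
      by_contra hcon
      rw [mem_Bset, Bool.not_eq_false] at hcon
      apply hodd x hcon
      have h1 := congrArg Subtype.val hx
      rw [Subgroup.coe_pow, Subgroup.coe_one] at h1
      have h1' : (x : Wr N) ^ (2 * h) = 1 := by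
        rw [← h1]; exact congrArg (fun k => (x : Wr N) ^ k) hN.symm
      rw [pow_mul, pow_two, sq_tt _ hcon, pow_ff _ rfl] at h1'
      have h2 := congrArg Wr.a h1'
      simp only [one_a] at h2
      exact half_mul_eq_zero hN hh _ h2
  intro α x hx
  rw [hiff] at hx ⊢
  rw [← map_pow, hx, map_one]

end charB

section thin
variable (X : Subgroup (Wr N))

/-- the thin even case: `X` is abelian of type `Z_N × Z_2` -/
theorem isPGroup_aut_of_thin_even {h h' n : ℕ} [NeZero N] (hN : N = 2 * h) (hh : h = 2 * h')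
    (hn : N = 2 ^ n)
    (hone : (⟨1, 1, false⟩ : Wr N) ∈ X)
    (hthin : ∀ x : X, x.val.c = false → x.val.a = x.val.b)
    (heven : ∀ x : X, x.val.c = true → ∃ k : ZMod N, x.val.a + x.val.b = 2 * k) :
    IsPGroup 2 (MulAut X) := by
  have h2 := half_add_half hN
  have hcast : (h : ZMod N) = 2 * (h' : ZMod N) := by rw [hh]; push_cast; ring
  -- `X` is abelian
  have hcomm : ∀ x y : X, x * y = y * x := by
    intro x y
    apply Subtype.ext
    rw [Subgroup.coe_mul, Subgroup.coe_mul]
    cases hx : x.val.c <;> cases hy : y.val.c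
    · exact comm_ff hx hy
    · exact (comm_ft_iff hx hy).mpr (hthin x hx)
    · exact (comm_tf_iff hx hy).mpr (hthin y hy)
    · rw [comm_tt_iff hx hy]
      have hz : (x⁻¹ * y).val.c = false := by
        rw [Subgroup.coe_mul, Subgroup.coe_inv]; simp [hx, hy]
      have h3 := hthin _ hz
      rw [Subgroup.coe_mul, Subgroup.coe_inv] at h3
      simp only [mul_a, mul_b, inv_a, inv_b, inv_c, hx, cond_true] at h3
      linear_combination h3
  -- squares
  have hsq : ∀ y : X, ∃ k : ZMod N, ((y * y : X) : Wr N) = ⟨2 * k, 2 * k, false⟩ := by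
    intro y
    rw [Subgroup.coe_mul]
    cases hy : y.val.c
    · refine ⟨y.val.a, ?_⟩
      have := hthin y hy
      ext <;> simp [hy]
      · ring
      · rw [← this]; ring
    · obtain ⟨k, hk⟩ := heven y hy
      exact ⟨k, by rw [sq_tt _ hy, hk]⟩
  -- involutions in the centre
  have hinv : ∀ z : X, z.val.c = false → z * z = 1 → z = 1 ∨ (z : Wr N) = ⟨h, h, false⟩ := by
    intro z hz hzz
    have hab := hthin z hz
    have h3 := congrArg Subtype.val hzz
    rw [Subgroup.coe_mul, Subgroup.coe_one] at h3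
    have h4 := congrArg Wr.a h3
    simp only [mul_a, hz, cond_false, one_a] at h4
    rcases (two_mul_eq_zero_iff hN _).mp (by linear_combination h4 : 2 * z.val.a = 0) with h0 | h0
    · left
      apply Subtype.ext
      rw [Subgroup.coe_one]
      ext
      · exact h0
      · rw [← hab]; exact h0
      · exact hz
    · right
      ext
      · exact h0
      · rw [← hab]; exact h0
      · exact hz
  set one1 : X := ⟨⟨1, 1, false⟩, hone⟩ with hone1
  have hι : ((one1 ^ h : X) : Wr N) = ⟨h, h, false⟩ := by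
    have hv : (one1 : Wr N) = ⟨1, 1, false⟩ := rfl
    rw [Subgroup.coe_pow, hv, pow_ff _ rfl]
    simp
  -- `h`-th powers
  have hpw : ∀ y : X, y ^ h = 1 ∨ ((y ^ h : X) : Wr N) = ⟨h, h, false⟩ := by
    intro y
    obtain ⟨k, hk⟩ := hsq y
    have h3 : ((y ^ h : X) : Wr N) = ⟨(h : ZMod N) * k, (h : ZMod N) * k, false⟩ := by
      have : y ^ h = (y * y) ^ h' := by rw [hh, pow_mul, pow_two]
      rw [this, Subgroup.coe_pow, hk, pow_ff _ rfl]
      ext
      · simp only; rw [hcast]; ring
      · simp only; rw [hcast]; ring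
      · rfl
    have h4 : 2 * ((h : ZMod N) * k) = 0 := by linear_combination k * h2
    rcases (two_mul_eq_zero_iff hN _).mp h4 with h0 | h0
    · left
      apply Subtype.ext
      rw [h3, h0, Subgroup.coe_one]
      rfl
    · right
      rw [h3, h0]
  apply isPGroup_mulAut_of_fixPow
  intro α
  have hexp := pow_card_bound X hn
  set M1 : Set X := {x : X | ∃ y : X, x = y ^ h} with hM1
  have hM1char : CharSet M1 := charSet_pow_image h
  have hone_mem : (1 : X) ∈ M1 := ⟨1, (one_pow h).symm⟩
  have hι_mem : ∀ z : X, (z : Wr N) = ⟨h, h, false⟩ → z ∈ M1 := by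
    intro z hz
    exact ⟨one1, Subtype.ext (by rw [hz, hι])⟩
  have hchar1 : CharSet {x : X | x = 1} := by
    intro α x hx
    rw [Set.mem_ofPred_eq] at hx ⊢
    rw [hx, map_one]
  -- step a
  have hMfix : FixPow α M1 := by
    apply fixPow_step α {x : X | x = 1} M1 hchar1 hM1char (fixPow_one α) _ _ hexp
    rintro x ⟨x', rfl⟩ hx1 y ⟨y', rfl⟩ hy1
    rw [Set.mem_ofPred_eq] at hx1 hy1 ⊢
    rcases hpw x' with h0 | h0
    · exact absurd h0 hx1
    rcases hpw y' with h0' | h0'
    · exact absurd h0' hy1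
    have : x' ^ h = y' ^ h := Subtype.ext (by rw [h0, h0'])
    rw [this, inv_mul_cancel]
  -- step b
  have hO1 : FixPow α {x : X | x ^ (2 ^ (0 + 1)) = 1} := by
    apply fixPow_step α M1 _ hM1char (charSet_pow_eq_one _) hMfix _ _ hexp
    have hctrue : ∀ x : X, x ^ (2 ^ (0 + 1)) = 1 → x ∉ M1 → x.val.c = true := by
      intro x hx hxM
      by_contra hc
      rw [Bool.not_eq_true] at hc
      have hxx : x * x = 1 := by rw [← pow_two]; simpa using hx
      rcases hinv x hc hxx with h0 | h0
      · exact hxM (h0 ▸ hone_mem)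
      · exact hxM (hι_mem x h0)
    intro x hx hxM y hy hyM
    rw [Set.mem_ofPred_eq] at hx hy
    have hxc := hctrue x hx hxM
    have hyc := hctrue y hy hyM
    have hxx : x * x = 1 := by rw [← pow_two]; simpa using hx
    have hyy : y * y = 1 := by rw [← pow_two]; simpa using hy
    have hz : (x⁻¹ * y).val.c = false := by
      rw [Subgroup.coe_mul, Subgroup.coe_inv]; simp [hxc, hyc]
    have hzz : (x⁻¹ * y) * (x⁻¹ * y) = 1 := by
      have : (x⁻¹ * y) * (x⁻¹ * y) = (x * x)⁻¹ * (y * y) := by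
        rw [mul_assoc, ← mul_assoc y, hcomm y x⁻¹, mul_inv_rev]
        group
      rw [this, hxx, hyy, inv_one, one_mul]
    rcases hinv _ hz hzz with h0 | h0
    · rw [h0]; exact hone_mem
    · exact hι_mem _ h0
  -- step c
  have hOm : ∀ i, FixPow α {x : X | x ^ (2 ^ (i + 1)) = 1} := by
    apply fixPow_chain α (fun i => {x : X | x ^ (2 ^ (i + 1)) = 1})
      (fun i => charSet_pow_eq_one _) hO1 _ _ hexp
    have key : ∀ i, ∀ x : X, x ^ (2 ^ (i + 1 + 1)) = 1 → x ^ (2 ^ (i + 1)) ≠ 1 →
        ((x ^ (2 ^ (i + 1)) : X) : Wr N) = ⟨h, h, false⟩ := by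
      intro i x hx hxn
      have hp : x ^ (2 ^ (i + 1)) = (x ^ (2 ^ i)) * (x ^ (2 ^ i)) := by
        rw [← pow_add]; congr 1; rw [pow_succ]; ring
      obtain ⟨k, hk⟩ := hsq (x ^ (2 ^ i))
      have hc : ((x ^ (2 ^ (i + 1)) : X) : Wr N).c = false := by rw [hp, hk]
      have hpp : x ^ (2 ^ (i + 1)) * x ^ (2 ^ (i + 1)) = 1 := by
        rw [← pow_add, ← hx]; congr 1; rw [pow_succ (n := i + 1)]; ring
      rcases hinv _ hc hpp with h0 | h0
      · exact absurd h0 hxn
      · exact h0
    intro i x hx hxn y hy hyn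
    simp only [Set.mem_ofPred_eq] at hx hxn hy hyn ⊢
    have h3 := key i x hx hxn
    have h4 := key i y hy hyn
    have h5 : x ^ (2 ^ (i + 1)) = y ^ (2 ^ (i + 1)) := Subtype.ext (by rw [h3, h4])
    rw [(show Commute x⁻¹ y from hcomm x⁻¹ y).mul_pow, inv_pow, h5, inv_mul_cancel]
  apply (hOm (2 * n)).mono
  intro x _
  exact hexp x

end thin

end Wr

end Cfsg.Agent.Helper99
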