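import Mathlib
import Cfsg.Agent.Helper99.WreathedAut2

set_option autoImplicit false

namespace Cfsg.Agent.Helper99

open Cfsg.Agent.S3224 in
/-- injectivity of the homomorphism out of the generalized quaternion group -/
theorem quaternionHom_injective {G : Type*} [Group G] (m : ℕ) [NeZero m] (α β : G)
    (hord : orderOf α = 2 * m) (hα : α ^ (2 * m) = 1)
    (hβ : β * β = α ^ m) (hrel : β * α * β⁻¹ = α⁻¹) (hβα : β ∉ Subgroup.zpowers α) :
    Function.Injective (Cfsg.Agent.Helper20.quaternionHom m α β hα hβ hrel) := by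
  rw [injective_iff_map_eq_one]
  rintro (i | i) hy
  · have hy' : (powHom (2 * m) α hα i).toMul = 1 := hy
    obtain ⟨k, rfl⟩ := ZMod.intCast_surjective i
    rw [powHom_intCast, ← orderOf_dvd_iff_zpow_eq_one, hord] at hy'
    have : ((k : ℤ) : ZMod (2 * m)) = 0 := by
      rw [ZMod.intCast_zmod_eq_zero_iff_dvd]
      exact_mod_cast hy'
    rw [this]; rfl
  · exfalso
    have hy' : β * (powHom (2 * m) α hα i).toMul = 1 := hy
    apply hβα
    rw [eq_inv_of_mul_eq_one_left hy']
    exact Subgroup.inv_mem _ (powHom_mem _ _ _ _)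

namespace Wr
variable {N : ℕ}

/-- the subgroups `Q₈ ∘ Z` of the wreath product, parametrised by `e` -/
def XQ (e : ZMod N) : Subgroup (Wr N) where
  carrier := {u | 2 * (u.a - u.b) = bif u.c then 4 * e else 0}
  mul_mem' {u v} hu hv := by
    obtain ⟨a, b, c⟩ := u
    obtain ⟨a', b', c'⟩ := v
    simp only [Set.mem_ofPred_eq] at hu hv ⊢
    cases c <;> cases c' <;> simp only [mul_a, mul_b, mul_c, cond_false, cond_true, Bool.xor_false,
      Bool.false_xor, Bool.xor_self] at hu hv ⊢
    · linear_combination hu + hv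
    · linear_combination hu + hv
    · linear_combination hu - hv
    · linear_combination hu - hv
  one_mem' := by simp
  inv_mem' {u} hu := by
    obtain ⟨a, b, c⟩ := u
    simp only [Set.mem_ofPred_eq] at hu ⊢
    cases c <;> simp only [inv_a, inv_b, inv_c, cond_false, cond_true] at hu ⊢
    · linear_combination -hu
    · linear_combination hu

theorem mem_XQ (e : ZMod N) (u : Wr N) :
    u ∈ XQ e ↔ 2 * (u.a - u.b) = bif u.c then 4 * e else 0 := Iff.rfl

theorem center_le_XQ [Fact (1 < N)] (e : ZMod N) : Subgroup.center (Wr N) ≤ XQ e := by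
  intro u hu
  rw [mem_center_iff'] at hu
  rw [mem_XQ, hu.1, hu.2]
  simp

theorem conj_mem_XQ (e c : ZMod N) (u : Wr N) (hu : u ∈ XQ e) :
    (⟨c, 0, false⟩ : Wr N) * u * (⟨c, 0, false⟩ : Wr N)⁻¹ ∈ XQ (e + c) := by
  obtain ⟨a₁, b₁, c₁⟩ := u
  rw [mem_XQ] at hu ⊢
  cases c₁ <;> simp only [mul_a, mul_b, mul_c, inv_a, inv_b, inv_c, cond_false, cond_true,
    Bool.xor_false, Bool.false_xor] at hu ⊢
  · linear_combination hu
  · linear_combination hu

theorem map_conj_XQ (e c : ZMod N) :
    (XQ e).map (MulAut.conj (⟨c, 0, false⟩ : Wr N)).toMonoidHom = XQ (e + c) := by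
  apply le_antisymm
  · rintro _ ⟨u, hu, rfl⟩
    exact conj_mem_XQ e c u hu
  · intro v hv
    refine ⟨(⟨c, 0, false⟩ : Wr N)⁻¹ * v * (⟨c, 0, false⟩ : Wr N), ?_, ?_⟩
    · have h1 := conj_mem_XQ (e + c) (-c) v hv
      have h2 : (⟨-c, 0, false⟩ : Wr N) = (⟨c, 0, false⟩ : Wr N)⁻¹ := by ext <;> simp
      rw [h2, inv_inv] at h1
      have h3 : e + c + -c = e := by ring
      rwa [h3] at h1
    · show (⟨c, 0, false⟩ : Wr N) * ((⟨c, 0, false⟩ : Wr N)⁻¹ * v * (⟨c, 0, false⟩ : Wr N)) *
        (⟨c, 0, false⟩ : Wr N)⁻¹ = v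
      group

theorem quarter_facts {h h' : ℕ} (hN : N = 2 * h) (hh : h = 2 * h') :
    2 * (h' : ZMod N) = h ∧ 4 * (h' : ZMod N) = 0 := by
  have h2 := half_add_half hN
  have hcast : (h : ZMod N) = 2 * (h' : ZMod N) := by rw [hh]; push_cast; ring
  exact ⟨hcast.symm, by linear_combination h2 - 2 * hcast⟩

/-- the normalizer of `XQ e` contains it with index two -/
theorem relIndex_normalizer_XQ {h h' : ℕ} [NeZero N] (hN : N = 2 * h) (hh : h = 2 * h') (hh0 : 0 < h)
    (e : ZMod N) : (XQ e).relIndex (Subgroup.normalizer (XQ e : Set (Wr N))) = 2 := by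
  obtain ⟨hq2, hq4⟩ := quarter_facts hN hh
  have h2 := half_add_half hN
  have hne := half_ne_zero hN hh0
  have hg₀ : (⟨h', 0, false⟩ : Wr N) ∈ Subgroup.normalizer (XQ e : Set (Wr N)) := by
    rw [Subgroup.mem_normalizer_iff]
    intro u
    obtain ⟨a₁, b₁, c₁⟩ := u
    rw [mem_XQ, mem_XQ]
    cases c₁ <;> simp only [mul_a, mul_b, mul_c, inv_a, inv_b, inv_c, cond_false, cond_true,
      Bool.xor_false, Bool.false_xor]
    · constructor <;> intro hu <;> linear_combination hu
    · constructor <;> intro hu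
      · linear_combination hu + hq4
      · linear_combination hu - hq4
  rw [Subgroup.relIndex, Subgroup.index_eq_two_iff]
  refine ⟨⟨_, hg₀⟩, ?_⟩
  rintro ⟨b, hb⟩
  rw [Subgroup.mem_subgroupOf, Subgroup.mem_subgroupOf, Subgroup.coe_mul]
  show Xor (b * (⟨h', 0, false⟩ : Wr N) ∈ XQ e) (b ∈ XQ e)
  -- the constraint coming from `b` normalizing
  have hx₁ : (⟨2 * e, 0, true⟩ : Wr N) ∈ XQ e := by
    rw [mem_XQ]; simp only [cond_true]; ring
  have hb' := (Subgroup.mem_normalizer_iff.mp hb _).mp hx₁
  obtain ⟨c, d, t⟩ := b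
  rw [mem_XQ] at hb'
  rw [mem_XQ, mem_XQ]
  cases t <;> simp only [mul_a, mul_b, mul_c, inv_a, inv_b, inv_c, cond_false, cond_true,
    Bool.xor_false, Bool.not_true, Bool.not_false, Bool.xor_true] at hb' ⊢
  · have hy : 2 * (2 * (c - d)) = 0 := by linear_combination hb'
    rcases (two_mul_eq_zero_iff hN _).mp hy with h0 | h0
    · right
      refine ⟨h0, ?_⟩
      intro hcon
      apply hne
      linear_combination hcon - h0 - hq2
    · left
      refine ⟨by linear_combination h0 + hq2 + h2, ?_⟩
      intro hcon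
      apply hne
      rw [← h0, hcon]
  · have hy : 2 * (2 * (c - d) - 4 * e) = 0 := by linear_combination hb'
    rcases (two_mul_eq_zero_iff hN _).mp hy with h0 | h0
    · right
      refine ⟨by linear_combination h0, ?_⟩
      intro hcon
      apply hne
      linear_combination h0 - hcon - hq2
    · left
      refine ⟨by linear_combination h0 - hq2, ?_⟩
      intro hcon
      apply hne
      linear_combination hcon - h0

/-- `XQ e` is the product of a quaternion group of order eight and the centre -/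
theorem XQ_eq_quaternion_sup_center {h h' : ℕ} [NeZero N] [Fact (1 < N)] (hN : N = 2 * h)
    (hh : h = 2 * h') (hh0 : 0 < h) (e : ZMod N) :
    ∃ Q : Subgroup (Wr N), Nonempty (Q ≃* QuaternionGroup 2) ∧
      XQ e = Q ⊔ Subgroup.center (Wr N) := by
  obtain ⟨hq2, hq4⟩ := quarter_facts hN hh
  have h2 := half_add_half hN
  have hne := half_ne_zero hN hh0
  set α : Wr N := ⟨h', -h', false⟩ with hαdef
  set β : Wr N := ⟨e + h', h' - e, true⟩ with hβdef
  have hαmem : α ∈ XQ e := by
    rw [mem_XQ]; simp only [hαdef, cond_false]; linear_combination hq4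
  have hβmem : β ∈ XQ e := by
    rw [mem_XQ]; simp only [hβdef, cond_true]; ring
  have hαpow : ∀ k : ℕ, α ^ k = ⟨(k : ZMod N) * h', (k : ZMod N) * (-h'), false⟩ := fun k =>
    pow_ff α rfl k
  have hα4 : α ^ (2 * 2) = 1 := by
    rw [hαpow]
    ext
    · simp only [one_a]; push_cast; linear_combination hq4
    · simp only [one_b]; push_cast; linear_combination -hq4
    · rfl
  have hord : orderOf α = 2 * 2 := by
    have : orderOf α = 2 ^ (1 + 1) := by
      apply orderOf_eq_prime_pow
      · intro hcon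
        rw [hαpow] at hcon
        have := congrArg Wr.a hcon
        simp only [one_a] at this
        apply hne
        push_cast at this
        linear_combination this - hq2
      · exact hα4
    rw [this]; norm_num
  have hβ : β * β = α ^ 2 := by
    rw [hαpow]
    ext
    · simp only [hβdef, mul_a, cond_true]; push_cast; ring
    · simp only [hβdef, mul_b, cond_true]; push_cast; linear_combination hq4
    · rfl
  have hrel : β * α * β⁻¹ = α⁻¹ := by
    ext
    · simp only [hβdef, hαdef, mul_a, mul_b, mul_c, inv_a, inv_b, inv_c, cond_true, cond_false,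
        Bool.xor_false]
      ring
    · simp only [hβdef, hαdef, mul_a, mul_b, mul_c, inv_a, inv_b, inv_c, cond_true, cond_false,
        Bool.xor_false]
      ring
    · rfl
  have hβα : β ∉ Subgroup.zpowers α := by
    intro hmem
    have h4 : Subgroup.zpowers α ≤ abel N := by
      rw [Subgroup.zpowers_le, mem_abel]
    have := h4 hmem
    rw [mem_abel] at this
    exact absurd this (by simp [hβdef])
  set f := Cfsg.Agent.Helper20.quaternionHom 2 α β hα4 hβ hrel with hf
  have hinj : Function.Injective f := quaternionHom_injective 2 α β hord hα4 hβ hrel hβα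
  refine ⟨f.range, ⟨(MonoidHom.ofInjective hinj).symm⟩, ?_⟩
  have hfa : ∀ i, f (QuaternionGroup.a i) = (Cfsg.Agent.S3224.powHom (2 * 2) α hα4 i).toMul :=
    fun i => rfl
  have hfxa : ∀ i, f (QuaternionGroup.xa i) = β * (Cfsg.Agent.S3224.powHom (2 * 2) α hα4 i).toMul :=
    fun i => rfl
  have hαQ : α ∈ f.range := by
    refine ⟨QuaternionGroup.a 1, ?_⟩
    rw [hfa]
    have := Cfsg.Agent.S3224.powHom_intCast (2 * 2) α hα4 1
    simpa using this
  have hβQ : β ∈ f.range := by
    refine ⟨QuaternionGroup.xa 0, ?_⟩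
    rw [hfxa, map_zero]
    simp
  apply le_antisymm
  · -- `XQ e ≤ Q ⊔ Z`
    have hff : ∀ u ∈ XQ e, u.c = false → u ∈ f.range ⊔ Subgroup.center (Wr N) := by
      intro u hu hc
      rw [mem_XQ, hc] at hu
      simp only [cond_false] at hu
      rcases (two_mul_eq_zero_iff hN _).mp hu with h0 | h0
      · apply Subgroup.mem_sup_right
        rw [mem_center_iff']
        exact ⟨hc, by linear_combination h0⟩
      · have : u = α * (α⁻¹ * u) := by group
        rw [this]
        apply Subgroup.mul_mem_sup hαQ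
        rw [mem_center_iff']
        refine ⟨by simp [hαdef, hc], ?_⟩
        simp only [hαdef, mul_a, mul_b, inv_a, inv_b, inv_c, cond_false]
        linear_combination h0 - hq2
    intro u hu
    cases hc : u.c
    · exact hff u hu hc
    · have : u = β * (β⁻¹ * u) := by group
      rw [this]
      have h5 : β⁻¹ * u ∈ XQ e := (XQ e).mul_mem ((XQ e).inv_mem hβmem) hu
      have h6 : (β⁻¹ * u).c = false := by simp [hβdef, hc]
      exact Subgroup.mul_mem _ (Subgroup.mem_sup_left hβQ) (hff _ h5 h6)
  · apply sup_le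
    · rintro _ ⟨q, rfl⟩
      rcases q with i | i
      · rw [hfa]
        exact (Subgroup.zpowers_le.mpr hαmem) (Cfsg.Agent.S3224.powHom_mem _ _ _ _)
      · rw [hfxa]
        exact (XQ e).mul_mem hβmem
          ((Subgroup.zpowers_le.mpr hαmem) (Cfsg.Agent.S3224.powHom_mem _ _ _ _))
    · exact center_le_XQ e

end Wr

end Cfsg.Agent.Helper99
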