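import Mathlib
import Cfsg.Agent.Helper99.WreathedXQ

set_option autoImplicit false

namespace Cfsg.Agent.Helper99

namespace Wr
variable {N : ℕ}

theorem abel_normal : (abel N).Normal := by
  rw [← cHom_ker]; infer_instance

theorem index_abel [NeZero N] : (abel N).index = 2 := by
  have h1 := Subgroup.card_mul_index (abel N)
  rw [card_abel, card] at h1
  have hpos : 0 < N * N := Nat.mul_pos (Nat.pos_of_ne_zero (NeZero.ne N)) (Nat.pos_of_ne_zero (NeZero.ne N))
  have : N * N * (abel N).index = N * N * 2 := by rw [h1]; ring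
  exact Nat.eq_of_mul_eq_mul_left hpos this

theorem relIndex_normalizer_abel [NeZero N] :
    (abel N).relIndex (Subgroup.normalizer (abel N : Set (Wr N))) = 2 := by
  have := abel_normal (N := N)
  rw [Subgroup.normalizer_eq_top, Subgroup.relIndex_top_right, index_abel]

/-- classification of the self-centralizing subgroups whose automorphism group is not a `2`-group -/
theorem classify_selfCentralizing {h h' n : ℕ} [NeZero N] [Fact (1 < N)] (hN : N = 2 * h)
    (hh : h = 2 * h') (hh0 : 0 < h) (hn : N = 2 ^ n) (X : Subgroup (Wr N))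
    (hC : Subgroup.centralizer (X : Set (Wr N)) ≤ X) (hA : ¬ IsPGroup 2 (MulAut X)) :
    X = abel N ∨ (¬ X ≤ abel N ∧ ∃ e : ZMod N, X = XQ e) := by
  by_cases hXA : X ≤ abel N
  · left
    apply le_antisymm hXA
    intro u hu
    apply hC
    rw [Subgroup.mem_centralizer_iff]
    intro x hx
    exact comm_ff (hXA hx) hu
  · right
    refine ⟨hXA, ?_⟩
    obtain ⟨w₀, hw₀X, hw₀c⟩ : ∃ w ∈ X, w.c = true := by
      by_contra hcon
      push Not at hcon
      apply hXA
      intro u hu
      simpa using hcon u hu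
    have hZX : Subgroup.center (Wr N) ≤ X := le_trans (Subgroup.center_le_centralizer _) hC
    -- the abelian part is narrow
    have hnarrow : ∀ g ∈ X, g.c = false → 2 * (g.a - g.b) = 0 := by
      by_contra hcon
      push Not at hcon
      obtain ⟨g, hgX, hgc, hg2⟩ := hcon
      exact hA (isPGroup_aut_of_charSet_Bset X hN hn
        (charSet_Bset_of_wide X ⟨g, hgX⟩ hgc hg2 ⟨w₀, hw₀X⟩ hw₀c) ⟨w₀, hw₀X⟩ hw₀c)
    -- some element outside the abelian part has even sum
    obtain ⟨x₁, hx₁X, hx₁c, k₁, hk₁⟩ : ∃ x₁ ∈ X, x₁.c = true ∧ ∃ k : ZMod N, x₁.a + x₁.b = 2 * k := by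
      by_contra hcon
      push Not at hcon
      exact hA (isPGroup_aut_of_charSet_Bset X hN hn
        (charSet_Bset_of_odd X hN hh0 (fun x hxc ⟨k, hk⟩ => hcon x.val x.2 hxc k hk))
        ⟨w₀, hw₀X⟩ hw₀c)
    -- the abelian part is not thin
    obtain ⟨g₁, hg₁X, hg₁c, hg₁ne⟩ : ∃ g₁ ∈ X, g₁.c = false ∧ g₁.a ≠ g₁.b := by
      by_contra hcon
      push Not at hcon
      apply hA
      apply isPGroup_aut_of_thin_even X hN hh hn
      · apply hZX
        rw [mem_center_iff']
        exact ⟨rfl, rfl⟩
      · exact fun x hxc => hcon x.val x.2 hxc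
      · intro x hxc
        have hz : x₁⁻¹ * x.val ∈ X := X.mul_mem (X.inv_mem hx₁X) x.2
        have hzc : (x₁⁻¹ * x.val).c = false := by simp [hx₁c, hxc]
        have h3 := hcon _ hz hzc
        simp only [mul_a, mul_b, inv_a, inv_b, inv_c, hx₁c, cond_true] at h3
        exact ⟨k₁ - x₁.b + x.val.b, by linear_combination hk₁ - h3⟩
    have hg₁h : g₁.a - g₁.b = h := by
      rcases (two_mul_eq_zero_iff hN _).mp (hnarrow g₁ hg₁X hg₁c) with h0 | h0
      · exact absurd (by linear_combination h0) hg₁ne
      · exact h0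
    have hx₁Q : x₁ ∈ XQ (k₁ - x₁.b) := by
      rw [mem_XQ, hx₁c]
      simp only [cond_true]
      linear_combination 2 * hk₁
    refine ⟨k₁ - x₁.b, ?_⟩
    ext u
    constructor
    · intro hu
      rw [mem_XQ]
      cases hc : u.c
      · simp only [cond_false]
        exact hnarrow u hu hc
      · simp only [cond_true]
        have hz : x₁⁻¹ * u ∈ X := X.mul_mem (X.inv_mem hx₁X) hu
        have hzc : (x₁⁻¹ * u).c = false := by simp [hx₁c, hc]
        have h3 := hnarrow _ hz hzc
        simp only [mul_a, mul_b, inv_a, inv_b, inv_c, hx₁c, cond_true] at h3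
        linear_combination 2 * hk₁ - h3
    · intro hu
      have hff : ∀ v ∈ XQ (k₁ - x₁.b), v.c = false → v ∈ X := by
        intro v hv hvc
        rw [mem_XQ, hvc] at hv
        simp only [cond_false] at hv
        rcases (two_mul_eq_zero_iff hN _).mp hv with h0 | h0
        · apply hZX
          rw [mem_center_iff']
          exact ⟨hvc, by linear_combination h0⟩
        · have : v = g₁ * (g₁⁻¹ * v) := by group
          rw [this]
          apply X.mul_mem hg₁X
          apply hZX
          rw [mem_center_iff']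
          refine ⟨by simp [hg₁c, hvc], ?_⟩
          simp only [mul_a, mul_b, inv_a, inv_b, inv_c, hg₁c, cond_false]
          linear_combination h0 - hg₁h
      cases hc : u.c
      · exact hff u hu hc
      · have : u = x₁ * (x₁⁻¹ * u) := by group
        rw [this]
        apply X.mul_mem hx₁X
        apply hff
        · exact (XQ _).mul_mem ((XQ _).inv_mem hx₁Q) hu
        · simp [hx₁c, hc]

theorem abel_isMulCommutative : IsMulCommutative (abel N) :=
  ⟨⟨fun a b => Subtype.ext (comm_ff a.2 b.2)⟩⟩

/-- the model version of the statement on self-centralizing subgroups -/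
theorem selfCentralizing_main {h h' n : ℕ} [NeZero N] [Fact (1 < N)] (hN : N = 2 * h)
    (hh : h = 2 * h') (hh0 : 0 < h) (hn : N = 2 ^ n) (X : Subgroup (Wr N))
    (hC : Subgroup.centralizer (X : Set (Wr N)) ≤ X) (hA : ¬ IsPGroup 2 (MulAut X)) :
    X.relIndex (Subgroup.normalizer (X : Set (Wr N))) = 2 ∧
    ((IsMulCommutative X ∧ Nat.card X = N * N) ∨
      ∃ Q : Subgroup (Wr N), Nonempty (Q ≃* QuaternionGroup 2) ∧
        X = Q ⊔ Subgroup.center (Wr N)) ∧
    ∀ X' : Subgroup (Wr N), Subgroup.centralizer (X' : Set (Wr N)) ≤ X' →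
      ¬ IsPGroup 2 (MulAut X') → ¬ IsMulCommutative X → ¬ IsMulCommutative X' →
      ∃ s : Wr N, X.map (MulAut.conj s).toMonoidHom = X' := by
  have hcl := classify_selfCentralizing hN hh hh0 hn
  refine ⟨?_, ?_, ?_⟩
  · rcases hcl X hC hA with rfl | ⟨-, e, rfl⟩
    · exact relIndex_normalizer_abel
    · exact relIndex_normalizer_XQ hN hh hh0 e
  · rcases hcl X hC hA with rfl | ⟨-, e, rfl⟩
    · left
      exact ⟨abel_isMulCommutative, card_abel⟩
    · right
      exact XQ_eq_quaternion_sup_center hN hh hh0 e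
  · intro X' hC' hA' hX hX'
    rcases hcl X hC hA with rfl | ⟨-, e, rfl⟩
    · exact absurd abel_isMulCommutative hX
    rcases hcl X' hC' hA' with rfl | ⟨-, e', rfl⟩
    · exact absurd abel_isMulCommutative hX'
    refine ⟨⟨e' - e, 0, false⟩, ?_⟩
    rw [map_conj_XQ]
    congr 1
    ring

end Wr

end Cfsg.Agent.Helper99
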