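import Mathlib
import Cfsg.Agent.Helper99.WreathedSC

set_option autoImplicit false

namespace Cfsg.Agent.Helper99

theorem quat8_sq_cases : ∀ g : QuaternionGroup 2, g * g = 1 ∨ g * g = QuaternionGroup.a 2 := by
  decide
theorem quat8_a2_sq : (QuaternionGroup.a 2 : QuaternionGroup 2) * QuaternionGroup.a 2 = 1 := by
  decide
theorem quat8_a2_central :
    ∀ g : QuaternionGroup 2, g * QuaternionGroup.a 2 = QuaternionGroup.a 2 * g := by decide
theorem quat8_a2_isSq : (QuaternionGroup.a 2 : QuaternionGroup 2) =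
    QuaternionGroup.a 1 * QuaternionGroup.a 1 := by decide

namespace Wr
variable {N : ℕ}

/-- an abelian subgroup of order `N * N` is the abelian subgroup -/
theorem eq_abel_of_comm_of_card [NeZero N] [Fact (1 < N)] (hN4 : 4 ≤ N) (U : Subgroup (Wr N))
    (hU : ∀ u ∈ U, ∀ v ∈ U, u * v = v * u) (hcard : Nat.card U = N * N) : U = abel N := by
  have hle : U ≤ abel N := by
    by_contra hnot
    have := card_le_of_comm_of_not_le U hU hnot
    rw [hcard] at this
    nlinarith
  exact Subgroup.eq_of_le_of_card_ge hle (by rw [card_abel, hcard])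

/-- a quaternion subgroup of order eight together with the centre is some `XQ e` -/
theorem quaternion_sup_center_eq_XQ {h h' : ℕ} [NeZero N] [Fact (1 < N)] (hN : N = 2 * h)
    (hh : h = 2 * h') (hh0 : 0 < h) (Q₀ : Subgroup (Wr N)) (ψ : Q₀ ≃* QuaternionGroup 2) :
    ∃ e' : ZMod N, Q₀ ⊔ Subgroup.center (Wr N) = XQ e' := by
  obtain ⟨hq2, hq4⟩ := quarter_facts hN hh
  have h2 := half_add_half hN
  set ιQ : Q₀ := ψ.symm (QuaternionGroup.a 2) with hιQ
  have hsq : ∀ u : Q₀, u * u = 1 ∨ u * u = ιQ := by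
    intro u
    rcases quat8_sq_cases (ψ u) with h0 | h0
    · left
      apply ψ.injective
      rw [map_mul, h0, map_one]
    · right
      apply ψ.injective
      rw [map_mul, h0, hιQ, ψ.apply_symm_apply]
  have hιsq : ιQ * ιQ = 1 := by
    apply ψ.injective
    rw [map_mul, hιQ, ψ.apply_symm_apply, quat8_a2_sq, map_one]
  have hιcen : ∀ u : Q₀, u * ιQ = ιQ * u := by
    intro u
    apply ψ.injective
    rw [map_mul, map_mul, hιQ, ψ.apply_symm_apply]
    exact quat8_a2_central _
  have hιA : (ιQ : Wr N).c = false := by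
    have : ιQ = ψ.symm (QuaternionGroup.a 1) * ψ.symm (QuaternionGroup.a 1) := by
      rw [← map_mul, ← quat8_a2_isSq]
    rw [this, Subgroup.coe_mul, mul_c]
    cases ((ψ.symm (QuaternionGroup.a 1) : Q₀) : Wr N).c <;> rfl
  set P : Q₀ := ψ.symm (QuaternionGroup.a 1) with hP
  set Qq : Q₀ := ψ.symm (QuaternionGroup.xa 0) with hQq
  have hPQ : (P : Wr N) * Qq ≠ Qq * P := by
    intro hcon
    apply quat_noncomm (h := 2) (le_refl 2)
    have : P * Qq = Qq * P := Subtype.ext hcon
    have := congrArg ψ this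
    simpa [hP, hQq] using this
  -- an element outside the abelian part
  obtain ⟨b₀, hb₀Q, hb₀c⟩ : ∃ b₀ ∈ Q₀, b₀.c = true := by
    by_contra hcon
    push Not at hcon
    apply hPQ
    exact comm_ff (by simpa using hcon _ P.2) (by simpa using hcon _ Qq.2)
  have hιab : (ιQ : Wr N).a = (ιQ : Wr N).b := by
    have h1 := congrArg Subtype.val (hιcen ⟨b₀, hb₀Q⟩)
    rw [Subgroup.coe_mul, Subgroup.coe_mul] at h1
    exact (comm_ft_iff hιA hb₀c).mp h1.symm
  -- the abelian part is narrow
  have hnarrow : ∀ u ∈ Q₀, u.c = false → 2 * (u.a - u.b) = 0 := by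
    intro u hu hc
    have hcoord : (u * u).a = (u * u).b := by
      rcases hsq ⟨u, hu⟩ with h0 | h0
      · have := congrArg Subtype.val h0
        rw [Subgroup.coe_mul, Subgroup.coe_one] at this
        have e : (⟨u, hu⟩ : Q₀).val = u := rfl
        rw [e] at this
        rw [this]; rfl
      · have := congrArg Subtype.val h0
        rw [Subgroup.coe_mul] at this
        have e : (⟨u, hu⟩ : Q₀).val = u := rfl
        rw [e] at this
        rw [this]; exact hιab
    simp only [mul_a, mul_b, hc, cond_false] at hcoord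
    linear_combination hcoord
  -- the sum of `b₀` is even
  obtain ⟨σ, hσ⟩ : ∃ σ : ZMod N, b₀.a + b₀.b = 2 * σ := by
    have hb₀sq := sq_tt b₀ hb₀c
    rcases hsq ⟨b₀, hb₀Q⟩ with h0 | h0
    · have := congrArg Subtype.val h0
      rw [Subgroup.coe_mul, Subgroup.coe_one] at this
      have e : (⟨b₀, hb₀Q⟩ : Q₀).val = b₀ := rfl
      rw [e, hb₀sq] at this
      have h3 := congrArg Wr.a this
      simp only [one_a] at h3
      exact ⟨0, by rw [h3]; ring⟩
    · have := congrArg Subtype.val h0
      rw [Subgroup.coe_mul] at this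
      have e : (⟨b₀, hb₀Q⟩ : Q₀).val = b₀ := rfl
      rw [e, hb₀sq] at this
      have h3 := congrArg Wr.a this
      simp only at h3
      have h4 := congrArg Subtype.val hιsq
      rw [Subgroup.coe_mul, Subgroup.coe_one] at h4
      have h5 := congrArg Wr.a h4
      simp only [mul_a, hιA, cond_false, one_a] at h5
      rw [← h3] at h5
      rcases (two_mul_eq_zero_iff hN _).mp (by linear_combination h5 : 2 * (b₀.a + b₀.b) = 0) with h0' | h0'
      · exact ⟨0, by rw [h0']; ring⟩
      · exact ⟨h', by rw [h0', hq2]⟩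
  have hb₀X : b₀ ∈ XQ (σ - b₀.b) := by
    rw [mem_XQ, hb₀c]
    simp only [cond_true]
    linear_combination 2 * hσ
  refine ⟨σ - b₀.b, ?_⟩
  have hQle : Q₀ ≤ XQ (σ - b₀.b) := by
    intro u hu
    cases hc : u.c
    · rw [mem_XQ, hc]
      simp only [cond_false]
      exact hnarrow u hu hc
    · have hz : b₀⁻¹ * u ∈ Q₀ := Q₀.mul_mem (Q₀.inv_mem hb₀Q) hu
      have hzc : (b₀⁻¹ * u).c = false := by simp [hb₀c, hc]
      have h3 := hnarrow _ hz hzc
      simp only [mul_a, mul_b, inv_a, inv_b, inv_c, hb₀c, cond_true] at h3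
      rw [mem_XQ, hc]
      simp only [cond_true]
      linear_combination 2 * hσ - h3
  apply le_antisymm
  · exact sup_le hQle (center_le_XQ _)
  · -- a non-central element of the abelian part of `Q₀`
    obtain ⟨a₀, ha₀Q, ha₀c, ha₀ne⟩ : ∃ a₀ ∈ Q₀, a₀.c = false ∧ a₀.a ≠ a₀.b := by
      have hcentral : ∀ u v : Wr N, u.c = false → u.a = u.b → u * v = v * u := by
        intro u v hc hab
        exact ((central_iff u).mpr ⟨hc, hab⟩) v
      cases hPc : (P : Wr N).c
      · refine ⟨P, P.2, hPc, fun hab => hPQ (hcentral _ _ hPc hab)⟩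
      · cases hQc : (Qq : Wr N).c
        · refine ⟨Qq, Qq.2, hQc, fun hab => hPQ (hcentral _ _ hQc hab).symm⟩
        · refine ⟨(P : Wr N) * Qq, Q₀.mul_mem P.2 Qq.2, by simp [hPc, hQc], fun hab => ?_⟩
          have h3 := hcentral ((P : Wr N) * Qq) P (by simp [hPc, hQc]) hab
          apply hPQ
          have h4 : (P : Wr N) * ((P : Wr N) * Qq) = (P : Wr N) * (Qq * P) := by
            rw [← h3, mul_assoc]
          exact mul_left_cancel h4
    have ha₀h : a₀.a - a₀.b = h := by
      rcases (two_mul_eq_zero_iff hN _).mp (hnarrow a₀ ha₀Q ha₀c) with h0 | h0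
      · exact absurd (by linear_combination h0) ha₀ne
      · exact h0
    have hff : ∀ u ∈ XQ (σ - b₀.b), u.c = false → u ∈ Q₀ ⊔ Subgroup.center (Wr N) := by
      intro u hu hc
      rw [mem_XQ, hc] at hu
      simp only [cond_false] at hu
      rcases (two_mul_eq_zero_iff hN _).mp hu with h0 | h0
      · apply Subgroup.mem_sup_right
        rw [mem_center_iff']
        exact ⟨hc, by linear_combination h0⟩
      · have : u = a₀ * (a₀⁻¹ * u) := by group
        rw [this]
        apply Subgroup.mul_mem_sup ha₀Q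
        rw [mem_center_iff']
        refine ⟨by simp [ha₀c, hc], ?_⟩
        simp only [mul_a, mul_b, inv_a, inv_b, inv_c, ha₀c, cond_false]
        linear_combination h0 - ha₀h
    intro u hu
    cases hc : u.c
    · exact hff u hu hc
    · have : u = b₀ * (b₀⁻¹ * u) := by group
      rw [this]
      have h5 : b₀⁻¹ * u ∈ XQ (σ - b₀.b) := (XQ _).mul_mem ((XQ _).inv_mem hb₀X) hu
      have h6 : (b₀⁻¹ * u).c = false := by simp [hb₀c, hc]
      exact Subgroup.mul_mem _ (Subgroup.mem_sup_left hb₀Q) (hff _ h5 h6)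

end Wr

end Cfsg.Agent.Helper99
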