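import Mathlib
import Cfsg.Prelude.Def_CaseTheorems
import Cfsg.Agent.S3224
import Cfsg.Agent.Helper99.Wreathed

set_option autoImplicit false

namespace Cfsg.Agent.Helper99

open Cfsg.Agent.S3224 (powHom powHom_intCast powHom_add powHom_mem)

section Iso
variable {S : Type*} [Group S]

/-- `g ^ a` for `a : ZMod N` when `g ^ N = 1` -/
noncomputable def pw (N : ℕ) (g : S) (hg : g ^ N = 1) (a : ZMod N) : S := (powHom N g hg a).toMul

theorem pw_intCast (N : ℕ) (g : S) (hg : g ^ N = 1) (k : ℤ) : pw N g hg (k : ZMod N) = g ^ k :=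
  powHom_intCast N g hg k

theorem pw_add (N : ℕ) (g : S) (hg : g ^ N = 1) (a b : ZMod N) :
    pw N g hg (a + b) = pw N g hg a * pw N g hg b := powHom_add N g hg a b

@[simp] theorem pw_zero (N : ℕ) (g : S) (hg : g ^ N = 1) : pw N g hg 0 = 1 := by
  have := pw_intCast N g hg 0
  simpa using this

theorem pw_one (N : ℕ) (g : S) (hg : g ^ N = 1) : pw N g hg 1 = g := by
  have := pw_intCast N g hg 1
  simpa using this

theorem pw_mem (N : ℕ) (g : S) (hg : g ^ N = 1) (a : ZMod N) : pw N g hg a ∈ Subgroup.zpowers g :=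
  powHom_mem N g hg a

theorem pw_eq_one_iff (N : ℕ) (g : S) (hg : g ^ N = 1) (ho : orderOf g = N) (a : ZMod N) :
    pw N g hg a = 1 ↔ a = 0 := by
  obtain ⟨k, rfl⟩ := ZMod.intCast_surjective a
  rw [pw_intCast, ← orderOf_dvd_iff_zpow_eq_one, ho, ZMod.intCast_zmod_eq_zero_iff_dvd]

theorem pw_comm (N : ℕ) (g g' : S) (hg : g ^ N = 1) (hg' : g' ^ N = 1) (hc : g * g' = g' * g)
    (a b : ZMod N) : pw N g hg a * pw N g' hg' b = pw N g' hg' b * pw N g hg a := by
  obtain ⟨k, rfl⟩ := ZMod.intCast_surjective a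
  obtain ⟨l, rfl⟩ := ZMod.intCast_surjective b
  rw [pw_intCast, pw_intCast]
  exact (Commute.zpow_zpow (show Commute g g' from hc) k l).eq

theorem pw_conj (N : ℕ) (g g' w : S) (hg : g ^ N = 1) (hg' : g' ^ N = 1) (hc : w * g * w⁻¹ = g')
    (a : ZMod N) : w * pw N g hg a = pw N g' hg' a * w := by
  obtain ⟨k, rfl⟩ := ZMod.intCast_surjective a
  rw [pw_intCast, pw_intCast, ← hc, conj_zpow]
  group

/-- data of a wreathed group -/
structure WrData (S : Type*) [Group S] (n : ℕ) (x y z : S) : Prop where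
  hn : 2 ≤ n
  card : Nat.card S = 2 ^ (2 * n + 1)
  ox : orderOf x = 2 ^ n
  comm : x * y = y * x
  disj : Subgroup.zpowers x ⊓ Subgroup.zpowers y = ⊥
  oz : orderOf z = 2
  conj : z * x * z⁻¹ = y

theorem exists_wrData (hS : Cfsg.IsWreathed S) : ∃ (n : ℕ) (x y z : S), WrData S n x y z := by
  obtain ⟨n, hn, hcard, x, y, z, ox, hc, hd, oz, hconj⟩ := hS
  exact ⟨n, x, y, z, hn, hcard, ox, hc, hd, oz, hconj⟩

namespace WrData
variable {n : ℕ} {x y z : S}

theorem z_sq (h : WrData S n x y z) : z * z = 1 := by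
  have := pow_orderOf_eq_one z
  rwa [h.oz, pow_two] at this

theorem z_inv (h : WrData S n x y z) : z⁻¹ = z := inv_eq_of_mul_eq_one_right h.z_sq

theorem conj' (h : WrData S n x y z) : z * y * z⁻¹ = x := by
  rw [← h.conj, h.z_inv]
  have := h.z_sq
  calc z * (z * x * z) * z = (z * z) * x * (z * z) := by group
    _ = x := by rw [this, one_mul, mul_one]

theorem xN (h : WrData S n x y z) : x ^ (2 ^ n) = 1 := by
  rw [← h.ox]; exact pow_orderOf_eq_one x

theorem yN (h : WrData S n x y z) : y ^ (2 ^ n) = 1 := by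
  rw [← h.conj, conj_pow, h.xN]; group

theorem oy (h : WrData S n x y z) : orderOf y = 2 ^ n := by
  have hs : SemiconjBy z x y := by
    unfold SemiconjBy
    rw [← h.conj]; group
  rw [← hs.orderOf_eq, h.ox]

theorem x_ne_y (h : WrData S n x y z) : x ≠ y := by
  intro hxy
  have h1 := h.disj
  rw [← hxy, inf_idem, Subgroup.zpowers_eq_bot] at h1
  have h2 := h.ox
  rw [h1, orderOf_one] at h2
  have : 2 ^ n ≠ 1 := by
    have : 2 ^ 2 ≤ 2 ^ n := Nat.pow_le_pow_right (by norm_num) h.hn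
    omega
  exact this h2.symm

/-- the isomorphism from the model, as a function -/
noncomputable def toFun (h : WrData S n x y z) (u : Wr (2 ^ n)) : S :=
  pw (2 ^ n) x h.xN u.a * pw (2 ^ n) y h.yN u.b * (bif u.c then z else 1)

theorem toFun_mul (h : WrData S n x y z) (u v : Wr (2 ^ n)) :
    h.toFun (u * v) = h.toFun u * h.toFun v := by
  obtain ⟨a, b, c⟩ := u
  obtain ⟨a', b', c'⟩ := v
  have hxy : ∀ a b, Commute (pw (2 ^ n) x h.xN a) (pw (2 ^ n) y h.yN b) :=
    fun a b => pw_comm (2 ^ n) x y h.xN h.yN h.comm a b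
  have hzx := pw_conj (2 ^ n) x y z h.xN h.yN h.conj
  have hzy := pw_conj (2 ^ n) y x z h.yN h.xN h.conj'
  have e1 : ∀ a' b', z * (pw (2 ^ n) x h.xN a' * pw (2 ^ n) y h.yN b') =
      pw (2 ^ n) x h.xN b' * pw (2 ^ n) y h.yN a' * z := by
    intro a' b'
    rw [← mul_assoc, hzx, mul_assoc, hzy, ← mul_assoc, (hxy b' a').eq]
  cases c <;> cases c'
  · simp only [toFun, Wr.mul_a, Wr.mul_b, Wr.mul_c, cond_false, Bool.xor_false, mul_one, pw_add]
    exact Commute.mul_mul_mul_comm (hxy a' b) _ _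
  · simp only [toFun, Wr.mul_a, Wr.mul_b, Wr.mul_c, cond_false, cond_true, Bool.false_xor, mul_one,
      pw_add]
    rw [← mul_assoc (pw (2 ^ n) x h.xN a * pw (2 ^ n) y h.yN b)]
    congr 1
    exact Commute.mul_mul_mul_comm (hxy a' b) _ _
  · simp only [toFun, Wr.mul_a, Wr.mul_b, Wr.mul_c, cond_false, cond_true, Bool.xor_false, mul_one,
      pw_add]
    rw [mul_assoc (pw (2 ^ n) x h.xN a * pw (2 ^ n) y h.yN b) z, e1,
      ← mul_assoc (pw (2 ^ n) x h.xN a * pw (2 ^ n) y h.yN b)]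
    congr 1
    exact Commute.mul_mul_mul_comm (hxy b' b) _ _
  · simp only [toFun, Wr.mul_a, Wr.mul_b, Wr.mul_c, cond_false, cond_true, Bool.xor_self, mul_one,
      pw_add]
    rw [mul_assoc (pw (2 ^ n) x h.xN a * pw (2 ^ n) y h.yN b) z, ← mul_assoc z, e1,
      mul_assoc _ z z, h.z_sq, mul_one]
    exact Commute.mul_mul_mul_comm (hxy b' b) _ _

theorem z_not_comm_x (h : WrData S n x y z) : z * x ≠ x * z := by
  intro hc
  apply h.x_ne_y
  rw [← h.conj, hc, mul_inv_cancel_right]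

theorem toFun_eq_one (h : WrData S n x y z) (u : Wr (2 ^ n)) (hu : h.toFun u = 1) : u = 1 := by
  obtain ⟨a, b, c⟩ := u
  have hxx : ∀ a, Commute (pw (2 ^ n) x h.xN a) x := by
    intro a
    obtain ⟨k, rfl⟩ := ZMod.intCast_surjective a
    rw [pw_intCast]
    exact (Commute.refl x).zpow_left k
  have hyx : ∀ a, Commute (pw (2 ^ n) y h.yN a) x := by
    intro a
    obtain ⟨k, rfl⟩ := ZMod.intCast_surjective a
    rw [pw_intCast]
    exact (show Commute y x from h.comm.symm).zpow_left k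
  cases c
  · simp only [toFun, cond_false, mul_one] at hu
    have h1 : pw (2 ^ n) x h.xN a = (pw (2 ^ n) y h.yN b)⁻¹ := eq_inv_of_mul_eq_one_left hu
    have h2 : pw (2 ^ n) x h.xN a ∈ Subgroup.zpowers x ⊓ Subgroup.zpowers y := by
      refine Subgroup.mem_inf.mpr ⟨pw_mem _ _ _ _, ?_⟩
      rw [h1]
      exact Subgroup.inv_mem _ (pw_mem _ _ _ _)
    rw [h.disj, Subgroup.mem_bot] at h2
    have ha : a = 0 := (pw_eq_one_iff _ _ _ h.ox a).mp h2
    rw [h2, one_mul] at hu
    have hb : b = 0 := (pw_eq_one_iff _ _ _ h.oy b).mp hu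
    rw [ha, hb]
    rfl
  · exfalso
    simp only [toFun, cond_true] at hu
    have h1 : z = (pw (2 ^ n) x h.xN a * pw (2 ^ n) y h.yN b)⁻¹ := (inv_eq_of_mul_eq_one_right hu).symm
    apply h.z_not_comm_x
    have : Commute z x := by
      rw [h1]
      exact ((hxx a).mul_left (hyx b)).inv_left
    exact this.eq

/-- the isomorphism from the model -/
noncomputable def iso (h : WrData S n x y z) : Wr (2 ^ n) ≃* S :=
  MulEquiv.ofBijective (MonoidHom.mk' h.toFun h.toFun_mul) (by
    have hinj : Function.Injective (MonoidHom.mk' h.toFun h.toFun_mul) := by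
      rw [injective_iff_map_eq_one]
      intro u hu
      exact h.toFun_eq_one u hu
    haveI : Finite S := Nat.finite_of_card_ne_zero (by rw [h.card]; positivity)
    apply hinj.bijective_of_nat_card_le
    rw [h.card, Wr.card]
    apply le_of_eq
    ring)

theorem iso_apply (h : WrData S n x y z) (u : Wr (2 ^ n)) : h.iso u = h.toFun u := rfl

theorem iso_x (h : WrData S n x y z) : h.iso ⟨1, 0, false⟩ = x := by
  simp [iso_apply, toFun, pw_one]

theorem iso_y (h : WrData S n x y z) : h.iso ⟨0, 1, false⟩ = y := by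
  simp [iso_apply, toFun, pw_one]

theorem iso_z (h : WrData S n x y z) : h.iso ⟨0, 0, true⟩ = z := by
  simp [iso_apply, toFun]

end WrData

end Iso

end Cfsg.Agent.Helper99
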