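import Mathlib
import Cfsg.Agent.Helper99.WreathedIso
import Cfsg.Agent.Helper99.Transport
import Cfsg.Agent.Helper99.WreathedFus
import Cfsg.Agent.Helper99.OddAct2

set_option autoImplicit false

namespace Cfsg.Agent.Helper99

open Subgroup

section homTransport
variable {W G : Type*} [Group W] [Group G]

theorem centralizer_comap_le (ι : W →* G) (E : Subgroup G) (hE : E ≤ ι.range)
    (hcen : centralizer (E : Set G) ⊓ ι.range ≤ E) :
    centralizer ((E.comap ι : Subgroup W) : Set W) ≤ E.comap ι := by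
  intro u hu
  rw [mem_comap]
  apply hcen
  refine Subgroup.mem_inf.mpr ⟨?_, ⟨u, rfl⟩⟩
  rw [mem_centralizer_iff]
  intro x hx
  obtain ⟨x₀, rfl⟩ := hE hx
  rw [mem_centralizer_iff] at hu
  rw [← map_mul, ← map_mul, hu x₀ hx]

/-- the isomorphism between a subgroup of the range and its preimage -/
noncomputable def comapEquiv (ι : W →* G) (hι : Function.Injective ι) (E : Subgroup G)
    (hE : E ≤ ι.range) : (E.comap ι : Subgroup W) ≃* E :=
  (Subgroup.equivMapOfInjective (E.comap ι) ι hι).trans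
    (MulEquiv.subgroupCongr (Subgroup.map_comap_eq_self hE))

theorem not_isPGroup_mulAut_comap (ι : W →* G) (hι : Function.Injective ι) (E : Subgroup G)
    (hE : E ≤ ι.range) (hA : ¬ IsPGroup 2 (MulAut E)) :
    ¬ IsPGroup 2 (MulAut (E.comap ι : Subgroup W)) :=
  fun h => hA (h.of_equiv (MulAut.congr (comapEquiv ι hι E hE)))

theorem map_conj_map_hom (ι : W →* G) (X : Subgroup W) (s : W) :
    (X.map (MulAut.conj s).toMonoidHom).map ι =
      (X.map ι).map (MulAut.conj (ι s)).toMonoidHom := by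
  rw [Subgroup.map_map, Subgroup.map_map]
  congr 1
  ext x
  simp

end homTransport

/-- centric subgroups of a wreathed Sylow `2`-subgroup with an odd automorphism -/
theorem wreathed_centric_cases {G : Type*} [Group G] [Finite G] (S : Sylow 2 G)
    (hS : Cfsg.IsWreathed (S : Subgroup G)) (n : ℕ)
    (hn : Nat.card (S : Subgroup G) = 2 ^ (2 * n + 1))
    (U : Subgroup G) (hUS : U ≤ S) (hUab : IsMulCommutative U) (hUcard : Nat.card U = 2 ^ (2 * n))
    (Q : Subgroup G) (hQS : Q ≤ S) (eQ : Q ≃* QuaternionGroup 2)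
    (E : Subgroup G) (hES : E ≤ S) (hcen : centralizer (E : Set G) ⊓ (S : Subgroup G) ≤ E)
    (hA : ¬ IsPGroup 2 (MulAut E)) :
    E = U ∨ ∃ s ∈ (S : Subgroup G), E.map (MulAut.conj s).toMonoidHom =
      Q ⊔ (Subgroup.center (S : Subgroup G)).map (S : Subgroup G).subtype := by
  obtain ⟨n', x, y, z, h⟩ := exists_wrData hS
  have hnn : n' = n := by
    have h1 := h.card
    rw [hn] at h1
    have := Nat.pow_right_injective (le_refl 2) h1
    omega
  subst hnn
  have hn2 := h.hn
  obtain ⟨m, rfl⟩ : ∃ m, n' = m + 2 := ⟨n' - 2, by omega⟩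
  have : NeZero (2 ^ (m + 2)) := ⟨by positivity⟩
  have : Fact (1 < 2 ^ (m + 2)) := ⟨Nat.one_lt_two_pow (by omega)⟩
  have hN : 2 ^ (m + 2) = 2 * 2 ^ (m + 1) := by rw [pow_succ]; ring
  have hh : 2 ^ (m + 1) = 2 * 2 ^ m := by rw [pow_succ]; ring
  have hh0 : 0 < 2 ^ (m + 1) := by positivity
  have hN4 : 4 ≤ 2 ^ (m + 2) := by
    calc 4 = 2 ^ 2 := by norm_num
      _ ≤ 2 ^ (m + 2) := Nat.pow_le_pow_right (by norm_num) (by omega)
  let e : Wr (2 ^ (m + 2)) ≃* ↥(S : Subgroup G) := h.iso
  let ι : Wr (2 ^ (m + 2)) →* G := (S : Subgroup G).subtype.comp e.toMonoidHom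
  have hιinj : Function.Injective ι := fun a b hab =>
    e.injective ((S : Subgroup G).subtype_injective hab)
  have hιrange : ι.range = (S : Subgroup G) := by
    ext g
    constructor
    · rintro ⟨u, rfl⟩
      exact (e u).2
    · intro hg
      exact ⟨e.symm ⟨g, hg⟩, by simp [ι]⟩
  have hES' : E ≤ ι.range := by rw [hιrange]; exact hES
  have hUS' : U ≤ ι.range := by rw [hιrange]; exact hUS
  have hQS' : Q ≤ ι.range := by rw [hιrange]; exact hQS
  have hC₀ := centralizer_comap_le ι E hES' (by rw [hιrange]; exact hcen)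
  have hA₀ := not_isPGroup_mulAut_comap ι hιinj E hES' hA
  have hEmap : (E.comap ι).map ι = E := Subgroup.map_comap_eq_self hES'
  have hUmap : (U.comap ι).map ι = U := Subgroup.map_comap_eq_self hUS'
  have hQmap : (Q.comap ι).map ι = Q := Subgroup.map_comap_eq_self hQS'
  rcases Wr.classify_selfCentralizing hN hh hh0 rfl (E.comap ι) hC₀ hA₀ with hab | ⟨-, e₁, hXQ⟩
  · left
    have hU₀ : U.comap ι = Wr.abel (2 ^ (m + 2)) := by
      apply Wr.eq_abel_of_comm_of_card hN4
      · intro u hu v hv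
        apply hιinj
        rw [map_mul, map_mul]
        have := hUab.is_comm.comm (⟨ι u, hu⟩ : U) ⟨ι v, hv⟩
        exact congrArg Subtype.val this
      · rw [Nat.card_congr (comapEquiv ι hιinj U hUS').toEquiv, hUcard, ← pow_add]
        congr 1
        ring
    rw [← hEmap, hab, ← hU₀, hUmap]
  · right
    obtain ⟨e', he'⟩ := Wr.quaternion_sup_center_eq_XQ hN hh hh0 (Q.comap ι)
      ((comapEquiv ι hιinj Q hQS').trans eQ)
    have hcenter : (Subgroup.center (S : Subgroup G)).map (S : Subgroup G).subtype =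
        (Subgroup.center (Wr (2 ^ (m + 2)))).map ι := by
      rw [← map_center_equiv e, Subgroup.map_map]
    refine ⟨ι ⟨e' - e₁, 0, false⟩, by rw [← hιrange]; exact ⟨_, rfl⟩, ?_⟩
    rw [← hEmap, hXQ, ← map_conj_map_hom, Wr.map_conj_XQ, hcenter, ← hQmap, ← Subgroup.map_sup, he']
    congr 2
    ring

end Cfsg.Agent.Helper99
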