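import Mathlib
import Cfsg.Agent.Helper99.WreathedFus2
import Cfsg.Agent.Helper99.WreathedKlein

set_option autoImplicit false

namespace Cfsg.Agent.Helper99

open Subgroup

variable {G : Type*} [Group G]

/-- the explicit model embedded as the wreathed Sylow `2`-subgroup, the abelian subgroup going to `U` -/
theorem exists_wreathed_embedding [Finite G] (S : Sylow 2 G)
    (hS : Cfsg.IsWreathed (S : Subgroup G)) (n : ℕ)
    (hn : Nat.card (S : Subgroup G) = 2 ^ (2 * n + 1))
    (U : Subgroup G) (hUS : U ≤ S) (hUab : IsMulCommutative U) (hUcard : Nat.card U = 2 ^ (2 * n)) :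
    ∃ (m : ℕ) (ι : Wr (2 ^ (m + 2)) →* G), n = m + 2 ∧ Function.Injective ι ∧
      ι.range = (S : Subgroup G) ∧ (Wr.abel (2 ^ (m + 2))).map ι = U := by
  obtain ⟨n', x, y, z, h⟩ := exists_wrData hS
  have hnn : n' = n := by
    have h1 := h.card
    rw [hn] at h1
    have := Nat.pow_right_injective (le_refl 2) h1
    omega
  subst hnn
  have hn2 := h.hn
  obtain ⟨m, rfl⟩ : ∃ m, n' = m + 2 := ⟨n' - 2, by omega⟩
  have : NeZero (2 ^ (m + 2)) := ⟨by positivity⟩
  have : Fact (1 < 2 ^ (m + 2)) := ⟨Nat.one_lt_two_pow (by omega)⟩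
  have hN4 : 4 ≤ 2 ^ (m + 2) := by
    calc 4 = 2 ^ 2 := by norm_num
      _ ≤ 2 ^ (m + 2) := Nat.pow_le_pow_right (by norm_num) (by omega)
  let e : Wr (2 ^ (m + 2)) ≃* ↥(S : Subgroup G) := h.iso
  let ι : Wr (2 ^ (m + 2)) →* G := (S : Subgroup G).subtype.comp e.toMonoidHom
  have hιinj : Function.Injective ι := fun a b hab =>
    e.injective ((S : Subgroup G).subtype_injective hab)
  have hιrange : ι.range = (S : Subgroup G) := by
    ext g
    constructor
    · rintro ⟨u, rfl⟩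
      exact (e u).2
    · intro hg
      exact ⟨e.symm ⟨g, hg⟩, by simp [ι]⟩
  have hUS' : U ≤ ι.range := by rw [hιrange]; exact hUS
  have hUmap : (U.comap ι).map ι = U := Subgroup.map_comap_eq_self hUS'
  have hU₀ : U.comap ι = Wr.abel (2 ^ (m + 2)) := by
    apply Wr.eq_abel_of_comm_of_card hN4
    · intro u hu v hv
      apply hιinj
      rw [map_mul, map_mul]
      have := hUab.is_comm.comm (⟨ι u, hu⟩ : U) ⟨ι v, hv⟩
      exact congrArg Subtype.val this
    · rw [Nat.card_congr (comapEquiv ι hιinj U hUS').toEquiv, hUcard, ← pow_add]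
      congr 1
      ring
  exact ⟨m, ι, rfl, hιinj, hιrange, by rw [← hU₀, hUmap]⟩

/-- the abelian subgroup of index two of a wreathed Sylow `2`-subgroup is unique -/
theorem wreathed_abel_unique [Finite G] (S : Sylow 2 G)
    (hS : Cfsg.IsWreathed (S : Subgroup G)) (n : ℕ)
    (hn : Nat.card (S : Subgroup G) = 2 ^ (2 * n + 1))
    (U : Subgroup G) (hUS : U ≤ S) (hUab : IsMulCommutative U) (hUcard : Nat.card U = 2 ^ (2 * n))
    (U' : Subgroup G) (hUS' : U' ≤ S) (hUab' : ∀ a ∈ U', ∀ b ∈ U', a * b = b * a)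
    (hUcard' : Nat.card U' = 2 ^ (2 * n)) : U' = U := by
  have hab'' : IsMulCommutative U' := ⟨⟨fun a b => Subtype.ext (hUab' a a.2 b b.2)⟩⟩
  obtain ⟨m, ι, hnm, hinj, hrange, hU⟩ := exists_wreathed_embedding S hS n hn U hUS hUab hUcard
  obtain ⟨m', ι', hnm', hinj', hrange', hU'⟩ :=
    exists_wreathed_embedding S hS n hn U' hUS' hab'' hUcard'
  -- use a single embedding: transport `U'` along `ι`
  have : NeZero (2 ^ (m + 2)) := ⟨by positivity⟩
  have : Fact (1 < 2 ^ (m + 2)) := ⟨Nat.one_lt_two_pow (by omega)⟩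
  have hN4 : 4 ≤ 2 ^ (m + 2) := by
    calc 4 = 2 ^ 2 := by norm_num
      _ ≤ 2 ^ (m + 2) := Nat.pow_le_pow_right (by norm_num) (by omega)
  have hUS'' : U' ≤ ι.range := by rw [hrange]; exact hUS'
  have h1 : U'.comap ι = Wr.abel (2 ^ (m + 2)) := by
    apply Wr.eq_abel_of_comm_of_card hN4
    · intro u hu v hv
      apply hinj
      rw [map_mul, map_mul]
      exact hUab' _ hu _ hv
    · rw [Nat.card_congr (comapEquiv ι hinj U' hUS'').toEquiv, hUcard', hnm, ← pow_add]
      congr 1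
      ring
  rw [← Subgroup.map_comap_eq_self hUS'', h1, hU]

/-- index two -/
theorem wreathed_relIndex_abel [Finite G] (S : Sylow 2 G) (n : ℕ)
    (hn : Nat.card (S : Subgroup G) = 2 ^ (2 * n + 1))
    (U : Subgroup G) (hUS : U ≤ S) (hUcard : Nat.card U = 2 ^ (2 * n)) :
    U.relIndex (S : Subgroup G) = 2 := by
  have h1 := Subgroup.card_mul_index (U.subgroupOf (S : Subgroup G))
  rw [Nat.card_congr (Subgroup.subgroupOfEquivOfLe hUS).toEquiv, hUcard, hn, pow_succ] at h1
  have : 0 < 2 ^ (2 * n) := by positivity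
  exact Nat.eq_of_mul_eq_mul_left this h1

theorem le_normalizer_of_relIndex_two (S U : Subgroup G) (hUS : U ≤ S) (h : U.relIndex S = 2) :
    S ≤ normalizer (U : Set G) := by
  have : (U.subgroupOf S).Normal := Subgroup.normal_of_index_eq_two h
  exact (Subgroup.normal_subgroupOf_iff_le_normalizer hUS).mp this

/-- in an index two situation, a product lies in `U` iff both or none of the factors do -/
theorem mul_mem_iff_of_relIndex_two (S U : Subgroup G) (h : U.relIndex S = 2) {a b : G}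
    (ha : a ∈ S) (hb : b ∈ S) : a * b ∈ U ↔ (a ∈ U ↔ b ∈ U) := by
  have := Subgroup.mul_mem_iff_of_index_two (H := U.subgroupOf S) h (a := ⟨a, ha⟩) (b := ⟨b, hb⟩)
  simpa [Subgroup.mem_subgroupOf] using this

/-- `N_G(S)` normalizes the abelian subgroup of index two -/
theorem wreathed_normalizer_le [Finite G] (S : Sylow 2 G)
    (hS : Cfsg.IsWreathed (S : Subgroup G)) (n : ℕ)
    (hn : Nat.card (S : Subgroup G) = 2 ^ (2 * n + 1))
    (U : Subgroup G) (hUS : U ≤ S) (hUab : IsMulCommutative U) (hUcard : Nat.card U = 2 ^ (2 * n)) :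
    normalizer ((S : Subgroup G) : Set G) ≤ normalizer (U : Set G) := by
  intro g hg
  rw [mem_normalizer_iff_map_conj_eq]
  apply wreathed_abel_unique S hS n hn U hUS hUab hUcard
  · rintro _ ⟨u, hu, rfl⟩
    exact (mem_normalizer_iff.mp hg u).mp (hUS hu)
  · rintro _ ⟨a, ha, rfl⟩ _ ⟨b, hb, rfl⟩
    have := congrArg Subtype.val (hUab.is_comm.comm (⟨a, ha⟩ : U) ⟨b, hb⟩)
    simp only [Subgroup.coe_mul] at this
    show g * a * g⁻¹ * (g * b * g⁻¹) = g * b * g⁻¹ * (g * a * g⁻¹)
    calc g * a * g⁻¹ * (g * b * g⁻¹) = g * (a * b) * g⁻¹ := by group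
      _ = g * (b * a) * g⁻¹ := by rw [this]
      _ = g * b * g⁻¹ * (g * a * g⁻¹) := by group
  · rw [Subgroup.card_map_of_injective (MulAut.conj g).injective, hUcard]

/-- involutions of a wreathed Sylow `2`-subgroup: a central one inside `U`, the four-group property
of the involutions of `U`, and an involution outside `U` -/
theorem wreathed_involutions [Finite G] (S : Sylow 2 G)
    (hS : Cfsg.IsWreathed (S : Subgroup G)) (n : ℕ)
    (hn : Nat.card (S : Subgroup G) = 2 ^ (2 * n + 1))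
    (U : Subgroup G) (hUS : U ≤ S) (hUab : IsMulCommutative U) (hUcard : Nat.card U = 2 ^ (2 * n)) :
    (∃ z ∈ U, z * z = 1 ∧ z ≠ 1 ∧ ∀ s ∈ (S : Subgroup G), s * z = z * s) ∧
    (∀ x ∈ U, ∀ y ∈ U, ∀ w ∈ U, x * x = 1 → y * y = 1 → w * w = 1 → x ≠ 1 → y ≠ 1 → x ≠ y →
      w ≠ 1 → w ≠ x → w ≠ y → w = x * y) ∧
    (∃ t ∈ (S : Subgroup G), t * t = 1 ∧ t ∉ U) := by
  obtain ⟨m, ι, hnm, hinj, hrange, hU⟩ := exists_wreathed_embedding S hS n hn U hUS hUab hUcard
  have : NeZero (2 ^ (m + 2)) := ⟨by positivity⟩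
  have : Fact (1 < 2 ^ (m + 2)) := ⟨Nat.one_lt_two_pow (by omega)⟩
  have hN : 2 ^ (m + 2) = 2 * 2 ^ (m + 1) := by rw [pow_succ]; ring
  have hh0 : 0 < 2 ^ (m + 1) := by positivity
  have h2 := Wr.half_add_half hN
  have hne := Wr.half_ne_zero hN hh0
  refine ⟨?_, ?_, ?_⟩
  · refine ⟨ι ⟨((2 ^ (m + 1) : ℕ) : ZMod (2 ^ (m + 2))), ((2 ^ (m + 1) : ℕ) : ZMod (2 ^ (m + 2))), false⟩,
      ?_, ?_, ?_, ?_⟩
    · rw [← hU]; exact ⟨_, rfl, rfl⟩
    · rw [← map_mul, ← map_one ι]
      congr 1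
      ext
      · simpa using h2
      · simpa using h2
      · rfl
    · rw [← map_one ι]
      intro hcon
      have := congrArg Wr.a (hinj hcon)
      exact hne this
    · intro s hs
      rw [← hrange] at hs
      obtain ⟨v, rfl⟩ := hs
      rw [← map_mul, ← map_mul]
      congr 1
      have := (Wr.central_iff (N := 2 ^ (m + 2)) ⟨((2 ^ (m + 1) : ℕ) : ZMod (2 ^ (m + 2))),
        ((2 ^ (m + 1) : ℕ) : ZMod (2 ^ (m + 2))), false⟩).mpr ⟨rfl, rfl⟩ v
      exact this.symm
  · have key : ∀ x ∈ U, x * x = 1 → ∃ v : Wr.fourT (2 ^ (m + 2)), ι (v : Wr (2 ^ (m + 2))) = x := by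
      intro x hx hxx
      rw [← hU] at hx
      obtain ⟨v, hv, rfl⟩ := hx
      have hvv : v * v = 1 := hinj (by rw [map_mul, hxx, map_one])
      have hc : v.c = false := hv
      refine ⟨⟨v, ?_⟩, rfl⟩
      rw [Wr.mem_fourT]
      refine ⟨hc, ?_, ?_⟩
      · have := congrArg Wr.a hvv
        simp only [Wr.mul_a, hc, cond_false, Wr.one_a] at this
        linear_combination this
      · have := congrArg Wr.b hvv
        simp only [Wr.mul_b, hc, cond_false, Wr.one_b] at this
        linear_combination this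
    intro x hx y hy w hw hxx hyy hww hx1 hy1 hxy hw1 hwx hwy
    obtain ⟨vx, rfl⟩ := key x hx hxx
    obtain ⟨vy, rfl⟩ := key y hy hyy
    obtain ⟨vw, rfl⟩ := key w hw hww
    have := Wr.fourT_isKleinFour hN hh0
    have h := IsKleinFour.eq_mul_of_ne_all (x := vx) (y := vy) (z := vw)
      (by rintro rfl; exact hx1 (by simp))
      (by rintro rfl; exact hy1 (by simp))
      (by rintro rfl; exact hxy rfl)
      (by rintro rfl; exact hw1 (by simp))
      (by rintro rfl; exact hwx rfl)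
      (by rintro rfl; exact hwy rfl)
    rw [h, Subgroup.coe_mul, map_mul]
  · refine ⟨ι ⟨0, 0, true⟩, ?_, ?_, ?_⟩
    · rw [← hrange]; exact ⟨_, rfl⟩
    · rw [← map_mul, ← map_one ι]
      congr 1
      ext <;> simp
    · rw [← hU]
      rintro ⟨v, hv, hvι⟩
      have := hinj hvι
      have hc : v.c = false := hv
      rw [this] at hc
      exact absurd hc (by simp)

end Cfsg.Agent.Helper99
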