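import Mathlib
import Cfsg.Agent.Helper99.WreathedEmb
import Cfsg.Agent.Helper99.TameLocal
import Cfsg.Agent.Helper34.Focal

set_option autoImplicit false

namespace Cfsg.Agent.Helper99

open Subgroup
open scoped commutatorElement

variable {G : Type*} [Group G]

/-- a commutator `[s, g]` with `g` normalizing the subgroup `U` of index two of `S` lies in `U` -/
theorem commutator_mem_of_relIndex_two (S U : Subgroup G) (h : U.relIndex S = 2) {s g : G}
    (hs : s ∈ S) (hg : g ∈ normalizer (U : Set G)) (hgs : g * s * g⁻¹ ∈ S) : ⁅s, g⁆ ∈ U := by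
  have e : ⁅s, g⁆ = s * (g * s * g⁻¹)⁻¹ := by rw [commutatorElement_def]; group
  rw [e, mul_mem_iff_of_relIndex_two S U h hs (inv_mem hgs), inv_mem_iff]
  exact mem_normalizer_iff.mp hg s

/-- the focal subgroup of a wreathed Sylow `2`-subgroup lies in `U` when the quaternion type
subgroup `Q Z(S)` has no odd automorphism from `G` -/
theorem wreathed_focal_le [Finite G] (S : Sylow 2 G)
    (hS : Cfsg.IsWreathed (S : Subgroup G)) (n : ℕ)
    (hn : Nat.card (S : Subgroup G) = 2 ^ (2 * n + 1))
    (U : Subgroup G) (hUS : U ≤ S) (hUab : IsMulCommutative U) (hUcard : Nat.card U = 2 ^ (2 * n))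
    (Q : Subgroup G) (hQS : Q ≤ S) (eQ : Q ≃* QuaternionGroup 2)
    (h₂ : ((Q ⊔ ((Subgroup.center (S : Subgroup G)).map (S : Subgroup G).subtype)) ⊔
      Subgroup.centralizer ((Q ⊔ ((Subgroup.center (S : Subgroup G)).map (S : Subgroup G).subtype) :
        Subgroup G) : Set G)).relIndex (Subgroup.normalizer ((Q ⊔ ((Subgroup.center (S : Subgroup G)).map
          (S : Subgroup G).subtype) : Subgroup G) : Set G)) = 2) :
    (S : Subgroup G) ⊓ commutator G ≤ U := by
  have : Fact (Nat.Prime 2) := ⟨Nat.prime_two⟩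
  have hidx := wreathed_relIndex_abel S n hn U hUS hUcard
  have hSN : (S : Subgroup G) ≤ normalizer (U : Set G) :=
    le_normalizer_of_relIndex_two _ _ hUS hidx
  have hNN := wreathed_normalizer_le S hS n hn U hUS hUab hUcard
  rw [Cfsg.Agent.Helper34.inf_commutator_eq_focalLocal S]
  unfold Cfsg.Agent.Helper34.focalLocal
  refine sup_le ?_ ?_
  · rw [Subgroup.commutator_le]
    intro s hs g hg
    exact commutator_mem_of_relIndex_two _ U hidx hs (hNN hg) ((mem_normalizer_iff.mp hg s).mp hs)
  · refine iSup_le fun R => iSup_le fun htame => iSup_le fun x => iSup_le fun hx => ?_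
    obtain ⟨htame1, -⟩ := htame
    obtain ⟨hxN, -⟩ := hx
    set D : Subgroup G := (S : Subgroup G) ⊓ (R : Subgroup G) with hD
    have hDS : D ≤ (S : Subgroup G) := inf_le_left
    rw [Subgroup.commutator_le]
    intro d hd y hy
    have hyN : y ∈ normalizer (D : Set G) := by
      have : Subgroup.zpowers x ≤ normalizer (D : Set G) := by
        rw [Subgroup.zpowers_le]; exact hxN
      exact this hy
    by_cases hDU : D ≤ U
    · apply hDU
      have e : ⁅d, y⁆ = d * (y * d⁻¹ * y⁻¹) := by rw [commutatorElement_def]; group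
      rw [e]
      exact mul_mem hd ((mem_normalizer_iff.mp hyN _).mp (inv_mem hd))
    · have hDp : IsPGroup 2 D := S.2.to_le hDS
      have hnb : ¬ BadPair 2 D := by
        intro hbad
        have hbad₁ := BadPair.sup_centralizer_of_tame S D hDS htame1 hbad
        have hcen₁ := centralizer_sup_inf_le S D
        set D₁ : Subgroup G := D ⊔ (centralizer (D : Set G) ⊓ (S : Subgroup G)) with hD₁
        have hD₁S : D₁ ≤ (S : Subgroup G) := sup_le hDS inf_le_right
        obtain ⟨hEp, k, hk, hcop, hkc⟩ := hbad₁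
        have hA : ¬ IsPGroup 2 (MulAut D₁) := not_isPGroup_mulAut_of_normalizer D₁ k hk hcop hkc
        rcases wreathed_centric_cases S hS n hn U hUS hUab hUcard Q hQS eQ D₁ hD₁S hcen₁ hA with
          hEU | ⟨s, hsS, hs⟩
        · exact hDU (hEU ▸ (le_sup_left : D ≤ D₁))
        · have hbadV := BadPair.conj (p := 2) ⟨hEp, k, hk, hcop, hkc⟩ s
          rw [hs] at hbadV
          obtain ⟨hVp, k', hk', hcop', hkc'⟩ := hbadV
          obtain ⟨a, ha⟩ := IsPGroup.iff_card.mp hVp
          apply hkc'
          apply mem_centralizer_of_relIndex_two_sup _ k' hk' hcop' h₂ a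
          intro v hv
          have h3 : (⟨v, hv⟩ : (Q ⊔ ((Subgroup.center (S : Subgroup G)).map (S : Subgroup G).subtype) :
              Subgroup G)) ^ (2 ^ a) = 1 := by
            rw [← ha]; exact pow_card_eq_one'
          exact congrArg Subtype.val h3
      obtain ⟨s, hsS, hsN, c, hc, hysc⟩ := exists_mul_of_not_badPair S D hDp htame1 hnb y hyN
      have e : ⁅d, y⁆ = ⁅d, s⁆ := by
        rw [commutatorElement_def, commutatorElement_def, hysc]
        have hcd : c * d⁻¹ = d⁻¹ * c := (mem_centralizer_iff.mp hc d⁻¹ (inv_mem hd)).symm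
        calc d * (s * c) * d⁻¹ * (s * c)⁻¹ = d * s * (c * d⁻¹) * c⁻¹ * s⁻¹ := by group
          _ = d * s * (d⁻¹ * c) * c⁻¹ * s⁻¹ := by rw [hcd]
          _ = d * s * d⁻¹ * s⁻¹ := by group
      rw [e]
      exact commutator_mem_of_relIndex_two _ U hidx (hDS hd) (hSN hsS)
        (mul_mem (mul_mem hsS (hDS hd)) (inv_mem hsS))

end Cfsg.Agent.Helper99
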