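import Mathlib
import Cfsg.Agent.Helper20.WrV
import Cfsg.Agent.Helper20.WrGlobal
import Cfsg.Agent.Helper20.Fusion3
import Cfsg.Agent.S1201

set_option autoImplicit false

namespace Cfsg.Agent.Helper99

open Subgroup Cfsg.Agent.Helper20

variable {G : Type*} [Group G]

/-- facts on the centre `Z` of a wreathed Sylow `2`-subgroup of `G` -/
theorem wreathed_center_facts [Finite G] (S : Sylow 2 G)
    (hS : Cfsg.IsWreathed (S : Subgroup G)) :
    (∀ ζ ∈ (Subgroup.center (S : Subgroup G)).map (S : Subgroup G).subtype,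
      ∀ s ∈ (S : Subgroup G), s * ζ = ζ * s) ∧
    IsPGroup 2 (MulAut ((Subgroup.center (S : Subgroup G)).map (S : Subgroup G).subtype :
      Subgroup G)) ∧
    (∀ X : Subgroup G, X ≤ S → (∃ p ∈ X, ∃ q ∈ X, p * q ≠ q * p) →
      ∀ c ∈ X, (∀ v ∈ X, c * v = v * c) →
        c ∈ (Subgroup.center (S : Subgroup G)).map (S : Subgroup G).subtype) ∧
    (∀ Q : Subgroup G, Q ≤ S → (Q ≃* QuaternionGroup 2) →
      ∀ ζ ∈ (Subgroup.center (S : Subgroup G)).map (S : Subgroup G).subtype, ζ * ζ = 1 → ζ ∈ Q) ∧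
    (∃ ω ∈ (Subgroup.center (S : Subgroup G)).map (S : Subgroup G).subtype,
      (ω * ω) * (ω * ω) = 1 ∧ ω * ω ≠ 1) := by
  obtain ⟨n, x, y, z, h⟩ := Cfsg.Agent.Helper20.exists_wrData hS
  obtain ⟨Z, hZ⟩ : ∃ Z : Subgroup G,
      Z = (Subgroup.center (S : Subgroup G)).map (S : Subgroup G).subtype := ⟨_, rfl⟩
  rw [← hZ]
  have hmemZ : ∀ ζ : G, ζ ∈ Z ↔
      ∃ hζ : ζ ∈ (S : Subgroup G), (⟨ζ, hζ⟩ : (S : Subgroup G)) ∈ Subgroup.center (S : Subgroup G) := by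
    intro ζ
    rw [hZ]
    constructor
    · rintro ⟨ζ', hζ', rfl⟩
      exact ⟨ζ'.2, hζ'⟩
    · rintro ⟨hζ, hc⟩
      exact ⟨⟨ζ, hζ⟩, hc, rfl⟩
  have H1 : ∀ ζ ∈ Z, ∀ s ∈ (S : Subgroup G), s * ζ = ζ * s := by
    intro ζ hζ s hs
    obtain ⟨hζS, hc⟩ := (hmemZ ζ).mp hζ
    have := Subgroup.mem_center_iff.mp hc ⟨s, hs⟩
    exact congrArg Subtype.val this
  have H2 : IsPGroup 2 (MulAut Z) := by
    have e : Subgroup.center (S : Subgroup G) ≃* Z := by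
      rw [hZ]
      exact Subgroup.equivMapOfInjective _ _ (Subgroup.subtype_injective _)
    exact (h.isPGroup_mulAut_of_isCyclic _ h.isCyclic_center).of_equiv (MulAut.congr e)
  have H3 : ∀ X : Subgroup G, X ≤ S → (∃ p ∈ X, ∃ q ∈ X, p * q ≠ q * p) →
      ∀ c ∈ X, (∀ v ∈ X, c * v = v * c) → c ∈ Z := by
    intro X hXS hnc c hcX hcc
    obtain ⟨p, hp, q, hq, hpq⟩ := hnc
    have hnc' : ¬ IsMulCommutative (X.subgroupOf (S : Subgroup G)) := by
      intro hcomm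
      apply hpq
      have := hcomm.is_comm.comm
        (⟨⟨p, hXS hp⟩, mem_subgroupOf.mpr hp⟩ : X.subgroupOf (S : Subgroup G))
        ⟨⟨q, hXS hq⟩, mem_subgroupOf.mpr hq⟩
      exact congrArg (fun t : X.subgroupOf (S : Subgroup G) => ((t : (S : Subgroup G)) : G)) this
    have hle := Cfsg.Agent.S1201.result hS (X.subgroupOf (S : Subgroup G)) hnc'
    rw [hmemZ]
    refine ⟨hXS hcX, ?_⟩
    apply hle
    refine ⟨⟨⟨c, hXS hcX⟩, mem_subgroupOf.mpr hcX⟩, ?_, rfl⟩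
    rw [SetLike.mem_coe, Subgroup.mem_center_iff]
    intro g
    apply Subtype.ext
    apply Subtype.ext
    exact (hcc _ (mem_subgroupOf.mp g.2)).symm
  have H6 : ∀ Q : Subgroup G, Q ≤ S → (Q ≃* QuaternionGroup 2) → ∀ ζ ∈ Z, ζ * ζ = 1 → ζ ∈ Q := by
    intro Q hQS eQ ζ hζ hsq
    have hQ' : Q.subgroupOf (S : Subgroup G) ≃* QuaternionGroup 2 :=
      (Subgroup.subgroupOfEquivOfLe hQS).trans eQ
    obtain ⟨hζS, hc⟩ := (hmemZ ζ).mp hζ
    have := h.central_involution_mem_quat (Q.subgroupOf (S : Subgroup G)) hQ' ⟨ζ, hζS⟩ hc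
      (Subtype.ext hsq)
    exact mem_subgroupOf.mp this
  refine ⟨H1, H2, H3, H6, ?_⟩
  obtain ⟨ω, hωZ, hωsq⟩ := h.exists_omega
  have hωsq' : ((ω : G) * (ω : G)) = ((x ^ (2 ^ (n - 1) : ℤ) * y ^ (2 ^ (n - 1) : ℤ) :
      (S : Subgroup G)) : G) := by
    have := congrArg Subtype.val hωsq
    simpa using this
  refine ⟨(ω : G), (hmemZ _).mpr ⟨ω.2, hωZ⟩, ?_, ?_⟩
  · rw [hωsq']
    have := congrArg Subtype.val h.c_sq
    simpa using this
  · rw [hωsq']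
    intro hc
    exact h.c_ne_one (Subtype.ext hc)

end Cfsg.Agent.Helper99
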