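import Mathlib
import Cfsg.Agent.Helper99.WreathedEmb
import Cfsg.Agent.Helper99.WreathedQuat

set_option autoImplicit false

namespace Cfsg.Agent.Helper99

theorem quat8_sq_one : ∀ g : QuaternionGroup 2, g * g = 1 → g = 1 ∨ g = QuaternionGroup.a 2 := by
  decide

theorem quat8_central_sq : ∀ g : QuaternionGroup 2, (∀ r : QuaternionGroup 2, g * r = r * g) →
    g * g = 1 := by
  decide

namespace Wr
variable {N : ℕ}

/-- non-central elements whose square is the central involution lie in the quaternion subgroup -/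
theorem mem_quatQ_of_sq {h : ℕ} [NeZero N] (hN : N = 2 * h) (x : Wr N)
    (hx : x * x = ⟨h, h, false⟩) (hnc : ¬ (x.c = false ∧ x.a = x.b)) : x ∈ quatQ hN := by
  have h2 := half_add_half hN
  rw [mem_quatQ]
  cases hc : x.c
  · simp only [cond_false, add_zero]
    have ha := congrArg Wr.a hx
    have hb := congrArg Wr.b hx
    simp only [mul_a, mul_b, hc, cond_false] at ha hb
    have hab : x.a ≠ x.b := fun h' => hnc ⟨hc, h'⟩
    rcases (two_mul_eq_zero_iff hN (x.a - x.b)).mp (by linear_combination ha - hb) with h0 | h0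
    · exact absurd (by linear_combination h0) hab
    · linear_combination hb + h0 + h2
  · simp only [cond_true]
    have ha := congrArg Wr.a hx
    simp only [mul_a, hc, cond_true] at ha
    linear_combination ha + h2

/-- a quaternion subgroup of order eight lies in the generalized quaternion subgroup -/
theorem quaternion8_le_quatQ {h : ℕ} [NeZero N] [Fact (1 < N)] (hN : N = 2 * h)
    (Q₀ : Subgroup (Wr N)) (ψ : Q₀ ≃* QuaternionGroup 2) : Q₀ ≤ quatQ hN := by
  have h2 := half_add_half hN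
  set ιQ : Q₀ := ψ.symm (QuaternionGroup.a 2) with hιQ
  have hιsq : ιQ * ιQ = 1 := by
    apply ψ.injective
    rw [map_mul, hιQ, ψ.apply_symm_apply, quat8_a2_sq, map_one]
  have hι1 : ιQ ≠ 1 := by
    intro hcon
    have := congrArg ψ hcon
    rw [hιQ, ψ.apply_symm_apply, map_one] at this
    exact absurd this (by decide)
  have hιcen : ∀ u : Q₀, u * ιQ = ιQ * u := by
    intro u
    apply ψ.injective
    rw [map_mul, map_mul, hιQ, ψ.apply_symm_apply]
    exact quat8_a2_central _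
  have hιA : (ιQ : Wr N).c = false := by
    have : ιQ = ψ.symm (QuaternionGroup.a 1) * ψ.symm (QuaternionGroup.a 1) := by
      rw [← map_mul, ← quat8_a2_isSq]
    rw [this, Subgroup.coe_mul, mul_c]
    cases ((ψ.symm (QuaternionGroup.a 1) : Q₀) : Wr N).c <;> rfl
  set P : Q₀ := ψ.symm (QuaternionGroup.a 1) with hP
  set Qq : Q₀ := ψ.symm (QuaternionGroup.xa 0) with hQq
  have hPQ : (P : Wr N) * Qq ≠ Qq * P := by
    intro hcon
    apply quat_noncomm (h := 2) (le_refl 2)
    have : P * Qq = Qq * P := Subtype.ext hcon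
    have := congrArg ψ this
    simpa [hP, hQq] using this
  obtain ⟨b₀, hb₀Q, hb₀c⟩ : ∃ b₀ ∈ Q₀, b₀.c = true := by
    by_contra hcon
    push Not at hcon
    apply hPQ
    exact comm_ff (by simpa using hcon _ P.2) (by simpa using hcon _ Qq.2)
  have hιab : (ιQ : Wr N).a = (ιQ : Wr N).b := by
    have h1 := congrArg Subtype.val (hιcen ⟨b₀, hb₀Q⟩)
    rw [Subgroup.coe_mul, Subgroup.coe_mul] at h1
    exact (comm_ft_iff hιA hb₀c).mp h1.symm
  have hιeq : (ιQ : Wr N) = ⟨h, h, false⟩ := by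
    have h4 := congrArg Subtype.val hιsq
    rw [Subgroup.coe_mul, Subgroup.coe_one] at h4
    have h5 := congrArg Wr.a h4
    simp only [mul_a, hιA, cond_false, one_a] at h5
    rcases (two_mul_eq_zero_iff hN _).mp (by linear_combination h5 : 2 * (ιQ : Wr N).a = 0) with h0 | h0
    · exfalso
      apply hι1
      apply Subtype.ext
      rw [Subgroup.coe_one]
      ext
      · exact h0
      · rw [← hιab]; exact h0
      · exact hιA
    · ext
      · exact h0
      · rw [← hιab]; exact h0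
      · exact hιA
  intro x hx
  rcases quat8_sq_cases (ψ ⟨x, hx⟩) with h0 | h0
  · rcases quat8_sq_one _ h0 with h1 | h1
    · have : (⟨x, hx⟩ : Q₀) = 1 := ψ.injective (by rw [h1, map_one])
      have hx1 : x = 1 := congrArg Subtype.val this
      rw [hx1]; exact one_mem _
    · have : (⟨x, hx⟩ : Q₀) = ιQ := ψ.injective (by rw [h1, hιQ, ψ.apply_symm_apply])
      have hx1 : x = ιQ := congrArg Subtype.val this
      rw [hx1, hιeq, mem_quatQ]
      simpa using h2
  · have hxx : (⟨x, hx⟩ : Q₀) * ⟨x, hx⟩ = ιQ := by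
      apply ψ.injective
      rw [map_mul, h0, hιQ, ψ.apply_symm_apply]
    have hxx' : x * x = ⟨h, h, false⟩ := by
      rw [← hιeq]; exact congrArg Subtype.val hxx
    apply mem_quatQ_of_sq hN x hxx'
    intro hcen
    have hcomm : ∀ r : QuaternionGroup 2, ψ ⟨x, hx⟩ * r = r * ψ ⟨x, hx⟩ := by
      intro r
      have h1 : (⟨x, hx⟩ : Q₀) * ψ.symm r = ψ.symm r * ⟨x, hx⟩ := by
        apply Subtype.ext
        rw [Subgroup.coe_mul, Subgroup.coe_mul]
        exact (central_iff x).mpr hcen _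
      have := congrArg ψ h1
      rwa [map_mul, map_mul, ψ.apply_symm_apply] at this
    have h3 := quat8_central_sq _ hcomm
    rw [h0] at h3
    exact absurd h3 (by decide)

end Wr

open Subgroup

variable {G : Type*} [Group G]

/-- the generalized quaternion subgroup `R` of a wreathed Sylow `2`-subgroup `S` of `G`: it contains
`S'` and all quaternion subgroups of order eight, and `R ∩ U` consists of commutators with any
fixed element outside `U` -/
theorem exists_wreathed_quat_subgroup [Finite G] (S : Sylow 2 G)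
    (hS : Cfsg.IsWreathed (S : Subgroup G)) (n : ℕ)
    (hn : Nat.card (S : Subgroup G) = 2 ^ (2 * n + 1))
    (U : Subgroup G) (hUS : U ≤ S) (hUab : IsMulCommutative U) (hUcard : Nat.card U = 2 ^ (2 * n)) :
    ∃ R : Subgroup G, R ≤ (S : Subgroup G) ∧
      (∀ a ∈ (S : Subgroup G), ∀ b ∈ (S : Subgroup G), a * b * a⁻¹ * b⁻¹ ∈ R) ∧
      (∀ Q₁ : Subgroup G, Q₁ ≤ (S : Subgroup G) → (Q₁ ≃* QuaternionGroup 2) → Q₁ ≤ R) ∧
      (∀ y ∈ R, y ∈ U → ∀ x ∈ (S : Subgroup G), x ∉ U →
        ∃ s ∈ (S : Subgroup G), y = s * x * s⁻¹ * x⁻¹) ∧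
      (∃ m : ℕ, 1 ≤ m ∧ n = m + 1 ∧ Nonempty (R ≃* QuaternionGroup (2 ^ m))) ∧
      Nat.card R = 2 ^ (n + 1) := by
  obtain ⟨m, ι, hnm, hinj, hrange, hU⟩ := exists_wreathed_embedding S hS n hn U hUS hUab hUcard
  have : NeZero (2 ^ (m + 2)) := ⟨by positivity⟩
  have : NeZero (2 ^ (m + 1)) := ⟨by positivity⟩
  have : Fact (1 < 2 ^ (m + 2)) := ⟨Nat.one_lt_two_pow (by omega)⟩
  have hN : 2 ^ (m + 2) = 2 * 2 ^ (m + 1) := by rw [pow_succ]; ring
  have hmemU : ∀ v : Wr (2 ^ (m + 2)), ι v ∈ U ↔ v.c = false := by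
    intro v
    rw [← hU]
    constructor
    · rintro ⟨v', hv', hvv⟩
      rw [← hinj hvv]; exact hv'
    · intro hv
      exact ⟨v, hv, rfl⟩
  refine ⟨(Wr.quatQ hN).map ι, ?_, ?_, ?_, ?_, ?_, ?_⟩
  · rw [← hrange]; exact Subgroup.map_le_range _ _
  · intro a ha b hb
    rw [← hrange] at ha hb
    obtain ⟨a', rfl⟩ := ha
    obtain ⟨b', rfl⟩ := hb
    refine ⟨a' * b' * a'⁻¹ * b'⁻¹, ?_, by simp⟩
    rw [SetLike.mem_coe, Wr.quatQ, MonoidHom.mem_ker, map_mul, map_mul, map_mul, map_inv, map_inv,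
      mul_comm (Wr.quatHom hN a') (Wr.quatHom hN b'), mul_inv_cancel_right, mul_inv_cancel]
  · intro Q₁ hQ₁S eQ₁
    have hQ₁r : Q₁ ≤ ι.range := by rw [hrange]; exact hQ₁S
    have h1 := Wr.quaternion8_le_quatQ hN (Q₁.comap ι) ((comapEquiv ι hinj Q₁ hQ₁r).trans eQ₁)
    rw [← Subgroup.map_comap_eq_self hQ₁r]
    exact Subgroup.map_mono h1
  · rintro _ ⟨v, hv, rfl⟩ hyU x hxS hxU
    rw [← hrange] at hxS
    obtain ⟨w, rfl⟩ := hxS
    have hvc : v.c = false := (hmemU v).mp hyU
    have hwc : w.c = true := by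
      cases hc : w.c
      · exact absurd ((hmemU w).mpr hc) hxU
      · rfl
    have hv' : v.a + v.b = 0 := by
      have := (Wr.mem_quatQ hN v).mp hv
      simpa [hvc] using this
    refine ⟨ι ⟨v.a, 0, false⟩, by rw [← hrange]; exact ⟨_, rfl⟩, ?_⟩
    rw [← map_inv, ← map_inv, ← map_mul, ← map_mul, ← map_mul]
    congr 1
    ext
    · simp [hwc]
    · simp [hwc]
      linear_combination hv'
    · simp [hwc, hvc]
  · refine ⟨m + 1, by omega, by omega, ?_⟩
    obtain ⟨e⟩ := Wr.quatQ_iso hN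
    exact ⟨(Subgroup.equivMapOfInjective _ ι hinj).symm.trans e⟩
  · rw [Subgroup.card_map_of_injective hinj, Wr.card_quatQ hN, hnm, ← pow_succ']

end Cfsg.Agent.Helper99
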