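import Mathlib
import Cfsg.Agent.Helper99.WreathedQZ
import Cfsg.Agent.Helper99.WreathedR
import Cfsg.Agent.Helper99.WreathedFocal

set_option autoImplicit false

namespace Cfsg.Agent.Helper99

open Subgroup
open scoped commutatorElement

variable {G : Type*} [Group G]

theorem map_conj_eq_self_of_comm (Z : Subgroup G) (s : G) (h : ∀ ζ ∈ Z, s * ζ = ζ * s) :
    Z.map (MulAut.conj s).toMonoidHom = Z := by
  ext x
  constructor
  · rintro ⟨ζ, hζ, rfl⟩
    show s * ζ * s⁻¹ ∈ Z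
    rw [h ζ hζ, mul_inv_cancel_right]
    exact hζ
  · intro hx
    refine ⟨x, hx, ?_⟩
    show s * x * s⁻¹ = x
    rw [h x hx, mul_inv_cancel_right]

theorem eq_map_conj_inv_of_map_conj_eq (A B : Subgroup G) (s : G)
    (h : A.map (MulAut.conj s).toMonoidHom = B) : A = B.map (MulAut.conj s⁻¹).toMonoidHom := by
  rw [← h, Cfsg.Agent.Helper20.map_conj_map_conj, inv_mul_cancel]
  ext x
  simp

/-- the normalizer of `Q₁ Z(S)` normalizes `Q₁`, centralizes `Z(S)` and has all its commutators with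
`Q₁ Z(S)` inside `Q₁` -/
theorem quat_center_normalizer_facts [Finite G] (S : Sylow 2 G)
    (hS : Cfsg.IsWreathed (S : Subgroup G)) (Z : Subgroup G)
    (hZ : Z = (Subgroup.center (S : Subgroup G)).map (S : Subgroup G).subtype)
    (Q₁ : Subgroup G) (hQ₁S : Q₁ ≤ S) (eQ₁ : Q₁ ≃* QuaternionGroup 2) :
    normalizer ((Q₁ ⊔ Z : Subgroup G) : Set G) ≤ normalizer (Q₁ : Set G) ∧
    normalizer ((Q₁ ⊔ Z : Subgroup G) : Set G) ≤ centralizer (Z : Set G) ∧
    (∀ g ∈ normalizer ((Q₁ ⊔ Z : Subgroup G) : Set G),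
      g ∈ centralizer ((Q₁ ⊔ Z : Subgroup G) : Set G) ↔ g ∈ centralizer (Q₁ : Set G)) ∧
    (∀ g ∈ normalizer ((Q₁ ⊔ Z : Subgroup G) : Set G), ∀ e ∈ Q₁ ⊔ Z, ⁅e, g⁆ ∈ Q₁) := by
  obtain ⟨H1, H2, H3, H6, -⟩ := wreathed_center_facts S hS
  rw [← hZ] at H1 H2 H3 H6
  have hZS : Z ≤ S := by rw [hZ]; exact Subgroup.map_subtype_le _
  obtain ⟨hNQ, hNcZ, hCiff, hVset, -⟩ := Cfsg.Agent.Helper20.quat_central_facts S Q₁ Z hQ₁S eQ₁ hZS
    H1 H2 H3 (H6 Q₁ hQ₁S eQ₁)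
  refine ⟨hNQ, hNcZ, hCiff, ?_⟩
  intro g hg e he
  obtain ⟨q, hq, ζ, hζ, rfl⟩ := hVset e he
  have hgζ : ζ * g = g * ζ := mem_centralizer_iff.mp (hNcZ hg) ζ hζ
  have e1 : ⁅q * ζ, g⁆ = q * (g * q⁻¹ * g⁻¹) := by
    rw [commutatorElement_def]
    calc q * ζ * g * (q * ζ)⁻¹ * g⁻¹ = q * (ζ * g) * ζ⁻¹ * q⁻¹ * g⁻¹ := by group
      _ = q * (g * ζ) * ζ⁻¹ * q⁻¹ * g⁻¹ := by rw [hgζ]
      _ = q * (g * q⁻¹ * g⁻¹) := by group
  rw [e1]
  exact mul_mem hq ((mem_normalizer_iff.mp (hNQ hg) _).mp (inv_mem hq))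

/-- conjugates of `Q` under `S` -/
theorem quat_conj_data [Finite G] (S : Sylow 2 G)
    (hS : Cfsg.IsWreathed (S : Subgroup G)) (Z : Subgroup G)
    (hZ : Z = (Subgroup.center (S : Subgroup G)).map (S : Subgroup G).subtype)
    (Q : Subgroup G) (hQS : Q ≤ S) (eQ : Q ≃* QuaternionGroup 2) (s : G) (hs : s ∈ (S : Subgroup G)) :
    Q.map (MulAut.conj s).toMonoidHom ≤ (S : Subgroup G) ∧
    Nonempty ((Q.map (MulAut.conj s).toMonoidHom : Subgroup G) ≃* QuaternionGroup 2) ∧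
    (Q ⊔ Z).map (MulAut.conj s).toMonoidHom = Q.map (MulAut.conj s).toMonoidHom ⊔ Z := by
  obtain ⟨H1, -, -, -, -⟩ := wreathed_center_facts S hS
  rw [← hZ] at H1
  refine ⟨?_, ⟨(Subgroup.equivMapOfInjective Q (MulAut.conj s).toMonoidHom
    (MulAut.conj s).injective).symm.trans eQ⟩, ?_⟩
  · rintro _ ⟨q, hq, rfl⟩
    exact mul_mem (mul_mem hs (hQS hq)) (inv_mem hs)
  · rw [Subgroup.map_sup, map_conj_eq_self_of_comm Z s (fun ζ hζ => H1 ζ hζ s hs)]

/-- upper bound for the focal subgroup in the quaternion case -/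
theorem wreathed_focal_le_quat [Finite G] (S : Sylow 2 G)
    (hS : Cfsg.IsWreathed (S : Subgroup G)) (n : ℕ)
    (hn : Nat.card (S : Subgroup G) = 2 ^ (2 * n + 1))
    (U : Subgroup G) (hUS : U ≤ S) (hUab : IsMulCommutative U) (hUcard : Nat.card U = 2 ^ (2 * n))
    (Q : Subgroup G) (hQS : Q ≤ S) (eQ : Q ≃* QuaternionGroup 2)
    (h₁ : (Subgroup.centralizer (U : Set G)).relIndex (Subgroup.normalizer (U : Set G)) = 2)
    (R : Subgroup G)
    (hR1 : ∀ a ∈ (S : Subgroup G), ∀ b ∈ (S : Subgroup G), a * b * a⁻¹ * b⁻¹ ∈ R)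
    (hR3 : ∀ Q₁ : Subgroup G, Q₁ ≤ (S : Subgroup G) → (Q₁ ≃* QuaternionGroup 2) → Q₁ ≤ R) :
    (S : Subgroup G) ⊓ commutator G ≤ R := by
  have : Fact (Nat.Prime 2) := ⟨Nat.prime_two⟩
  obtain ⟨Z, hZ⟩ : ∃ Z : Subgroup G,
      Z = (Subgroup.center (S : Subgroup G)).map (S : Subgroup G).subtype := ⟨_, rfl⟩
  have key : ∀ D : Subgroup G, D ≤ (S : Subgroup G) →
      ¬ 2 ∣ ((S : Subgroup G) ⊓ normalizer (D : Set G)).relIndex (normalizer (D : Set G)) →
      ∀ y ∈ normalizer (D : Set G), ∀ d ∈ D, ⁅d, y⁆ ∈ R := by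
    intro D hDS htame y hyN d hd
    have hDp : IsPGroup 2 D := S.2.to_le hDS
    by_cases hbad : BadPair 2 D
    · have hbad₁ := BadPair.sup_centralizer_of_tame S D hDS htame hbad
      have hcen₁ := centralizer_sup_inf_le S D
      obtain ⟨D₁, hD₁⟩ : ∃ D₁ : Subgroup G,
          D₁ = D ⊔ (centralizer (D : Set G) ⊓ (S : Subgroup G)) := ⟨_, rfl⟩
      rw [← hD₁] at hbad₁ hcen₁
      have hD₁S : D₁ ≤ (S : Subgroup G) := hD₁ ▸ sup_le hDS inf_le_right
      have hDD₁ : D ≤ D₁ := hD₁ ▸ le_sup_left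
      obtain ⟨hEp, k, hk, hcop, hkc⟩ := hbad₁
      have hA : ¬ IsPGroup 2 (MulAut D₁) := not_isPGroup_mulAut_of_normalizer D₁ k hk hcop hkc
      rcases wreathed_centric_cases S hS n hn U hUS hUab hUcard Q hQS eQ D₁ hD₁S hcen₁ hA with
        hEU | ⟨s, hsS, hs⟩
      · exfalso
        rw [hEU] at hk hkc
        exact hkc (mem_centralizer_of_relIndex_two U k hk hcop h₁)
      · rw [← hZ] at hs
        have hs' := eq_map_conj_inv_of_map_conj_eq _ _ s hs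
        obtain ⟨hQ₁S, ⟨eQ₁⟩, hmapsup⟩ := quat_conj_data S hS Z hZ Q hQS eQ s⁻¹ (inv_mem hsS)
        rw [hmapsup] at hs'
        obtain ⟨-, -, -, hcomm⟩ := quat_center_normalizer_facts S hS Z hZ _ hQ₁S eQ₁
        obtain ⟨g, hgD, hgR, c, hc, hygc⟩ := exists_mul_of_tame S D htame y hyN
        have hgD₁ : g ∈ normalizer ((D₁ : Subgroup G) : Set G) := by
          rw [hD₁]; exact normalizer_sup_of_mem hgD hgR
        have e : ⁅d, y⁆ = ⁅d, g⁆ := by
          rw [commutatorElement_def, commutatorElement_def, hygc]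
          have hcd : c * d⁻¹ = d⁻¹ * c := (mem_centralizer_iff.mp hc d⁻¹ (inv_mem hd)).symm
          calc d * (g * c) * d⁻¹ * (g * c)⁻¹ = d * g * (c * d⁻¹) * c⁻¹ * g⁻¹ := by group
            _ = d * g * (d⁻¹ * c) * c⁻¹ * g⁻¹ := by rw [hcd]
            _ = d * g * d⁻¹ * g⁻¹ := by group
        rw [e]
        apply hR3 _ hQ₁S eQ₁
        apply hcomm g (by rw [← hs']; exact hgD₁) d
        rw [← hs']
        exact hDD₁ hd
    · obtain ⟨s, hsS, hsN, c, hc, hysc⟩ := exists_mul_of_not_badPair S D hDp htame hbad y hyN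
      have e : ⁅d, y⁆ = d * s * d⁻¹ * s⁻¹ := by
        rw [commutatorElement_def, hysc]
        have hcd : c * d⁻¹ = d⁻¹ * c := (mem_centralizer_iff.mp hc d⁻¹ (inv_mem hd)).symm
        calc d * (s * c) * d⁻¹ * (s * c)⁻¹ = d * s * (c * d⁻¹) * c⁻¹ * s⁻¹ := by group
          _ = d * s * (d⁻¹ * c) * c⁻¹ * s⁻¹ := by rw [hcd]
          _ = d * s * d⁻¹ * s⁻¹ := by group
      rw [e]
      exact hR1 d (hDS hd) s hsS
  rw [Cfsg.Agent.Helper34.inf_commutator_eq_focalLocal S]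
  unfold Cfsg.Agent.Helper34.focalLocal
  refine sup_le ?_ ?_
  · rw [Subgroup.commutator_le]
    intro s hs g hg
    exact key (S : Subgroup G) le_rfl (Cfsg.Agent.Helper34.not_dvd_relIndex_self S) g hg s hs
  · refine iSup_le fun R' => iSup_le fun htame => iSup_le fun x => iSup_le fun hx => ?_
    rw [Subgroup.commutator_le]
    intro d hd y hy
    have hyN : y ∈ normalizer ((((S : Subgroup G) ⊓ (R' : Subgroup G) : Subgroup G)) : Set G) := by
      have : Subgroup.zpowers x ≤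
          normalizer ((((S : Subgroup G) ⊓ (R' : Subgroup G) : Subgroup G)) : Set G) := by
        rw [Subgroup.zpowers_le]; exact hx.1
      exact this hy
    exact key _ inf_le_left htame.1 y hyN d hd

end Cfsg.Agent.Helper99
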