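import Mathlib
import Cfsg.Agent.Helper99.WreathedQFus

set_option autoImplicit false

namespace Cfsg.Agent.Helper99

open Subgroup
open scoped commutatorElement

variable {G : Type*} [Group G]

/-- an element of odd order of `N(Q Z)` moving all cyclic subgroups of order four of `Q` -/
theorem exists_odd_moving [Finite G] (S : Sylow 2 G)
    (hS : Cfsg.IsWreathed (S : Subgroup G)) (Z : Subgroup G)
    (hZ : Z = (Subgroup.center (S : Subgroup G)).map (S : Subgroup G).subtype)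
    (Q : Subgroup G) (hQS : Q ≤ S) (eQ : Q ≃* QuaternionGroup 2)
    (h₂ : ((Q ⊔ Z) ⊔ centralizer ((Q ⊔ Z : Subgroup G) : Set G)).relIndex
      (normalizer ((Q ⊔ Z : Subgroup G) : Set G)) = 6) :
    ∃ g ∈ normalizer ((Q ⊔ Z : Subgroup G) : Set G), Odd (orderOf g) ∧
      g ∈ normalizer (Q : Set G) ∧ g ∈ centralizer (Z : Set G) ∧
      ∀ i ∈ Q, i * i ≠ 1 → g * i * g⁻¹ ≠ i ∧ g * i * g⁻¹ ≠ i⁻¹ := by
  obtain ⟨hNQ, hNcZ, hCiff, -⟩ := quat_center_normalizer_facts S hS Z hZ Q hQS eQ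
  obtain ⟨H1, -, -, -, -⟩ := wreathed_center_facts S hS
  rw [← hZ] at H1
  have h3V : 3 ∣ ((Q ⊔ Z) ⊔ centralizer ((Q ⊔ Z : Subgroup G) : Set G)).relIndex
      (normalizer ((Q ⊔ Z : Subgroup G) : Set G)) := by
    rw [h₂]; norm_num
  have : Fact (Nat.Prime 3) := ⟨Nat.prime_three⟩
  obtain ⟨g', hg'N, hg'M, hg'3⟩ :=
    Cfsg.Agent.Helper20.exists_pow_mem_of_prime_dvd_relIndex _ _ h3V
  obtain ⟨a, m, hm, hom⟩ := Nat.exists_eq_two_pow_mul_odd (orderOf_pos g').ne'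
  obtain ⟨g, hgdef⟩ : ∃ g : G, g = g' ^ (2 ^ a) := ⟨_, rfl⟩
  have hgN : g ∈ normalizer ((Q ⊔ Z : Subgroup G) : Set G) := hgdef ▸ pow_mem hg'N _
  have hg3 : g ^ 3 ∈ (Q ⊔ Z) ⊔ centralizer ((Q ⊔ Z : Subgroup G) : Set G) := by
    rw [hgdef, ← pow_mul, mul_comm, pow_mul]
    exact pow_mem hg'3 _
  have hgM : g ∉ (Q ⊔ Z) ⊔ centralizer ((Q ⊔ Z : Subgroup G) : Set G) := by
    intro hc
    apply hg'M
    have h4 : 4 ^ a % 3 = 1 := by
      rw [Nat.pow_mod]; norm_num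
    have h5 : 4 ^ a = 3 * (4 ^ a / 3) + 1 := by
      have := Nat.div_add_mod (4 ^ a) 3
      omega
    have e1 : g ^ (2 ^ a) = g' ^ (4 ^ a) := by
      rw [hgdef, ← pow_mul, ← mul_pow]
      norm_num
    have h6 : g ^ (2 ^ a) = (g' ^ 3) ^ (4 ^ a / 3) * g' := by
      rw [e1, ← pow_mul, ← pow_succ, ← h5]
    have h7 : g' = ((g' ^ 3) ^ (4 ^ a / 3))⁻¹ * g ^ (2 ^ a) := by rw [h6]; group
    rw [h7]
    exact mul_mem (inv_mem (pow_mem hg'3 _)) (pow_mem hc _)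
  have hgodd : Odd (orderOf g) := by
    have h1 : g ^ m = 1 := by
      rw [hgdef, ← pow_mul, ← hom, pow_orderOf_eq_one]
    exact Odd.of_dvd_nat hm (orderOf_dvd_of_pow_eq_one h1)
  have hQV : Q ≤ Q ⊔ Z := le_sup_left
  have hZcQ : Z ≤ centralizer (Q : Set G) := fun ζ hζ =>
    mem_centralizer_iff.mpr (fun q hq => H1 ζ hζ q (hQS hq))
  have hMle : (Q ⊔ Z) ⊔ centralizer ((Q ⊔ Z : Subgroup G) : Set G) ≤
      Q ⊔ centralizer (Q : Set G) :=
    sup_le (sup_le le_sup_left (hZcQ.trans le_sup_right))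
      ((centralizer_le (SetLike.coe_subset_coe.mpr hQV)).trans le_sup_right)
  have hgQ3 : g ^ 3 ∈ Q ⊔ centralizer (Q : Set G) := hMle hg3
  have hgQM : g ∉ Q ⊔ centralizer (Q : Set G) := by
    intro hc
    rw [← SetLike.mem_coe,
      coe_mul_of_left_le_normalizer_right _ _
        (Cfsg.Agent.Helper20.le_normalizer_centralizer_self Q)] at hc
    obtain ⟨q, hq, c, hc', hqc⟩ := hc
    have hcN : c ∈ normalizer ((Q ⊔ Z : Subgroup G) : Set G) := by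
      have : c = q⁻¹ * g := by rw [← hqc]; group
      rw [this]
      exact mul_mem (inv_mem (le_normalizer (hQV hq))) hgN
    have hcV : c ∈ centralizer ((Q ⊔ Z : Subgroup G) : Set G) := (hCiff c hcN).mpr hc'
    apply hgM
    rw [← hqc]
    exact mul_mem (mem_sup_left (hQV hq)) (mem_sup_right hcV)
  refine ⟨g, hgN, hgodd, hNQ hgN, hNcZ hgN, ?_⟩
  intro i hi hi2
  exact Cfsg.Agent.Helper20.quat_normalizer_moves Q eQ (hNQ hgN) hgQ3 hgQM hi hi2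

/-- an element of `Q ∩ G'` outside `U` -/
theorem exists_commutator_not_mem_abel [Finite G] (S : Sylow 2 G)
    (hS : Cfsg.IsWreathed (S : Subgroup G)) (n : ℕ)
    (hn : Nat.card (S : Subgroup G) = 2 ^ (2 * n + 1))
    (U : Subgroup G) (hUS : U ≤ S) (hUab : IsMulCommutative U) (hUcard : Nat.card U = 2 ^ (2 * n))
    (Z : Subgroup G)
    (hZ : Z = (Subgroup.center (S : Subgroup G)).map (S : Subgroup G).subtype)
    (Q : Subgroup G) (hQS : Q ≤ S) (eQ : Q ≃* QuaternionGroup 2)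
    (h₂ : ((Q ⊔ Z) ⊔ centralizer ((Q ⊔ Z : Subgroup G) : Set G)).relIndex
      (normalizer ((Q ⊔ Z : Subgroup G) : Set G)) = 6) :
    ∃ x ∈ Q, x ∈ commutator G ∧ x ∉ U := by
  have hidx := wreathed_relIndex_abel S n hn U hUS hUcard
  have hUcomm : ∀ a ∈ U, ∀ b ∈ U, a * b = b * a := fun a ha b hb =>
    congrArg Subtype.val (hUab.is_comm.comm (⟨a, ha⟩ : U) ⟨b, hb⟩)
  obtain ⟨g, hgN, -, hgQ, -, hmoves⟩ := exists_odd_moving S hS Z hZ Q hQS eQ h₂
  have hidxQ : ∀ a ∈ Q, ∀ b ∈ Q, a ∉ U → b ∉ U → a * b ∈ U := by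
    intro a ha b hb haU hbU
    rw [mul_mem_iff_of_relIndex_two _ U hidx (hQS ha) (hQS hb)]
    exact iff_of_false haU hbU
  obtain ⟨i, hiQ, hiU, hi2, hiuniq⟩ :=
    Cfsg.Agent.Helper20.exists_order_four_inter Q eQ U hUcomm hidxQ
  obtain ⟨hmv1, hmv2⟩ := hmoves i hiQ hi2
  have hgiQ : g * i * g⁻¹ ∈ Q := (mem_normalizer_iff.mp hgQ i).mp hiQ
  have hgi2 : (g * i * g⁻¹) * (g * i * g⁻¹) ≠ 1 := by
    intro hc
    apply hi2
    have : g * (i * i) * g⁻¹ = 1 := by rw [← hc]; group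
    exact Cfsg.Agent.Helper20.conj_eq_one_imp this
  have hgiU : g * i * g⁻¹ ∉ U := fun hc => by
    rcases hiuniq _ hgiQ hc hgi2 with h' | h'
    · exact hmv1 h'
    · exact hmv2 h'
  refine ⟨g * i * g⁻¹ * i⁻¹, mul_mem hgiQ (inv_mem hiQ), ?_, ?_⟩
  · exact Cfsg.Agent.Helper20.conj_mul_inv_mem_commutator g i
  · intro hc
    apply hgiU
    have : g * i * g⁻¹ = (g * i * g⁻¹ * i⁻¹) * i := by group
    rw [this]
    exact mul_mem hc hiU

/-- lower bound for the focal subgroup in the quaternion case -/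
theorem wreathed_quat_le_focal [Finite G] (S : Sylow 2 G)
    (hS : Cfsg.IsWreathed (S : Subgroup G)) (n : ℕ)
    (hn : Nat.card (S : Subgroup G) = 2 ^ (2 * n + 1))
    (U : Subgroup G) (hUS : U ≤ S) (hUab : IsMulCommutative U) (hUcard : Nat.card U = 2 ^ (2 * n))
    (Z : Subgroup G)
    (hZ : Z = (Subgroup.center (S : Subgroup G)).map (S : Subgroup G).subtype)
    (Q : Subgroup G) (hQS : Q ≤ S) (eQ : Q ≃* QuaternionGroup 2)
    (h₂ : ((Q ⊔ Z) ⊔ centralizer ((Q ⊔ Z : Subgroup G) : Set G)).relIndex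
      (normalizer ((Q ⊔ Z : Subgroup G) : Set G)) = 6)
    (R : Subgroup G) (hRS : R ≤ (S : Subgroup G))
    (hR3 : ∀ Q₁ : Subgroup G, Q₁ ≤ (S : Subgroup G) → (Q₁ ≃* QuaternionGroup 2) → Q₁ ≤ R)
    (hR4 : ∀ y ∈ R, y ∈ U → ∀ x ∈ (S : Subgroup G), x ∉ U →
        ∃ s ∈ (S : Subgroup G), y = s * x * s⁻¹ * x⁻¹) :
    R ≤ (S : Subgroup G) ⊓ commutator G := by
  have hidx := wreathed_relIndex_abel S n hn U hUS hUcard
  obtain ⟨x, hxQ, hxG', hxU⟩ :=
    exists_commutator_not_mem_abel S hS n hn U hUS hUab hUcard Z hZ Q hQS eQ h₂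
  have hxR : x ∈ R := hR3 Q hQS eQ hxQ
  have key : ∀ y ∈ R, y ∈ U → y ∈ commutator G := by
    intro y hyR hyU
    obtain ⟨s, -, hy⟩ := hR4 y hyR hyU x (hQS hxQ) hxU
    rw [hy]
    exact Cfsg.Agent.Helper20.conj_mul_inv_mem_commutator s x
  intro y hyR
  refine ⟨hRS hyR, ?_⟩
  by_cases hyU : y ∈ U
  · exact key y hyR hyU
  · have h1 : y * x⁻¹ ∈ U := by
      rw [mul_mem_iff_of_relIndex_two _ U hidx (hRS hyR) (inv_mem (hQS hxQ)), inv_mem_iff]
      exact iff_of_false hyU hxU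
    have h2 := key _ (mul_mem hyR (inv_mem hxR)) h1
    have : y = (y * x⁻¹) * x := by group
    rw [this]
    exact mul_mem h2 hxG'

end Cfsg.Agent.Helper99
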