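import Mathlib
import Cfsg.Agent.Helper99.WreathedQFus2
import Cfsg.Agent.Helper53.NormalComplement

set_option autoImplicit false

namespace Cfsg.Agent.Helper99

open Subgroup
open scoped commutatorElement

theorem quat8_mul_sq : ∀ p q : QuaternionGroup 2, p * p ≠ 1 → q * q ≠ 1 → q ≠ p → q ≠ p⁻¹ →
    (p * q) * (p * q) ≠ 1 := by decide

theorem quat8_words : ∀ p q r : QuaternionGroup 2, p * p ≠ 1 → q * q ≠ 1 → q ≠ p → q ≠ p⁻¹ →
    r = 1 ∨ r = p ∨ r = p * p ∨ r = p * p * p ∨ r = q ∨ r = p * q ∨ r = p * p * q ∨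
      r = p * p * p * q := by
  decide

variable {G : Type*} [Group G]

section transportQ8
variable (Q₁ : Subgroup G) (eQ₁ : Q₁ ≃* QuaternionGroup 2)
include eQ₁

theorem quat8_sub_sq_ne {p : G} (hp : p ∈ Q₁) : p * p ≠ 1 ↔ eQ₁ ⟨p, hp⟩ * eQ₁ ⟨p, hp⟩ ≠ 1 := by
  rw [← map_mul, Ne, Ne, ← map_one eQ₁, eQ₁.injective.eq_iff, Subtype.ext_iff]
  rfl

theorem quat8_sub_mul_sq {p q : G} (hp : p ∈ Q₁) (hq : q ∈ Q₁) (hp2 : p * p ≠ 1) (hq2 : q * q ≠ 1)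
    (hqp : q ≠ p) (hqp' : q ≠ p⁻¹) : (p * q) * (p * q) ≠ 1 := by
  have h := quat8_mul_sq (eQ₁ ⟨p, hp⟩) (eQ₁ ⟨q, hq⟩) ((quat8_sub_sq_ne Q₁ eQ₁ hp).mp hp2)
    ((quat8_sub_sq_ne Q₁ eQ₁ hq).mp hq2)
    (fun h => hqp (congrArg Subtype.val (eQ₁.injective h)))
    (fun h => hqp' (by
      rw [← map_inv] at h
      exact congrArg Subtype.val (eQ₁.injective h)))
  rw [← map_mul] at h
  exact (quat8_sub_sq_ne Q₁ eQ₁ (mul_mem hp hq)).mpr h

theorem quat8_sub_generate {p q : G} (hp : p ∈ Q₁) (hq : q ∈ Q₁) (hp2 : p * p ≠ 1) (hq2 : q * q ≠ 1)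
    (hqp : q ≠ p) (hqp' : q ≠ p⁻¹) (H' : Subgroup G) (hpH : p ∈ H') (hqH : q ∈ H') : Q₁ ≤ H' := by
  intro r hr
  have h := quat8_words (eQ₁ ⟨p, hp⟩) (eQ₁ ⟨q, hq⟩) (eQ₁ ⟨r, hr⟩)
    ((quat8_sub_sq_ne Q₁ eQ₁ hp).mp hp2) ((quat8_sub_sq_ne Q₁ eQ₁ hq).mp hq2)
    (fun h => hqp (congrArg Subtype.val (eQ₁.injective h)))
    (fun h => hqp' (by
      rw [← map_inv] at h
      exact congrArg Subtype.val (eQ₁.injective h)))
  simp only [← map_mul, ← map_one eQ₁, eQ₁.injective.eq_iff, Subtype.ext_iff, Subgroup.coe_mul,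
    Subgroup.coe_one] at h
  rcases h with h | h | h | h | h | h | h | h <;> rw [h]
  · exact one_mem _
  · exact hpH
  · exact mul_mem hpH hpH
  · exact mul_mem (mul_mem hpH hpH) hpH
  · exact hqH
  · exact mul_mem hpH hqH
  · exact mul_mem (mul_mem hpH hpH) hqH
  · exact mul_mem (mul_mem (mul_mem hpH hpH) hpH) hqH

/-- a quaternion subgroup with a suitable element of `K` acting on it lies in every subgroup of
index two of `K` -/
theorem quat8_le_of_index_two (K H' : Subgroup G)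
    (hidx : ∀ a ∈ K, ∀ b ∈ K, a ∉ H' → b ∉ H' → a * b ∈ H')
    (hQ₁K : Q₁ ≤ K) (g : G) (hgQ : g ∈ normalizer (Q₁ : Set G))
    (hgH : ∀ x ∈ K, x ∈ H' ↔ g * x * g⁻¹ ∈ H')
    (hmoves : ∀ i ∈ Q₁, i * i ≠ 1 → g * i * g⁻¹ ≠ i ∧ g * i * g⁻¹ ≠ i⁻¹) : Q₁ ≤ H' := by
  have hconj2 : ∀ i : G, i * i ≠ 1 → (g * i * g⁻¹) * (g * i * g⁻¹) ≠ 1 := by
    intro i hi2 hc
    apply hi2
    have : g * (i * i) * g⁻¹ = 1 := by rw [← hc]; group
    exact Cfsg.Agent.Helper20.conj_eq_one_imp this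
  have key : ∀ p ∈ Q₁, p * p ≠ 1 → p ∈ H' → Q₁ ≤ H' := by
    intro p hp hp2 hpH
    obtain ⟨hm1, hm2⟩ := hmoves p hp hp2
    exact quat8_sub_generate Q₁ eQ₁ hp ((mem_normalizer_iff.mp hgQ p).mp hp) hp2 (hconj2 p hp2)
      hm1 hm2 H' hpH ((hgH p (hQ₁K hp)).mp hpH)
  obtain ⟨c, i, -, hiQ, hc1, -, -, hii, -, -⟩ := Cfsg.Agent.Helper20.exists_q8_data Q₁ eQ₁
  have hi2 : i * i ≠ 1 := by rw [hii]; exact hc1
  by_cases hiH : i ∈ H'
  · exact key i hiQ hi2 hiH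
  · obtain ⟨hm1, hm2⟩ := hmoves i hiQ hi2
    have hjQ : g * i * g⁻¹ ∈ Q₁ := (mem_normalizer_iff.mp hgQ i).mp hiQ
    have hjH : g * i * g⁻¹ ∉ H' := fun h => hiH ((hgH i (hQ₁K hiQ)).mpr h)
    have hpH : i * (g * i * g⁻¹) ∈ H' := hidx _ (hQ₁K hiQ) _ (hQ₁K hjQ) hiH hjH
    exact key _ (mul_mem hiQ hjQ)
      (quat8_sub_mul_sq Q₁ eQ₁ hiQ hjQ hi2 (hconj2 i hi2) hm1 hm2) hpH

end transportQ8

/-- the kernel of the transfer into `S / (S ∩ G')` -/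
theorem exists_normal_of_focal_eq [Finite G] (S : Sylow 2 G) (R : Subgroup G)
    (hfoc : (S : Subgroup G) ⊓ commutator G = R) :
    ∃ K : Subgroup G, K.Normal ∧ K.index = R.relIndex (S : Subgroup G) ∧
      K ⊓ (S : Subgroup G) = R ∧ ∀ g : G, Odd (orderOf g) → g ∈ K := by
  have : Fact (Nat.Prime 2) := ⟨Nat.prime_two⟩
  have hfoc' : (S : Subgroup G).focalSubgroup = R := by
    rw [← Subgroup.commutator_inf_eq_focalSubgroup S, inf_comm]; exact hfoc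
  have hV : Function.Surjective (S : Subgroup G).transferFocal := Subgroup.transferFocal_surjective S
  refine ⟨(S : Subgroup G).transferFocal.ker, inferInstance, ?_, ?_, ?_⟩
  · rw [Subgroup.index_ker, MonoidHom.range_eq_top.mpr hV, Subgroup.card_top,
      ← Subgroup.index_eq_card, Subgroup.focalSubgroupOf_def, hfoc']
    rfl
  · rw [Subgroup.ker_transferFocal_inf_eq_focalSubgroup S, hfoc']
  · intro g hg
    rw [MonoidHom.mem_ker]
    have hQ : IsPGroup 2 (↥(S : Subgroup G) ⧸ (S : Subgroup G).focalSubgroupOf) :=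
      S.2.to_quotient _
    obtain ⟨j, hj⟩ := hQ ((S : Subgroup G).transferFocal g)
    have h1 : ((S : Subgroup G).transferFocal g) ^ (orderOf g) = 1 := by
      rw [← map_pow, pow_orderOf_eq_one, map_one]
    have hco : Nat.Coprime (orderOf g) (2 ^ j) := by
      apply Nat.Coprime.pow_right
      exact (Nat.coprime_two_right.mpr hg)
    have h2 : orderOf ((S : Subgroup G).transferFocal g) = 1 :=
      Nat.eq_one_of_dvd_coprimes hco (orderOf_dvd_of_pow_eq_one h1) (orderOf_dvd_of_pow_eq_one hj)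
    exact orderOf_eq_one_iff.mp h2

/-- Sylow `2`-subgroups of a normal subgroup `K` are isomorphic to `K ∩ S` -/
theorem sylow_equiv_inf_of_normal [Finite G] (S : Sylow 2 G) (K : Subgroup G) [K.Normal]
    (P : Sylow 2 ↥K) : Nonempty ((P : Subgroup ↥K) ≃* (K ⊓ (S : Subgroup G) : Subgroup G)) := by
  have : Fact (Nat.Prime 2) := ⟨Nat.prime_two⟩
  have e1 : (P : Subgroup ↥K) ≃* ((Cfsg.Agent.Helper53.sylowInfNormal S K : Sylow 2 ↥K) :
      Subgroup ↥K) := Sylow.equiv P _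
  have h2 : ((Cfsg.Agent.Helper53.sylowInfNormal S K : Sylow 2 ↥K) : Subgroup ↥K) =
      (K ⊓ (S : Subgroup G)).subgroupOf K := by
    rw [Cfsg.Agent.Helper53.coe_sylowInfNormal, inf_comm, Subgroup.inf_subgroupOf_right]
  exact ⟨(e1.trans (MulEquiv.subgroupCongr h2)).trans
    (Subgroup.subgroupOfEquivOfLe (inf_le_left : K ⊓ (S : Subgroup G) ≤ K))⟩

end Cfsg.Agent.Helper99
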