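import Mathlib
import Cfsg.Agent.Helper99.WreathedQK

set_option autoImplicit false

namespace Cfsg.Agent.Helper99

open Subgroup
open scoped commutatorElement

variable {G : Type*} [Group G]

/-- in the quaternion case the normal subgroup `K` with `K ∩ S = R` has no subgroup of index two -/
theorem wreathed_quat_no_index_two [Finite G] (S : Sylow 2 G)
    (hS : Cfsg.IsWreathed (S : Subgroup G)) (n : ℕ)
    (hn : Nat.card (S : Subgroup G) = 2 ^ (2 * n + 1))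
    (U : Subgroup G) (hUS : U ≤ S) (hUab : IsMulCommutative U) (hUcard : Nat.card U = 2 ^ (2 * n))
    (Z : Subgroup G)
    (hZ : Z = (Subgroup.center (S : Subgroup G)).map (S : Subgroup G).subtype)
    (Q : Subgroup G) (hQS : Q ≤ S) (eQ : Q ≃* QuaternionGroup 2)
    (h₂ : ((Q ⊔ Z) ⊔ centralizer ((Q ⊔ Z : Subgroup G) : Set G)).relIndex
      (normalizer ((Q ⊔ Z : Subgroup G) : Set G)) = 6)
    (R : Subgroup G) (hRS : R ≤ (S : Subgroup G))
    (hR3 : ∀ Q₁ : Subgroup G, Q₁ ≤ (S : Subgroup G) → (Q₁ ≃* QuaternionGroup 2) → Q₁ ≤ R)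
    (hR4 : ∀ y ∈ R, y ∈ U → ∀ x ∈ (S : Subgroup G), x ∉ U →
        ∃ s ∈ (S : Subgroup G), y = s * x * s⁻¹ * x⁻¹)
    (K : Subgroup G) (hKn : K.Normal) (hKS : K ⊓ (S : Subgroup G) = R)
    (hoddK : ∀ g : G, Odd (orderOf g) → g ∈ K) :
    ∀ H : Subgroup ↥K, H.index ≠ 2 := by
  have : Fact (Nat.Prime 2) := ⟨Nat.prime_two⟩
  intro H hH
  have hHn : H.Normal := Subgroup.normal_of_index_eq_two hH
  have hidxU := wreathed_relIndex_abel S n hn U hUS hUcard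
  obtain ⟨H', hH'⟩ : ∃ H' : Subgroup G, H' = H.map K.subtype := ⟨_, rfl⟩
  have hmemH' : ∀ (x : G) (hx : x ∈ K), x ∈ H' ↔ (⟨x, hx⟩ : K) ∈ H := by
    intro x hx
    rw [hH']
    constructor
    · rintro ⟨y, hy, hyx⟩
      have : y = ⟨x, hx⟩ := Subtype.ext hyx
      rwa [← this]
    · intro h
      exact ⟨⟨x, hx⟩, h, rfl⟩
  have hidx : ∀ a ∈ K, ∀ b ∈ K, a ∉ H' → b ∉ H' → a * b ∈ H' := by
    intro a ha b hb haH hbH
    rw [hmemH' _ (mul_mem ha hb)]
    have := (Subgroup.mul_mem_iff_of_index_two hH (a := ⟨a, ha⟩) (b := ⟨b, hb⟩)).mpr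
      (iff_of_false (fun h => haH ((hmemH' a ha).mpr h)) (fun h => hbH ((hmemH' b hb).mpr h)))
    exact this
  have hconjH : ∀ g ∈ K, ∀ x ∈ K, x ∈ H' ↔ g * x * g⁻¹ ∈ H' := by
    intro g hg x hx
    rw [hmemH' x hx, hmemH' _ (mul_mem (mul_mem hg hx) (inv_mem hg))]
    constructor
    · intro h
      exact hHn.conj_mem _ h ⟨g, hg⟩
    · intro h
      have := hHn.conj_mem _ h (⟨g, hg⟩ : K)⁻¹
      have e : (⟨g, hg⟩ : K)⁻¹ * ⟨g * x * g⁻¹, mul_mem (mul_mem hg hx) (inv_mem hg)⟩ *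
          (⟨g, hg⟩ : K)⁻¹⁻¹ = ⟨x, hx⟩ := by
        apply Subtype.ext
        simp only [Subgroup.coe_mul, Subgroup.coe_inv]
        group
      rwa [e] at this
  obtain ⟨g, hgN, hgodd, hgQ, -, hmoves⟩ := exists_odd_moving S hS Z hZ Q hQS eQ h₂
  have hRK : R ≤ K := hKS ▸ inf_le_left
  have step1 : ∀ s ∈ (S : Subgroup G), Q.map (MulAut.conj s).toMonoidHom ≤ H' := by
    intro s hs
    obtain ⟨hQ₁S, ⟨eQ₁⟩, -⟩ := quat_conj_data S hS Z hZ Q hQS eQ s hs
    have hgsK : s * g * s⁻¹ ∈ K := by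
      apply hoddK
      have : s * g * s⁻¹ = MulAut.conj s g := rfl
      rw [this, MulEquiv.orderOf_eq]
      exact hgodd
    apply quat8_le_of_index_two _ eQ₁ K H' hidx ((hR3 _ hQ₁S eQ₁).trans hRK) (s * g * s⁻¹)
      (conj_mem_normalizer_map Q s g hgQ) (hconjH _ hgsK)
    rintro _ ⟨i, hi, rfl⟩ hi2
    have hi2' : i * i ≠ 1 := by
      intro hc
      apply hi2
      show s * i * s⁻¹ * (s * i * s⁻¹) = 1
      calc s * i * s⁻¹ * (s * i * s⁻¹) = s * (i * i) * s⁻¹ := by group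
        _ = 1 := by rw [hc]; group
    obtain ⟨hm1, hm2⟩ := hmoves i hi hi2'
    have e : s * g * s⁻¹ * (s * i * s⁻¹) * (s * g * s⁻¹)⁻¹ = s * (g * i * g⁻¹) * s⁻¹ := by group
    constructor
    · show s * g * s⁻¹ * (s * i * s⁻¹) * (s * g * s⁻¹)⁻¹ ≠ s * i * s⁻¹
      rw [e]
      intro hc
      exact hm1 (mul_left_cancel (mul_right_cancel hc))
    · show s * g * s⁻¹ * (s * i * s⁻¹) * (s * g * s⁻¹)⁻¹ ≠ (s * i * s⁻¹)⁻¹
      rw [e]
      intro hc
      apply hm2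
      have e2 : (s * i * s⁻¹)⁻¹ = s * i⁻¹ * s⁻¹ := by group
      rw [e2] at hc
      exact mul_left_cancel (mul_right_cancel hc)
  obtain ⟨x, hxQ, -, hxU⟩ :=
    exists_commutator_not_mem_abel S hS n hn U hUS hUab hUcard Z hZ Q hQS eQ h₂
  have hQH' : Q ≤ H' := by
    have := step1 1 (one_mem _)
    intro q hq
    apply this
    exact ⟨q, hq, by simp⟩
  have hxR : x ∈ R := hR3 Q hQS eQ hxQ
  have key : ∀ y ∈ R, y ∈ U → y ∈ H' := by
    intro y hyR hyU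
    obtain ⟨s, hsS, hy⟩ := hR4 y hyR hyU x (hQS hxQ) hxU
    rw [hy]
    exact mul_mem (step1 s hsS ⟨x, hxQ, rfl⟩) (inv_mem (hQH' hxQ))
  have hRH' : R ≤ H' := by
    intro y hyR
    by_cases hyU : y ∈ U
    · exact key y hyR hyU
    · have h1 : y * x⁻¹ ∈ U := by
        rw [mul_mem_iff_of_relIndex_two _ U hidxU (hRS hyR) (inv_mem (hQS hxQ)), inv_mem_iff]
        exact iff_of_false hyU hxU
      have h2 := key _ (mul_mem hyR (inv_mem hxR)) h1
      have : y = (y * x⁻¹) * x := by group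
      rw [this]
      exact mul_mem h2 (hQH' hxQ)
  have hle : (S : Subgroup G).subgroupOf K ≤ H := by
    intro y hy
    rw [mem_subgroupOf] at hy
    have h1 : (y : G) ∈ R := by rw [← hKS]; exact ⟨y.2, hy⟩
    exact (hmemH' _ y.2).mp (hRH' h1)
  have h1 : H.index ∣ ((S : Subgroup G).subgroupOf K).index := Subgroup.index_dvd_of_le hle
  rw [hH] at h1
  exact Cfsg.Agent.Helper53.not_dvd_relIndex_sylow_of_normal S K h1

end Cfsg.Agent.Helper99
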