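import Mathlib
import Cfsg.Agent.Helper99.WreathedQK2
import Cfsg.Agent.Helper99.AlperinFix

set_option autoImplicit false

namespace Cfsg.Agent.Helper99

open Subgroup
open scoped commutatorElement

variable {G : Type*} [Group G]

/-- in the quaternion case, the normalizer of a tame `D ≤ S` centralizes `D ∩ Z(S)` -/
theorem wreathed_quat_fix_center [Finite G] (S : Sylow 2 G)
    (hS : Cfsg.IsWreathed (S : Subgroup G)) (n : ℕ)
    (hn : Nat.card (S : Subgroup G) = 2 ^ (2 * n + 1))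
    (U : Subgroup G) (hUS : U ≤ S) (hUab : IsMulCommutative U) (hUcard : Nat.card U = 2 ^ (2 * n))
    (Q : Subgroup G) (hQS : Q ≤ S) (eQ : Q ≃* QuaternionGroup 2)
    (h₁ : (Subgroup.centralizer (U : Set G)).relIndex (Subgroup.normalizer (U : Set G)) = 2)
    (Z : Subgroup G)
    (hZ : Z = (Subgroup.center (S : Subgroup G)).map (S : Subgroup G).subtype)
    (D : Subgroup G) (hDS : D ≤ (S : Subgroup G))
    (htame : ¬ 2 ∣ ((S : Subgroup G) ⊓ normalizer (D : Set G)).relIndex (normalizer (D : Set G)))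
    (y : G) (hyN : y ∈ normalizer (D : Set G)) (ζ : G) (hζD : ζ ∈ D) (hζZ : ζ ∈ Z) :
    y * ζ * y⁻¹ = ζ := by
  have : Fact (Nat.Prime 2) := ⟨Nat.prime_two⟩
  obtain ⟨H1, -, -, -, -⟩ := wreathed_center_facts S hS
  rw [← hZ] at H1
  have hDp : IsPGroup 2 D := S.2.to_le hDS
  have fin : ∀ g c : G, y = g * c → c ∈ centralizer (D : Set G) → g * ζ = ζ * g →
      y * ζ * y⁻¹ = ζ := by
    intro g c hy hc hg
    have hcζ : ζ * c = c * ζ := mem_centralizer_iff.mp hc ζ hζD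
    rw [hy]
    calc g * c * ζ * (g * c)⁻¹ = g * (c * ζ) * c⁻¹ * g⁻¹ := by group
      _ = g * (ζ * c) * c⁻¹ * g⁻¹ := by rw [hcζ]
      _ = (g * ζ) * g⁻¹ := by group
      _ = ζ := by rw [hg]; group
  by_cases hbad : BadPair 2 D
  · have hbad₁ := BadPair.sup_centralizer_of_tame S D hDS htame hbad
    have hcen₁ := centralizer_sup_inf_le S D
    obtain ⟨D₁, hD₁⟩ : ∃ D₁ : Subgroup G,
        D₁ = D ⊔ (centralizer (D : Set G) ⊓ (S : Subgroup G)) := ⟨_, rfl⟩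
    rw [← hD₁] at hbad₁ hcen₁
    have hD₁S : D₁ ≤ (S : Subgroup G) := hD₁ ▸ sup_le hDS inf_le_right
    obtain ⟨hEp, k, hk, hcop, hkc⟩ := hbad₁
    have hA : ¬ IsPGroup 2 (MulAut D₁) := not_isPGroup_mulAut_of_normalizer D₁ k hk hcop hkc
    rcases wreathed_centric_cases S hS n hn U hUS hUab hUcard Q hQS eQ D₁ hD₁S hcen₁ hA with
      hEU | ⟨s, hsS, hs⟩
    · exfalso
      rw [hEU] at hk hkc
      exact hkc (mem_centralizer_of_relIndex_two U k hk hcop h₁)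
    · rw [← hZ] at hs
      have hs' := eq_map_conj_inv_of_map_conj_eq _ _ s hs
      obtain ⟨hQ₁S, ⟨eQ₁⟩, hmapsup⟩ := quat_conj_data S hS Z hZ Q hQS eQ s⁻¹ (inv_mem hsS)
      rw [hmapsup] at hs'
      obtain ⟨-, hNcZ, -, -⟩ := quat_center_normalizer_facts S hS Z hZ _ hQ₁S eQ₁
      obtain ⟨g, hgD, hgR, c, hc, hygc⟩ := exists_mul_of_tame S D htame y hyN
      have hgD₁ : g ∈ normalizer ((D₁ : Subgroup G) : Set G) := by
        rw [hD₁]; exact normalizer_sup_of_mem hgD hgR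
      rw [hs'] at hgD₁
      exact fin g c hygc hc (mem_centralizer_iff.mp (hNcZ hgD₁) ζ hζZ).symm
  · obtain ⟨s, hsS, hsN, c, hc, hysc⟩ := exists_mul_of_not_badPair S D hDp htame hbad y hyN
    exact fin s c hysc hc (H1 ζ hζZ s hsS)

/-- in the quaternion case, elements of `Z(S)` have no other conjugates in `S` -/
theorem wreathed_quat_center_fixed [Finite G] (S : Sylow 2 G)
    (hS : Cfsg.IsWreathed (S : Subgroup G)) (n : ℕ)
    (hn : Nat.card (S : Subgroup G) = 2 ^ (2 * n + 1))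
    (U : Subgroup G) (hUS : U ≤ S) (hUab : IsMulCommutative U) (hUcard : Nat.card U = 2 ^ (2 * n))
    (Q : Subgroup G) (hQS : Q ≤ S) (eQ : Q ≃* QuaternionGroup 2)
    (h₁ : (Subgroup.centralizer (U : Set G)).relIndex (Subgroup.normalizer (U : Set G)) = 2)
    (Z : Subgroup G)
    (hZ : Z = (Subgroup.center (S : Subgroup G)).map (S : Subgroup G).subtype)
    (ζ : G) (hζZ : ζ ∈ Z) (g : G) (hg : g * ζ * g⁻¹ ∈ (S : Subgroup G)) : g * ζ * g⁻¹ = ζ := by
  have : Fact (Nat.Prime 2) := ⟨Nat.prime_two⟩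
  have hZS : Z ≤ S := by rw [hZ]; exact Subgroup.map_subtype_le _
  have h := alperin_fixed_of_steps S ζ (hZS hζZ) (fun Q' x hstep hζ => by
    obtain ⟨hxN, ht1, -, -⟩ := hstep
    have := wreathed_quat_fix_center S hS n hn U hUS hUab hUcard Q hQS eQ h₁ Z hZ _ inf_le_left ht1
      x⁻¹ (inv_mem hxN) ζ hζ hζZ
    rwa [inv_inv] at this) g⁻¹ (by rwa [inv_inv])
  rwa [inv_inv] at h

/-- weak closure of the subgroups of `Z(S)` -/
theorem wreathed_quat_weaklyClosed [Finite G] (S : Sylow 2 G)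
    (hS : Cfsg.IsWreathed (S : Subgroup G)) (n : ℕ)
    (hn : Nat.card (S : Subgroup G) = 2 ^ (2 * n + 1))
    (U : Subgroup G) (hUS : U ≤ S) (hUab : IsMulCommutative U) (hUcard : Nat.card U = 2 ^ (2 * n))
    (Q : Subgroup G) (hQS : Q ≤ S) (eQ : Q ≃* QuaternionGroup 2)
    (h₁ : (Subgroup.centralizer (U : Set G)).relIndex (Subgroup.normalizer (U : Set G)) = 2)
    (Z₀ : Subgroup G)
    (hZ₀ : Z₀ ≤ (Subgroup.center (S : Subgroup G)).map (S : Subgroup G).subtype) :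
    Cfsg.IsWeaklyClosed Z₀ (S : Subgroup G) := by
  refine ⟨hZ₀.trans (Subgroup.map_subtype_le _), ?_⟩
  intro g hg
  have key : ∀ ζ ∈ Z₀, g * ζ * g⁻¹ = ζ := fun ζ hζ =>
    wreathed_quat_center_fixed S hS n hn U hUS hUab hUcard Q hQS eQ h₁ _ rfl ζ (hZ₀ hζ) g
      (hg ⟨ζ, hζ, rfl⟩)
  ext x
  constructor
  · rintro ⟨ζ, hζ, rfl⟩
    show g * ζ * g⁻¹ ∈ Z₀
    rw [key ζ hζ]; exact hζ
  · intro hx
    exact ⟨x, hx, key x hx⟩

end Cfsg.Agent.Helper99
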