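import Mathlib
import Cfsg.Agent.Helper99.WreathedQW
import Cfsg.Agent.Helper99.InvClasses
import Cfsg.Agent.S1195

set_option autoImplicit false

namespace Cfsg.Agent.Helper99

open Subgroup

variable {G : Type*} [Group G]

/-- an element of order four of `Q ∩ U` moved out of `U` by an element centralizing `Z(S)` -/
theorem exists_moved_order_four [Finite G] (S : Sylow 2 G)
    (hS : Cfsg.IsWreathed (S : Subgroup G)) (n : ℕ)
    (hn : Nat.card (S : Subgroup G) = 2 ^ (2 * n + 1))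
    (U : Subgroup G) (hUS : U ≤ S) (hUab : IsMulCommutative U) (hUcard : Nat.card U = 2 ^ (2 * n))
    (Z : Subgroup G)
    (hZ : Z = (Subgroup.center (S : Subgroup G)).map (S : Subgroup G).subtype)
    (Q : Subgroup G) (hQS : Q ≤ S) (eQ : Q ≃* QuaternionGroup 2)
    (h₂ : ((Q ⊔ Z) ⊔ centralizer ((Q ⊔ Z : Subgroup G) : Set G)).relIndex
      (normalizer ((Q ⊔ Z : Subgroup G) : Set G)) = 6) :
    ∃ g i : G, g ∈ centralizer (Z : Set G) ∧ i ∈ Q ∧ i ∈ U ∧ i * i ≠ 1 ∧ g * i * g⁻¹ ∈ Q ∧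
      g * i * g⁻¹ ∉ U := by
  have hidx := wreathed_relIndex_abel S n hn U hUS hUcard
  have hUcomm : ∀ a ∈ U, ∀ b ∈ U, a * b = b * a := fun a ha b hb =>
    congrArg Subtype.val (hUab.is_comm.comm (⟨a, ha⟩ : U) ⟨b, hb⟩)
  obtain ⟨g, hgN, -, hgQ, hgZ, hmoves⟩ := exists_odd_moving S hS Z hZ Q hQS eQ h₂
  have hidxQ : ∀ a ∈ Q, ∀ b ∈ Q, a ∉ U → b ∉ U → a * b ∈ U := by
    intro a ha b hb haU hbU
    rw [mul_mem_iff_of_relIndex_two _ U hidx (hQS ha) (hQS hb)]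
    exact iff_of_false haU hbU
  obtain ⟨i, hiQ, hiU, hi2, hiuniq⟩ :=
    Cfsg.Agent.Helper20.exists_order_four_inter Q eQ U hUcomm hidxQ
  obtain ⟨hmv1, hmv2⟩ := hmoves i hiQ hi2
  have hgiQ : g * i * g⁻¹ ∈ Q := (mem_normalizer_iff.mp hgQ i).mp hiQ
  have hgi2 : (g * i * g⁻¹) * (g * i * g⁻¹) ≠ 1 := by
    intro hc
    apply hi2
    have : g * (i * i) * g⁻¹ = 1 := by rw [← hc]; group
    exact Cfsg.Agent.Helper20.conj_eq_one_imp this
  have hgiU : g * i * g⁻¹ ∉ U := fun hc => by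
    rcases hiuniq _ hgiQ hc hgi2 with h' | h'
    · exact hmv1 h'
    · exact hmv2 h'
  exact ⟨g, i, hgZ, hiQ, hiU, hi2, hgiQ, hgiU⟩

/-- two classes of involutions in the quaternion case -/
theorem wreathed_quat_involution_classes [Finite G] (S : Sylow 2 G)
    (hS : Cfsg.IsWreathed (S : Subgroup G)) (n : ℕ)
    (hn : Nat.card (S : Subgroup G) = 2 ^ (2 * n + 1))
    (U : Subgroup G) (hUS : U ≤ S) (hUab : IsMulCommutative U) (hUcard : Nat.card U = 2 ^ (2 * n))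
    (Q : Subgroup G) (hQS : Q ≤ S) (eQ : Q ≃* QuaternionGroup 2)
    (h₁ : (Subgroup.centralizer (U : Set G)).relIndex (Subgroup.normalizer (U : Set G)) = 2)
    (Z : Subgroup G)
    (hZ : Z = (Subgroup.center (S : Subgroup G)).map (S : Subgroup G).subtype)
    (h₂ : ((Q ⊔ Z) ⊔ centralizer ((Q ⊔ Z : Subgroup G) : Set G)).relIndex
      (normalizer ((Q ⊔ Z : Subgroup G) : Set G)) = 6) :
    Nat.card {C : ConjClasses G // ∃ t : G, orderOf t = 2 ∧ ConjClasses.mk t = C} = 2 := by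
  have hidx := wreathed_relIndex_abel S n hn U hUS hUcard
  have hSN : (S : Subgroup G) ≤ normalizer (U : Set G) :=
    le_normalizer_of_relIndex_two _ _ hUS hidx
  have hZS : Z ≤ S := by rw [hZ]; exact Subgroup.map_subtype_le _
  obtain ⟨H1, -, -, H6, ⟨ω, hωZ, hω4, hω2⟩⟩ := wreathed_center_facts S hS
  rw [← hZ] at H1 H6 hωZ
  obtain ⟨g, i, hgZ, hiQ, hiU, hi2, hgiQ, hgiU⟩ :=
    exists_moved_order_four S hS n hn U hUS hUab hUcard Z hZ Q hQS eQ h₂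
  have hz₀Z : ω * ω ∈ Z := mul_mem hωZ hωZ
  have hz₀Q : ω * ω ∈ Q := H6 Q hQS eQ _ hz₀Z hω4
  obtain ⟨c, -, -, -, -, -, -, -, hsq, hinv⟩ := Cfsg.Agent.Helper20.exists_q8_data Q eQ
  have hcz : ω * ω = c := by
    rcases hinv _ hz₀Q hω4 with h | h
    · exact absurd h hω2
    · exact h
  have hii : i * i = ω * ω := by
    rcases hsq i hiQ with h | h
    · exact absurd h hi2
    · rw [h, hcz]
  have hiω : i * ω = ω * i := H1 ω hωZ i (hQS hiQ)
  -- `i` is not central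
  have hiZ : i ∉ Z := by
    intro hc
    apply hi2
    have h2 : ∀ w : Q, w * ⟨i, hiQ⟩ = ⟨i, hiQ⟩ * w := fun w => Subtype.ext (H1 i hc w (hQS w.2))
    exact congrArg Subtype.val (Cfsg.Agent.Helper20.iso_center_sq (le_refl 2) eQ ⟨i, hiQ⟩ h2)
  have ht₁sq : (i * ω) * (i * ω) = 1 := by
    calc i * ω * (i * ω) = i * (ω * i) * ω := by group
      _ = i * (i * ω) * ω := by rw [← hiω]
      _ = (i * i) * (ω * ω) := by group
      _ = 1 := by rw [hii, hω4]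
  have ht₁1 : i * ω ≠ 1 := by
    intro hc
    apply hiZ
    have : i = ω⁻¹ := eq_inv_of_mul_eq_one_left hc
    rw [this]; exact inv_mem hωZ
  have ht₁S : i * ω ∈ (S : Subgroup G) := mul_mem (hQS hiQ) (hZS hωZ)
  have hgω : g * ω * g⁻¹ = ω := by
    have := mem_centralizer_iff.mp hgZ ω hωZ
    rw [← this]; group
  have ht₂eq : g * (i * ω) * g⁻¹ = (g * i * g⁻¹) * ω := by
    calc g * (i * ω) * g⁻¹ = (g * i * g⁻¹) * (g * ω * g⁻¹) := by group
      _ = _ := by rw [hgω]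
  have ht₂S : g * (i * ω) * g⁻¹ ∈ (S : Subgroup G) := by
    rw [ht₂eq]; exact mul_mem (hQS hgiQ) (hZS hωZ)
  have hto₁ : orderOf (i * ω) = 2 := (Wr.orderOf_eq_two_iff _).mpr ⟨ht₁sq, ht₁1⟩
  have hto₂ : orderOf (g * (i * ω) * g⁻¹) = 2 := by
    have : g * (i * ω) * g⁻¹ = MulAut.conj g (i * ω) := rfl
    rw [this, MulEquiv.orderOf_eq, hto₁]
  have hto₃ : orderOf (ω * ω) = 2 := (Wr.orderOf_eq_two_iff _).mpr ⟨hω4, hω2⟩
  have hmem₁ : i * ω ∈ U ↔ ω ∈ U := by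
    rw [mul_mem_iff_of_relIndex_two _ U hidx (hQS hiQ) (hZS hωZ)]
    exact ⟨fun h => h.mp hiU, fun h => ⟨fun _ => h, fun _ => hiU⟩⟩
  have hmem₂ : g * (i * ω) * g⁻¹ ∈ U ↔ ω ∉ U := by
    rw [ht₂eq, mul_mem_iff_of_relIndex_two _ U hidx (hQS hgiQ) (hZS hωZ)]
    exact ⟨fun h hω => hgiU (h.mpr hω), fun h => iff_of_false hgiU h⟩
  apply card_involution_classes_eq_two S (Cfsg.Agent.S1195.result hS) (i * ω) (g * (i * ω) * g⁻¹)
    (ω * ω) ht₁S ht₂S hto₁ hto₂ hto₃ ⟨g, rfl⟩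
  · intro s hs hc
    have h1 : s * (i * ω) * s⁻¹ ∈ U ↔ i * ω ∈ U := (mem_normalizer_iff.mp (hSN hs) _).symm
    rw [hc, hmem₂, hmem₁] at h1
    by_cases hω : ω ∈ U
    · exact (h1.mpr hω) hω
    · exact hω (h1.mp hω)
  · intro h hc
    have h1 : h⁻¹ * (ω * ω) * h⁻¹⁻¹ = i * ω := by rw [← hc]; group
    have h2 := wreathed_quat_center_fixed S hS n hn U hUS hUab hUcard Q hQS eQ h₁ Z hZ (ω * ω) hz₀Z
      h⁻¹ (by rw [h1]; exact ht₁S)
    rw [h1] at h2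
    apply hiZ
    have : i = ω := mul_right_cancel h2
    rw [this]; exact hωZ

end Cfsg.Agent.Helper99
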