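import Mathlib


set_option autoImplicit false

namespace Cfsg.Agent.Helper99

open Subgroup
open scoped commutatorElement

variable {G : Type*} [Group G]

/-- if the focal subgroup of the Sylow `2`-subgroup `S` lies in the subgroup `U` of index two of `S`,
then `G` has a normal subgroup of index two meeting `S` in `U` -/
theorem exists_normal_index_two_of_focal_le [Finite G] (S : Sylow 2 G) (U : Subgroup G)
    (hUS : U ≤ S) (hidx : U.relIndex (S : Subgroup G) = 2)
    (hfoc : (S : Subgroup G) ⊓ commutator G ≤ U) :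
    ∃ K : Subgroup G, K.Normal ∧ K.index = 2 ∧ U ≤ K ∧ K ⊓ (S : Subgroup G) = U := by
  have : Fact (Nat.Prime 2) := ⟨Nat.prime_two⟩
  have hFU : (S : Subgroup G).focalSubgroupOf ≤ U.subgroupOf (S : Subgroup G) := by
    intro x hx
    rw [mem_subgroupOf]
    apply hfoc
    have h1 : (x : G) ∈ (S : Subgroup G).focalSubgroup := hx
    rw [← Subgroup.commutator_inf_eq_focalSubgroup S] at h1
    exact ⟨h1.2, h1.1⟩
  have hV : Function.Surjective (S : Subgroup G).transferFocal := Subgroup.transferFocal_surjective S
  set Ubar : Subgroup (↥(S : Subgroup G) ⧸ (S : Subgroup G).focalSubgroupOf) :=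
    (U.subgroupOf (S : Subgroup G)).map (QuotientGroup.mk' (S : Subgroup G).focalSubgroupOf) with hUbar
  have hUbarN : Ubar.Normal := by
    constructor
    intro a ha g
    have : g * a * g⁻¹ = a := by
      rw [IsMulCommutative.is_comm.comm g a, mul_assoc, mul_inv_cancel, mul_one]
    rw [this]; exact ha
  have hUbaridx : Ubar.index = 2 := by
    rw [hUbar, Subgroup.index_map_eq _ (QuotientGroup.mk'_surjective _)
      (by rw [QuotientGroup.ker_mk']; exact hFU)]
    exact hidx
  have hKidx : (Ubar.comap (S : Subgroup G).transferFocal).index = 2 := by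
    rw [Subgroup.index_comap_of_surjective _ hV]; exact hUbaridx
  have hUK : U ≤ Ubar.comap (S : Subgroup G).transferFocal := by
    intro u hu
    rw [mem_comap]
    have := Subgroup.transferFocal_eq_pow (S : Subgroup G) ⟨u, hUS hu⟩
    rw [this]
    apply pow_mem
    exact ⟨⟨u, hUS hu⟩, hu, rfl⟩
  refine ⟨Ubar.comap (S : Subgroup G).transferFocal, hUbarN.comap _, hKidx, hUK, ?_⟩
  set K := Ubar.comap (S : Subgroup G).transferFocal with hK
  have hle : U ≤ K ⊓ (S : Subgroup G) := le_inf hUK hUS
  have h1 := relIndex_mul_relIndex U (K ⊓ (S : Subgroup G)) (S : Subgroup G) hle inf_le_right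
  rw [hidx] at h1
  have h2 : (K ⊓ (S : Subgroup G)).relIndex (S : Subgroup G) ≠ 1 := by
    intro hcon
    rw [inf_relIndex_right, relIndex_eq_one] at hcon
    have h3 : K.index ∣ (S : Subgroup G).index := Subgroup.index_dvd_of_le hcon
    rw [hKidx] at h3
    exact S.not_dvd_index h3
  have h3 : U.relIndex (K ⊓ (S : Subgroup G)) = 1 := by
    have hd : (K ⊓ (S : Subgroup G)).relIndex (S : Subgroup G) ∣ 2 := Dvd.intro_left _ h1
    rcases (Nat.dvd_prime Nat.prime_two).mp hd with h | h
    · exact absurd h h2
    · rw [h] at h1; omega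
  rw [relIndex_eq_one] at h3
  exact le_antisymm h3 hle

end Cfsg.Agent.Helper99
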