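import Mathlib
import Cfsg.Agent.Helper20.AutTwo

set_option autoImplicit false

namespace Cfsg.Agent.Helper99

variable {V : Type*} [Group V]

/-- an automorphism of odd order fixing one involution fixes all, when the involutions form a
four-group -/
theorem odd_aut_fix_involutions (hcomm : ∀ a b : V, a * b = b * a)
    (hK : ∀ x y w : V, x * x = 1 → y * y = 1 → w * w = 1 → x ≠ 1 → y ≠ 1 → x ≠ y →
      w ≠ 1 → w ≠ x → w ≠ y → w = x * y)
    (φ : MulAut V) {m : ℕ} (hm : Odd m) (hφ : φ ^ m = 1) (w₀ : V) (hw₀ : w₀ * w₀ = 1)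
    (hw₀1 : w₀ ≠ 1) (hfix : φ w₀ = w₀) : ∀ w : V, w * w = 1 → φ w = w := by
  intro w hw
  by_cases hw1 : w = 1
  · rw [hw1, map_one]
  by_cases hww₀ : w = w₀
  · rw [hww₀, hfix]
  by_cases hφw : φ w = w
  · exact hφw
  have h1 : φ w * φ w = 1 := by rw [← map_mul, hw, map_one]
  have h2 : φ w ≠ 1 := fun h => hw1 (by rwa [← map_one φ, φ.injective.eq_iff] at h)
  have h3 : φ w ≠ w₀ := fun h => hww₀ (by rwa [← hfix, φ.injective.eq_iff] at h)
  have h4 := hK w₀ w (φ w) hw₀ hw h1 hw₀1 hw1 (Ne.symm hww₀) h2 h3 hφw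
  apply Cfsg.Agent.Helper20.odd_aut_fix_of_coset φ hm hφ (Subgroup.zpowers w₀)
  · rintro _ ⟨i, rfl⟩
    show φ (w₀ ^ i) = w₀ ^ i
    rw [map_zpow, hfix]
  · rintro _ ⟨i, rfl⟩
    refine ⟨1, ?_⟩
    show (w₀ ^ i) ^ (2 ^ 1) = 1
    rw [pow_one, ← zpow_natCast, ← zpow_mul, mul_comm, zpow_mul, zpow_natCast, pow_two, hw₀, one_zpow]
  · rw [h4, hcomm w₀ w, ← mul_assoc, inv_mul_cancel, one_mul]
    exact Subgroup.mem_zpowers w₀

/-- an automorphism of odd order of a commutative `2`-group whose involutions form a four-group,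
fixing one involution, is trivial -/
theorem odd_aut_trivial_of_fix_one (hcomm : ∀ a b : V, a * b = b * a)
    (h2 : ∀ u : V, ∃ e : ℕ, u ^ (2 ^ e) = 1)
    (hK : ∀ x y w : V, x * x = 1 → y * y = 1 → w * w = 1 → x ≠ 1 → y ≠ 1 → x ≠ y →
      w ≠ 1 → w ≠ x → w ≠ y → w = x * y)
    (φ : MulAut V) {m : ℕ} (hm : Odd m) (hφ : φ ^ m = 1) (w₀ : V) (hw₀ : w₀ * w₀ = 1)
    (hw₀1 : w₀ ≠ 1) (hfix : φ w₀ = w₀) : φ = 1 := by
  apply Cfsg.Agent.Helper20.odd_aut_trivial_of_fix_involutions hcomm h2 φ hm hφ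
  intro u hu
  exact odd_aut_fix_involutions hcomm hK φ hm hφ w₀ hw₀ hw₀1 hfix u (by rw [← pow_two]; exact hu)

/-- an automorphism of a finite commutative `2`-group with all `x⁻¹ φ(x)` in a proper subgroup fixes
an involution -/
theorem exists_fixed_involution [Finite V] (hcomm : ∀ a b : V, a * b = b * a)
    (h2 : ∀ u : V, ∃ e : ℕ, u ^ (2 ^ e) = 1) (φ : MulAut V) (F : Subgroup V) (hF : F ≠ ⊤)
    (hφF : ∀ x : V, x⁻¹ * φ x ∈ F) : ∃ w₀ : V, w₀ * w₀ = 1 ∧ w₀ ≠ 1 ∧ φ w₀ = w₀ := by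
  let τ : V →* V :=
    { toFun := fun x => x⁻¹ * φ x
      map_one' := by simp
      map_mul' := fun x y => by
        rw [map_mul, mul_inv_rev, hcomm y⁻¹ x⁻¹, mul_assoc, mul_assoc, ← mul_assoc y⁻¹,
          hcomm y⁻¹ (φ x), mul_assoc] }
  have hns : ¬ Function.Surjective τ := by
    intro hs
    apply hF
    rw [eq_top_iff]
    intro v _
    obtain ⟨x, rfl⟩ := hs v
    exact hφF x
  have hni : ¬ Function.Injective τ := fun hi => hns (Finite.injective_iff_surjective.mp hi)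
  obtain ⟨x, hx1, hx⟩ : ∃ x : V, x ≠ 1 ∧ φ x = x := by
    by_contra hcon
    push Not at hcon
    apply hni
    rw [injective_iff_map_eq_one]
    intro x hx
    by_contra hx1
    apply hcon x hx1
    have : x⁻¹ * φ x = 1 := hx
    rw [inv_mul_eq_one] at this
    exact this.symm
  obtain ⟨e, he⟩ := h2 x
  obtain ⟨j, hj, hord⟩ := (Nat.dvd_prime_pow Nat.prime_two).mp (orderOf_dvd_of_pow_eq_one he)
  have hj0 : j ≠ 0 := by
    rintro rfl
    rw [pow_zero, orderOf_eq_one_iff] at hord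
    exact hx1 hord
  obtain ⟨i, rfl⟩ : ∃ i, j = i + 1 := ⟨j - 1, by omega⟩
  refine ⟨x ^ (2 ^ i), ?_, ?_, ?_⟩
  · rw [← pow_add, ← two_mul, ← pow_succ', ← hord, pow_orderOf_eq_one]
  · apply pow_ne_one_of_lt_orderOf (by positivity)
    rw [hord]
    exact Nat.pow_lt_pow_right (by norm_num) (by omega)
  · rw [map_pow, hx]

end Cfsg.Agent.Helper99
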