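import Mathlib
import Cfsg.Agent.Helper99.OrthJTF

/-!
# Odd dimension: unipotent elements of `Ω_{2d+1}(q)` with a prescribed Jordan type
-/

set_option autoImplicit false

namespace Cfsg.Agent.Helper99.OrthJT

open Module
open Cfsg.Agent.Helper43 Cfsg.Agent.Helper43.JT
open Cfsg.Agent.Helper99.KdimSplit

universe u

variable {F : Type u} [Field F]

/-- Generic transfer: a coordinate isomorphism under which `B v v = 2 Q (coordinates of v)` turns a
unipotent `B`-isometry into a matrix preserving `Q`, with the same kernel dimensions. -/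
theorem exists_isometry_of_coord {ι : Type} [Fintype ι] [DecidableEq ι] (h2 : (2 : F) ≠ 0)
    {V : Type u} [AddCommGroup V] [Module F V] [FiniteDimensional F V]
    (B : LinearMap.BilinForm F V) (N : Module.End F V) (hN : IsNilpotent N)
    (hi : ∀ x y, B (x + N x) (y + N y) = B x y) (Q : (ι → F) → F) (ψ : (ι → F) →ₗ[F] V)
    (hinj : Function.Injective ψ) (hdim : Fintype.card ι = finrank F V)
    (hQ : ∀ c, B (ψ c) (ψ c) = 2 * Q c) :
    ∃ x : Matrix.GeneralLinearGroup ι F,
      (∀ v, Q ((x : Matrix ι ι F).mulVec v) = Q v) ∧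
      ∀ l, kdim (Matrix.toLin' ((x : Matrix ι ι F) - 1)) l = kdim N l := by
  classical
  have hdim' : finrank F (ι → F) = finrank F V := by
    rw [Module.finrank_fintype_fun_eq_card, hdim]
  let e : (ι → F) ≃ₗ[F] V := LinearEquiv.ofInjectiveOfFinrankEq ψ hinj hdim'
  have he : ∀ c, e c = ψ c := fun c => rfl
  obtain ⟨u, hu⟩ := hN.isUnit_one_add
  set T : Module.End F (ι → F) :=
    e.symm.toLinearMap ∘ₗ (u : Module.End F V) ∘ₗ e.toLinearMap with hT
  set T' : Module.End F (ι → F) :=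
    e.symm.toLinearMap ∘ₗ ((u⁻¹ : (Module.End F V)ˣ) : Module.End F V) ∘ₗ e.toLinearMap with hT'
  have hTT' : T * T' = 1 := by
    apply LinearMap.ext
    intro c
    simp only [hT, hT', Module.End.mul_apply, LinearMap.comp_apply, LinearEquiv.coe_coe,
      LinearEquiv.apply_symm_apply, Module.End.one_apply]
    rw [← Module.End.mul_apply, Units.mul_inv, Module.End.one_apply, LinearEquiv.symm_apply_apply]
  have hT'T : T' * T = 1 := by
    apply LinearMap.ext
    intro c
    simp only [hT, hT', Module.End.mul_apply, LinearMap.comp_apply, LinearEquiv.coe_coe,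
      LinearEquiv.apply_symm_apply, Module.End.one_apply]
    rw [← Module.End.mul_apply, Units.inv_mul, Module.End.one_apply, LinearEquiv.symm_apply_apply]
  set X : Matrix ι ι F := LinearMap.toMatrix' T with hX
  set X' : Matrix ι ι F := LinearMap.toMatrix' T' with hX'
  have hXX' : X * X' = 1 := by
    rw [hX, hX', ← LinearMap.toMatrix'_mul, hTT', LinearMap.toMatrix'_one]
  have hX'X : X' * X = 1 := by
    rw [hX, hX', ← LinearMap.toMatrix'_mul, hT'T, LinearMap.toMatrix'_one]
  have hXv : ∀ v, X.mulVec v = T v := by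
    intro v
    rw [hX, LinearMap.toMatrix'_mulVec]
  have heT : ∀ v, e (T v) = e v + N (e v) := by
    intro v
    simp only [hT, LinearMap.comp_apply, LinearEquiv.coe_coe, LinearEquiv.apply_symm_apply]
    rw [hu]
    rfl
  obtain ⟨x, hx⟩ : ∃ x : Matrix.GeneralLinearGroup ι F, (x : Matrix ι ι F) = X :=
    ⟨⟨X, X', hXX', hX'X⟩, rfl⟩
  refine ⟨x, ?_, ?_⟩
  · intro v
    rw [hx]
    have h1 := hQ (T v)
    have h3 := hQ v
    rw [← he, heT, hi, he, h3] at h1
    rw [hXv]
    exact (mul_left_cancel₀ h2 h1).symm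
  · intro l
    rw [hx]
    apply kdim_conj e
    intro v
    rw [Matrix.toLin'_apply, Matrix.sub_mulVec, Matrix.one_mulVec, hXv, map_sub, heT]
    abel

section transfer

variable {V : Type u} [AddCommGroup V] [Module F V]

/-- The coordinate map attached to a hyperbolic family indexed by `Fin d` and one more vector. -/
def coordMapOdd {d : ℕ} (a b : Fin d → V) (w : V) : (Unit ⊕ (Fin d ⊕ Fin d) → F) →ₗ[F] V where
  toFun c := c (Sum.inl ()) • w
    + (∑ i, c (Sum.inr (Sum.inl i)) • a i + ∑ i, c (Sum.inr (Sum.inr i)) • b i)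
  map_add' c c' := by
    simp only [Pi.add_apply, add_smul, Finset.sum_add_distrib]
    abel
  map_smul' r c := by
    simp only [Pi.smul_apply, smul_eq_mul, mul_smul, RingHom.id_apply, smul_add, Finset.smul_sum]

theorem coordMapOdd_apply {d : ℕ} (a b : Fin d → V) (w : V) (c : Unit ⊕ (Fin d ⊕ Fin d) → F) :
    coordMapOdd a b w c = c (Sum.inl ()) • w
      + (∑ i, c (Sum.inr (Sum.inl i)) • a i + ∑ i, c (Sum.inr (Sum.inr i)) • b i) := rfl

theorem form_coordMapOdd {d : ℕ} (B : LinearMap.BilinForm F V) (hs : ∀ x y, B x y = B y x)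
    (a b : Fin d → V) (w : V) (hf : HFam B a b) (haw : ∀ i, B (a i) w = 0)
    (hbw : ∀ i, B (b i) w = 0) (c c' : Unit ⊕ (Fin d ⊕ Fin d) → F) :
    B (coordMapOdd a b w c) (coordMapOdd a b w c')
      = c (Sum.inl ()) * c' (Sum.inl ()) * B w w
        + ∑ i, (c (Sum.inr (Sum.inl i)) * c' (Sum.inr (Sum.inr i))
          + c (Sum.inr (Sum.inr i)) * c' (Sum.inr (Sum.inl i))) := by
  classical
  have hab : ∀ i j, B (a i) (b j) = if i = j then 1 else 0 := by
    intro i j
    by_cases h : i = j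
    · rw [if_pos h, h, hf.ab_same]
    · rw [if_neg h, hf.ab_ne i j h]
  have hba : ∀ i j, B (b i) (a j) = if i = j then 1 else 0 := by
    intro i j
    rw [hs, hab]
    by_cases h : i = j
    · rw [if_pos h, if_pos h.symm]
    · rw [if_neg h, if_neg (fun h' => h h'.symm)]
  have hwa : ∀ i, B w (a i) = 0 := fun i => by rw [hs, haw]
  have hwb : ∀ i, B w (b i) = 0 := fun i => by rw [hs, hbw]
  rw [coordMapOdd_apply, coordMapOdd_apply]
  simp only [map_add, map_sum, map_smul, LinearMap.add_apply, LinearMap.sum_apply,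
    LinearMap.smul_apply, smul_eq_mul, hf.aa, hf.bb, hab, hba, haw, hbw, hwa, hwb, mul_zero,
    Finset.sum_const_zero, add_zero, zero_add, mul_ite, mul_one, Finset.sum_ite_eq',
    Finset.mem_univ, if_true]
  rw [← Finset.sum_add_distrib]
  congr 1
  · ring
  · exact Finset.sum_congr rfl (fun i _ => by ring)

end transfer

/-- From the abstract odd data (with `B w w = 2`) to a matrix preserving `x₀² + Σ xᵢ yᵢ`. -/
theorem exists_odd_isometry (h2 : (2 : F) ≠ 0) {κ : ℕ → ℕ} {d : ℕ} (h : OddGood F κ 2) (L : ℕ)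
    (hκ : ∀ l, L ≤ l → κ l = 2 * d + 1) :
    ∃ x : Matrix.GeneralLinearGroup (Unit ⊕ (Fin d ⊕ Fin d)) F,
      (∀ v, Cfsg.quadFormOdd d F
          ((x : Matrix (Unit ⊕ (Fin d ⊕ Fin d)) (Unit ⊕ (Fin d ⊕ Fin d)) F).mulVec v)
        = Cfsg.quadFormOdd d F v) ∧
      ∀ l, kdim (Matrix.toLin'
        ((x : Matrix (Unit ⊕ (Fin d ⊕ Fin d)) (Unit ⊕ (Fin d ⊕ Fin d)) F) - 1)) l = κ l := by
  classical
  obtain ⟨V, _, _, _, N, B, hN, hk, hs, hi, ι, _, a, b, w, hf, haw, hbw, hww, hc⟩ := h
  have hfin : finrank F V = 2 * d + 1 := by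
    obtain ⟨L', hL'⟩ := hN
    have h1 : N ^ (max L L') = 0 := by
      rw [← Nat.sub_add_cancel (le_max_right L L'), pow_add, hL', mul_zero]
    have h3 : kdim N (max L L') = finrank F V := by
      unfold kdim
      rw [h1, LinearMap.ker_zero, finrank_top]
    rw [← h3, hk, hκ _ (le_max_left L L')]
  have hcard : Fintype.card ι = d := by omega
  let σ : ι ≃ Fin d := Fintype.equivFinOfCardEq hcard
  set a' : Fin d → V := fun i => a (σ.symm i) with ha'
  set b' : Fin d → V := fun i => b (σ.symm i) with hb'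
  have hf' : HFam B a' b' := by
    refine ⟨fun i j => hf.aa _ _, fun i j => hf.bb _ _, fun i => hf.ab_same _, fun i j hij => ?_⟩
    apply hf.ab_ne
    intro h
    exact hij (σ.symm.injective h)
  set ψ := coordMapOdd (F := F) a' b' w with hψ
  have hform := form_coordMapOdd B hs a' b' w hf' (fun i => haw _) (fun i => hbw _)
  have hQ : ∀ c : Unit ⊕ (Fin d ⊕ Fin d) → F, B (ψ c) (ψ c) = 2 * Cfsg.quadFormOdd d F c := by
    intro c
    rw [hψ, hform, hww]
    unfold Cfsg.quadFormOdd
    rw [mul_add, Finset.mul_sum]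
    congr 1
    · ring
    · apply Finset.sum_congr rfl
      intro i _
      ring
  have hinj : Function.Injective ψ := by
    rw [← LinearMap.ker_eq_bot, LinearMap.ker_eq_bot']
    intro c hc0
    funext x
    rcases x with ⟨⟩ | i | i
    · have h1 := hform c (Pi.single (Sum.inl ()) 1)
      rw [← hψ, hc0, map_zero, LinearMap.zero_apply, hww] at h1
      simp only [Pi.single_apply, reduceCtorEq, if_false, mul_zero, add_zero,
        Finset.sum_const_zero, if_true, mul_one] at h1
      have h3 : c (Sum.inl ()) * 2 = 0 := h1.symm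
      rcases mul_eq_zero.mp h3 with h | h
      · exact h
      · exact absurd h h2
    · have h1 := hform c (Pi.single (Sum.inr (Sum.inr i)) 1)
      rw [← hψ, hc0, map_zero, LinearMap.zero_apply] at h1
      simp only [Pi.single_apply, Sum.inr.injEq, reduceCtorEq, if_false, mul_zero, add_zero,
        zero_mul, zero_add, mul_ite, mul_one, Finset.sum_ite_eq, Finset.mem_univ, if_true] at h1
      simpa using h1.symm
    · have h1 := hform c (Pi.single (Sum.inr (Sum.inl i)) 1)
      rw [← hψ, hc0, map_zero, LinearMap.zero_apply] at h1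
      simp only [Pi.single_apply, Sum.inr.injEq, Sum.inl.injEq, reduceCtorEq, if_false, mul_zero,
        zero_mul, zero_add, mul_ite, mul_one, Finset.sum_ite_eq, Finset.mem_univ, if_true] at h1
      simpa using h1.symm
  have hdim : Fintype.card (Unit ⊕ (Fin d ⊕ Fin d)) = finrank F V := by
    rw [Fintype.card_sum, Fintype.card_sum, Fintype.card_fin, Fintype.card_unit, hfin]
    ring
  obtain ⟨x, hx1, hx2⟩ := exists_isometry_of_coord h2 B N hN hi (Cfsg.quadFormOdd d F) ψ hinj hdim hQ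
  exact ⟨x, hx1, fun l => by rw [hx2, hk]⟩

/-- Nondegeneracy of the standard odd dimensional form. -/
theorem nondegenerate_oddForm (h2 : (2 : F) ≠ 0) (d : ℕ) :
    (QuadraticMap.polarBilin (Cfsg.Agent.Helper44.oddForm d F)).Nondegenerate := by
  classical
  have hrefl : (QuadraticMap.polarBilin (Cfsg.Agent.Helper44.oddForm d F)).IsRefl := by
    intro x y hxy
    rw [QuadraticMap.polarBilin_apply_apply] at hxy ⊢
    rw [QuadraticMap.polar_comm]
    exact hxy
  refine (LinearMap.IsRefl.nondegenerate_iff_separatingLeft hrefl).mpr ?_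
  intro x hx
  have hx' : ∀ y, QuadraticMap.polar (Cfsg.quadFormOdd d F) x y = 0 := by
    intro y
    have := hx y
    rwa [QuadraticMap.polarBilin_apply_apply] at this
  funext j
  rcases j with ⟨⟩ | i | i
  · have h1 := hx' (Pi.single (Sum.inl ()) 1)
    rw [Cfsg.Agent.Helper44.polar_quadFormOdd, Cfsg.Agent.Helper44.polar_quadFormPlus] at h1
    simp only [Function.comp_apply, Pi.single_apply, reduceCtorEq, if_false, mul_zero, zero_mul,
      add_zero, Finset.sum_const_zero, if_true, mul_one] at h1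
    rcases mul_eq_zero.mp h1 with h | h
    · exact absurd h h2
    · exact h
  · have h1 := hx' (Pi.single (Sum.inr (Sum.inr i)) 1)
    rw [Cfsg.Agent.Helper44.polar_quadFormOdd, Cfsg.Agent.Helper44.polar_quadFormPlus] at h1
    simp only [Function.comp_apply, Pi.single_apply, Sum.inr.injEq, reduceCtorEq, if_false,
      mul_zero, zero_mul, add_zero, zero_add, mul_ite, mul_one, ite_mul, one_mul,
      Finset.sum_ite_eq, Finset.mem_univ, if_true] at h1
    simpa using h1
  · have h1 := hx' (Pi.single (Sum.inr (Sum.inl i)) 1)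
    rw [Cfsg.Agent.Helper44.polar_quadFormOdd, Cfsg.Agent.Helper44.polar_quadFormPlus] at h1
    simp only [Function.comp_apply, Pi.single_apply, Sum.inr.injEq, Sum.inl.injEq, reduceCtorEq,
      if_false, mul_zero, zero_mul, add_zero, zero_add, mul_ite, mul_one, ite_mul, one_mul,
      Finset.sum_ite_eq, Finset.mem_univ, if_true] at h1
    simpa using h1

/-- **Existence (odd dimension).** Unipotent elements of `Ω_{2d+1}(q)`, `q` odd, of every admissible
Jordan type. -/
theorem exists_odd_unip [Fintype F] {p : ℕ} [Fact p.Prime] [CharP F p] (h2 : (2 : F) ≠ 0)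
    (d : ℕ) (μ : Multiset ℕ) (hμ : ∀ b ∈ μ, 0 < b ∧ b ≤ p)
    (heven : ∀ e : ℕ, Even e → Even (μ.count e)) (hsum : μ.sum = 2 * d + 1)
    (hne : ∃ b ∈ μ, 2 ≤ b) :
    ∃ x : Matrix.GeneralLinearGroup (Unit ⊕ (Fin d ⊕ Fin d)) F,
      x ∈ Cfsg.Geo.omegaGL (Cfsg.quadFormOdd d F) ∧ x ^ p = 1 ∧
      ((x : Matrix (Unit ⊕ (Fin d ⊕ Fin d)) (Unit ⊕ (Fin d ⊕ Fin d)) F) - 1) ^ p = 0 ∧
      (∀ z : F, (x : Matrix (Unit ⊕ (Fin d ⊕ Fin d)) (Unit ⊕ (Fin d ⊕ Fin d)) F) ≠ z • 1) ∧
      (∀ v, Cfsg.quadFormOdd d F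
          ((x : Matrix (Unit ⊕ (Fin d ⊕ Fin d)) (Unit ⊕ (Fin d ⊕ Fin d)) F).mulVec v)
        = Cfsg.quadFormOdd d F v) ∧
      ∀ l, kdim (Matrix.toLin'
          ((x : Matrix (Unit ⊕ (Fin d ⊕ Fin d)) (Unit ⊕ (Fin d ⊕ Fin d)) F) - 1)) l
        = minSum μ l := by
  classical
  have hp : p.Prime := Fact.out
  have hp2 : p ≠ 2 := by
    intro h
    apply h2
    have := CharP.cast_eq_zero F p
    rw [h] at this
    exact_mod_cast this
  have hpodd : Odd p := hp.odd_of_ne_two hp2
  obtain ⟨α, hα, hg⟩ := oddGood_of_multiset (F := F) h2 _ μ rfl heven ⟨d, by omega⟩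
  have hg2 := oddGood_scale hg (2 / α) (div_ne_zero h2 hα)
  rw [div_mul_cancel₀ _ hα] at hg2
  obtain ⟨x, hxQ, hxk⟩ := exists_odd_isometry h2 (d := d) hg2 μ.sum (fun l hl => by
    rw [minSum_of_le μ l (fun b hb => (Multiset.le_sum_of_mem hb).trans hl), hsum])
  have hcard : Fintype.card (Unit ⊕ (Fin d ⊕ Fin d)) = 2 * d + 1 := by
    rw [Fintype.card_sum, Fintype.card_sum, Fintype.card_fin, Fintype.card_unit]
    ring
  have hkp : kdim (Matrix.toLin'
      ((x : Matrix (Unit ⊕ (Fin d ⊕ Fin d)) (Unit ⊕ (Fin d ⊕ Fin d)) F) - 1)) p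
      = Fintype.card (Unit ⊕ (Fin d ⊕ Fin d)) := by
    rw [hxk, hcard, minSum_of_le μ p (fun b hb => (hμ b hb).2), hsum]
  obtain ⟨hNp, hMp⟩ := pow_char_eq_one_of_kdim _ hkp
  have hxp : x ^ p = 1 := by
    apply Units.ext
    rw [Units.val_pow_eq_pow_val, hMp]
    rfl
  have hns := not_scalar_of_kdim
    (x : Matrix (Unit ⊕ (Fin d ⊕ Fin d)) (Unit ⊕ (Fin d ⊕ Fin d)) F) p hNp (by
    rw [hxk, hcard, ← hsum]
    exact Cfsg.Agent.Helper99.JordanElt.minSum_one_lt μ (fun b hb => (hμ b hb).1) hne)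
  have hxiso : x ∈ Cfsg.isometryGroup F ⇑(Cfsg.Agent.Helper44.oddForm d F) :=
    fun u _ => hxQ u
  have hΩ := mem_omegaGL_of_pow_eq_one (Cfsg.Agent.Helper44.oddForm d F) h2
    (nondegenerate_oddForm h2 d) x hxiso p hpodd hxp
  exact ⟨x, hΩ, hxp, hNp, hns, hxQ, hxk⟩

end Cfsg.Agent.Helper99.OrthJT
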