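import Mathlib
import Cfsg.Agent.Helper99.OrthJTG
import Cfsg.Agent.Helper44.QTypeAniso

/-!
# Minus type: unipotent elements of `Ω⁻_{2d}(q)` with a prescribed Jordan type having an odd part
-/

set_option autoImplicit false

namespace Cfsg.Agent.Helper99.OrthJT

open Module
open Cfsg.Agent.Helper43 Cfsg.Agent.Helper43.JT
open Cfsg.Agent.Helper99.KdimSplit

universe u

variable {F : Type u} [Field F]

/-- Abstract data with a hyperbolic family and two more vectors `w₁ ⊥ w₂`, both orthogonal to the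
family, with `B w₁ w₁ = α`, `B w₂ w₂ = β`. -/
def MGood (F : Type u) [Field F] (κ : ℕ → ℕ) (α β : F) : Prop :=
  ∃ (V : Type u) (_ : AddCommGroup V) (_ : Module F V) (_ : FiniteDimensional F V)
    (N : Module.End F V) (B : LinearMap.BilinForm F V),
    IsNilpotent N ∧ (∀ l, kdim N l = κ l) ∧ (∀ x y, B x y = B y x) ∧
    (∀ x y, B (x + N x) (y + N y) = B x y) ∧
    ∃ (ι : Type) (_ : Fintype ι) (a b : ι → V) (w₁ w₂ : V), HFam B a b ∧
      (∀ i, B (a i) w₁ = 0) ∧ (∀ i, B (b i) w₁ = 0) ∧ (∀ i, B (a i) w₂ = 0) ∧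
      (∀ i, B (b i) w₂ = 0) ∧ B w₁ w₁ = α ∧ B w₂ w₂ = β ∧ B w₁ w₂ = 0 ∧
      2 * Fintype.card ι + 2 = finrank F V

theorem mgood_congr {κ κ' : ℕ → ℕ} {α β : F} (h : ∀ l, κ l = κ' l) (hg : MGood F κ α β) :
    MGood F κ' α β := by
  have : κ = κ' := funext h
  rwa [← this]

theorem mgood_of_oddGood_oddGood {κ κ' : ℕ → ℕ} {α β : F} (h : OddGood F κ α)
    (h' : OddGood F κ' β) : MGood F (fun l => κ l + κ' l) α β := by
  obtain ⟨V, _, _, _, N, B, hN, hk, hs, hi, ι, _, a, b, w, hf, haw, hbw, hww, hc⟩ := h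
  obtain ⟨V', _, _, _, N', B', hN', hk', hs', hi', ι', _, a', b', w', hf', haw', hbw', hww', hc'⟩ := h'
  refine ⟨V × V', inferInstance, inferInstance, inferInstance, N.prodMap N', prodForm B B',
    isNilpotent_prodMap hN hN', ?_, ?_, ?_, ι ⊕ ι', inferInstance,
    Sum.elim (fun i => (a i, 0)) (fun i => (0, a' i)),
    Sum.elim (fun i => (b i, 0)) (fun i => (0, b' i)), (w, 0), (0, w'), ⟨?_, ?_, ?_, ?_⟩,
    ?_, ?_, ?_, ?_, ?_, ?_, ?_, ?_⟩
  · intro l
    rw [kdim_prodMap, hk, hk']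
  · intro x y
    rw [prodForm_apply, prodForm_apply, hs, hs']
  · rintro ⟨x1, x2⟩ ⟨y1, y2⟩
    rw [prodForm_apply, prodForm_apply]
    show B (x1 + N x1) (y1 + N y1) + B' (x2 + N' x2) (y2 + N' y2) = _
    rw [hi, hi']
  · rintro (i | i) (j | j) <;> simp [prodForm_apply, hf.aa, hf'.aa]
  · rintro (i | i) (j | j) <;> simp [prodForm_apply, hf.bb, hf'.bb]
  · rintro (i | i) <;> simp [prodForm_apply, hf.ab_same, hf'.ab_same]
  · rintro (i | i) (j | j) hij
    · simpa [prodForm_apply] using hf.ab_ne i j (fun h => hij (by rw [h]))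
    · simp [prodForm_apply]
    · simp [prodForm_apply]
    · simpa [prodForm_apply] using hf'.ab_ne i j (fun h => hij (by rw [h]))
  · rintro (i | i) <;> simp [prodForm_apply, haw]
  · rintro (i | i) <;> simp [prodForm_apply, hbw]
  · rintro (i | i) <;> simp [prodForm_apply, haw']
  · rintro (i | i) <;> simp [prodForm_apply, hbw']
  · simp [prodForm_apply, hww]
  · simp [prodForm_apply, hww']
  · simp [prodForm_apply]
  · rw [Fintype.card_sum, Module.finrank_prod, ← hc, ← hc']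
    ring

section transfer

variable {V : Type u} [AddCommGroup V] [Module F V]

/-- The coordinate map attached to a hyperbolic family indexed by `Fin k` and two more vectors. -/
def coordMapMinus {k : ℕ} (a b : Fin k → V) (w₁ w₂ : V) :
    ((Fin k ⊕ Fin k) ⊕ Fin 2 → F) →ₗ[F] V where
  toFun c := (∑ i, c (Sum.inl (Sum.inl i)) • a i + ∑ i, c (Sum.inl (Sum.inr i)) • b i)
    + (c (Sum.inr 0) • w₁ + c (Sum.inr 1) • w₂)
  map_add' c c' := by
    simp only [Pi.add_apply, add_smul, Finset.sum_add_distrib]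
    abel
  map_smul' r c := by
    simp only [Pi.smul_apply, smul_eq_mul, mul_smul, RingHom.id_apply, smul_add, Finset.smul_sum]

theorem coordMapMinus_apply {k : ℕ} (a b : Fin k → V) (w₁ w₂ : V)
    (c : (Fin k ⊕ Fin k) ⊕ Fin 2 → F) :
    coordMapMinus a b w₁ w₂ c
      = (∑ i, c (Sum.inl (Sum.inl i)) • a i + ∑ i, c (Sum.inl (Sum.inr i)) • b i)
        + (c (Sum.inr 0) • w₁ + c (Sum.inr 1) • w₂) := rfl

theorem form_coordMapMinus {k : ℕ} (B : LinearMap.BilinForm F V) (hs : ∀ x y, B x y = B y x)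
    (a b : Fin k → V) (w₁ w₂ : V) (hf : HFam B a b) (haw₁ : ∀ i, B (a i) w₁ = 0)
    (hbw₁ : ∀ i, B (b i) w₁ = 0) (haw₂ : ∀ i, B (a i) w₂ = 0) (hbw₂ : ∀ i, B (b i) w₂ = 0)
    (h12 : B w₁ w₂ = 0) (c c' : (Fin k ⊕ Fin k) ⊕ Fin 2 → F) :
    B (coordMapMinus a b w₁ w₂ c) (coordMapMinus a b w₁ w₂ c')
      = ∑ i, (c (Sum.inl (Sum.inl i)) * c' (Sum.inl (Sum.inr i))
          + c (Sum.inl (Sum.inr i)) * c' (Sum.inl (Sum.inl i)))
        + (c (Sum.inr 0) * c' (Sum.inr 0) * B w₁ w₁ + c (Sum.inr 1) * c' (Sum.inr 1) * B w₂ w₂) := by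
  classical
  have hab : ∀ i j, B (a i) (b j) = if i = j then 1 else 0 := by
    intro i j
    by_cases h : i = j
    · rw [if_pos h, h, hf.ab_same]
    · rw [if_neg h, hf.ab_ne i j h]
  have hba : ∀ i j, B (b i) (a j) = if i = j then 1 else 0 := by
    intro i j
    rw [hs, hab]
    by_cases h : i = j
    · rw [if_pos h, if_pos h.symm]
    · rw [if_neg h, if_neg (fun h' => h h'.symm)]
  have hw₁a : ∀ i, B w₁ (a i) = 0 := fun i => by rw [hs, haw₁]
  have hw₁b : ∀ i, B w₁ (b i) = 0 := fun i => by rw [hs, hbw₁]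
  have hw₂a : ∀ i, B w₂ (a i) = 0 := fun i => by rw [hs, haw₂]
  have hw₂b : ∀ i, B w₂ (b i) = 0 := fun i => by rw [hs, hbw₂]
  have h21 : B w₂ w₁ = 0 := by rw [hs, h12]
  rw [coordMapMinus_apply, coordMapMinus_apply]
  simp only [map_add, map_sum, map_smul, LinearMap.add_apply, LinearMap.sum_apply,
    LinearMap.smul_apply, smul_eq_mul, hf.aa, hf.bb, hab, hba, haw₁, hbw₁, haw₂, hbw₂, hw₁a, hw₁b,
    hw₂a, hw₂b, h12, h21, mul_zero, Finset.sum_const_zero, add_zero, zero_add, mul_ite, mul_one,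
    Finset.sum_ite_eq', Finset.mem_univ, if_true]
  rw [← Finset.sum_add_distrib]
  congr 1
  · exact Finset.sum_congr rfl (fun i _ => by ring)
  · ring

end transfer

/-- anisotropy of the binary form forces a nonzero discriminant. -/
theorem disc_ne_zero_of_aniso (h2 : (2 : F) ≠ 0) (a b : F)
    (hab : ∀ x y : F, x ^ 2 + a * x * y + b * y ^ 2 = 0 → x = 0 ∧ y = 0) : a ^ 2 - 4 * b ≠ 0 := by
  intro h
  have h4 : (4 : F) ≠ 0 := by
    have : (4 : F) = 2 * 2 := by norm_num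
    rw [this]
    exact mul_ne_zero h2 h2
  have hb : b = a ^ 2 / 4 := by
    field_simp
    linear_combination -h
  have := (hab (-a / 2) 1 (by rw [hb]; field_simp; ring)).2
  exact one_ne_zero this

/-- From the abstract minus data to a matrix preserving the standard minus-type form. -/
theorem exists_minus_isometry [Fintype F] (h2 : (2 : F) ≠ 0) {κ : ℕ → ℕ} {k : ℕ} (a b : F)
    (hab : ∀ x y : F, x ^ 2 + a * x * y + b * y ^ 2 = 0 → x = 0 ∧ y = 0) (b' : F)
    (hb' : ∀ x y : F, x ^ 2 + 0 * x * y + b' * y ^ 2 = 0 → x = 0 ∧ y = 0)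
    (h : MGood F κ 2 (2 * b')) (L : ℕ) (hκ : ∀ l, L ≤ l → κ l = 2 * k + 2) :
    ∃ x : Matrix.GeneralLinearGroup ((Fin k ⊕ Fin k) ⊕ Fin 2) F,
      (∀ v, Cfsg.quadFormMinus k F a b
          ((x : Matrix ((Fin k ⊕ Fin k) ⊕ Fin 2) ((Fin k ⊕ Fin k) ⊕ Fin 2) F).mulVec v)
        = Cfsg.quadFormMinus k F a b v) ∧
      ∀ l, kdim (Matrix.toLin'
        ((x : Matrix ((Fin k ⊕ Fin k) ⊕ Fin 2) ((Fin k ⊕ Fin k) ⊕ Fin 2) F) - 1)) l = κ l := by
  classical
  obtain ⟨V, _, _, _, N, B, hN, hk, hs, hi, ι, _, av, bv, w₁, w₂, hf, haw₁, hbw₁, haw₂, hbw₂,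
    h11, h22, h12, hc⟩ := h
  have hfin : finrank F V = 2 * k + 2 := by
    obtain ⟨L', hL'⟩ := hN
    have h1 : N ^ (max L L') = 0 := by
      rw [← Nat.sub_add_cancel (le_max_right L L'), pow_add, hL', mul_zero]
    have h3 : kdim N (max L L') = finrank F V := by
      unfold kdim
      rw [h1, LinearMap.ker_zero, finrank_top]
    rw [← h3, hk, hκ _ (le_max_left L L')]
  have hcard : Fintype.card ι = k := by omega
  have hb'0 : b' ≠ 0 := by
    intro h0
    have := (hb' 0 1 (by rw [h0]; ring)).2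
    exact one_ne_zero this
  let σ : ι ≃ Fin k := Fintype.equivFinOfCardEq hcard
  set a' : Fin k → V := fun i => av (σ.symm i) with ha'
  set b'' : Fin k → V := fun i => bv (σ.symm i) with hb''
  have hf' : HFam B a' b'' := by
    refine ⟨fun i j => hf.aa _ _, fun i j => hf.bb _ _, fun i => hf.ab_same _, fun i j hij => ?_⟩
    apply hf.ab_ne
    intro h
    exact hij (σ.symm.injective h)
  set ψ₁ := coordMapMinus (F := F) a' b'' w₁ w₂ with hψ₁
  have hform := form_coordMapMinus B hs a' b'' w₁ w₂ hf' (fun i => haw₁ _) (fun i => hbw₁ _)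
    (fun i => haw₂ _) (fun i => hbw₂ _) h12
  have hQ₁ : ∀ c : (Fin k ⊕ Fin k) ⊕ Fin 2 → F,
      B (ψ₁ c) (ψ₁ c) = 2 * Cfsg.quadFormMinus k F 0 b' c := by
    intro c
    rw [hψ₁, hform, h11, h22]
    unfold Cfsg.quadFormMinus
    rw [mul_add, Finset.mul_sum]
    congr 1
    · apply Finset.sum_congr rfl
      intro i _
      ring
    · ring
  have hinj₁ : Function.Injective ψ₁ := by
    rw [← LinearMap.ker_eq_bot, LinearMap.ker_eq_bot']
    intro c hc0
    funext x
    rcases x with (i | i) | j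
    · have h1 := hform c (Pi.single (Sum.inl (Sum.inr i)) 1)
      rw [← hψ₁, hc0, map_zero, LinearMap.zero_apply] at h1
      simp only [Pi.single_apply, Sum.inl.injEq, Sum.inr.injEq, reduceCtorEq, if_false, mul_zero,
        zero_mul, add_zero, zero_add, mul_ite, mul_one, Finset.sum_ite_eq, Finset.mem_univ,
        if_true] at h1
      simpa using h1.symm
    · have h1 := hform c (Pi.single (Sum.inl (Sum.inl i)) 1)
      rw [← hψ₁, hc0, map_zero, LinearMap.zero_apply] at h1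
      simp only [Pi.single_apply, Sum.inl.injEq, reduceCtorEq, if_false, mul_zero,
        zero_mul, add_zero, zero_add, mul_ite, mul_one, Finset.sum_ite_eq, Finset.mem_univ,
        if_true] at h1
      simpa using h1.symm
    · fin_cases j
      · have h1 := hform c (Pi.single (Sum.inr 0) 1)
        rw [← hψ₁, hc0, map_zero, LinearMap.zero_apply, h11] at h1
        simp only [Pi.single_apply, Sum.inr.injEq, reduceCtorEq, if_false, mul_zero,
          zero_mul, add_zero, zero_add, Finset.sum_const_zero, if_true, mul_one] at h1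
        have h3 : c (Sum.inr 0) * 2 = 0 := by simpa using h1.symm
        rcases mul_eq_zero.mp h3 with h | h
        · exact h
        · exact absurd h h2
      · have h1 := hform c (Pi.single (Sum.inr 1) 1)
        rw [← hψ₁, hc0, map_zero, LinearMap.zero_apply, h22] at h1
        simp only [Pi.single_apply, Sum.inr.injEq, reduceCtorEq, if_false, mul_zero,
          zero_mul, add_zero, zero_add, Finset.sum_const_zero, if_true, mul_one] at h1
        have h3 : c (Sum.inr 1) * (2 * b') = 0 := by simpa using h1.symm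
        rcases mul_eq_zero.mp h3 with h | h
        · exact h
        · exact absurd h (mul_ne_zero h2 hb'0)
  -- the two minus forms are isometric
  have hfinι : finrank F ((Fin k ⊕ Fin k) ⊕ Fin 2 → F) = 2 * (k + 1) := by
    rw [Module.finrank_fintype_fun_eq_card, Fintype.card_sum, Fintype.card_sum, Fintype.card_fin,
      Fintype.card_fin]
    ring
  obtain ⟨g, hg⟩ := Cfsg.Agent.Helper44.QType.exists_isometry_of_hasType
    (Cfsg.Agent.Helper44.minusForm k F a b) (Cfsg.Agent.Helper44.minusForm k F 0 b') hfinι hfinι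
    (fun x hx => (Cfsg.Agent.Helper44.nondegenerate_minusForm k a b
      (disc_ne_zero_of_aniso h2 a b hab)).1 x (fun y => by
        rw [QuadraticMap.polarBilin_apply_apply]; exact hx y))
    (fun x hx => (Cfsg.Agent.Helper44.nondegenerate_minusForm k 0 b'
      (disc_ne_zero_of_aniso h2 0 b' hb')).1 x (fun y => by
        rw [QuadraticMap.polarBilin_apply_apply]; exact hx y))
    (Cfsg.Agent.Helper44.QType.hasType_minus k a b hab)
    (Cfsg.Agent.Helper44.QType.hasType_minus k 0 b' hb')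
  have hg' : ∀ v, Cfsg.quadFormMinus k F 0 b' (g v) = Cfsg.quadFormMinus k F a b v := hg
  set ψ : ((Fin k ⊕ Fin k) ⊕ Fin 2 → F) →ₗ[F] V := ψ₁ ∘ₗ g.toLinearMap with hψ
  have hinj : Function.Injective ψ := by
    rw [hψ]
    exact hinj₁.comp g.injective
  have hQ : ∀ c, B (ψ c) (ψ c) = 2 * Cfsg.quadFormMinus k F a b c := by
    intro c
    rw [hψ, LinearMap.comp_apply, hQ₁]
    show 2 * Cfsg.quadFormMinus k F 0 b' (g c) = _
    rw [hg']
  have hdim : Fintype.card ((Fin k ⊕ Fin k) ⊕ Fin 2) = finrank F V := by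
    rw [Fintype.card_sum, Fintype.card_sum, Fintype.card_fin, Fintype.card_fin, hfin]
    ring
  obtain ⟨x, hx1, hx2⟩ :=
    exists_isometry_of_coord h2 B N hN hi (Cfsg.quadFormMinus k F a b) ψ hinj hdim hQ
  exact ⟨x, hx1, fun l => by rw [hx2, hk]⟩

/-- **Existence (minus type).** Unipotent elements of `Ω⁻_{2k+2}(q)`, `q` odd, of every admissible
Jordan type having an odd part. -/
theorem exists_minus_unip [Fintype F] {p : ℕ} [Fact p.Prime] [CharP F p] (h2 : (2 : F) ≠ 0)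
    (k : ℕ) (a b : F) (hab : ∀ x y : F, x ^ 2 + a * x * y + b * y ^ 2 = 0 → x = 0 ∧ y = 0)
    (μ : Multiset ℕ) (hμ : ∀ e ∈ μ, 0 < e ∧ e ≤ p)
    (heven : ∀ e : ℕ, Even e → Even (μ.count e)) (hsum : μ.sum = 2 * k + 2)
    (hodd : ∃ o ∈ μ, Odd o) (hne : ∃ e ∈ μ, 2 ≤ e) :
    ∃ x : Matrix.GeneralLinearGroup ((Fin k ⊕ Fin k) ⊕ Fin 2) F,
      x ∈ Cfsg.Geo.omegaGL (Cfsg.quadFormMinus k F a b) ∧ x ^ p = 1 ∧
      ((x : Matrix ((Fin k ⊕ Fin k) ⊕ Fin 2) ((Fin k ⊕ Fin k) ⊕ Fin 2) F) - 1) ^ p = 0 ∧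
      (∀ z : F, (x : Matrix ((Fin k ⊕ Fin k) ⊕ Fin 2) ((Fin k ⊕ Fin k) ⊕ Fin 2) F) ≠ z • 1) ∧
      (∀ v, Cfsg.quadFormMinus k F a b
          ((x : Matrix ((Fin k ⊕ Fin k) ⊕ Fin 2) ((Fin k ⊕ Fin k) ⊕ Fin 2) F).mulVec v)
        = Cfsg.quadFormMinus k F a b v) ∧
      ∀ l, kdim (Matrix.toLin'
          ((x : Matrix ((Fin k ⊕ Fin k) ⊕ Fin 2) ((Fin k ⊕ Fin k) ⊕ Fin 2) F) - 1)) l
        = minSum μ l := by
  classical
  have hp : p.Prime := Fact.out
  have hp2 : p ≠ 2 := by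
    intro h
    apply h2
    have := CharP.cast_eq_zero F p
    rw [h] at this
    exact_mod_cast this
  have hpodd : Odd p := hp.odd_of_ne_two hp2
  -- a nonsquare
  obtain ⟨c, hc⟩ := FiniteField.exists_nonsquare
    (Cfsg.Agent.Helper44.ringChar_ne_two_of_two_ne_zero h2)
  have hc0 : c ≠ 0 := by
    rintro rfl
    exact hc ⟨0, by simp⟩
  have hb' : ∀ x y : F, x ^ 2 + 0 * x * y + (-c) * y ^ 2 = 0 → x = 0 ∧ y = 0 := by
    intro x y hxy
    have hy : y = 0 := by
      by_contra hy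
      apply hc
      refine ⟨x / y, ?_⟩
      field_simp
      linear_combination -hxy
    refine ⟨?_, hy⟩
    rw [hy] at hxy
    simpa using hxy
  -- the pieces
  obtain ⟨o, ho, hoo⟩ := hodd
  obtain ⟨μ₁, hμ₁⟩ := Multiset.exists_cons_of_mem ho
  obtain ⟨ko, hko⟩ := hoo
  have hs₁ : Odd μ₁.sum := by
    rw [hμ₁, Multiset.sum_cons] at hsum
    exact ⟨k - ko, by omega⟩
  have heven₁ : ∀ e : ℕ, Even e → Even (μ₁.count e) := by
    intro e he
    have h1 := heven e he
    rw [hμ₁, Multiset.count_cons, if_neg] at h1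
    · simpa using h1
    · rintro rfl
      rw [hko] at he
      exact (Nat.not_even_iff_odd.mpr ⟨ko, rfl⟩) he
  obtain ⟨α, hα, hg₁⟩ := oddGood_of_multiset (F := F) h2 _ μ₁ rfl heven₁ hs₁
  have hg₁' := oddGood_scale hg₁ (2 * (-c) / α) (div_ne_zero (mul_ne_zero h2 (neg_ne_zero.mpr hc0)) hα)
  rw [div_mul_cancel₀ _ hα] at hg₁'
  have hg₀ := oddGood_scale (oddGood_block (F := F) h2 ko) (2 / (-1) ^ ko)
    (div_ne_zero h2 (pow_ne_zero _ (neg_ne_zero.mpr one_ne_zero)))
  rw [div_mul_cancel₀ _ (pow_ne_zero _ (neg_ne_zero.mpr one_ne_zero))] at hg₀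
  have hm : MGood F (minSum μ) 2 (2 * (-c)) := by
    refine mgood_congr ?_ (mgood_of_oddGood_oddGood hg₀ hg₁')
    intro l
    rw [hμ₁, minSum_cons, hko]
  obtain ⟨x, hxQ, hxk⟩ := exists_minus_isometry h2 (k := k) a b hab (-c) hb' hm μ.sum (fun l hl => by
    rw [minSum_of_le μ l (fun e he => (Multiset.le_sum_of_mem he).trans hl), hsum])
  have hcard : Fintype.card ((Fin k ⊕ Fin k) ⊕ Fin 2) = 2 * k + 2 := by
    rw [Fintype.card_sum, Fintype.card_sum, Fintype.card_fin, Fintype.card_fin]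
    ring
  have hkp : kdim (Matrix.toLin'
      ((x : Matrix ((Fin k ⊕ Fin k) ⊕ Fin 2) ((Fin k ⊕ Fin k) ⊕ Fin 2) F) - 1)) p
      = Fintype.card ((Fin k ⊕ Fin k) ⊕ Fin 2) := by
    rw [hxk, hcard, minSum_of_le μ p (fun e he => (hμ e he).2), hsum]
  obtain ⟨hNp, hMp⟩ := pow_char_eq_one_of_kdim _ hkp
  have hxp : x ^ p = 1 := by
    apply Units.ext
    rw [Units.val_pow_eq_pow_val, hMp]
    rfl
  have hns := not_scalar_of_kdim
    (x : Matrix ((Fin k ⊕ Fin k) ⊕ Fin 2) ((Fin k ⊕ Fin k) ⊕ Fin 2) F) p hNp (by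
    rw [hxk, hcard, ← hsum]
    exact Cfsg.Agent.Helper99.JordanElt.minSum_one_lt μ (fun e he => (hμ e he).1) hne)
  have hxiso : x ∈ Cfsg.isometryGroup F ⇑(Cfsg.Agent.Helper44.minusForm k F a b) :=
    fun u _ => hxQ u
  have hΩ := mem_omegaGL_of_pow_eq_one (Cfsg.Agent.Helper44.minusForm k F a b) h2
    (Cfsg.Agent.Helper44.nondegenerate_minusForm k a b (disc_ne_zero_of_aniso h2 a b hab))
    x hxiso p hpodd hxp
  exact ⟨x, hΩ, hxp, hNp, hns, hxQ, hxk⟩

end Cfsg.Agent.Helper99.OrthJT
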