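import Mathlib
import Cfsg.Prelude.Def_ClassicalGeometry
import Cfsg.Agent.Helper13.Symp
import Cfsg.Agent.Helper13.SympTrans

set_option autoImplicit false

namespace Cfsg.Agent.Helper99

open Module LinearMap

section SympBilin
variable {F : Type*} [Field F] {d : ℕ}

/-- `sympForm` as a bilinear form -/
noncomputable def sympBilin (d : ℕ) (F : Type*) [Field F] : LinearMap.BilinForm F (Fin d ⊕ Fin d → F) :=
  LinearMap.mk₂ F (Cfsg.sympForm d F)
    (fun u u' v => Cfsg.Agent.Helper13.sympForm_add_left u u' v)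
    (fun c u v => by rw [Cfsg.Agent.Helper13.sympForm_smul_left, smul_eq_mul])
    (fun u v v' => Cfsg.Agent.Helper13.sympForm_add_right u v v')
    (fun c u v => by rw [Cfsg.Agent.Helper13.sympForm_smul_right, smul_eq_mul])

@[simp] theorem sympBilin_apply (u v : Fin d ⊕ Fin d → F) :
    sympBilin d F u v = Cfsg.sympForm d F u v := rfl

theorem sympBilin_isAlt : (sympBilin d F).IsAlt := by
  intro u
  exact Cfsg.Agent.Helper13.sympForm_self u

theorem sympBilin_nondeg : Disjoint (⊤ : Submodule F (Fin d ⊕ Fin d → F)) ((sympBilin d F).orthogonal ⊤) := by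
  rw [Submodule.disjoint_def]
  intro u _ hu
  rw [LinearMap.BilinForm.mem_orthogonal_iff] at hu
  by_contra hne
  obtain ⟨x, hx⟩ := Cfsg.Agent.Helper13.sympForm_nondeg_left hne
  exact hx (hu x trivial)

theorem sympBilin_toLin (x : ↥(Matrix.symplecticGroup (Fin d) F)) (u v : Fin d ⊕ Fin d → F) :
    sympBilin d F (Matrix.toLin' (x : Matrix (Fin d ⊕ Fin d) (Fin d ⊕ Fin d) F) u)
      (Matrix.toLin' (x : Matrix (Fin d ⊕ Fin d) (Fin d ⊕ Fin d) F) v) = sympBilin d F u v := by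
  simp only [sympBilin_apply, Matrix.toLin'_apply]
  exact (Cfsg.Agent.Helper13.mem_symplecticGroup_iff_preserves _).mp x.2 u v

/-- a scalar square of a symplectic matrix is `±1` (for `d ≥ 1`) -/
theorem symp_sq_scalar (hd : 1 ≤ d) (x : ↥(Matrix.symplecticGroup (Fin d) F)) (z : F)
    (hz : ((x ^ 2 : ↥(Matrix.symplecticGroup (Fin d) F)) : Matrix (Fin d ⊕ Fin d) (Fin d ⊕ Fin d) F) =
      z • (1 : Matrix (Fin d ⊕ Fin d) (Fin d ⊕ Fin d) F)) :
    (∀ v, Matrix.toLin' (x : Matrix (Fin d ⊕ Fin d) (Fin d ⊕ Fin d) F)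
      (Matrix.toLin' (x : Matrix (Fin d ⊕ Fin d) (Fin d ⊕ Fin d) F) v) = z • v) ∧ (z = 1 ∨ z = -1) := by
  set X := Matrix.toLin' (x : Matrix (Fin d ⊕ Fin d) (Fin d ⊕ Fin d) F) with hXdef
  have hX : ∀ v, X (X v) = z • v := by
    intro v
    have h1 : X ∘ₗ X = Matrix.toLin' (z • (1 : Matrix (Fin d ⊕ Fin d) (Fin d ⊕ Fin d) F)) := by
      rw [← hz, hXdef, ← Matrix.toLin'_mul, ← pow_two]
      rfl
    have h2 := LinearMap.congr_fun h1 v
    rw [LinearMap.comp_apply] at h2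
    rw [h2, map_smul, Matrix.toLin'_one]
    rfl
  refine ⟨hX, ?_⟩
  -- a nonzero vector
  have hne : (Pi.single (Sum.inl ⟨0, hd⟩) 1 : Fin d ⊕ Fin d → F) ≠ 0 := by
    intro h
    have := congrFun h (Sum.inl ⟨0, hd⟩)
    simp at this
  obtain ⟨w, hw⟩ := Cfsg.Agent.Helper13.sympForm_nondeg_left hne
  have h1 : sympBilin d F (X (X w)) (X (X (Pi.single (Sum.inl ⟨0, hd⟩) 1))) =
      sympBilin d F w (Pi.single (Sum.inl ⟨0, hd⟩) 1) := by
    rw [sympBilin_toLin, sympBilin_toLin]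
  simp only [hX, map_smul, LinearMap.smul_apply, smul_eq_mul, sympBilin_apply] at h1
  have h3 : (z * z - 1) * Cfsg.sympForm d F w (Pi.single (Sum.inl ⟨0, hd⟩) 1) = 0 := by
    rw [sub_mul, one_mul, mul_assoc, h1, sub_self]
  rcases mul_eq_zero.mp h3 with h | h
  · have : (z - 1) * (z + 1) = 0 := by rw [← h]; ring
    rcases mul_eq_zero.mp this with h' | h'
    · left; exact sub_eq_zero.mp h'
    · right; exact eq_neg_of_add_eq_zero_left h'
  · exact absurd h hw

end SympBilin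

end Cfsg.Agent.Helper99
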