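/-
helper99: (GR-C) of board #4182 for helper37 (S2733): classification of the similarities of
square a scalar with `dHom = -1` (graph involutions, `q` odd).
-/
import Mathlib
import Cfsg.Agent.Helper44.GraphSplit2

set_option autoImplicit false

namespace Cfsg.Agent.Helper99.GRC

open Matrix Cfsg.Agent.Helper44

variable {F : Type*} [Field F]

/-- a similarity `D` with multiplier `lam ≠ 0` and `D² = -lam`: `-D` and `D` have the same
characteristic polynomial -/
theorem charpoly_neg_of_sq_neg {ι : Type} [Fintype ι] [DecidableEq ι]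
    (Q : QuadraticForm F (ι → F)) (hQ : (QuadraticMap.polarBilin Q).Nondegenerate)
    (D : Matrix ι ι F) (lam : F) (hlam : lam ≠ 0) (hD : ∀ v, Q (D *ᵥ v) = lam * Q v)
    (hsq : D * D = (-lam) • (1 : Matrix ι ι F)) : (-D).charpoly = D.charpoly := by
  set M := LinearMap.BilinForm.toMatrix' (QuadraticMap.polarBilin Q) with hM
  have hMdet : M.det ≠ 0 := by
    rw [← Matrix.nondegenerate_iff_det_ne_zero, LinearMap.BilinForm.nondegenerate_toMatrix'_iff]
    exact hQ
  have hMu : IsUnit M := (Matrix.isUnit_iff_isUnit_det M).2 (isUnit_iff_ne_zero.2 hMdet)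
  have h1 : Dᵀ * M * D = lam • M := transpose_mul_polarMatrix_mul_sim Q D lam hD
  have h2 : Dᵀ * M = -(M * D) := by
    have h3 : Dᵀ * M * D * D = lam • M * D := by rw [h1]
    rw [Matrix.mul_assoc, hsq, Matrix.mul_smul, Matrix.mul_one, Matrix.smul_mul] at h3
    have h4 : lam • (Dᵀ * M) = lam • (-(M * D)) := by
      rw [smul_neg, ← h3, neg_smul, neg_neg]
    have h5 := congrArg (fun X => lam⁻¹ • X) h4
    simp only [smul_smul, inv_mul_cancel₀ hlam, one_smul] at h5
    exact h5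
  have h6 : -D = hMu.unit.val⁻¹ * Dᵀ * hMu.unit.val := by
    have e : hMu.unit.val = M := rfl
    rw [e, Matrix.mul_assoc, h2, Matrix.mul_neg, ← Matrix.mul_assoc,
      Matrix.nonsing_inv_mul M ((Matrix.isUnit_iff_isUnit_det M).1 hMu), Matrix.one_mul]
  rw [h6, Matrix.charpoly_units_conj', Matrix.charpoly_transpose]

theorem classify_graph_invol {F : Type*} [Field F] [Fintype F] (h2 : (2 : F) ≠ 0) {ι : Type}
    [Fintype ι] [DecidableEq ι] (Q : QuadraticForm F (ι → F))
    (hQ : (QuadraticMap.polarBilin Q).Nondegenerate) (n : ℕ) (hcard : Fintype.card ι = 2 * n)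
    {t : ι → F} (ht : Q t ≠ 0) (δ : ↥(Cfsg.Geo.quadSimilarityGroup (F := F) ⇑Q))
    (hsq : ∃ μ : F, (δ.1 : Matrix ι ι F) * (δ.1 : Matrix ι ι F) = μ • (1 : Matrix ι ι F))
    (hd : dHom Q ht n δ = -1) :
    (∃ (c : Fˣ) (g : ↥(Cfsg.isometryGroup F ⇑Q)), δ = scalarGO Q c * toGO Q g ∧
      ((g.1 : GL ι F) : Matrix ι ι F) * ((g.1 : GL ι F) : Matrix ι ι F) = 1 ∧
      ((g.1 : GL ι F) : Matrix ι ι F).det = -1) ∨
    (Odd n ∧ ∃ lam : F, ¬ IsSquare lam ∧
      (δ.1 : Matrix ι ι F) * (δ.1 : Matrix ι ι F) = lam • (1 : Matrix ι ι F) ∧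
      ∀ v, Q ((δ.1 : Matrix ι ι F) *ᵥ v) = lam * Q v) := by
  obtain ⟨μ, hμ⟩ := hsq
  set D : Matrix ι ι F := (δ.1 : Matrix ι ι F) with hDdef
  set lam : F := (multFun ⇑Q δ : F) with hlamdef
  have hlam0 : lam ≠ 0 := (multFun ⇑Q δ).ne_zero
  have hD : ∀ v, Q (D *ᵥ v) = lam * Q v := multFun_spec ⇑Q δ
  -- `lam² = μ²`
  have hsqeq : lam * lam = μ * μ := by
    have h1 : Q (D *ᵥ (D *ᵥ t)) = lam * (lam * Q t) := by rw [hD, hD]
    have h3 : D *ᵥ (D *ᵥ t) = μ • t := by
      rw [Matrix.mulVec_mulVec, hμ, Matrix.smul_mulVec, Matrix.one_mulVec]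
    rw [h3, QuadraticMap.map_smul, smul_eq_mul] at h1
    have h4 : (μ * μ - lam * lam) * Q t = 0 := by linear_combination h1
    rcases mul_eq_zero.1 h4 with h5 | h5
    · exact (sub_eq_zero.1 h5).symm
    · exact absurd h5 ht
  -- the determinant
  have hdet : D.det = -lam ^ n := by
    have h1 : ((dHom Q ht n δ : Fˣ) : F) = -1 := by rw [hd, Units.val_neg, Units.val_one]
    rw [dHom_apply, multHom_apply, Units.val_mul, Units.val_pow_eq_pow_val,
      Units.val_inv_eq_inv_val, Matrix.GeneralLinearGroup.val_det_apply] at h1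
    have h3 : (lam⁻¹) ^ n * lam ^ n = 1 := by
      rw [← mul_pow, inv_mul_cancel₀ hlam0, one_pow]
    calc D.det = D.det * (lam⁻¹) ^ n * lam ^ n := by rw [mul_assoc, h3, mul_one]
      _ = -lam ^ n := by rw [h1]; ring
  have hpow0 : lam ^ n ≠ 0 := pow_ne_zero n hlam0
  -- `μ = -lam` is impossible
  have hμlam : μ = lam := by
    rcases mul_self_eq_mul_self_iff.1 hsqeq with h | h
    · exact h.symm
    · exfalso
      have hμ' : μ = -lam := by rw [h, neg_neg]
      have hneg : (-D).charpoly = D.charpoly :=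
        charpoly_neg_of_sq_neg Q hQ D lam hlam0 hD (by rw [← hμ', hμ])
      have h1 := det_of_sq_of_charpoly_neg h2 D μ n hcard hμ hneg
      rw [hμ', neg_neg, hdet] at h1
      have h3 : (2 : F) * lam ^ n = 0 := by linear_combination -h1
      rcases mul_eq_zero.1 h3 with h4 | h4
      · exact h2 h4
      · exact hpow0 h4
  rw [hμlam] at hμ
  by_cases hsquare : IsSquare lam
  · left
    obtain ⟨ν, hν⟩ := hsquare
    have hν0 : ν ≠ 0 := by
      rintro rfl
      rw [mul_zero] at hν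
      exact hlam0 hν
    set c : Fˣ := Units.mk0 ν hν0 with hc
    have hcc : multHom ⇑Q ht δ = c * c := by
      apply Units.ext
      rw [multHom_apply, Units.val_mul]
      exact hν
    have hg1 : multHom ⇑Q ht (scalarGO Q c⁻¹ * δ) = 1 := by
      rw [map_mul, multHom_scalarGO, hcc]
      group
    have hgmem : (scalarGO Q c⁻¹ * δ).1 ∈ Cfsg.isometryGroup F ⇑Q :=
      mem_isometryGroup_of_multHom ⇑Q ht _ hg1
    have hscal : scalarGO Q c * scalarGO Q c⁻¹ = 1 := by
      apply Subtype.ext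
      show Matrix.GeneralLinearGroup.scalar ι c * Matrix.GeneralLinearGroup.scalar ι c⁻¹ = 1
      rw [← map_mul, mul_inv_cancel, map_one]
    have hδ : δ = scalarGO Q c * toGO Q ⟨(scalarGO Q c⁻¹ * δ).1, hgmem⟩ := by
      have e : toGO Q ⟨(scalarGO Q c⁻¹ * δ).1, hgmem⟩ = scalarGO Q c⁻¹ * δ := Subtype.ext rfl
      rw [e, ← mul_assoc, hscal, one_mul]
    refine ⟨c, ⟨(scalarGO Q c⁻¹ * δ).1, hgmem⟩, hδ, ?_, ?_⟩
    · apply Matrix.mulVec_injective
      funext v
      have hmv : ∀ w, (((scalarGO Q c⁻¹ * δ).1 : GL ι F) : Matrix ι ι F) *ᵥ w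
          = ν⁻¹ • (D *ᵥ w) := by
        intro w
        show ((((scalarGO Q c⁻¹).1 * δ.1 : GL ι F)) : Matrix ι ι F) *ᵥ w = _
        rw [Units.val_mul, ← Matrix.mulVec_mulVec, scalarGO_mulVec]
        rfl
      rw [← Matrix.mulVec_mulVec, hmv, hmv, Matrix.mulVec_smul, Matrix.mulVec_mulVec, hμ,
        Matrix.smul_mulVec, Matrix.one_mulVec, smul_smul, smul_smul, hν]
      have : ν⁻¹ * ν⁻¹ * (ν * ν) = 1 := by field_simp
      rw [this, one_smul]
    · have h1 : dHom Q ht n (scalarGO Q c * toGO Q ⟨(scalarGO Q c⁻¹ * δ).1, hgmem⟩) = -1 := by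
        rw [← hδ]
        exact hd
      rw [map_mul, dHom_scalarGO Q ht n hcard, one_mul, dHom_apply, multHom_toGO, inv_one,
        one_pow, mul_one] at h1
      have h3 := congrArg (fun u : Fˣ => (u : F)) h1
      simp only [Matrix.GeneralLinearGroup.val_det_apply, Units.val_neg, Units.val_one] at h3
      exact h3
  · right
    have h1 := det_of_sq_of_nonsquare D lam n hcard hμ hsquare
    rw [hdet, neg_pow] at h1
    have hodd : Odd n := by
      rcases Nat.even_or_odd n with he | ho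
      · exfalso
        rw [he.neg_one_pow, one_mul] at h1
        have h3 : (2 : F) * lam ^ n = 0 := by linear_combination -h1
        rcases mul_eq_zero.1 h3 with h4 | h4
        · exact h2 h4
        · exact hpow0 h4
      · exact ho
    exact ⟨hodd, lam, hsquare, hμ, hD⟩

end Cfsg.Agent.Helper99.GRC
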