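import Mathlib
import Cfsg.Agent.Helper99.QSpEllDefs
import Cfsg.Agent.Helper44.QTypeAniso
import Cfsg.Agent.Helper44.QTypeFpf

/-!
# Elliptic pairs: the span of an elliptic pair is an anisotropic plane (ME4a), and the number of
elliptic pairs from the number of partners (ME3).
-/

set_option autoImplicit false
set_option linter.unusedSectionVars false
set_option linter.style.haveILetI false

namespace Cfsg.Agent.Helper99.QSpEll

open Module
open Cfsg.Agent.Helper99.SpStruct
open Cfsg.Agent.Helper44 Cfsg.Agent.Helper44.QType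
open Cfsg.Agent.Helper99.QSp

universe u v

variable {F : Type u} [Field F] [Fintype F]
variable {V : Type v} [AddCommGroup V] [Module F V] [FiniteDimensional F V]

omit [Fintype F] in
theorem one_sub_four_ne_zero {ζ : F} (hζ : ∀ t : F, t ^ 2 + t + ζ ≠ 0) : (1 : F) - 4 * ζ ≠ 0 := by
  intro h
  have h2 : (2 : F) ≠ 0 := by
    intro h2
    have h4 : (4 : F) = 0 := by linear_combination 2 * h2
    rw [h4, zero_mul, sub_zero] at h
    exact one_ne_zero h
  apply hζ (-(1 / 2))
  field_simp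
  linear_combination (-1 : F) * h

omit [Fintype F] in
/-- the binary form `x² + xy + ζy²` is anisotropic -/
theorem aniso_of_param {ζ : F} (hζ : ∀ t : F, t ^ 2 + t + ζ ≠ 0) {x y : F}
    (h : x * x + y * y * ζ + x * y = 0) : x = 0 ∧ y = 0 := by
  by_cases hy : y = 0
  · subst hy
    simp only [mul_zero, zero_mul, add_zero] at h
    exact ⟨mul_self_eq_zero.mp h, rfl⟩
  · exfalso
    apply hζ (x / y)
    field_simp
    linear_combination h

omit [Fintype F] [FiniteDimensional F V] in
theorem q_epair_comb (Q : QuadraticForm F V) {ζ : F} {p : V × V} (hp : IsEPair Q ζ p) (x y : F) :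
    Q (x • p.1 + y • p.2) = x * x + y * y * ζ + x * y := by
  obtain ⟨h1, h2, h3⟩ := hp
  rw [pB_apply] at h2
  rw [QuadraticMap.map_add ⇑Q, QuadraticMap.map_smul, QuadraticMap.map_smul,
    QuadraticMap.polar_smul_left, QuadraticMap.polar_smul_right, h1, h2, h3]
  simp only [smul_eq_mul]
  ring

/-- (ME4a) the span of an elliptic pair is an anisotropic plane: nondegenerate of type `-` -/
theorem epair_span_props (Q : QuadraticForm F V) {ζ : F} (hζ : ∀ t : F, t ^ 2 + t + ζ ≠ 0)
    {p : V × V} (hp : IsEPair Q ζ p) :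
    finrank F ↥(Submodule.span F {p.1, p.2}) = 2 ∧ Nd (pB Q) (Submodule.span F {p.1, p.2}) ∧
      QType Q (Submodule.span F {p.1, p.2}) 1 (-1) := by
  classical
  have hcomb := q_epair_comb Q hp
  have hmem : ∀ w ∈ Submodule.span F {p.1, p.2}, ∃ x y : F, w = x • p.1 + y • p.2 := by
    intro w hw
    obtain ⟨x, y, rfl⟩ := Submodule.mem_span_pair.mp hw
    exact ⟨x, y, rfl⟩
  have haniso : ∀ w ∈ Submodule.span F {p.1, p.2}, Q w = 0 → w = 0 := by
    intro w hw h0
    obtain ⟨x, y, rfl⟩ := hmem w hw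
    rw [hcomb] at h0
    obtain ⟨rfl, rfl⟩ := aniso_of_param hζ h0
    simp
  have hli : LinearIndependent F ![p.1, p.2] := by
    rw [LinearIndependent.pair_iff]
    intro x y hxy
    have h0 : Q (x • p.1 + y • p.2) = 0 := by rw [hxy, map_zero]
    rw [hcomb] at h0
    exact aniso_of_param hζ h0
  have hdim : finrank F ↥(Submodule.span F {p.1, p.2}) = 2 := by
    have h1 : Set.range ![p.1, p.2] = {p.1, p.2} := by
      ext w
      simp only [Set.mem_range, Set.mem_insert_iff, Set.mem_singleton_iff]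
      constructor
      · rintro ⟨i, rfl⟩
        fin_cases i
        · left; rfl
        · right; rfl
      · rintro (rfl | rfl)
        · exact ⟨0, rfl⟩
        · exact ⟨1, rfl⟩
    rw [← h1, finrank_span_eq_card hli, Fintype.card_fin]
  refine ⟨hdim, ?_, ?_⟩
  · rw [nd_iff]
    intro w hw hw'
    obtain ⟨x, y, rfl⟩ := hmem w hw
    obtain ⟨h1, h2, h3⟩ := hp
    have e1 := hw' p.1 (Submodule.subset_span (by simp))
    have e2 := hw' p.2 (Submodule.subset_span (by simp))
    have h21 : pB Q p.2 p.1 = 1 := by rw [(pB_symm Q).eq]; exact h2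
    rw [map_add, map_smul, map_smul, pB_self, h1, h2, smul_eq_mul, smul_eq_mul] at e1
    rw [map_add, map_smul, map_smul, pB_self, h3, h21, smul_eq_mul, smul_eq_mul] at e2
    have hx : x * (1 - 4 * ζ) = 0 := by linear_combination e2 - 2 * ζ * e1
    have hx0 : x = 0 := (mul_eq_zero.mp hx).resolve_right (one_sub_four_ne_zero hζ)
    have hy0 : y = 0 := by
      rw [hx0] at e1
      linear_combination e1
    rw [hx0, hy0]
    simp
  · unfold QType HasType fc
    have h1 : Nat.card {w : ↥(Submodule.span F {p.1, p.2}) //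
        (qSub Q (Submodule.span F {p.1, p.2})) w = 0} = 1 := by
      haveI : Unique {w : ↥(Submodule.span F {p.1, p.2}) //
          (qSub Q (Submodule.span F {p.1, p.2})) w = 0} :=
        { default := ⟨0, map_zero _⟩
          uniq := fun a => Subtype.ext (Subtype.ext (haniso a.1.1 a.1.2 a.2)) }
      exact Nat.card_unique
    rw [h1]
    ring

/-- (ME3) the number of elliptic pairs from the number of partners -/
theorem card_epairs_of (Q : QuadraticForm F V) {X : Submodule F V} (hX : Nd (pB Q) X) {g : ℕ}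
    (hg : 1 ≤ g) (hdim : finrank F ↥X = 2 * g) {ε : ℤ} (hε : QType Q X g ε) {ζ : F} {κ : ℤ}
    (hκ : ∀ u ∈ X, Q u = 1 → (Nat.card {v : V // v ∈ X ∧ pB Q u v = 1 ∧ Q v = ζ} : ℤ) = κ) :
    (Nat.card {p : V × V // IsEPair Q ζ p ∧ p.1 ∈ X ∧ p.2 ∈ X} : ℤ) =
      (Fintype.card F : ℤ) ^ (g - 1) * ((Fintype.card F : ℤ) ^ g - ε) * κ := by
  classical
  haveI : Finite V := Module.finite_of_finite F
  -- the number of vectors of norm one
  have hfc := fc_one_mul (qSub Q X) hdim (qSub_nd Q hX) hε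
  rw [Nat.card_eq_fintype_card] at hfc
  have hq0 : (Fintype.card F : ℤ) ≠ 0 := by
    have := Fintype.card_pos (α := F)
    positivity
  have hfc' : (fc (⇑(qSub Q X)) 1 : ℤ) =
      (Fintype.card F : ℤ) ^ (g - 1) * ((Fintype.card F : ℤ) ^ g - ε) := by
    apply mul_right_cancel₀ hq0
    rw [hfc]
    obtain ⟨g', rfl⟩ : ∃ g', g = g' + 1 := ⟨g - 1, by omega⟩
    rw [Nat.add_sub_cancel, pow_succ]
    ring
  -- the fibration over the first vector
  let U := {u : V // u ∈ X ∧ Q u = 1}
  haveI : Fintype U := Fintype.ofFinite _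
  let e1 : {p : V × V // IsEPair Q ζ p ∧ p.1 ∈ X ∧ p.2 ∈ X} ≃
      Σ u : U, {v : V // v ∈ X ∧ pB Q u.1 v = 1 ∧ Q v = ζ} :=
    { toFun := fun p => ⟨⟨p.1.1, p.2.2.1, p.2.1.1⟩, ⟨p.1.2, p.2.2.2, p.2.1.2.1, p.2.1.2.2⟩⟩
      invFun := fun y => ⟨(y.1.1, y.2.1), ⟨y.1.2.2, y.2.2.2.1, y.2.2.2.2⟩, y.1.2.1, y.2.2.1⟩
      left_inv := fun p => rfl
      right_inv := fun y => rfl }
  have e2 : U ≃ {w : ↥X // (qSub Q X) w = 1} :=
    { toFun := fun u => ⟨⟨u.1, u.2.1⟩, u.2.2⟩
      invFun := fun w => ⟨w.1.1, w.1.2, w.2⟩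
      left_inv := fun u => rfl
      right_inv := fun w => rfl }
  have hU : (Nat.card U : ℤ) = (Fintype.card F : ℤ) ^ (g - 1) * ((Fintype.card F : ℤ) ^ g - ε) := by
    rw [Nat.card_congr e2]
    exact hfc'
  rw [Nat.card_congr e1, Nat.card_sigma]
  push_cast
  rw [Finset.sum_congr rfl (fun u _ => hκ u.1 u.2.1 u.2.2), Finset.sum_const, Finset.card_univ,
    ← Nat.card_eq_fintype_card, nsmul_eq_mul, hU]

end Cfsg.Agent.Helper99.QSpEll
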