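import Mathlib
import Cfsg.Agent.Helper99.QSpEllDefs
import Cfsg.Agent.Helper99.QSpEllA
import Cfsg.Agent.Helper99.QSpGlue
import Cfsg.Agent.Helper44.QTypeFpf
import Cfsg.Agent.Helper44.OrthRealizeC
import Cfsg.Agent.Helper12.QSpME1
import Cfsg.Agent.Helper12.QSpME2
import Cfsg.Agent.Helper79.QSpME4b
import Cfsg.Agent.Helper74.QSpME4c
import Cfsg.Agent.Helper70.QSpME5b

/-!
# Counting elliptic subspaces, characteristic free (S5988 / S5990): the pieces proved by helper12,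
helper70, helper74, helper79 under one namespace, and the weak consequence of
`r ∣ #(elliptic 2e-spaces)`.
-/

set_option autoImplicit false
set_option linter.unusedSectionVars false
set_option linter.unusedVariables false
set_option linter.style.haveILetI false

namespace Cfsg.Agent.Helper99.QSpEllGlue

open Module
open Cfsg.Agent.Helper99.SpStruct
open Cfsg.Agent.Helper44 Cfsg.Agent.Helper44.QType
open Cfsg.Agent.Helper99.QSp
open Cfsg.Agent.Helper94

universe u v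

variable {F : Type u} [Field F] [Fintype F]
variable {V : Type v} [AddCommGroup V] [Module F V] [FiniteDimensional F V]

/-- (ME1) every vector of norm `1` of a nondegenerate space of dimension `≥ 4` has a partner with
prescribed norm -/
theorem exists_epartner (Q : QuadraticForm F V) {X : Submodule F V} (hX : Nd (pB Q) X) {g : ℕ}
    (hg : 2 ≤ g) (hdim : finrank F ↥X = 2 * g) {u : V} (huX : u ∈ X) (hu : Q u = 1) (ζ : F) :
    ∃ v ∈ X, pB Q u v = 1 ∧ Q v = ζ :=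
  Cfsg.Agent.Helper12.QSpEll.exists_epartner Q hX hg hdim huX hu ζ

/-- (ME2) the number of elliptic partners of a vector of norm `1` -/
theorem card_epartners (Q : QuadraticForm F V) {X : Submodule F V} (hX : Nd (pB Q) X) {g : ℕ}
    (hg : 2 ≤ g) (hdim : finrank F ↥X = 2 * g) {ε : ℤ} (hε : QType Q X g ε)
    {ζ : F} (hζ : ∀ t : F, t ^ 2 + t + ζ ≠ 0) {u : V} (huX : u ∈ X) (hu : Q u = 1) :
    (Nat.card {v : V // v ∈ X ∧ pB Q u v = 1 ∧ Q v = ζ} : ℤ) =
      (Fintype.card F : ℤ) ^ (g - 1) * ((Fintype.card F : ℤ) ^ (g - 1) - ε) :=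
  Cfsg.Agent.Helper12.QSpEll.card_epartners Q hX hg hdim hε hζ huX hu

/-- (ME3) the number of elliptic pairs of a nondegenerate `2g`-space of type `ε`, `g ≥ 2` -/
theorem card_epairs (Q : QuadraticForm F V) {X : Submodule F V} (hX : Nd (pB Q) X) {g : ℕ}
    (hg : 2 ≤ g) (hdim : finrank F ↥X = 2 * g) {ε : ℤ} (hε : QType Q X g ε)
    {ζ : F} (hζ : ∀ t : F, t ^ 2 + t + ζ ≠ 0) :
    (Nat.card {p : V × V // IsEPair Q ζ p ∧ p.1 ∈ X ∧ p.2 ∈ X} : ℤ) =
      (Fintype.card F : ℤ) ^ (2 * g - 2) * ((Fintype.card F : ℤ) ^ g - ε) *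
        ((Fintype.card F : ℤ) ^ (g - 1) - ε) := by
  rw [Cfsg.Agent.Helper99.QSpEll.card_epairs_of Q hX (by omega) hdim hε
    (fun u huX hu => card_epartners Q hX hg hdim hε hζ huX hu)]
  have h1 : 2 * g - 2 = (g - 1) + (g - 1) := by omega
  rw [h1, pow_add]
  ring

/-- (ME4a) the span of an elliptic pair is an anisotropic plane: nondegenerate of type `-` -/
theorem epair_span_props (Q : QuadraticForm F V) {ζ : F} (hζ : ∀ t : F, t ^ 2 + t + ζ ≠ 0)
    {p : V × V} (hp : IsEPair Q ζ p) :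
    finrank F ↥(Submodule.span F {p.1, p.2}) = 2 ∧ Nd (pB Q) (Submodule.span F {p.1, p.2}) ∧
      QType Q (Submodule.span F {p.1, p.2}) 1 (-1) :=
  Cfsg.Agent.Helper99.QSpEll.epair_span_props Q hζ hp

/-- (ME4b) the span of an elliptic frame is an elliptic space -/
theorem qeSpan_props (Q : QuadraticForm F V) (hnd : (pB Q).Nondegenerate) {ζ : F}
    (hζ : ∀ t : F, t ^ 2 + t + ζ ≠ 0) {e : ℕ} {x : (Fin e → V × V) × (V × V)}
    (hx : IsQEFrame Q ζ x) :
    finrank F ↥(qeSpan (F := F) x) = 2 * (e + 1) ∧ Nd (pB Q) (qeSpan (F := F) x) ∧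
      ¬ Hyp Q (qeSpan (F := F) x) :=
  Cfsg.Agent.Helper79.QSpEll.qeSpan_props' Q hnd hζ hx (epair_span_props Q hζ hx.2.2.2)

/-- (ME4c) the number of elliptic frames -/
theorem card_qeFrame (Q : QuadraticForm F V) (hnd : (pB Q).Nondegenerate) {d : ℕ}
    (hV : finrank F V = 2 * d) {εV : ℤ} (hT : QType Q ⊤ d εV) {ζ : F}
    (hζ : ∀ t : F, t ^ 2 + t + ζ ≠ 0) (e : ℕ) (he : e + 2 ≤ d) :
    (Nat.card {x : (Fin e → V × V) × (V × V) // IsQEFrame Q ζ x} : ℤ) =
      (∏ k : Fin e, (((Fintype.card F : ℤ) ^ (d - k.val) - εV) *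
        ((Fintype.card F : ℤ) ^ (d - k.val - 1) + εV) *
        (Fintype.card F : ℤ) ^ (2 * (d - k.val) - 2))) *
      ((Fintype.card F : ℤ) ^ (2 * (d - e) - 2) * ((Fintype.card F : ℤ) ^ (d - e) - εV) *
        ((Fintype.card F : ℤ) ^ (d - e - 1) - εV)) :=
  Cfsg.Agent.Helper74.QSpEll.card_qeFrame_of Q hnd hV hT hζ
    (fun hX _ hg hdim _ hε => card_epairs Q hX hg hdim hε hζ) e he

/-- (ME5a) the span map on elliptic frames -/
noncomputable def qeSpanMap (Q : QuadraticForm F V) (hnd : (pB Q).Nondegenerate) {ζ : F}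
    (hζ : ∀ t : F, t ^ 2 + t + ζ ≠ 0) (e : ℕ) :
    {x : (Fin e → V × V) × (V × V) // IsQEFrame Q ζ x} →
      {W : Submodule F V // finrank F ↥W = 2 * (e + 1) ∧ Nd (pB Q) W ∧ ¬ Hyp Q W} :=
  fun x => ⟨qeSpan (F := F) x.1, qeSpan_props Q hnd hζ x.2⟩

/-- (ME5b) all fibres of the span map have the same size -/
theorem exists_card_qefiber_const (Q : QuadraticForm F V) (hnd : (pB Q).Nondegenerate) {ζ : F}
    (hζ : ∀ t : F, t ^ 2 + t + ζ ≠ 0) (e : ℕ) :
    ∃ N : ℕ, ∀ W : {W : Submodule F V // finrank F ↥W = 2 * (e + 1) ∧ Nd (pB Q) W ∧ ¬ Hyp Q W},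
      Nat.card {x : {x : (Fin e → V × V) × (V × V) // IsQEFrame Q ζ x} //
        qeSpanMap Q hnd hζ e x = W} = N :=
  Cfsg.Agent.Helper70.QSpEll.exists_card_qefiber_const Q hnd hζ e
    (fun x hx => qeSpan_props Q hnd hζ hx)

/-- (ME5) **the weak consequence of `r ∣ #(elliptic 2(e+1)-spaces)`** -/
theorem exists_dvd_of_dvd_card_ell' (Q : QuadraticForm F V) (hnd : (pB Q).Nondegenerate) {d : ℕ}
    (hV : finrank F V = 2 * d) {εV : ℤ} (hT : QType Q ⊤ d εV) (e : ℕ) (he : e + 2 ≤ d) (r : ℕ)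
    (hr : r.Prime) (hrq : ¬ r ∣ Fintype.card F)
    (hdvd : r ∣ Nat.card {W : Submodule F V // finrank F ↥W = 2 * (e + 1) ∧ Nd (pB Q) W ∧
      ¬ Hyp Q W}) :
    (∃ k : ℕ, k < e ∧ (r : ℤ) ∣ ((Fintype.card F : ℤ) ^ (d - k) - εV) *
      ((Fintype.card F : ℤ) ^ (d - k - 1) + εV)) ∨
    (r : ℤ) ∣ ((Fintype.card F : ℤ) ^ (d - e) - εV) * ((Fintype.card F : ℤ) ^ (d - e - 1) - εV) := by
  classical
  haveI : Finite V := Module.finite_of_finite F
  haveI : Fintype {W : Submodule F V // finrank F ↥W = 2 * (e + 1) ∧ Nd (pB Q) W ∧ ¬ Hyp Q W} :=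
    Fintype.ofFinite _
  obtain ⟨ζ, hζ, -⟩ := Cfsg.Agent.Helper44.QType.exists_irred_param (F := F)
  obtain ⟨N, hN⟩ := exists_card_qefiber_const Q hnd hζ e
  have h1 := card_qeFrame Q hnd hV hT hζ e he
  rw [Nat.card_congr (Equiv.sigmaFiberEquiv (qeSpanMap Q hnd hζ e)).symm, Nat.card_sigma,
    Finset.sum_congr rfl (fun W _ => hN W), Finset.sum_const, Finset.card_univ,
    ← Nat.card_eq_fintype_card, smul_eq_mul] at h1
  have hrZ : Prime (r : ℤ) := Nat.prime_iff_prime_int.mp hr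
  have hrq' : ∀ n : ℕ, ¬ (r : ℤ) ∣ (Fintype.card F : ℤ) ^ n := by
    intro n h
    have h' := hrZ.dvd_of_dvd_pow h
    exact hrq (Int.natCast_dvd_natCast.mp h')
  have h3 : (r : ℤ) ∣ (∏ k : Fin e, (((Fintype.card F : ℤ) ^ (d - k.val) - εV) *
        ((Fintype.card F : ℤ) ^ (d - k.val - 1) + εV) *
        (Fintype.card F : ℤ) ^ (2 * (d - k.val) - 2))) *
      ((Fintype.card F : ℤ) ^ (2 * (d - e) - 2) * ((Fintype.card F : ℤ) ^ (d - e) - εV) *
        ((Fintype.card F : ℤ) ^ (d - e - 1) - εV)) := by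
    rw [← h1]
    push_cast
    exact Dvd.dvd.mul_right (Int.natCast_dvd_natCast.mpr hdvd) _
  rcases hrZ.dvd_or_dvd h3 with h | h
  · left
    obtain ⟨k, -, hk⟩ := (hrZ.dvd_finsetProd_iff _).mp h
    rcases hrZ.dvd_or_dvd hk with h' | h'
    · exact ⟨k.val, k.2, h'⟩
    · exact absurd h' (hrq' _)
  · right
    rcases hrZ.dvd_or_dvd h with h' | h'
    · rcases hrZ.dvd_or_dvd h' with h'' | h''
      · exact absurd h'' (hrq' _)
      · exact Dvd.dvd.mul_right h'' _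
    · exact Dvd.dvd.mul_left h' _

/-- the same, for `2e`-spaces, `1 ≤ e < d` -/
theorem exists_dvd_of_dvd_card_ell (Q : QuadraticForm F V) (hnd : (pB Q).Nondegenerate) {d : ℕ}
    (hV : finrank F V = 2 * d) {εV : ℤ} (hT : QType Q ⊤ d εV) (e : ℕ) (he1 : 1 ≤ e) (he : e < d)
    (r : ℕ) (hr : r.Prime) (hrq : ¬ r ∣ Fintype.card F)
    (hdvd : r ∣ Nat.card {W : Submodule F V // finrank F ↥W = 2 * e ∧ Nd (pB Q) W ∧ ¬ Hyp Q W}) :
    (∃ k : ℕ, k + 1 < e ∧ (r : ℤ) ∣ ((Fintype.card F : ℤ) ^ (d - k) - εV) *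
      ((Fintype.card F : ℤ) ^ (d - k - 1) + εV)) ∨
    (r : ℤ) ∣ ((Fintype.card F : ℤ) ^ (d - e + 1) - εV) *
      ((Fintype.card F : ℤ) ^ (d - e) - εV) := by
  obtain ⟨e', rfl⟩ : ∃ e', e = e' + 1 := ⟨e - 1, by omega⟩
  rcases exists_dvd_of_dvd_card_ell' Q hnd hV hT e' (by omega) r hr hrq hdvd with
    ⟨k, hk, h⟩ | h
  · left
    exact ⟨k, by omega, h⟩
  · right
    have e1 : d - (e' + 1) + 1 = d - e' := by omega
    have e2 : d - (e' + 1) = d - e' - 1 := by omega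
    rw [e1, e2]
    exact h

end Cfsg.Agent.Helper99.QSpEllGlue
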