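import Mathlib
import Cfsg.Agent.Helper99.QSpGlue
import Cfsg.Agent.Helper94.TpB

/-!
# The `QSp` engine for an arbitrary even dimensional quadratic space `(ι → F, Q)` of type `εV` and
invariant subspaces of type `ε` (generic versions of the lemmas of `QSpMain`, for S5990).
-/

set_option autoImplicit false
set_option linter.unusedSectionVars false
set_option linter.style.haveILetI false

namespace Cfsg.Agent.Helper99.QSpGen

open Module Polynomial Matrix
open Cfsg
open Cfsg.Agent.Helper59.InvChain Cfsg.Agent.Helper59.Elusive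
open Cfsg.Agent.Helper99.SpStruct Cfsg.Agent.Helper99.RDecomp Cfsg.Agent.Helper99.SpElt
open Cfsg.Agent.Helper44 Cfsg.Agent.Helper44.QType
open Cfsg.Agent.Helper99.QSp
open Cfsg.Agent.Helper99.QSpGlue
open Cfsg.Agent.Helper94.Tn Cfsg.Agent.Helper94.Ts

universe u

variable {F : Type u} [Field F] [Fintype F] {ι : Type} [Fintype ι] [DecidableEq ι]

/-- the property of the statements, in our language: an invariant nondegenerate `2e`-space of
type `ε` -/
def GoodT (Q : QuadraticForm F (ι → F)) (e : ℕ) (ε : ℤ) (A : Matrix ι ι F) : Prop :=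
  ∃ W : Submodule F (ι → F), finrank F ↥W = 2 * e ∧ Nd (pB Q) W ∧ QType Q W e ε ∧
    Inv (Matrix.toLin' A) W

omit [Fintype F] [Fintype ι] [DecidableEq ι] in
/-- a nondegenerate quadratic form on a nonzero space is not zero -/
theorem exists_ne_zero (Q : QuadraticForm F (ι → F)) (hnd : (pB Q).Nondegenerate)
    [Nonempty ι] : ∃ v, Q v ≠ 0 := by
  by_contra hcon
  push Not at hcon
  obtain ⟨i⟩ := ‹Nonempty ι›
  classical
  have hv : (Pi.single i (1 : F) : ι → F) ≠ 0 := by
    intro h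
    have := congrFun h i
    simp at this
  apply hv
  apply hnd.1
  intro w
  rw [pB_apply]
  unfold QuadraticMap.polar
  rw [hcon, hcon, hcon]
  simp

/-- a scalar `z` with `g ^ r = z`, `g` an isometry, satisfies `z ^ 2 = 1` -/
theorem sq_eq_one_of_pow_eq_smul (Q : QuadraticForm F (ι → F)) (hnd : (pB Q).Nondegenerate)
    [Nonempty ι] (g : ↥(Cfsg.isometryGroup F ⇑Q)) {r : ℕ} {z : F}
    (hz : (((g : GL ι F) ^ r : GL ι F) : Matrix ι ι F) = z • (1 : Matrix ι ι F)) :
    z ^ 2 = 1 := by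
  obtain ⟨v₀, hv₀⟩ := exists_ne_zero Q hnd
  have h1 : Q ((((g : GL ι F) ^ r : GL ι F) : Matrix ι ι F) *ᵥ v₀) = Q v₀ :=
    Cfsg.Agent.Helper44.isometryGroup_apply (g ^ r) v₀
  rw [hz, Matrix.smul_mulVec, Matrix.one_mulVec, QuadraticMap.map_smul, smul_eq_mul] at h1
  have : (z ^ 2 - 1) * Q v₀ = 0 := by linear_combination h1
  exact sub_eq_zero.mp ((mul_eq_zero.mp this).resolve_right hv₀)

theorem finrank_fun {d : ℕ} (hι : Fintype.card ι = 2 * d) : finrank F (ι → F) = 2 * d := by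
  rw [Module.finrank_fintype_fun_eq_card, hι]

section odd

variable {p : ℕ} [Fact p.Prime] [CharP F p]

/-- (⇐) for odd `r`: one element -/
theorem good_of_crit (Q : QuadraticForm F (ι → F)) (hnd : (pB Q).Nondegenerate) [Nonempty ι]
    {d : ℕ} (hι : Fintype.card ι = 2 * d) {εV : ℤ} (hT : QType Q ⊤ d εV) {ε : ℤ}
    (hε : ε = 1 ∨ ε = -1) (r : ℕ) [Fact r.Prime] (hrp : r ≠ p) (hr2 : r ≠ 2) {e : ℕ}
    (hall : ∀ b : ℕ, 1 ≤ b →
      b * blockSize (orderOf ((Fintype.card F : ℕ) : ZMod r)) ≤ 2 * d →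
      (b * blockSize (orderOf ((Fintype.card F : ℕ) : ZMod r)) = 2 * d →
        bsign (orderOf ((Fintype.card F : ℕ) : ZMod r)) b = εV) →
      Crit (orderOf ((Fintype.card F : ℕ) : ZMod r))
        (blockSize (orderOf ((Fintype.card F : ℕ) : ZMod r))) d e b εV ε)
    (g : ↥(Cfsg.isometryGroup F ⇑Q)) {z : F}
    (hz : (((g : GL ι F) ^ r : GL ι F) : Matrix ι ι F) = z • (1 : Matrix ι ι F))
    (hns : ∀ z : F, ((g : GL ι F) : Matrix ι ι F) ≠ z • (1 : Matrix ι ι F)) :
    GoodT Q e ε ((g : GL ι F) : Matrix ι ι F) := by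
  classical
  have hr : r.Prime := Fact.out
  have hrodd : Odd r := hr.odd_of_ne_two hr2
  have hrq := not_dvd_card_of_ne (F := F) r hrp
  set A : Matrix ι ι F := ((g : GL ι F) : Matrix ι ι F) with hA
  have hz2 : z ^ 2 = 1 := sq_eq_one_of_pow_eq_smul Q hnd g hz
  have hz0 : z ≠ 0 := by
    rintro rfl
    norm_num at hz2
  have hAr : A ^ r = z • (1 : Matrix ι ι F) := by
    rw [← hz, Units.val_pow_eq_pow_val]
  set L : Module.End F (ι → F) := Matrix.toLin' A with hL
  have hLr : L ^ r = z • (1 : Module.End F (ι → F)) := by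
    rw [hL, ← Matrix.toLin'_pow, hAr, map_smul, Matrix.toLin'_one]
    rfl
  set y : Module.End F (ι → F) := z • L with hy
  have hzr : z ^ (r + 1) = 1 := by
    obtain ⟨k, hk⟩ := hrodd
    have : r + 1 = 2 * (k + 1) := by omega
    rw [this, pow_mul, hz2, one_pow]
  have hyr : y ^ r = 1 := by
    rw [hy, _root_.smul_pow, hLr, smul_smul, ← pow_succ, hzr, one_smul]
  have hLiso : ∀ v, Q (L v) = Q v := by
    intro v
    rw [hL, Matrix.toLin'_apply]
    exact Cfsg.Agent.Helper44.isometryGroup_apply g v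
  have hyiso : ∀ v, Q (y v) = Q v := by
    intro v
    rw [hy, LinearMap.smul_apply, QuadraticMap.map_smul, hLiso, smul_eq_mul, ← pow_two, hz2, one_mul]
  have hy1 : y ≠ 1 := by
    intro h1
    apply hns z⁻¹
    have h3 : L = z⁻¹ • (1 : Module.End F (ι → F)) := by
      rw [← h1, hy, smul_smul, inv_mul_cancel₀ hz0, one_smul]
    have h4 : Matrix.toLin' A = Matrix.toLin' (z⁻¹ • (1 : Matrix ι ι F)) := by
      rw [map_smul, Matrix.toLin'_one]
      exact h3
    exact Matrix.toLin'.injective h4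
  have hS : QSetup Q r y :=
    { nondeg := hnd
      iso := hyiso
      setup := setup_of r hrp y hyr
      odd := hrodd
      hp := HP_cyclotomic r hrp }
  have hV : finrank F (ι → F) = 2 * d := finrank_fun hι
  obtain ⟨b, hb⟩ := QSetup.blockSize_dvd hS (inv_cycSp r y) (QSetup.nd_cyc hS) le_rfl
  rw [mul_comm] at hb
  obtain ⟨hadm1, hadm2, hadm3⟩ := QSetup.admissible hS hrq hV hT hb
  have hcrit := hall b (hadm3 hy1) hadm1 hadm2
  obtain ⟨W, hWinv, hWnd, hWdim, hWty⟩ :=
    (QSetup.exists_inv_typed_iff hS hrq hV hT hb hε).mpr hcrit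
  refine ⟨W, hWdim, hWnd, hWty, ?_⟩
  rintro _ ⟨w, hw, rfl⟩
  have h1 : y w ∈ W := hWinv.apply_mem hw
  have h3 : L w = z⁻¹ • y w := by
    rw [hy, LinearMap.smul_apply, smul_smul, inv_mul_cancel₀ hz0, one_smul]
  rw [h3]
  exact W.smul_mem _ h1

/-- elements of odd order lie in `Ω` -/
theorem mem_Omega_of_odd (Q : QuadraticForm F (ι → F)) (hnd : (pB Q).Nondegenerate)
    (hι : Fintype.card F ≠ 2 ∨ Fintype.card ι ≠ 4) (g : ↥(Cfsg.isometryGroup F ⇑Q)) {r : ℕ}
    (hr : Odd r) (hg : g ^ r = 1) : g ∈ Cfsg.Omega F ⇑Q := by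
  by_cases h2 : (2 : F) = 0
  · haveI : CharP F 2 := CharTwo.of_one_ne_zero_of_two_eq_zero one_ne_zero h2
    exact Cfsg.Agent.Helper94.OrD.mem_Omega_of_odd_order_aux Q hnd hι g hr hg
  · exact Cfsg.Agent.Helper94.Ts.mem_Omega_of_odd_order' Q h2 hnd g hr hg

/-- the sign condition of a test element filling the whole space -/
theorem pow_eq_of_bsign {r : ℕ} [Fact r.Prime] (hr2 : r ≠ 2) (hrp : r ≠ p) {k d : ℕ} {εV : ℤ}
    (hkc : k * blockSize (orderOf ((Fintype.card F : ℕ) : ZMod r)) = 2 * d)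
    (hs : bsign (orderOf ((Fintype.card F : ℕ) : ZMod r)) k = εV) :
    ((Fintype.card F : ℕ) : ZMod r) ^ d = ((εV : ℤ) : ZMod r) := by
  have hr : r.Prime := Fact.out
  set i := orderOf ((Fintype.card F : ℕ) : ZMod r) with hidef
  have hipos : 0 < i := orderOf_card_pos r hrp
  unfold bsign at hs
  unfold blockSize at hkc
  by_cases hi : Even i
  · rw [if_pos hi] at hs hkc
    obtain ⟨j, hj⟩ := hi
    have hd : d = k * j := by
      have : k * (j + j) = 2 * d := by rw [← hj]; exact hkc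
      nlinarith
    -- `q ^ j = -1`
    have h1 : (((Fintype.card F : ℕ) : ZMod r) ^ j) ^ 2 = 1 := by
      rw [← pow_mul, show j * 2 = i by omega, hidef]
      exact pow_orderOf_eq_one _
    have h2 : ((Fintype.card F : ℕ) : ZMod r) ^ j ≠ 1 := by
      intro h
      have := orderOf_dvd_of_pow_eq_one h
      rw [← hidef] at this
      have := Nat.le_of_dvd (by omega) this
      omega
    have h3 : ((Fintype.card F : ℕ) : ZMod r) ^ j = -1 := by
      have : (((Fintype.card F : ℕ) : ZMod r) ^ j - 1) * (((Fintype.card F : ℕ) : ZMod r) ^ j + 1)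
          = 0 := by linear_combination h1
      rcases mul_eq_zero.mp this with h | h
      · exact absurd (sub_eq_zero.mp h) h2
      · exact eq_neg_of_add_eq_zero_left h
    rw [hd, mul_comm, pow_mul, h3, ← hs]
    push_cast
    rfl
  · rw [if_neg hi] at hs hkc
    have hd : d = k * i := by nlinarith
    rw [hd, mul_comm, pow_mul, hidef, pow_orderOf_eq_one, one_pow, ← hs]
    simp

/-- (⇒) for odd `r`: a test element with `B` blocks -/
theorem crit_of_good (Q : QuadraticForm F (ι → F)) (hnd : (pB Q).Nondegenerate) [Nonempty ι]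
    {d : ℕ} (hι : Fintype.card ι = 2 * d) (hι4 : Fintype.card F ≠ 2 ∨ Fintype.card ι ≠ 4)
    {εV : ℤ} (hεV : εV = 1 ∨ εV = -1) (hT : QType Q ⊤ d εV)
    {ε : ℤ} (hε : ε = 1 ∨ ε = -1) (r : ℕ) [Fact r.Prime] (hrp : r ≠ p) (hr2 : r ≠ 2) {e : ℕ}
    (H : ∀ g : ↥(Cfsg.isometryGroup F ⇑Q), g ∈ Cfsg.Omega F ⇑Q → orderOf g = r →
      GoodT Q e ε ((g : GL ι F) : Matrix ι ι F))
    {B : ℕ} (hB : 1 ≤ B) (hBc : B * blockSize (orderOf ((Fintype.card F : ℕ) : ZMod r)) ≤ 2 * d)
    (hadm : B * blockSize (orderOf ((Fintype.card F : ℕ) : ZMod r)) = 2 * d →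
      bsign (orderOf ((Fintype.card F : ℕ) : ZMod r)) B = εV) :
    Crit (orderOf ((Fintype.card F : ℕ) : ZMod r))
      (blockSize (orderOf ((Fintype.card F : ℕ) : ZMod r))) d e B εV ε := by
  classical
  have hr : r.Prime := Fact.out
  have hrodd : Odd r := hr.odd_of_ne_two hr2
  have hrq := not_dvd_card_of_ne (F := F) r hrp
  set i := orderOf ((Fintype.card F : ℕ) : ZMod r) with hidef
  set c := blockSize i with hcdef
  have hipos : 0 < i := orderOf_card_pos r hrp
  have hcpos : 0 < c := blockSize_pos hipos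
  have hV : finrank F (ι → F) = 2 * d := finrank_fun hι
  have hT' : HasType (⇑Q) d εV := (qType_top_iff Q d εV).mp hT
  obtain ⟨y, hyord, hfix⟩ := Cfsg.Agent.Helper94.Tp.exists_q_elt (p := p) (Q := Q) hnd hι hεV hT' r
    hrp hr2 B hB hBc (fun h => pow_eq_of_bsign hr2 hrp h (hadm h))
  rw [← hidef, ← hcdef] at hfix
  have hyr : y ^ r = 1 := by rw [← hyord]; exact pow_orderOf_eq_one y
  have hyΩ := mem_Omega_of_odd Q hnd hι4 y hrodd hyr
  obtain ⟨W, hWdim, hWnd, hWty, hWinv⟩ := H y hyΩ hyord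
  set Y := Matrix.toLin' ((y : GL ι F) : Matrix ι ι F) with hY
  have hS : QSetup Q r Y :=
    { nondeg := hnd
      iso := fun v => toLin_iso y v
      setup := setup_of r hrp Y (toLin_pow_eq_one' y hyr)
      odd := hrodd
      hp := HP_cyclotomic r hrp }
  obtain ⟨b, hb⟩ := QSetup.blockSize_dvd hS (inv_cycSp r Y) (QSetup.nd_cyc hS) le_rfl
  rw [mul_comm, ← hidef, ← hcdef] at hb
  have htot := hS.setup.total
  rw [hV, hb] at htot
  have hbB : b = B := by
    have h1 : b * c = B * c := by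
      have hfix' : finrank F ↥(fixSp Y) = 2 * d - B * c := hfix
      clear_value c
      omega
    exact Nat.eq_of_mul_eq_mul_right hcpos h1
  rw [hbB] at hb
  exact (QSetup.exists_inv_typed_iff hS hrq hV hT hb hε).mp ⟨W, hWinv, hWnd, hWdim, hWty⟩

/-- an element of order `r` (odd) of the isometry group is not scalar -/
theorem not_scalar_of_orderOf (Q : QuadraticForm F (ι → F)) (hnd : (pB Q).Nondegenerate)
    [Nonempty ι] {r : ℕ} (hr : r.Prime) (hrodd : Odd r)
    (g : ↥(Cfsg.isometryGroup F ⇑Q)) (hg : orderOf g = r) (z : F) :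
    ((g : GL ι F) : Matrix ι ι F) ≠ z • (1 : Matrix ι ι F) := by
  intro hz
  have hgr : g ^ r = 1 := by rw [← hg]; exact pow_orderOf_eq_one g
  have h1 : (((g : GL ι F) ^ 1 : GL ι F) : Matrix ι ι F) = z • (1 : Matrix ι ι F) := by
    rw [pow_one]; exact hz
  have hz2 : z ^ 2 = 1 := sq_eq_one_of_pow_eq_smul Q hnd g h1
  have hAr : ((g : GL ι F) : Matrix ι ι F) ^ r = 1 := by
    have h3 : ((g ^ r : ↥(Cfsg.isometryGroup F ⇑Q)) : GL ι F) = 1 := by rw [hgr]; rfl
    have h4 := congrArg (fun w : GL ι F => (w : Matrix ι ι F)) h3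
    simpa using h4
  rw [hz, _root_.smul_pow, one_pow] at hAr
  obtain ⟨i₀⟩ := ‹Nonempty ι›
  have hzr : z ^ r = 1 := by
    have h5 := congrFun (congrFun hAr i₀) i₀
    simpa using h5
  have hz1 : z = 1 := by
    obtain ⟨k, hk⟩ := hrodd
    rw [hk, pow_succ, pow_mul, hz2, one_pow, one_mul] at hzr
    exact hzr
  have hg1 : g = 1 := by
    apply Subtype.ext
    apply Units.ext
    rw [hz, hz1, one_smul]
    rfl
  rw [hg1, orderOf_one] at hg
  exact hr.one_lt.ne hg

end odd

end Cfsg.Agent.Helper99.QSpGen
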