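import Mathlib
import Cfsg.Prelude.Def_Classical
import Cfsg.Agent.Helper99.PGDefs
import Cfsg.Agent.Helper99.BCDefs
import Cfsg.Agent.Helper99.BCLin
import Cfsg.Agent.Helper99.SympBilin
import Cfsg.Agent.Helper63.BCB0
import Cfsg.Agent.Helper44.OmegaIndex
import Cfsg.Agent.Helper44.StdForms
import Cfsg.Agent.Helper44.OrthOddA
import Cfsg.Agent.Helper44.StdNondeg
import Cfsg.Agent.Helper44.OrthSum
import Cfsg.Agent.Helper40.SylowGL
import Cfsg.Agent.S2472

/-!
# S2474: arithmetic and the bridges between matrix groups and abstract spaces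
-/

set_option autoImplicit false

universe u

namespace Cfsg.Agent.Helper99.PG

open Module Matrix Cfsg.Agent.Helper99.BC Cfsg.Agent.Helper44

/-! ## arithmetic -/

/-- `η`: the order of `q²` modulo `s` -/
noncomputable def etaOrd (q s : ℕ) : ℕ := orderOf (((q : ℕ) : ZMod s) ^ 2)

theorem dvd_pow_two_mul_sub_one_iff (q s : ℕ) (hq : 1 ≤ q) (i : ℕ) :
    s ∣ q ^ (2 * i) - 1 ↔ etaOrd q s ∣ i := by
  unfold etaOrd
  rw [orderOf_dvd_iff_pow_eq_one, ← ZMod.natCast_eq_zero_iff]
  have h1 : 1 ≤ q ^ (2 * i) := Nat.one_le_pow _ _ hq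
  rw [Nat.cast_sub h1, sub_eq_zero, ← pow_mul]
  simp

theorem etaOrd_pos (q s : ℕ) (hs : s.Prime) (hsq : ¬ s ∣ q) : 0 < etaOrd q s := by
  haveI : Fact s.Prime := ⟨hs⟩
  unfold etaOrd
  have h0 : ((q : ℕ) : ZMod s) ≠ 0 := by
    rw [Ne, ZMod.natCast_eq_zero_iff]; exact hsq
  apply orderOf_pos_iff.2
  rw [isOfFinOrder_iff_pow_eq_one]
  refine ⟨s - 1, ?_, ?_⟩
  · have := hs.two_le; omega
  · rw [← pow_mul, mul_comm, pow_mul, ZMod.pow_card_sub_one_eq_one h0, one_pow]

/-! ## the orthogonal group -/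

variable {F : Type u} [Field F]

theorem orderOf_lin {ι : Type} [Fintype ι] [DecidableEq ι] {Q : (ι → F) → F}
    (x : ↥(Cfsg.isometryGroup F Q)) : orderOf (lin x) = orderOf x := by
  let f : ↥(Cfsg.isometryGroup F Q) →* Module.End F (ι → F) :=
    { toFun := lin, map_one' := lin_one, map_mul' := lin_mul }
  exact orderOf_injective f lin_injective x

variable [Fintype F]

/-- (T1) element orders of `PΩ` are the element orders of `Ω` -/
theorem mem_range_POmega_iff (h2 : (2 : F) ≠ 0) (n : ℕ) (hn : 3 ≤ n) (N : ℕ) :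
    N ∈ Set.range (orderOf : Cfsg.POmega F (Cfsg.quadFormOdd n F) → ℕ) ↔
    ∃ x : OOdd n F, x ∈ Cfsg.Omega F (Cfsg.quadFormOdd n F) ∧ orderOf x = N := by
  constructor
  · rintro ⟨g, rfl⟩
    exact Cfsg.Agent.Helper63.BC.exists_lift_orderOf n hn h2 g
  · rintro ⟨x, hx, rfl⟩
    have hcen := Cfsg.Agent.Helper63.BC.center_Omega_odd_eq_bot (F := F) n hn h2
    refine ⟨QuotientGroup.mk ⟨x, hx⟩, ?_⟩
    have hinj : Function.Injective
        (QuotientGroup.mk' (Subgroup.center (Cfsg.Omega F (Cfsg.quadFormOdd n F)))) := by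
      rw [← MonoidHom.ker_eq_bot_iff, QuotientGroup.ker_mk', hcen]
    have h1 := orderOf_injective _ hinj (⟨x, hx⟩ : ↥(Cfsg.Omega F (Cfsg.quadFormOdd n F)))
    rw [QuotientGroup.mk'_apply] at h1
    rw [h1]
    exact Subgroup.orderOf_mk x hx

/-- the determinant is `1` on `Ω` -/
theorem det_eq_one_of_mem_Omega (n : ℕ) (t : OOdd n F)
    (ht : t ∈ Cfsg.Omega F (Cfsg.quadFormOdd n F)) :
    ((t.1 : GL (Unit ⊕ (Fin n ⊕ Fin n)) F) :
      Matrix (Unit ⊕ (Fin n ⊕ Fin n)) (Unit ⊕ (Fin n ⊕ Fin n)) F).det = 1 := by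
  have h := hom_eq_one_of_mem_Omega
    (Matrix.GeneralLinearGroup.det.comp (Cfsg.isometryGroup F (Cfsg.quadFormOdd n F)).subtype) ht
  have h3 := congrArg Units.val h
  simpa using h3

/-- the two forms of non-degeneracy -/
theorem polarBilin_nondeg_iff {V : Type*} [AddCommGroup V] [Module F V] (Q : QuadraticForm F V) :
    (QuadraticMap.polarBilin Q).Nondegenerate ↔ ∀ x, (∀ y, QuadraticMap.polar Q x y = 0) → x = 0 := by
  constructor
  · intro h x hx
    exact h.1 x hx
  · intro h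
    constructor
    · intro x hx
      exact h x hx
    · intro y hy
      apply h y
      intro x
      rw [QuadraticMap.polar_comm]
      exact hy x

/-- an isometry on which all sign characters are trivial lies in `Ω` -/
theorem mem_Omega_of_signChar (h2 : (2 : F) ≠ 0) (n : ℕ) (t : OOdd n F)
    (ht : ∀ c : F, c ≠ 0 → signChar (Cfsg.quadFormOdd n F) c t = 1) :
    t ∈ Cfsg.Omega F (Cfsg.quadFormOdd n F) := by
  obtain ⟨c, hc⟩ := FiniteField.exists_nonsquare (ringChar_ne_two_of_two_ne_zero h2)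
  have hc0 : c ≠ 0 := by
    rintro rfl
    exact hc ⟨0, by simp⟩
  have hnd : (QuadraticMap.polarBilin (oddForm n F)).Nondegenerate :=
    (polarBilin_nondeg_iff _).mpr (Cfsg.Agent.Helper44.QType.nondeg_oddForm h2 n)
  have hker := ker_omegaChar (oddForm n F) h2 hnd hc
  let t' : ↥(Cfsg.isometryGroup F ⇑(oddForm n F)) := t
  have e1 : signChar (⇑(oddForm n F)) 1 t' = 1 := ht 1 one_ne_zero
  have e2 : signChar (⇑(oddForm n F)) c t' = 1 := ht c hc0
  have hmem : t' ∈ (omegaChar (oddForm n F) c).ker := by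
    rw [MonoidHom.mem_ker, omegaChar, MonoidHom.prod_apply, Prod.mk_eq_one, parityChar,
      MonoidHom.mul_apply, e1, e2, one_mul]
    exact ⟨rfl, rfl⟩
  rw [hker] at hmem
  exact hmem

/-! ## the symplectic group -/

/-- the endomorphism of a symplectic matrix -/
noncomputable def slin {n : ℕ} (X : SpG n F) : Module.End F (Fin n ⊕ Fin n → F) :=
  Matrix.toLin' (X : Matrix (Fin n ⊕ Fin n) (Fin n ⊕ Fin n) F)

theorem orderOf_slin {n : ℕ} (X : SpG n F) : orderOf (slin X) = orderOf X := by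
  let f : SpG n F →* Module.End F (Fin n ⊕ Fin n → F) :=
    { toFun := slin
      map_one' := by
        show Matrix.toLin' (1 : Matrix (Fin n ⊕ Fin n) (Fin n ⊕ Fin n) F) = 1
        exact Matrix.toLin'_one
      map_mul' := fun X Y => by
        show Matrix.toLin' ((X : Matrix (Fin n ⊕ Fin n) (Fin n ⊕ Fin n) F) * (Y : Matrix _ _ F)) = _
        rw [Matrix.toLin'_mul]
        rfl }
  have hinj : Function.Injective f := by
    intro X Y h
    apply Subtype.ext
    exact Matrix.toLin'.injective h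
  exact orderOf_injective f hinj X

theorem slin_isometry {n : ℕ} (X : SpG n F) (u v : Fin n ⊕ Fin n → F) :
    Cfsg.Agent.Helper99.sympBilin n F (slin X u) (slin X v) = Cfsg.Agent.Helper99.sympBilin n F u v :=
  Cfsg.Agent.Helper99.sympBilin_toLin X u v

theorem finrank_sp (n : ℕ) : finrank F (Fin n ⊕ Fin n → F) = 2 * n := by
  rw [Module.finrank_fintype_fun_eq_card, Fintype.card_sum, Fintype.card_fin, two_mul]

theorem finrank_odd (n : ℕ) : finrank F (Unit ⊕ (Fin n ⊕ Fin n) → F) = 2 * n + 1 := by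
  rw [Module.finrank_fintype_fun_eq_card, Fintype.card_sum, Fintype.card_sum, Fintype.card_fin,
    Fintype.card_unit]
  ring

end Cfsg.Agent.Helper99.PG
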