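import Mathlib
import Cfsg.Agent.Helper99.BCGlue
import Cfsg.Agent.Helper99.BCLin
import Cfsg.Agent.Helper99.BCOrthB
import Cfsg.Agent.Helper44.SpinorMain

/-!
# S2362: the sign of `s` on the level set `{Q = 1}`
-/

set_option autoImplicit false

namespace Cfsg.Agent.Helper99.BC

open Module Matrix Cfsg.Agent.Helper99.BCGlue Cfsg.Agent.Helper44

variable {F : Type*} [Field F] [Fintype F] {ι : Type} [Fintype ι] [DecidableEq ι]

omit [Fintype F] in
theorem toPerm_pow_apply (Q : (ι → F) → F) (c : F) (s : ↥(Cfsg.isometryGroup F Q)) (j : ℕ)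
    (x : LevelSet Q c) :
    (((MulAction.toPerm s : Equiv.Perm (LevelSet Q c)) ^ j) x).val = (lin s ^ j) x.val := by
  have h1 : (MulAction.toPerm s : Equiv.Perm (LevelSet Q c)) ^ j = MulAction.toPerm (s ^ j) := by
    have := map_pow (MulAction.toPermHom (↥(Cfsg.isometryGroup F Q)) (LevelSet Q c)) s j
    exact this.symm
  rw [h1, MulAction.toPerm_apply, LevelSet.smul_val, ← lin_apply, lin_pow]

/-- **Sign case.** -/
theorem sign_case (Q : QuadraticForm F (ι → F)) (h2 : (2 : F) ≠ 0) (k : ℕ) (hk : 2 ≤ k)
    (hqodd : Odd (Fintype.card F))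
    (hcardV : Nat.card {x : ι → F // Q x = 1} =
      Fintype.card F ^ (2 * (k + 1)) + Fintype.card F ^ (k + 1))
    (s : ↥(Cfsg.isometryGroup F ⇑Q)) (U W : Submodule F (ι → F)) (hUW : IsCompl U W)
    (hUdim : finrank F U = 3)
    (hndU : ∀ x ∈ U, (∀ y ∈ U, QuadraticMap.polar Q x y = 0) → x = 0)
    (hU : ∀ x ∈ U, lin s x = x)
    (hord : orderOf s = Fintype.card F ^ k + 1)
    (hW : ∀ j : ℕ, (∀ w ∈ W, (lin s ^ j) w = w) ∨ (∀ w ∈ W, (lin s ^ j) w = w → w = 0)) :
    signChar (⇑Q) 1 s = -1 := by
  classical
  set q := Fintype.card F with hq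
  set M := q ^ k + 1 with hM
  have hq3 : 3 ≤ q := by
    have h1 : 1 < q := Fintype.one_lt_card
    obtain ⟨t, ht⟩ := hqodd
    omega
  have hqk : 1 ≤ q ^ k := Nat.one_le_pow _ _ (by omega)
  have hM2 : 2 ≤ M := by omega
  have hMeven : Even M := by
    have : Odd (q ^ k) := hqodd.pow
    exact this.add_one
  -- powers of `lin s` fix `U` pointwise
  have hUpow : ∀ (j : ℕ), ∀ x ∈ U, (lin s ^ j) x = x := by
    intro j
    induction j with
    | zero => intro x _; rfl
    | succ j ih =>
      intro x hx
      rw [pow_succ, Module.End.mul_apply, hU x hx, ih x hx]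
  -- if `lin s ^ j` fixes `W` pointwise then `M ∣ j`
  have hall : ∀ j : ℕ, (∀ w ∈ W, (lin s ^ j) w = w) → M ∣ j := by
    intro j hj
    have h1 : lin s ^ j = 1 := by
      apply LinearMap.ext
      intro v
      obtain ⟨u, hu, w, hw, rfl⟩ := exists_decomp hUW v
      rw [map_add, hUpow j u hu, hj w hw, Module.End.one_apply]
    rw [← lin_pow, lin_eq_one_iff] at h1
    rw [← hord]
    exact orderOf_dvd_of_pow_eq_one h1
  set σ : Equiv.Perm (LevelSet (⇑Q) 1) := MulAction.toPerm s with hσ
  -- fixed points lie in `U`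
  have hfixU : ∀ x : LevelSet (⇑Q) 1, σ x = x → x.val ∈ U := by
    intro x hx
    have h1 : (lin s ^ 1) x.val = x.val := by
      rw [← toPerm_pow_apply (⇑Q) 1 s 1 x, pow_one]
      exact congrArg LevelSet.val hx
    obtain ⟨u, hu, w, hw, huw⟩ := exists_decomp hUW x.val
    rw [huw, map_add, hUpow 1 u hu] at h1
    have h3 : (lin s ^ 1) w = w := add_left_cancel h1
    rcases hW 1 with h | h
    · have := hall 1 h
      have : M ≤ 1 := Nat.le_of_dvd (by omega) this
      omega
    · rw [huw, h w hw h3, add_zero]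
      exact hu
  have hUfix : ∀ x : LevelSet (⇑Q) 1, x.val ∈ U → σ x = x := by
    intro x hx
    apply LevelSet.ext'
    have := toPerm_pow_apply (⇑Q) 1 s 1 x
    rw [pow_one] at this
    rw [this, hUpow 1 x.val hx]
  -- periods
  have hper : ∀ x, σ x ≠ x → Function.minimalPeriod σ x = M := by
    intro x hx
    have hMper : Function.IsPeriodicPt σ M x := by
      show σ^[M] x = x
      rw [← Equiv.Perm.coe_pow]
      apply LevelSet.ext'
      rw [toPerm_pow_apply]
      have : s ^ M = 1 := by rw [← hord]; exact pow_orderOf_eq_one s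
      rw [← lin_pow, this, lin_one, Module.End.one_apply]
    have hdvd : Function.minimalPeriod σ x ∣ M := hMper.minimalPeriod_dvd
    have hpos : 0 < Function.minimalPeriod σ x := hMper.minimalPeriod_pos (by omega)
    set j := Function.minimalPeriod σ x with hj
    have hjper : σ^[j] x = x := Function.iterate_minimalPeriod
    rw [← Equiv.Perm.coe_pow] at hjper
    have h1 : (lin s ^ j) x.val = x.val := by
      rw [← toPerm_pow_apply (⇑Q) 1 s j x]
      exact congrArg LevelSet.val hjper
    obtain ⟨u, hu, w, hw, huw⟩ := exists_decomp hUW x.val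
    rw [huw, map_add, hUpow j u hu] at h1
    have h3 : (lin s ^ j) w = w := add_left_cancel h1
    rcases hW j with h | h
    · exact Nat.dvd_antisymm hdvd (hall j h)
    · exfalso
      apply hx
      apply hUfix
      rw [huw, h w hw h3, add_zero]
      exact hu
  obtain ⟨K, hK, hsign⟩ := sign_of_uniform_period σ M hMeven (by omega) hper
  -- the two cardinalities
  have hcardX : Fintype.card (LevelSet (⇑Q) 1) = q ^ (2 * (k + 1)) + q ^ (k + 1) := by
    rw [← hcardV, ← Nat.card_eq_fintype_card]
    apply Nat.card_congr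
    exact { toFun := fun x => ⟨x.val, x.prop⟩
            invFun := fun v => ⟨v.1, v.2⟩
            left_inv := fun x => rfl
            right_inv := fun v => rfl }
  set QU : QuadraticForm F U := Q.comp U.subtype with hQU
  have hpolar : ∀ x y : U, QuadraticMap.polar QU x y = QuadraticMap.polar Q (x : ι → F) (y : ι → F) := by
    intro x y
    unfold QuadraticMap.polar
    rw [hQU, QuadraticMap.comp_apply, QuadraticMap.comp_apply, QuadraticMap.comp_apply]
    rfl
  have hndU' : ∀ x : U, (∀ y, QuadraticMap.polar QU x y = 0) → x = 0 := by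
    intro x hx
    have := hndU x.1 x.2 (fun y hy => by
      have := hx ⟨y, hy⟩
      rwa [hpolar] at this)
    exact Subtype.ext this
  have hcardFix : Fintype.card {x : LevelSet (⇑Q) 1 // σ x = x} = Nat.card {z : U // QU z = 1} := by
    rw [← Nat.card_eq_fintype_card]
    apply Nat.card_congr
    exact { toFun := fun x => ⟨⟨x.1.val, hfixU x.1 x.2⟩, by
              rw [hQU, QuadraticMap.comp_apply]; exact x.1.prop⟩
            invFun := fun z => ⟨⟨z.1.1, by
              have h9 : QU z.1 = 1 := z.2
              rw [QuadraticMap.comp_apply] at h9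
              exact h9⟩, hUfix _ z.1.2⟩
            left_inv := fun x => rfl
            right_inv := fun z => rfl }
  have hN3 := card_levelSet_three QU hUdim h2 hndU' (c := 1) one_ne_zero
  rw [hcardX, hcardFix] at hK
  have hodd : Odd K := odd_orbit_count q k _ K hq3 hqodd hk hN3 hK
  rw [signChar_apply, ← hσ, hsign, hodd.neg_one_pow]

end Cfsg.Agent.Helper99.BC
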