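import Mathlib
import Cfsg.Agent.Helper99.BCGlue
import Cfsg.Agent.Helper99.BCLin
import Cfsg.Agent.Helper99.BCOrthA
import Cfsg.Agent.Helper99.BCOrthB
import Cfsg.Agent.Helper99.BCOrthC
import Cfsg.Agent.Helper44.OrthOddA
import Cfsg.Agent.Helper44.SpinorMain

/-!
# S2362: `Ω_{2n+1}(q)` has no element of order `p (q^(n-1) + 1)`
-/

set_option autoImplicit false

namespace Cfsg.Agent.Helper99.BC

open Module Matrix Cfsg.Agent.Helper99.BCGlue Cfsg.Agent.Helper44 Cfsg.Agent.Helper44.QType

variable {F : Type*} [Field F] [Fintype F]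

theorem no_orderOf_Omega (p : ℕ) [Fact p.Prime] [CharP F p] (hqodd : Odd (Fintype.card F))
    (k : ℕ) (hk : 2 ≤ k)
    (x : ↥(Cfsg.isometryGroup F (Cfsg.quadFormOdd (k + 1) F)))
    (hx : x ∈ Cfsg.Omega F (Cfsg.quadFormOdd (k + 1) F)) :
    orderOf x ≠ p * (Fintype.card F ^ k + 1) := by
  classical
  intro hord
  have hp : p.Prime := Fact.out
  set q := Fintype.card F with hq
  set M := q ^ k + 1 with hM
  set Q : QuadraticForm F (Unit ⊕ (Fin (k + 1) ⊕ Fin (k + 1)) → F) := oddForm (k + 1) F with hQ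
  have hQcoe : ⇑Q = Cfsg.quadFormOdd (k + 1) F := rfl
  have hq3 : 3 ≤ q := by
    have h1 : 1 < q := Fintype.one_lt_card
    obtain ⟨t, ht⟩ := hqodd
    omega
  have hpq : p ∣ q := by
    rw [← CharP.cast_eq_zero_iff F p, hq]
    exact Nat.cast_card_eq_zero F
  have hp2 : p ≠ 2 := by
    rintro rfl
    exact (Nat.not_even_iff_odd.mpr hqodd) (even_iff_two_dvd.mpr hpq)
  have h2 : (2 : F) ≠ 0 := by
    intro h
    have h3 : ((2 : ℕ) : F) = 0 := by exact_mod_cast h
    rw [CharP.cast_eq_zero_iff F p] at h3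
    exact hp2 ((Nat.prime_dvd_prime_iff_eq hp Nat.prime_two).mp h3)
  have hqk : 1 ≤ q ^ k := Nat.one_le_pow _ _ (by omega)
  have hM0 : 0 < M := by omega
  have hMp : M.Coprime p := by
    rw [Nat.coprime_comm, Nat.Prime.coprime_iff_not_dvd hp]
    intro h
    have h1 : p ∣ q ^ k := dvd_pow hpq (by omega)
    have h3 : p ∣ 1 := (Nat.dvd_add_right h1).mp h
    exact hp.one_lt.ne' (Nat.dvd_one.mp h3)
  obtain ⟨r, hrp, hrM, hrq, hr2, hppd⟩ := exists_ppd_prime q k hq3 hqodd hk
  have hrF : (r : F) ≠ 0 := by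
    intro h
    rw [CharP.cast_eq_zero_iff F p] at h
    have : p = r := (Nat.prime_dvd_prime_iff_eq hp hrp).mp h
    exact hrq (this ▸ hpq)
  -- the elements
  set s := x ^ p with hs
  set y := x ^ M with hy
  have hs_ord : orderOf s = M := by
    rw [hs, orderOf_pow' x hp.ne_zero, hord, Nat.gcd_mul_right_left, Nat.mul_div_cancel_left _ hp.pos]
  have hy_ord : orderOf y = p := by
    rw [hy, orderOf_pow' x hM0.ne', hord, Nat.gcd_mul_left_left, Nat.mul_div_cancel _ hM0]
  obtain ⟨e, he⟩ := hrM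
  have he0 : 0 < e := by
    rcases Nat.eq_zero_or_pos e with h | h
    · rw [h, mul_zero] at he; omega
    · exact h
  set t := s ^ e with ht
  have ht_ord : orderOf t = r := by
    have he' : M = r * e := he
    rw [ht, orderOf_pow' s he0.ne', hs_ord, he', Nat.gcd_mul_left_left,
      Nat.mul_div_cancel _ he0]
  have hsΩ : s ∈ Cfsg.Omega F (Cfsg.quadFormOdd (k + 1) F) := Subgroup.pow_mem _ hx p
  have hcst : Commute s t := (Commute.refl s).pow_right e
  have hcyt : Commute y t := by
    rw [ht, hs, hy]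
    exact ((Commute.refl x).pow_pow M p).pow_right e
  have hcys : Commute y s := by
    rw [hs, hy]
    exact (Commute.refl x).pow_pow M p
  set A := lin t with hA
  set S := lin s with hS
  set Y := lin y with hY
  have hAr : A ^ r = 1 := by
    rw [hA, ← lin_pow, ← ht_ord, pow_orderOf_eq_one, lin_one]
  have hA1 : A ≠ 1 := by
    rw [hA, Ne, lin_eq_one_iff]
    intro h
    rw [h, orderOf_one] at ht_ord
    exact hrp.one_lt.ne ht_ord
  have hV : finrank F (Unit ⊕ (Fin (k + 1) ⊕ Fin (k + 1)) → F) = 2 * k + 3 := by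
    rw [Module.finrank_fintype_fun_eq_card]
    simp
    ring
  obtain ⟨hWdim, hUdim⟩ := finrank_movS_fixS A r hrp hAr hA1 hrF k hk hV hppd
  have hUW := isCompl_fixS_movS A r hrF hAr
  have hAiso : ∀ v, Q (A v) = Q v := fun v => lin_iso t v
  have hSiso : ∀ v, Q (S v) = Q v := fun v => lin_iso s v
  have hYiso : ∀ v, Q (Y v) = Q v := fun v => lin_iso y v
  have hndQ : ∀ v, (∀ w, QuadraticMap.polar Q v w = 0) → v = 0 := nondeg_oddForm h2 (k + 1)
  have hndU := nondeg_on_fixS Q A r hrF hAr hAiso hndQ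
  have hSA : Commute S A := lin_commute hcst
  have hYA : Commute Y A := lin_commute hcyt
  have hYS : Commute Y S := lin_commute hcys
  have hYp : Y ^ p = 1 := by
    rw [hY, ← lin_pow, ← hy_ord, pow_orderOf_eq_one, lin_one]
  have hSM : S ^ M = 1 := by
    rw [hS, ← lin_pow, ← hs_ord, pow_orderOf_eq_one, lin_one]
  have hYW := unipotent_trivial_on_movS p A r hrp hAr hrF k (by omega) hWdim hppd Y hYA hYp
  have hY1 : ∃ v ∈ fixS A, Y v ≠ v := by
    by_contra hcon
    push Not at hcon
    have h1 : Y = 1 := by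
      apply LinearMap.ext
      intro v
      obtain ⟨u, hu, w, hw, rfl⟩ := exists_decomp hUW v
      rw [map_add, hcon u hu, hYW w hw, Module.End.one_apply]
    rw [hY, lin_eq_one_iff] at h1
    rw [h1, orderOf_one] at hy_ord
    exact hp.one_lt.ne hy_ord
  have hdich : ∀ j : ℕ, (∀ w ∈ movS A r, (S ^ j) w = w) ∨
      (∀ w ∈ movS A r, (S ^ j) w = w → w = 0) := by
    intro j
    exact fix_all_or_none A r hrp hAr hrF k (by omega) hWdim hppd (S ^ j) (hSA.pow_left j)
  have hM10 : 10 ≤ M := by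
    have : 3 ^ 2 ≤ q ^ k := by
      calc 3 ^ 2 ≤ q ^ 2 := Nat.pow_le_pow_left hq3 2
        _ ≤ q ^ k := Nat.pow_le_pow_right (by omega) hk
    omega
  rcases pm_one_on_fixS p hp2 Q (fixS A) hUdim hndU Y S hYS hYiso hSiso
    (fun v hv => map_mem_fixS hYA hv) (fun v hv => map_mem_fixS hSA hv) hYp hY1 M hMp hSM
    with hpos | hneg
  · -- sign case
    have hcardV : Nat.card {v : Unit ⊕ (Fin (k + 1) ⊕ Fin (k + 1)) → F // Q v = 1} =
        q ^ (2 * (k + 1)) + q ^ (k + 1) :=
      (card_levelSet_quadFormOdd (F := F) (k + 1) h2 (c := 1) one_ne_zero).1 ⟨1, by ring⟩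
    have h1 := sign_case Q h2 k hk hqodd hcardV s (fixS A) (movS A r) hUW hUdim hndU hpos
      hs_ord hdich
    have h3 := hom_eq_one_of_mem_Omega (signChar (⇑Q) 1) hsΩ
    rw [h1] at h3
    exact absurd h3 (by decide)
  · -- determinant case
    have hodd : Odd (Fintype.card (Unit ⊕ (Fin (k + 1) ⊕ Fin (k + 1)))) := by
      simp
    have hW1 : ∀ w ∈ movS A r, S w = w → w = 0 := by
      rcases hdich 1 with h | h
      · exfalso
        -- then `S ^ 2 = 1`
        have h4 : S ^ 2 = 1 := by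
          apply LinearMap.ext
          intro v
          obtain ⟨u, hu, w, hw, rfl⟩ := exists_decomp hUW v
          have hw1 : S w = w := by have := h w hw; rwa [pow_one] at this
          rw [pow_two, Module.End.mul_apply, map_add, hneg u hu, hw1, map_add, map_neg,
            hneg u hu, hw1, neg_neg, Module.End.one_apply]
        rw [hS, ← lin_pow, lin_eq_one_iff] at h4
        have := orderOf_dvd_of_pow_eq_one h4
        rw [hs_ord] at this
        have : M ≤ 2 := Nat.le_of_dvd (by omega) this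
        omega
      · intro w hw hw1
        exact h w hw (by rwa [pow_one])
    have hdet := det_case Q h2 hndQ hodd s (fixS A) (movS A r) hUW
      (fun w hw => map_mem_movS hSA hw) hneg hW1
    have h3 := hom_eq_one_of_mem_Omega (detHom (⇑Q)) hsΩ
    have h4 : (((s.1 : Matrix.GeneralLinearGroup (Unit ⊕ (Fin (k + 1) ⊕ Fin (k + 1))) F) :
        Matrix (Unit ⊕ (Fin (k + 1) ⊕ Fin (k + 1))) (Unit ⊕ (Fin (k + 1) ⊕ Fin (k + 1))) F)).det = 1 := by
      have := congrArg Units.val h3
      exact this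
    rw [hdet] at h4
    apply h2
    linear_combination -h4

end Cfsg.Agent.Helper99.BC
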