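import Mathlib
import Cfsg.Agent.Helper99.BCGlue
import Cfsg.Agent.Helper99.BCOrthD

/-!
# S2362: the spectra of `PΩ_{2n+1}(q)` and `PSp_{2n}(q)` differ
-/

set_option autoImplicit false

namespace Cfsg.Agent.Helper99.BC

open Module Matrix Polynomial Cfsg.Agent.Helper99.BCGlue

variable {F : Type*} [Field F] [Fintype F]

/-- `PSp_{2(k+1)}(q)` has an element of order `p (q^k + 1)` -/
theorem exists_orderOf_PSp (p : ℕ) [Fact p.Prime] [CharP F p] (hqodd : Odd (Fintype.card F))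
    (k : ℕ) (hk : 1 ≤ k) :
    ∃ g : Cfsg.PSp (k + 1) F, orderOf g = p * (Fintype.card F ^ k + 1) := by
  have hp : p.Prime := Fact.out
  set q := Fintype.card F with hq
  have hpq : p ∣ q := by
    rw [← CharP.cast_eq_zero_iff F p, hq]
    exact Nat.cast_card_eq_zero F
  have hp2 : p ≠ 2 := by
    rintro rfl
    exact (Nat.not_even_iff_odd.mpr hqodd) (even_iff_two_dvd.mpr hpq)
  have h2 : (2 : F) ≠ 0 := by
    intro h
    have h3 : ((2 : ℕ) : F) = 0 := by exact_mod_cast h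
    rw [CharP.cast_eq_zero_iff F p] at h3
    exact hp2 ((Nat.prime_dvd_prime_iff_eq hp Nat.prime_two).mp h3)
  have hqk : 1 ≤ q ^ k := Nat.one_le_pow _ _ Fintype.card_pos
  have hMp : (q ^ k + 1).Coprime p := by
    rw [Nat.coprime_comm, Nat.Prime.coprime_iff_not_dvd hp]
    intro h
    have h1 : p ∣ q ^ k := dvd_pow hpq (by omega)
    have h3 : p ∣ 1 := (Nat.dvd_add_right h1).mp h
    exact hp.one_lt.ne' (Nat.dvd_one.mp h3)
  obtain ⟨f, hfm, hfi, hfd, hfr, hfM, hfj⟩ := exists_selfrec_irreducible (F := F) h2 k hk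
  obtain ⟨t, ht⟩ := exists_sp_orderOf p k (q ^ k + 1) (by omega) f hfm hfi hfd hfr hfM hfj
  obtain ⟨g, hg1, hg2⟩ := exists_sp_block p hp2 k (q ^ k + 1) hMp t ht
  exact ⟨QuotientGroup.mk g, orderOf_mk_PSp (k + 1) _ (by omega)
    (Nat.mul_pos hp.pos (by omega)) g hg1 hg2⟩

/-- `PΩ_{2(k+1)+1}(q)` has no element of order `p (q^k + 1)` -/
theorem forall_orderOf_POmega_ne (p : ℕ) [Fact p.Prime] [CharP F p]
    (hqodd : Odd (Fintype.card F)) (k : ℕ) (hk : 2 ≤ k)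
    (g : Cfsg.POmega F (Cfsg.quadFormOdd (k + 1) F)) :
    orderOf g ≠ p * (Fintype.card F ^ k + 1) := by
  have hp : p.Prime := Fact.out
  have hpq : p ∣ Fintype.card F := by
    rw [← CharP.cast_eq_zero_iff F p]
    exact Nat.cast_card_eq_zero F
  have hp2 : p ≠ 2 := by
    rintro rfl
    exact (Nat.not_even_iff_odd.mpr hqodd) (even_iff_two_dvd.mpr hpq)
  have h2 : (2 : F) ≠ 0 := by
    intro h
    have h3 : ((2 : ℕ) : F) = 0 := by exact_mod_cast h
    rw [CharP.cast_eq_zero_iff F p] at h3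
    exact hp2 ((Nat.prime_dvd_prime_iff_eq hp Nat.prime_two).mp h3)
  obtain ⟨x, hxΩ, hxord⟩ := exists_lift_orderOf (k + 1) (by omega) h2 g
  rw [← hxord]
  exact no_orderOf_Omega p hqodd k hk x hxΩ

/-- **S2362** -/
theorem spectra_ne (hodd : Odd (Fintype.card F)) (n : ℕ) (hn : 3 ≤ n) :
    Set.range (orderOf : Cfsg.POmega F (Cfsg.quadFormOdd n F) → ℕ) ≠
      Set.range (orderOf : Cfsg.PSp n F → ℕ) := by
  obtain ⟨k, rfl⟩ : ∃ k, n = k + 1 := ⟨n - 1, by omega⟩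
  obtain ⟨p, hchar⟩ := CharP.exists F
  have := hchar
  have : Fact p.Prime := ⟨CharP.char_is_prime F p⟩
  intro heq
  obtain ⟨g, hg⟩ := exists_orderOf_PSp (F := F) p hodd k (by omega)
  have hmem : p * (Fintype.card F ^ k + 1) ∈ Set.range (orderOf : Cfsg.PSp (k + 1) F → ℕ) :=
    ⟨g, hg⟩
  rw [← heq] at hmem
  obtain ⟨g', hg'⟩ := hmem
  exact forall_orderOf_POmega_ne p hodd k (by omega) g' hg'

end Cfsg.Agent.Helper99.BC
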