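import Mathlib

/-!
# Two central-product decompositions of one group

`L = L₁ L₂ = M₁ M₂` with `[L₁, L₂] = 1 = [M₁, M₂]` and `L₁ ∩ L₂ = M₁ ∩ M₂`.  If each `L_i`
(given as the image of a group `S_i`) has a unique maximal normal subgroup (two normal subgroups
generating `S_i`: one is everything) and no "second centre" relative to `L₁ ∩ L₂`, then
`{M₁, M₂} = {L₁, L₂}`.
-/

namespace Cfsg.Agent.Helper99

open scoped commutatorElement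

variable {G : Type*} [Group G]

/-- elements of the join of two elementwise commuting subgroups are products -/
theorem exists_mul_of_mem_sup_of_commute (H K : Subgroup G)
    (hc : ∀ x ∈ H, ∀ y ∈ K, x * y = y * x) {x : G} (hx : x ∈ H ⊔ K) :
    ∃ a ∈ H, ∃ c ∈ K, x = a * c := by
  rw [Subgroup.sup_eq_closure] at hx
  induction hx using Subgroup.closure_induction with
  | mem x hx =>
    rcases hx with hx | hx
    · exact ⟨x, hx, 1, K.one_mem, by simp⟩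
    · exact ⟨1, H.one_mem, x, hx, by simp⟩
  | one => exact ⟨1, H.one_mem, 1, K.one_mem, by simp⟩
  | mul x y _ _ hx hy =>
    obtain ⟨a, ha, c, hc', rfl⟩ := hx
    obtain ⟨a', ha', c', hc'', rfl⟩ := hy
    refine ⟨a * a', mul_mem ha ha', c * c', mul_mem hc' hc'', ?_⟩
    have := hc a' ha' c hc'
    calc a * c * (a' * c') = a * (c * a') * c' := by group
      _ = a * (a' * c) * c' := by rw [this]
      _ = a * a' * (c * c') := by group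
  | inv x _ hx =>
    obtain ⟨a, ha, c, hc', rfl⟩ := hx
    refine ⟨a⁻¹, inv_mem ha, c⁻¹, inv_mem hc', ?_⟩
    have := hc a⁻¹ (inv_mem ha) c⁻¹ (inv_mem hc')
    rw [mul_inv_rev, this]

/-- conjugation by an element of `M₁ ⊔ M₂` preserves `M₁` when `M₁`, `M₂` commute -/
theorem conj_mem_of_mem_sup_of_commute (M₁ M₂ : Subgroup G)
    (hM : ∀ x ∈ M₁, ∀ y ∈ M₂, x * y = y * x) {g : G} (hg : g ∈ M₁ ⊔ M₂) {m : G} (hm : m ∈ M₁) :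
    g * m * g⁻¹ ∈ M₁ := by
  obtain ⟨a, ha, c, hc, rfl⟩ := exists_mul_of_mem_sup_of_commute M₁ M₂ hM hg
  have h1 : c * m * c⁻¹ = m := by
    rw [← hM m hm c hc]; group
  have : a * c * m * (a * c)⁻¹ = a * (c * m * c⁻¹) * a⁻¹ := by group
  rw [this, h1]
  exact mul_mem (mul_mem ha hm) (inv_mem ha)

/-- Key step: if `M₁` covers `L₁` modulo `L₂`, then `M₂ ≤ L₂`. -/
theorem central_product_step {S₁ : Type*} [Group S₁] (L₁ L₂ M₁ M₂ : Subgroup G) (f₁ : S₁ →* G)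
    (hf₁ : f₁.range = L₁)
    (hL : ∀ x ∈ L₁, ∀ y ∈ L₂, x * y = y * x)
    (hM : ∀ x ∈ M₁, ∀ y ∈ M₂, x * y = y * x)
    (hM₂L : M₂ ≤ L₁ ⊔ L₂)
    (hZ₁ : ∀ x : S₁, (∀ y, f₁ (x⁻¹ * y⁻¹ * x * y) ∈ L₁ ⊓ L₂) → f₁ x ∈ L₁ ⊓ L₂)
    (hcov : ∀ s : S₁, ∃ c ∈ L₂, f₁ s * c ∈ M₁) : M₂ ≤ L₂ := by
  intro m₂ hm₂
  obtain ⟨a, ha, c', hc', rfl⟩ := exists_mul_of_mem_sup_of_commute L₁ L₂ hL (hM₂L hm₂)
  rw [← hf₁] at ha
  obtain ⟨sa, rfl⟩ := ha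
  have hsa : f₁ sa ∈ L₁ := by rw [← hf₁]; exact ⟨sa, rfl⟩
  have key : f₁ sa ∈ L₁ ⊓ L₂ := by
    apply hZ₁
    intro y
    have hy : f₁ y ∈ L₁ := by rw [← hf₁]; exact ⟨y, rfl⟩
    refine Subgroup.mem_inf.2 ⟨?_, ?_⟩
    · rw [← hf₁]; exact ⟨_, rfl⟩
    · obtain ⟨d, hd, hyd⟩ := hcov y
      have hcomm := hM _ hyd _ hm₂
      -- (Y d) (a c') = (a c') (Y d)
      have e1 : f₁ y * d * (f₁ sa * c') = f₁ y * f₁ sa * (d * c') := by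
        have := hL (f₁ sa) hsa d hd
        calc f₁ y * d * (f₁ sa * c') = f₁ y * (d * f₁ sa) * c' := by group
          _ = f₁ y * (f₁ sa * d) * c' := by rw [this]
          _ = f₁ y * f₁ sa * (d * c') := by group
      have e2 : f₁ sa * c' * (f₁ y * d) = f₁ sa * f₁ y * (c' * d) := by
        have := hL (f₁ y) hy c' hc'
        calc f₁ sa * c' * (f₁ y * d) = f₁ sa * (c' * f₁ y) * d := by group
          _ = f₁ sa * (f₁ y * c') * d := by rw [this]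
          _ = f₁ sa * f₁ y * (c' * d) := by group
      rw [e1, e2] at hcomm
      have e3 : f₁ (sa⁻¹ * y⁻¹ * sa * y) = (d * c') * (c' * d)⁻¹ := by
        simp only [map_mul, map_inv]
        have : f₁ sa * f₁ y = f₁ y * f₁ sa * (d * c') * (c' * d)⁻¹ := by
          rw [hcomm]; group
        calc (f₁ sa)⁻¹ * (f₁ y)⁻¹ * f₁ sa * f₁ y = (f₁ sa)⁻¹ * (f₁ y)⁻¹ * (f₁ sa * f₁ y) := by group
          _ = (f₁ sa)⁻¹ * (f₁ y)⁻¹ * (f₁ y * f₁ sa * (d * c') * (c' * d)⁻¹) := by rw [this]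
          _ = (d * c') * (c' * d)⁻¹ := by group
      rw [e3]
      exact mul_mem (mul_mem hd hc') (inv_mem (mul_mem hc' hd))
  exact mul_mem key.2 hc'

/-- the subgroup of `S₁` of elements whose image lies in `M` modulo `L₂` -/
def coverSub {S₁ : Type*} [Group S₁] (L₂ M : Subgroup G) (f₁ : S₁ →* G)
    (hcomm : ∀ s : S₁, ∀ y ∈ L₂, f₁ s * y = y * f₁ s) : Subgroup S₁ where
  carrier := {s | ∃ c ∈ L₂, f₁ s * c ∈ M}
  one_mem' := ⟨1, L₂.one_mem, by simp⟩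
  mul_mem' := by
    rintro s s' ⟨c, hc, h⟩ ⟨c', hc', h'⟩
    refine ⟨c * c', mul_mem hc hc', ?_⟩
    have e : f₁ (s * s') * (c * c') = (f₁ s * c) * (f₁ s' * c') := by
      rw [map_mul]
      have := hcomm s' c hc
      calc f₁ s * f₁ s' * (c * c') = f₁ s * (f₁ s' * c) * c' := by group
        _ = f₁ s * (c * f₁ s') * c' := by rw [this]
        _ = f₁ s * c * (f₁ s' * c') := by group
    rw [e]
    exact mul_mem h h'
  inv_mem' := by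
    rintro s ⟨c, hc, h⟩
    refine ⟨c⁻¹, inv_mem hc, ?_⟩
    have e : f₁ s⁻¹ * c⁻¹ = (f₁ s * c)⁻¹ := by
      rw [map_inv, mul_inv_rev]
      have := hcomm s⁻¹ c⁻¹ (inv_mem hc)
      rw [map_inv] at this
      exact this
    rw [e]
    exact inv_mem h

theorem mem_coverSub {S₁ : Type*} [Group S₁] (L₂ M : Subgroup G) (f₁ : S₁ →* G)
    (hcomm : ∀ s : S₁, ∀ y ∈ L₂, f₁ s * y = y * f₁ s) (s : S₁) :
    s ∈ coverSub L₂ M f₁ hcomm ↔ ∃ c ∈ L₂, f₁ s * c ∈ M := Iff.rfl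

theorem coverSub_normal {S₁ : Type*} [Group S₁] (L₂ M : Subgroup G) (f₁ : S₁ →* G)
    (hcomm : ∀ s : S₁, ∀ y ∈ L₂, f₁ s * y = y * f₁ s)
    (hnorm : ∀ g : S₁, ∀ m ∈ M, f₁ g * m * (f₁ g)⁻¹ ∈ M) :
    (coverSub L₂ M f₁ hcomm).Normal := by
  constructor
  rintro s ⟨c, hc, h⟩ g
  refine ⟨c, hc, ?_⟩
  have e : f₁ (g * s * g⁻¹) * c = f₁ g * (f₁ s * c) * (f₁ g)⁻¹ := by
    simp only [map_mul, map_inv]
    have := hcomm g⁻¹ c hc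
    rw [map_inv] at this
    calc f₁ g * f₁ s * (f₁ g)⁻¹ * c = f₁ g * f₁ s * ((f₁ g)⁻¹ * c) := by group
      _ = f₁ g * f₁ s * (c * (f₁ g)⁻¹) := by rw [this]
      _ = f₁ g * (f₁ s * c) * (f₁ g)⁻¹ := by group
  rw [e]
  exact hnorm g _ h

/-- `M₂ ≤ L₂` or `M₁ ≤ L₂`. -/
theorem central_product_half {S₁ : Type*} [Group S₁] (L₁ L₂ M₁ M₂ : Subgroup G) (f₁ : S₁ →* G)
    (hf₁ : f₁.range = L₁)
    (hL : ∀ x ∈ L₁, ∀ y ∈ L₂, x * y = y * x)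
    (hM : ∀ x ∈ M₁, ∀ y ∈ M₂, x * y = y * x)
    (hLM : M₁ ⊔ M₂ = L₁ ⊔ L₂)
    (hP₁ : ∀ A B : Subgroup S₁, A.Normal → B.Normal → A ⊔ B = ⊤ → A = ⊤ ∨ B = ⊤)
    (hZ₁ : ∀ x : S₁, (∀ y, f₁ (x⁻¹ * y⁻¹ * x * y) ∈ L₁ ⊓ L₂) → f₁ x ∈ L₁ ⊓ L₂) :
    M₂ ≤ L₂ ∨ M₁ ≤ L₂ := by
  have hmem : ∀ s : S₁, f₁ s ∈ L₁ := fun s => by rw [← hf₁]; exact ⟨s, rfl⟩
  have hcomm : ∀ s : S₁, ∀ y ∈ L₂, f₁ s * y = y * f₁ s := fun s y hy => hL _ (hmem s) y hy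
  have hM' : ∀ x ∈ M₂, ∀ y ∈ M₁, x * y = y * x := fun x hx y hy => (hM y hy x hx).symm
  have hLM' : M₂ ⊔ M₁ = L₁ ⊔ L₂ := by rw [sup_comm, hLM]
  have hsup : ∀ s : S₁, f₁ s ∈ M₁ ⊔ M₂ := fun s => by
    rw [hLM]; exact Subgroup.mem_sup_left (hmem s)
  have hsup' : ∀ s : S₁, f₁ s ∈ M₂ ⊔ M₁ := fun s => by
    rw [hLM']; exact Subgroup.mem_sup_left (hmem s)
  have hM₁L : M₁ ≤ L₁ ⊔ L₂ := by rw [← hLM]; exact le_sup_left
  have hM₂L : M₂ ≤ L₁ ⊔ L₂ := by rw [← hLM]; exact le_sup_right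
  set A := coverSub L₂ M₁ f₁ hcomm with hA
  set B := coverSub L₂ M₂ f₁ hcomm with hB
  have hAn : A.Normal := coverSub_normal L₂ M₁ f₁ hcomm
    (fun g m hm => conj_mem_of_mem_sup_of_commute M₁ M₂ hM (hsup g) hm)
  have hBn : B.Normal := coverSub_normal L₂ M₂ f₁ hcomm
    (fun g m hm => conj_mem_of_mem_sup_of_commute M₂ M₁ hM' (hsup' g) hm)
  have hAB : A ⊔ B = ⊤ := by
    rw [eq_top_iff]
    intro s _
    obtain ⟨m₁, hm₁, m₂, hm₂, hs⟩ := exists_mul_of_mem_sup_of_commute M₁ M₂ hM (hsup s)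
    obtain ⟨a, ha, c, hc, rfl⟩ := exists_mul_of_mem_sup_of_commute L₁ L₂ hL (hM₁L hm₁)
    obtain ⟨b, hb, d, hd, rfl⟩ := exists_mul_of_mem_sup_of_commute L₁ L₂ hL (hM₂L hm₂)
    rw [← hf₁] at ha hb
    obtain ⟨sa, rfl⟩ := ha
    obtain ⟨sb, rfl⟩ := hb
    have hsa : sa ∈ A := ⟨c, hc, hm₁⟩
    have hsb : sb ∈ B := ⟨d, hd, hm₂⟩
    -- s = sa * sb * s' with f₁ s' = c * d
    have hs' : f₁ ((sa * sb)⁻¹ * s) = c * d := by
      rw [map_mul, map_inv, map_mul, hs]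
      have := hcomm sb c hc
      calc (f₁ sa * f₁ sb)⁻¹ * (f₁ sa * c * (f₁ sb * d))
          = (f₁ sb)⁻¹ * (c * f₁ sb) * d := by group
        _ = (f₁ sb)⁻¹ * (f₁ sb * c) * d := by rw [this]
        _ = c * d := by group
    have hs'A : (sa * sb)⁻¹ * s ∈ A := by
      refine ⟨(c * d)⁻¹, inv_mem (mul_mem hc hd), ?_⟩
      rw [hs', mul_inv_cancel]
      exact M₁.one_mem
    have : s = sa * sb * ((sa * sb)⁻¹ * s) := by group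
    rw [this]
    exact mul_mem (mul_mem (Subgroup.mem_sup_left hsa) (Subgroup.mem_sup_right hsb))
      (Subgroup.mem_sup_left hs'A)
  rcases hP₁ A B hAn hBn hAB with h | h
  · left
    refine central_product_step L₁ L₂ M₁ M₂ f₁ hf₁ hL hM hM₂L hZ₁ ?_
    intro s
    have : s ∈ A := by rw [h]; trivial
    exact this
  · right
    refine central_product_step L₁ L₂ M₂ M₁ f₁ hf₁ hL hM' hM₁L hZ₁ ?_
    intro s
    have : s ∈ B := by rw [h]; trivial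
    exact this

/-- Two central product decompositions of the same group coincide up to order. -/
theorem central_product_perm {S₁ S₂ : Type*} [Group S₁] [Group S₂]
    (L₁ L₂ M₁ M₂ : Subgroup G) (f₁ : S₁ →* G) (f₂ : S₂ →* G)
    (hf₁ : f₁.range = L₁) (hf₂ : f₂.range = L₂)
    (hL : ∀ x ∈ L₁, ∀ y ∈ L₂, x * y = y * x)
    (hM : ∀ x ∈ M₁, ∀ y ∈ M₂, x * y = y * x)
    (hMZ : M₁ ⊓ M₂ = L₁ ⊓ L₂)
    (hLM : M₁ ⊔ M₂ = L₁ ⊔ L₂)
    (hP₁ : ∀ A B : Subgroup S₁, A.Normal → B.Normal → A ⊔ B = ⊤ → A = ⊤ ∨ B = ⊤)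
    (hP₂ : ∀ A B : Subgroup S₂, A.Normal → B.Normal → A ⊔ B = ⊤ → A = ⊤ ∨ B = ⊤)
    (hZ₁ : ∀ x : S₁, (∀ y, f₁ (x⁻¹ * y⁻¹ * x * y) ∈ L₁ ⊓ L₂) → f₁ x ∈ L₁ ⊓ L₂)
    (hZ₂ : ∀ x : S₂, (∀ y, f₂ (x⁻¹ * y⁻¹ * x * y) ∈ L₁ ⊓ L₂) → f₂ x ∈ L₁ ⊓ L₂)
    (hne₁ : ¬ M₁ ≤ L₁ ⊓ L₂) (hne₂ : ¬ M₂ ≤ L₁ ⊓ L₂) :
    (M₁ = L₁ ∧ M₂ = L₂) ∨ (M₁ = L₂ ∧ M₂ = L₁) := by
  have hL' : ∀ x ∈ L₂, ∀ y ∈ L₁, x * y = y * x := fun x hx y hy => (hL y hy x hx).symm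
  have hLM' : M₁ ⊔ M₂ = L₂ ⊔ L₁ := by rw [hLM, sup_comm]
  have hZ₂' : ∀ x : S₂, (∀ y, f₂ (x⁻¹ * y⁻¹ * x * y) ∈ L₂ ⊓ L₁) → f₂ x ∈ L₂ ⊓ L₁ := by
    intro x hx
    rw [inf_comm]
    apply hZ₂
    intro y
    rw [inf_comm]
    exact hx y
  have h1 := central_product_half L₁ L₂ M₁ M₂ f₁ hf₁ hL hM hLM hP₁ hZ₁
  have h2 := central_product_half L₂ L₁ M₁ M₂ f₂ hf₂ hL' hM hLM' hP₂ hZ₂'
  -- decomposition of elements of `L₁`, `L₂`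
  have hdec : ∀ x ∈ L₁ ⊔ L₂, ∃ m₁ ∈ M₁, ∃ m₂ ∈ M₂, x = m₁ * m₂ := by
    intro x hx
    rw [← hLM] at hx
    exact exists_mul_of_mem_sup_of_commute M₁ M₂ hM hx
  rcases h1 with h1 | h1 <;> rcases h2 with h2 | h2
  · exact absurd (le_inf h2 h1) hne₂
  · -- M₂ ≤ L₂, M₁ ≤ L₁
    left
    constructor
    · apply le_antisymm h2
      intro x hx
      obtain ⟨m₁, hm₁, m₂, hm₂, rfl⟩ := hdec x (Subgroup.mem_sup_left hx)
      have : m₂ ∈ L₁ ⊓ L₂ := by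
        refine Subgroup.mem_inf.2 ⟨?_, h1 hm₂⟩
        have : m₂ = m₁⁻¹ * (m₁ * m₂) := by group
        rw [this]
        exact mul_mem (inv_mem (h2 hm₁)) hx
      rw [← hMZ] at this
      exact mul_mem hm₁ (Subgroup.mem_inf.1 this).1
    · apply le_antisymm h1
      intro x hx
      obtain ⟨m₁, hm₁, m₂, hm₂, rfl⟩ := hdec x (Subgroup.mem_sup_right hx)
      have : m₁ ∈ L₁ ⊓ L₂ := by
        refine Subgroup.mem_inf.2 ⟨h2 hm₁, ?_⟩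
        have : m₁ = (m₁ * m₂) * m₂⁻¹ := by group
        rw [this]
        exact mul_mem hx (inv_mem (h1 hm₂))
      rw [← hMZ] at this
      exact mul_mem (Subgroup.mem_inf.1 this).2 hm₂
  · -- M₁ ≤ L₂, M₂ ≤ L₁
    right
    constructor
    · apply le_antisymm h1
      intro x hx
      obtain ⟨m₁, hm₁, m₂, hm₂, rfl⟩ := hdec x (Subgroup.mem_sup_right hx)
      have : m₂ ∈ L₁ ⊓ L₂ := by
        refine Subgroup.mem_inf.2 ⟨h2 hm₂, ?_⟩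
        have : m₂ = m₁⁻¹ * (m₁ * m₂) := by group
        rw [this]
        exact mul_mem (inv_mem (h1 hm₁)) hx
      rw [← hMZ] at this
      exact mul_mem hm₁ (Subgroup.mem_inf.1 this).1
    · apply le_antisymm h2
      intro x hx
      obtain ⟨m₁, hm₁, m₂, hm₂, rfl⟩ := hdec x (Subgroup.mem_sup_left hx)
      have : m₁ ∈ L₁ ⊓ L₂ := by
        refine Subgroup.mem_inf.2 ⟨?_, h1 hm₁⟩
        have : m₁ = (m₁ * m₂) * m₂⁻¹ := by group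
        rw [this]
        exact mul_mem hx (inv_mem (h2 hm₂))
      rw [← hMZ] at this
      exact mul_mem (Subgroup.mem_inf.1 this).2 hm₂
  · exact absurd (le_inf h2 h1) hne₁

end Cfsg.Agent.Helper99
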