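import Mathlib

/-!
# `[G,α] = G` ⇒ iterated commutators generate `G`, given the generalized zipper statement

`s3927_of_s3947` : S3927 from S3947 (statement-as-hypothesis for all finite groups in the
same universe).  Argument (lead, board TIP 2139): in `Γ = G ⋊ ⟨α⟩` with `a = α`, the map
`T x = x a x⁻¹` satisfies `T x = (f x.left, α)`; the `T`-periodic points generate `Γ`
(strong induction on `|Γ|`, zipper statement for the non-generated case).
-/

set_option autoImplicit false

universe u

namespace Cfsg.Agent.Helper99.CommGen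

/-- The generalized zipper statement (S3947) for all finite groups of universe `u`. -/
def Zipper47 : Prop :=
  ∀ {Γ : Type u} [Group Γ] [Finite Γ] (A : Subgroup Γ),
    Subgroup.normalClosure (A : Set Γ) = ⊤ → A ≠ ⊤ →
    sSup {H : Subgroup Γ | A ≤ H ∧ H ≠ ⊤ ∧
      Subgroup.normalClosure ((A.subgroupOf H : Subgroup ↥H) : Set ↥H) = ⊤} = ⊤ ∨
      ∃! M : Subgroup Γ, IsCoatom M ∧ A ≤ M

section abstract

variable {Γ : Type*} [Group Γ]

/-- `T_a x = x a x⁻¹` -/
def Tm (a x : Γ) : Γ := x * a * x⁻¹

/-- the periodic points of `T_a` -/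
def Pset (a : Γ) : Set Γ := {β | ∃ m : ℕ, 0 < m ∧ (Tm a)^[m] β = β}

theorem a_mem_Pset (a : Γ) : a ∈ Pset a := ⟨1, one_pos, by simp [Tm]⟩

theorem exists_iterate_mem_Pset [Finite Γ] (a β : Γ) : ∃ i, (Tm a)^[i] β ∈ Pset a := by
  obtain ⟨i, j, hij, h⟩ := Finite.exists_ne_map_eq_of_infinite (fun i : ℕ => (Tm a)^[i] β)
  wlog hlt : i < j generalizing i j
  · exact this j i hij.symm h.symm (lt_of_le_of_ne (not_lt.mp hlt) hij.symm)
  refine ⟨i, j - i, by omega, ?_⟩
  rw [← Function.iterate_add_apply]
  have : j - i + i = j := by omega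
  rw [this]
  exact h.symm

theorem iterate_Tm_subtype (H : Subgroup Γ) (a : Γ) (ha : a ∈ H) (x : H) (m : ℕ) :
    (((Tm (⟨a, ha⟩ : H))^[m] x : H) : Γ) = (Tm a)^[m] (x : Γ) := by
  induction m with
  | zero => rfl
  | succ m ih =>
    rw [Function.iterate_succ_apply', Function.iterate_succ_apply', ← ih]
    simp [Tm]

end abstract

/-- Lemma L: if `Γ` is the normal closure of `a`, the `T_a`-periodic points generate `Γ`. -/
theorem closure_Pset_eq_top (h47 : Zipper47.{u}) :
    ∀ (n : ℕ) (Γ : Type u) [Group Γ] [Finite Γ], Nat.card Γ = n → ∀ a : Γ,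
      Subgroup.normalClosure ({a} : Set Γ) = ⊤ → Subgroup.closure (Pset a) = ⊤ := by
  intro n
  induction n using Nat.strong_induction_on with
  | _ n ih =>
  intro Γ _ _ hcard a hnc
  by_contra hK
  set K := Subgroup.closure (Pset a) with hKdef
  have haK : a ∈ K := Subgroup.subset_closure (a_mem_Pset a)
  set A := Subgroup.zpowers a with hAdef
  have hAK : A ≤ K := (Subgroup.zpowers_le).mpr haK
  have hAnc : Subgroup.normalClosure (A : Set Γ) = ⊤ := by
    rw [eq_top_iff, ← hnc]
    apply Subgroup.normalClosure_mono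
    intro x hx
    rw [Set.mem_singleton_iff] at hx
    rw [hx]
    exact Subgroup.mem_zpowers a
  have hAtop : A ≠ ⊤ := fun h => hK (top_le_iff.mp (h ▸ hAK))
  rcases h47 A hAnc hAtop with hY | hM
  · -- every member lies in K
    apply hK
    rw [eq_top_iff, ← hY]
    apply sSup_le
    rintro H ⟨hAH, hHtop, hHnc⟩
    have haH : a ∈ H := hAH (Subgroup.mem_zpowers a)
    have hlt : Nat.card H < n := by
      rw [← hcard]
      apply lt_of_le_of_ne (Subgroup.card_le_card_group H)
      intro h
      exact hHtop (Subgroup.card_eq_iff_eq_top H |>.mp h)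
    have hncH : Subgroup.normalClosure ({(⟨a, haH⟩ : H)} : Set H) = ⊤ := by
      rw [eq_top_iff, ← hHnc]
      apply Subgroup.normalClosure_le_normal
      intro x hx
      have hx' : (x : Γ) ∈ A := hx
      obtain ⟨k, hk⟩ := Subgroup.mem_zpowers_iff.mp hx'
      have : x = (⟨a, haH⟩ : H) ^ k := by
        apply Subtype.ext
        rw [Subgroup.coe_zpow]
        exact hk.symm
      rw [this]
      exact Subgroup.zpow_mem _ (Subgroup.subset_normalClosure (Set.mem_singleton _)) k
    have hind := ih (Nat.card H) hlt H rfl ⟨a, haH⟩ hncH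
    have hmap : (Subgroup.closure (Pset (⟨a, haH⟩ : H))).map H.subtype ≤ K := by
      rw [MonoidHom.map_closure]
      apply Subgroup.closure_mono
      rintro _ ⟨x, ⟨m, hm, hx⟩, rfl⟩
      refine ⟨m, hm, ?_⟩
      have := iterate_Tm_subtype H a haH x m
      rw [hx] at this
      exact this.symm
    intro x hx
    apply hmap
    refine ⟨⟨x, hx⟩, ?_, rfl⟩
    rw [hind]
    trivial
  · obtain ⟨M, ⟨hMco, hAM⟩, hMuniq⟩ := hM
    have haM : a ∈ M := hAM (Subgroup.mem_zpowers a)
    -- K ≤ M
    have hKM : K ≤ M := by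
      rcases eq_top_or_exists_le_coatom K with h | ⟨M', hM'co, hKM'⟩
      · exact absurd h hK
      · have : M' = M := hMuniq M' ⟨hM'co, hAK.trans hKM'⟩
        rwa [this] at hKM'
    -- M is not normal
    have hMnn : ¬ M.Normal := by
      intro hn
      apply hMco.1
      rw [eq_top_iff, ← hnc]
      apply Subgroup.normalClosure_le_normal
      intro x hx
      rw [Set.mem_singleton_iff] at hx
      rw [hx]
      exact haM
    have hNM : Subgroup.normalizer (M : Set Γ) = M := by
      apply le_antisymm _ Subgroup.le_normalizer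
      by_contra hle
      have hlt : M < Subgroup.normalizer (M : Set Γ) :=
        lt_of_le_of_ne Subgroup.le_normalizer (fun h => hle (h ▸ le_rfl))
      exact hMnn (Subgroup.normalizer_eq_top_iff.mp (hMco.2 _ hlt))
    -- a conjugate of a outside M
    obtain ⟨g, hg⟩ : ∃ g : Γ, g * a * g⁻¹ ∉ M := by
      by_contra hcon
      push Not at hcon
      apply hMco.1
      rw [eq_top_iff, ← hnc]
      unfold Subgroup.normalClosure
      rw [Subgroup.closure_le]
      intro x hx
      rw [Group.mem_conjugatesOfSet_iff] at hx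
      obtain ⟨b, hb, hbx⟩ := hx
      rw [Set.mem_singleton_iff] at hb
      subst hb
      obtain ⟨c, rfl⟩ := isConj_iff.mp hbx
      exact hcon c
    set β := g * a * g⁻¹ with hβ
    have hex : ∃ i, (Tm a)^[i] β ∈ M := by
      obtain ⟨i, hi⟩ := exists_iterate_mem_Pset a β
      exact ⟨i, hKM (Subgroup.subset_closure hi)⟩
    classical
    set i1 := Nat.find hex with hi1
    have hi1M : (Tm a)^[i1] β ∈ M := Nat.find_spec hex
    have hi1pos : i1 ≠ 0 := by
      intro h0
      rw [h0] at hi1M
      exact hg hi1M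
    obtain ⟨j, hj⟩ := Nat.exists_eq_succ_of_ne_zero hi1pos
    have hjM : (Tm a)^[j] β ∉ M := by
      apply Nat.find_min hex
      omega
    set β' := (Tm a)^[j] β with hβ'
    have hTβ' : β' * a * β'⁻¹ ∈ M := by
      have : (Tm a)^[i1] β = Tm a β' := by
        rw [hj, Function.iterate_succ_apply']
      rw [this] at hi1M
      exact hi1M
    -- the conjugate coatom
    set M'' := (MulAut.conj β'⁻¹).mapSubgroup M with hM''
    have hM''co : IsCoatom M'' := ((MulAut.conj β'⁻¹).mapSubgroup.isCoatom_iff M).mpr hMco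
    have haM'' : a ∈ M'' := by
      rw [hM'']
      refine ⟨β' * a * β'⁻¹, hTβ', ?_⟩
      show MulAut.conj β'⁻¹ (β' * a * β'⁻¹) = a
      rw [MulAut.conj_apply]
      group
    have hAM'' : A ≤ M'' := Subgroup.zpowers_le.mpr haM''
    have hM''eq : M'' = M := hMuniq M'' ⟨hM''co, hAM''⟩
    have hβnorm : β'⁻¹ ∈ Subgroup.normalizer (M : Set Γ) := by
      rw [Subgroup.mem_normalizer_iff_map_conj_eq]
      exact hM''eq
    rw [hNM] at hβnorm
    exact hjM (by simpa using M.inv_mem hβnorm)

section transfer

variable {G : Type u} [Group G] [Finite G]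

open SemidirectProduct

/-- S3927 from S3947. -/
theorem s3927_of_s3947 (h47 : Zipper47.{u}) (α : MulAut G)
    (hG : Subgroup.closure (Set.range (fun c : G => c * (α c)⁻¹)) = ⊤) (k : ℕ) (hk : 1 ≤ k) :
    Subgroup.closure (Set.range ((fun c : G => c * (α c)⁻¹)^[k])) = ⊤ := by
  classical
  set f : G → G := fun c => c * (α c)⁻¹ with hf
  set Z : Subgroup (MulAut G) := Subgroup.zpowers α with hZ
  let φ : Z →* MulAut G := Z.subtype
  let α' : Z := ⟨α, Subgroup.mem_zpowers α⟩
  let a : G ⋊[φ] Z := inr α'
  have : Finite (G ⋊[φ] Z) := Finite.of_equiv _ SemidirectProduct.equivProd.symm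
  -- elements of Z commute with α'
  have hcomm : ∀ z : Z, z * α' * z⁻¹ = α' := by
    intro z
    obtain ⟨n, hn⟩ := Subgroup.mem_zpowers_iff.mp z.2
    have hz : z = α' ^ n := by
      apply Subtype.ext
      rw [Subgroup.coe_zpow]
      exact hn.symm
    rw [hz]
    group
  -- T x = (f x.left, α')
  have hT : ∀ x : G ⋊[φ] Z, Tm a x = ⟨f x.left, α'⟩ := by
    intro x
    apply SemidirectProduct.ext
    · show (x * a * x⁻¹).left = f x.left
      rw [mul_left, mul_left, inv_left, mul_right]
      have h1 : (a : G ⋊[φ] Z).left = 1 := rfl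
      have h2 : (a : G ⋊[φ] Z).right = α' := rfl
      rw [h1, h2, map_one, mul_one, ← MulAut.mul_apply, ← map_mul]
      have h3 : x.right * α' * x.right⁻¹ = α' := hcomm x.right
      rw [h3]
      show x.left * α (x.left⁻¹) = f x.left
      rw [map_inv]
    · show (x * a * x⁻¹).right = α'
      rw [mul_right, mul_right, inv_right]
      exact hcomm x.right
  have hTiter : ∀ (m : ℕ) (x : G ⋊[φ] Z), (Tm a)^[m + 1] x = ⟨f^[m + 1] x.left, α'⟩ := by
    intro m
    induction m with
    | zero => intro x; simpa using hT x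
    | succ m ih =>
      intro x
      rw [Function.iterate_succ_apply', ih x, hT, Function.iterate_succ_apply' f (m + 1)]
  -- normal closure of a is everything
  have hnc : Subgroup.normalClosure ({a} : Set (G ⋊[φ] Z)) = ⊤ := by
    set N := Subgroup.normalClosure ({a} : Set (G ⋊[φ] Z)) with hN
    have haN : a ∈ N := Subgroup.subset_normalClosure (Set.mem_singleton _)
    have hNn : N.Normal := Subgroup.normalClosure_normal
    have hinl : ∀ g : G, (inl g : G ⋊[φ] Z) ∈ N := by
      have hle : Subgroup.closure (Set.range f) ≤ N.comap (inl : G →* G ⋊[φ] Z) := by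
        rw [Subgroup.closure_le]
        rintro _ ⟨c, rfl⟩
        show (inl (f c) : G ⋊[φ] Z) ∈ N
        have h1 : Tm a (inl c) ∈ N := hNn.conj_mem a haN (inl c)
        have h2 : (inl (f c) : G ⋊[φ] Z) = Tm a (inl c) * a⁻¹ := by
          rw [hT, show (inl c : G ⋊[φ] Z).left = c from rfl, mk_eq_inl_mul_inr]
          show _ = inl (f c) * a * a⁻¹
          rw [mul_inv_cancel_right]
        rw [h2]
        exact N.mul_mem h1 (N.inv_mem haN)
      intro g
      have : g ∈ Subgroup.closure (Set.range f) := by rw [hG]; trivial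
      exact hle this
    have hinr : ∀ z : Z, (inr z : G ⋊[φ] Z) ∈ N := by
      intro z
      obtain ⟨n, hn⟩ := Subgroup.mem_zpowers_iff.mp z.2
      have hz : z = α' ^ n := by
        apply Subtype.ext
        rw [Subgroup.coe_zpow]
        exact hn.symm
      rw [hz, map_zpow]
      exact N.zpow_mem haN n
    rw [eq_top_iff]
    intro x _
    rw [← inl_left_mul_inr_right x]
    exact N.mul_mem (hinl _) (hinr _)
  have hP := closure_Pset_eq_top h47 _ (G ⋊[φ] Z) rfl a hnc
  -- the subgroup generated by the k-th iterates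
  set Gk : Subgroup G := Subgroup.closure (Set.range (f^[k])) with hGk
  have hαGk : ∀ g ∈ Gk, α g ∈ Gk := by
    intro g hg
    induction hg using Subgroup.closure_induction with
    | mem s hs =>
      obtain ⟨c, rfl⟩ := hs
      have h1 : α (f^[k] c) = (f (f^[k] c))⁻¹ * f^[k] c := by
        simp only [hf]
        group
      rw [h1]
      apply Gk.mul_mem (Gk.inv_mem _) (Subgroup.subset_closure ⟨c, rfl⟩)
      apply Subgroup.subset_closure
      refine ⟨f c, ?_⟩
      rw [← Function.iterate_succ_apply, Function.iterate_succ_apply']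
    | one => simp
    | mul x y _ _ hx hy => rw [map_mul]; exact Gk.mul_mem hx hy
    | inv x _ hx => rw [map_inv]; exact Gk.inv_mem hx
  have hpow : ∀ n : ℕ, ∀ g ∈ Gk, (α ^ n) g ∈ Gk := by
    intro n
    induction n with
    | zero => intro g hg; simpa using hg
    | succ n ih =>
      intro g hg
      rw [pow_succ', MulAut.mul_apply]
      exact hαGk _ (ih g hg)
  have hstab : ∀ z : Z, ∀ g ∈ Gk, φ z g ∈ Gk := by
    intro z g hg
    have hfin : IsOfFinOrder α := isOfFinOrder_of_finite α
    have hz : (z : MulAut G) ∈ Submonoid.powers α := by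
      rw [hfin.mem_powers_iff_mem_zpowers]
      exact z.2
    obtain ⟨n, hn⟩ := (Submonoid.mem_powers_iff _ _).mp hz
    show (z : MulAut G) g ∈ Gk
    rw [← hn]
    exact hpow n g hg
  let Γk : Subgroup (G ⋊[φ] Z) :=
    { carrier := {x | x.left ∈ Gk}
      mul_mem' := by
        intro x y hx hy
        show (x * y).left ∈ Gk
        rw [mul_left]
        exact Gk.mul_mem hx (hstab _ _ hy)
      one_mem' := Gk.one_mem
      inv_mem' := by
        intro x hx
        show (x⁻¹).left ∈ Gk
        rw [inv_left]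
        exact hstab _ _ (Gk.inv_mem hx) }
  have hPle : Subgroup.closure (Pset a) ≤ Γk := by
    rw [Subgroup.closure_le]
    rintro β ⟨m, hm, hβ⟩
    show β.left ∈ Gk
    have hfix : (Tm a)^[m * k] β = β := by
      rw [Function.iterate_mul]
      exact Function.IsFixedPt.iterate hβ k
    obtain ⟨r, hr⟩ : ∃ r, m * k = r + 1 := ⟨m * k - 1, by
      have : 0 < m * k := Nat.mul_pos hm hk
      omega⟩
    rw [hr, hTiter] at hfix
    have hleft : f^[r + 1] β.left = β.left := by
      have := congrArg SemidirectProduct.left hfix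
      exact this
    rw [← hleft]
    apply Subgroup.subset_closure
    have hrk : r + 1 = k + (r + 1 - k) := by
      have : k ≤ m * k := Nat.le_mul_of_pos_left k hm
      omega
    rw [hrk, Function.iterate_add_apply]
    exact ⟨_, rfl⟩
  rw [eq_top_iff]
  intro g _
  have : (inl g : G ⋊[φ] Z) ∈ Γk := hPle (by rw [hP]; trivial)
  exact this

end transfer

end Cfsg.Agent.Helper99.CommGen
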