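import Mathlib

set_option autoImplicit false

namespace Cfsg.Agent.Helper99.ComplCount

open Module

variable {F V : Type*} [Field F] [AddCommGroup V] [Module F V] [FiniteDimensional F V]

/-- fibres of a linear map over points of the range have the cardinality of the kernel -/
theorem card_fiber_eq_card_ker {A B : Type*} [AddCommGroup A] [Module F A] [AddCommGroup B]
    [Module F B] (ρ : A →ₗ[F] B) (a0 : A) :
    Nat.card {a : A // ρ a = ρ a0} = Nat.card ↥(LinearMap.ker ρ) := by
  apply Nat.card_congr
  refine ⟨fun a => ⟨a.1 - a0, by rw [LinearMap.mem_ker, map_sub, a.2, sub_self]⟩,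
    fun k => ⟨k.1 + a0, by rw [map_add, LinearMap.mem_ker.mp k.2, zero_add]⟩, ?_, ?_⟩
  · intro a; apply Subtype.ext; simp
  · intro k; apply Subtype.ext; simp

variable [Fintype F]

/-- the number of complements of an `m`-dimensional subspace -/
theorem card_compl (U : Submodule F V) :
    Nat.card {W : Submodule F V // IsCompl U W} =
      Fintype.card F ^ (finrank F V * finrank F ↥U - finrank F ↥U * finrank F ↥U) := by
  classical
  have : Finite V := Module.finite_of_finite F
  rw [Nat.card_congr (Submodule.isComplEquivProj U)]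
  -- restriction map
  let ρ : (V →ₗ[F] ↥U) →ₗ[F] (↥U →ₗ[F] ↥U) := LinearMap.lcomp F ↥U U.subtype
  have hρ : ∀ f : V →ₗ[F] ↥U, ρ f = f.comp U.subtype := fun f => rfl
  obtain ⟨W0, hW0⟩ := Submodule.exists_isCompl U
  let f0 : V →ₗ[F] ↥U := Submodule.projectionOnto U W0 hW0
  have hf0 : ρ f0 = LinearMap.id := by
    rw [hρ]
    apply LinearMap.ext
    intro x
    simp [f0]
  have hset : {f : V →ₗ[F] ↥U // ∀ x : ↥U, f x = x} = {f : V →ₗ[F] ↥U // ρ f = ρ f0} := by
    congr 1
    ext f
    rw [hf0, hρ]
    constructor
    · intro h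
      apply LinearMap.ext
      intro x
      simpa using h x
    · intro h x
      have := LinearMap.congr_fun h x
      simpa using this
  rw [hset, card_fiber_eq_card_ker]
  have hsurj : Function.Surjective ρ := by
    intro g
    refine ⟨g.comp f0, ?_⟩
    rw [hρ]
    apply LinearMap.ext
    intro x
    simp [f0]
  have h1 := LinearMap.finrank_range_add_finrank_ker ρ
  rw [LinearMap.range_eq_top.mpr hsurj, finrank_top, Module.finrank_linearMap,
    Module.finrank_linearMap] at h1
  have h2 : finrank F ↥(LinearMap.ker ρ) =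
      finrank F V * finrank F ↥U - finrank F ↥U * finrank F ↥U := by omega
  rw [← h2, ← Nat.card_eq_fintype_card]
  exact Module.natCard_eq_pow_finrank (K := F) (V := ↥(LinearMap.ker ρ))


/-- the number of complementary pairs `(U, W)` with `dim U = m` -/
theorem card_pairs (m : ℕ) :
    Nat.card {P : Submodule F V × Submodule F V // IsCompl P.1 P.2 ∧ finrank F ↥P.1 = m} =
      Nat.card {U : Submodule F V // finrank F ↥U = m} *
        Fintype.card F ^ (finrank F V * m - m * m) := by
  classical
  have : Finite V := Module.finite_of_finite F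
  haveI : Fintype {U : Submodule F V // finrank F ↥U = m} := Fintype.ofFinite _
  let e : {P : Submodule F V × Submodule F V // IsCompl P.1 P.2 ∧ finrank F ↥P.1 = m} ≃
      Σ U : {U : Submodule F V // finrank F ↥U = m}, {W : Submodule F V // IsCompl U.1 W} :=
    { toFun := fun P => ⟨⟨P.1.1, P.2.2⟩, ⟨P.1.2, P.2.1⟩⟩
      invFun := fun Q => ⟨(Q.1.1, Q.2.1), Q.2.2, Q.1.2⟩
      left_inv := fun P => rfl
      right_inv := fun Q => rfl }
  rw [Nat.card_congr e, Nat.card_sigma]
  have hfib : ∀ U : {U : Submodule F V // finrank F ↥U = m},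
      Nat.card {W : Submodule F V // IsCompl U.1 W} =
        Fintype.card F ^ (finrank F V * m - m * m) := by
    intro U
    rw [card_compl, U.2]
  rw [Finset.sum_congr rfl (fun U _ => hfib U), Finset.sum_const, Finset.card_univ,
    Nat.card_eq_fintype_card, smul_eq_mul]

/-- a prime different from the characteristic dividing the number of complementary pairs divides
the number of `m`-spaces. -/
theorem dvd_card_subspaces_of_dvd_card_pairs {p : ℕ} [Fact p.Prime] [CharP F p] (m : ℕ) (r : ℕ)
    (hr : r.Prime) (hrp : r ≠ p)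
    (h : r ∣ Nat.card {P : Submodule F V × Submodule F V // IsCompl P.1 P.2 ∧ finrank F ↥P.1 = m}) :
    r ∣ Nat.card {U : Submodule F V // finrank F ↥U = m} := by
  rw [card_pairs] at h
  rcases (Nat.Prime.dvd_mul hr).mp h with h1 | h1
  · exact h1
  · exfalso
    have h2 := hr.dvd_of_dvd_pow h1
    obtain ⟨e, -, he⟩ := FiniteField.card F p
    rw [he] at h2
    have h3 := hr.dvd_of_dvd_pow h2
    exact hrp ((Nat.prime_dvd_prime_iff_eq hr Fact.out).mp h3)

end Cfsg.Agent.Helper99.ComplCount
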