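import Mathlib
import Cfsg.Agent.Helper43.JordanMat

set_option autoImplicit false

namespace Cfsg.Agent.Helper99.JSplit

open Module Polynomial
open Cfsg.Agent.Helper43 Cfsg.Agent.Helper43.SS

universe u v w

variable {F : Type u} [Field F]

/-- A nilpotent `F[X]`-module with Jordan type `μ` (parts in `[1, p]`) such that every sub-multiset
of `μ` is the type of an `X`-invariant direct summand. -/
def SplitProp (p : ℕ) (M : Type v) [AddCommGroup M] [Module F[X] M] [Module F M]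
    [IsScalarTower F F[X] M] : Prop :=
  ∃ μ : Multiset ℕ, (∀ a ∈ μ, 0 < a ∧ a ≤ p) ∧ μ.sum = finrank F M ∧
    ∀ ν : Multiset ℕ, ν ≤ μ → ∃ U W : Submodule F M, IsCompl U W ∧
      (∀ u ∈ U, (X : F[X]) • u ∈ U) ∧ (∀ w ∈ W, (X : F[X]) • w ∈ W) ∧ finrank F ↥U = ν.sum

theorem splitProp_of_subsingleton (p : ℕ) (M : Type v) [AddCommGroup M] [Module F[X] M]
    [Module F M] [IsScalarTower F F[X] M] [Subsingleton M] : SplitProp (F := F) p M := by
  refine ⟨0, by simp, by simp [Module.finrank_zero_of_subsingleton], ?_⟩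
  intro ν hν
  have : ν = 0 := le_antisymm hν (Multiset.zero_le _)
  subst this
  refine ⟨⊥, ⊤, isCompl_bot_top, ?_, ?_, by simp⟩
  · intro u hu
    rw [Submodule.mem_bot] at hu ⊢
    rw [hu, smul_zero]
  · intro w _; trivial

theorem splitProp_of_equiv (p : ℕ) {M : Type v} [AddCommGroup M] [Module F[X] M]
    [Module F M] [IsScalarTower F F[X] M] {M' : Type w} [AddCommGroup M'] [Module F[X] M']
    [Module F M'] [IsScalarTower F F[X] M'] (E : M ≃ₗ[F[X]] M') (h : SplitProp (F := F) p M) :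
    SplitProp (F := F) p M' := by
  obtain ⟨μ, hμ, hsum, hall⟩ := h
  let e : M ≃ₗ[F] M' := E.restrictScalars F
  have he : ∀ x, e x = E x := fun x => rfl
  refine ⟨μ, hμ, by rw [hsum]; exact e.finrank_eq, ?_⟩
  intro ν hν
  obtain ⟨U, W, hUW, hU, hW, hdim⟩ := hall ν hν
  refine ⟨U.map e.toLinearMap, W.map e.toLinearMap, ?_, ?_, ?_, ?_⟩
  · have := (Submodule.orderIsoMapComap e).isCompl hUW
    simpa using this
  · rintro _ ⟨u, hu, rfl⟩
    refine ⟨(X : F[X]) • u, hU u hu, ?_⟩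
    show e ((X : F[X]) • u) = (X : F[X]) • e u
    rw [he, he, map_smul]
  · rintro _ ⟨u, hu, rfl⟩
    refine ⟨(X : F[X]) • u, hW u hu, ?_⟩
    show e ((X : F[X]) • u) = (X : F[X]) • e u
    rw [he, he, map_smul]
  · rw [LinearEquiv.finrank_map_eq]; exact hdim

/-- `Submodule.prod p q ≃ p × q` -/
def prodEquiv {A : Type v} {B : Type w} [AddCommGroup A] [Module F A] [AddCommGroup B] [Module F B]
    (P : Submodule F A) (Q : Submodule F B) : ↥(P.prod Q) ≃ₗ[F] (↥P × ↥Q) where
  toFun x := (⟨x.1.1, x.2.1⟩, ⟨x.1.2, x.2.2⟩)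
  invFun y := ⟨(y.1.1, y.2.1), ⟨y.1.2, y.2.2⟩⟩
  map_add' _ _ := rfl
  map_smul' _ _ := rfl
  left_inv _ := rfl
  right_inv _ := rfl

theorem finrank_prod_sub {A : Type v} {B : Type w} [AddCommGroup A] [Module F A] [AddCommGroup B]
    [Module F B] [Module.Finite F A] [Module.Finite F B]
    (P : Submodule F A) (Q : Submodule F B) :
    finrank F ↥(P.prod Q) = finrank F ↥P + finrank F ↥Q := by
  rw [(prodEquiv P Q).finrank_eq, Module.finrank_prod]

theorem splitProp_prod (p : ℕ) (A : Type v) [AddCommGroup A] [Module F[X] A]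
    [Module F A] [IsScalarTower F F[X] A] [Module.Finite F A]
    (B : Type w) [AddCommGroup B] [Module F[X] B]
    [Module F B] [IsScalarTower F F[X] B] [Module.Finite F B]
    (hA0 : 0 < finrank F A) (hAp : finrank F A ≤ p)
    (h : SplitProp (F := F) p B) : SplitProp (F := F) p (A × B) := by
  classical
  obtain ⟨μ, hμ, hsum, hall⟩ := h
  refine ⟨finrank F A ::ₘ μ, ?_, by rw [Multiset.sum_cons, hsum, Module.finrank_prod], ?_⟩
  · intro a ha
    rcases Multiset.mem_cons.mp ha with rfl | ha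
    · exact ⟨hA0, hAp⟩
    · exact hμ a ha
  intro ν hν
  by_cases hmem : finrank F A ∈ ν
  · have h1 : ν.erase (finrank F A) ≤ μ := Multiset.erase_le_iff_le_cons.mpr hν
    obtain ⟨U, W, hUW, hU, hW, hdim⟩ := hall _ h1
    refine ⟨(⊤ : Submodule F A).prod U, (⊥ : Submodule F A).prod W, ?_, ?_, ?_, ?_⟩
    · constructor
      · rw [disjoint_iff, Submodule.prod_inf_prod, top_inf_eq, hUW.inf_eq_bot, Submodule.prod_bot]
      · rw [codisjoint_iff, Submodule.prod_sup_prod, top_sup_eq, hUW.sup_eq_top, Submodule.prod_top]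
    · rintro ⟨x, y⟩ ⟨_, hy⟩
      exact ⟨trivial, hU y hy⟩
    · rintro ⟨x, y⟩ ⟨hx, hy⟩
      refine ⟨?_, hW y hy⟩
      simp only [Submodule.mem_bot] at hx ⊢
      show (X : F[X]) • x = 0
      rw [hx, smul_zero]
    · rw [finrank_prod_sub, finrank_top, hdim]
      have := Multiset.cons_erase hmem
      conv_rhs => rw [← this]
      rw [Multiset.sum_cons]
  · have h1 : ν ≤ μ := (Multiset.le_cons_of_notMem hmem).mp hν
    obtain ⟨U, W, hUW, hU, hW, hdim⟩ := hall _ h1
    refine ⟨(⊥ : Submodule F A).prod U, (⊤ : Submodule F A).prod W, ?_, ?_, ?_, ?_⟩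
    · constructor
      · rw [disjoint_iff, Submodule.prod_inf_prod, bot_inf_eq, hUW.inf_eq_bot, Submodule.prod_bot]
      · rw [codisjoint_iff, Submodule.prod_sup_prod, bot_sup_eq, hUW.sup_eq_top, Submodule.prod_top]
    · rintro ⟨x, y⟩ ⟨hx, hy⟩
      refine ⟨?_, hU y hy⟩
      simp only [Submodule.mem_bot] at hx ⊢
      show (X : F[X]) • x = 0
      rw [hx, smul_zero]
    · rintro ⟨x, y⟩ ⟨_, hy⟩
      exact ⟨trivial, hW y hy⟩
    · rw [finrank_prod_sub, finrank_bot, zero_add, hdim]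


theorem finrank_Qr (a : ℕ) : finrank F (Qr ((X : F[X]) ^ a)) = a := by
  rw [finrank_quotient_span_eq_natDegree, natDegree_X_pow]

theorem splitProp_PiQ (p : ℕ) (l : List ℕ) (hl : ∀ a ∈ l, 0 < a ∧ a ≤ p) :
    SplitProp (F := F) p (PiQ F l) := by
  induction l with
  | nil =>
    have : IsEmpty (Fin ([] : List ℕ).length) := (inferInstance : IsEmpty (Fin 0))
    have : Subsingleton (PiQ F []) := Unique.instSubsingleton
    exact splitProp_of_subsingleton p _
  | cons a l ih =>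
    have h1 := ih (fun b hb => hl b (List.mem_cons_of_mem _ hb))
    have h2 := hl a List.mem_cons_self
    have h3 := splitProp_prod (F := F) p (Qr ((X : F[X]) ^ a)) (PiQ F l)
      (by rw [finrank_Qr]; exact h2.1) (by rw [finrank_Qr]; exact h2.2) h1
    exact splitProp_of_equiv p (piQCons F a l) h3

/-- **Jordan decomposition with prescribed summands.** For a nilpotent endomorphism `N` with
`N ^ p = 0` there is a multiset `μ` of block sizes in `[1, p]` summing to `dim V` such that every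
sub-multiset `ν ≤ μ` is realised by an `N`-invariant direct summand of dimension `ν.sum`. -/
theorem exists_type_split {V : Type v} [AddCommGroup V] [Module F V] [FiniteDimensional F V]
    (N : Module.End F V) (p : ℕ) (hN : N ^ p = 0) :
    ∃ μ : Multiset ℕ, (∀ a ∈ μ, 0 < a ∧ a ≤ p) ∧ μ.sum = finrank F V ∧
      ∀ ν : Multiset ℕ, ν ≤ μ → ∃ U W : Submodule F V, IsCompl U W ∧
        (∀ u ∈ U, N u ∈ U) ∧ (∀ w ∈ W, N w ∈ W) ∧ finrank F ↥U = ν.sum := by
  have hkill : Kills F (AEval' N) p := (kills_AEval_iff N p).mpr hN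
  have hnilp : IsNilp F (AEval' N) := ⟨p, hkill⟩
  obtain ⟨l, -, hpos, hbound, ⟨E⟩⟩ := exists_PiQ _ (AEval' N) rfl hnilp
  have hl : ∀ a ∈ l, 0 < a ∧ a ≤ p := fun a ha => ⟨hpos a ha, hbound a ha p hkill⟩
  have h1 : SplitProp (F := F) p (AEval' N) := splitProp_of_equiv p E.symm (splitProp_PiQ p l hl)
  obtain ⟨μ, hμ, hsum, hall⟩ := h1
  refine ⟨μ, hμ, by rw [hsum]; exact (AEval'.of N).finrank_eq.symm, ?_⟩
  intro ν hν
  obtain ⟨U, W, hUW, hU, hW, hdim⟩ := hall ν hν
  let e : AEval' N ≃ₗ[F] V := (AEval'.of N).symm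
  refine ⟨U.map e.toLinearMap, W.map e.toLinearMap, ?_, ?_, ?_, ?_⟩
  · have := (Submodule.orderIsoMapComap e).isCompl hUW
    simpa using this
  · rintro _ ⟨u, hu, rfl⟩
    refine ⟨(X : F[X]) • u, hU u hu, ?_⟩
    exact AEval'.of_symm_X_smul N u
  · rintro _ ⟨u, hu, rfl⟩
    refine ⟨(X : F[X]) • u, hW u hu, ?_⟩
    exact AEval'.of_symm_X_smul N u
  · rw [LinearEquiv.finrank_map_eq]; exact hdim


end Cfsg.Agent.Helper99.JSplit
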