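import Mathlib
import Cfsg.Agent.Helper59.ElusiveMain
import Cfsg.Agent.Helper99.JSplit
import Cfsg.Agent.Helper99.SemiCompl
import Cfsg.Agent.Helper99.ComplCount
import Cfsg.Agent.Helper99.JordanElt

set_option autoImplicit false

namespace Cfsg.Agent.Helper99.ComplPairs

open Module Matrix Polynomial
open Cfsg.Agent.Helper43.JT
open Cfsg.Agent.Helper99.KdimSplit
open Cfsg.Agent.Helper99.JordanElt

universe u

/-- every partition of `n` into parts of size `≤ p` contains a sub-multiset summing to `m` -/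
def PartCond (p n m : ℕ) : Prop :=
  ∀ μ : Multiset ℕ, (∀ a ∈ μ, 0 < a ∧ a ≤ p) → μ.sum = n → ∃ ν : Multiset ℕ, ν ≤ μ ∧ ν.sum = m

theorem sum_eq_count_of_le_two (μ : Multiset ℕ) (hμ : ∀ a ∈ μ, 0 < a ∧ a ≤ 2) :
    μ.sum = μ.count 1 + 2 * μ.count 2 := by
  induction μ using Multiset.induction_on with
  | empty => simp
  | cons c μ ih =>
    rw [Multiset.forall_mem_cons] at hμ
    have h1 := ih hμ.2
    rw [Multiset.sum_cons, Multiset.count_cons, Multiset.count_cons, h1]
    obtain ⟨h2, h3⟩ := hμ.1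
    have : c = 1 ∨ c = 2 := by omega
    rcases this with rfl | rfl <;> simp <;> omega

theorem partCond_two (n m : ℕ) (hmn : m ≤ n) (h : Odd n ∨ Even m) : PartCond 2 n m := by
  intro μ hμ hsum
  have h1 := sum_eq_count_of_le_two μ hμ
  set c1 := μ.count 1 with hc1
  set c2 := μ.count 2 with hc2
  set a2 := min c2 (m / 2) with ha2
  have ha2c : a2 ≤ c2 := min_le_left _ _
  have ha2m : 2 * a2 ≤ m := by
    have : a2 ≤ m / 2 := min_le_right _ _
    omega
  have ha1 : m - 2 * a2 ≤ c1 := by
    rcases le_total (m / 2) c2 with hle | hle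
    · have : a2 = m / 2 := min_eq_right hle
      rcases h with hodd | heven
      · obtain ⟨k, hk⟩ := hodd
        omega
      · obtain ⟨k, hk⟩ := heven
        omega
    · have : a2 = c2 := min_eq_left hle
      omega
  refine ⟨Multiset.replicate (m - 2 * a2) 1 + Multiset.replicate a2 2, ?_, ?_⟩
  · rw [Multiset.le_iff_count]
    intro a
    rw [Multiset.count_add, Multiset.count_replicate, Multiset.count_replicate]
    by_cases h1a : 1 = a
    · subst h1a
      simp only [if_true]
      rw [if_neg (by omega)]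
      omega
    · rw [if_neg h1a]
      by_cases h2a : 2 = a
      · subst h2a
        simp only [if_true]
        omega
      · rw [if_neg h2a]
        omega
  · rw [Multiset.sum_add, Multiset.sum_replicate, Multiset.sum_replicate, smul_eq_mul, smul_eq_mul]
    omega

theorem parity_of_partCond_two (n m : ℕ) (h : PartCond 2 n m) : Odd n ∨ Even m := by
  by_contra hcon
  push Not at hcon
  obtain ⟨hn, hm⟩ := hcon
  rw [Nat.not_odd_iff_even] at hn
  obtain ⟨k, hk⟩ := hn
  obtain ⟨ν, hν, hsum⟩ := h (Multiset.replicate k 2) (by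
    intro a ha
    rw [Multiset.eq_of_mem_replicate ha]
    omega) (by rw [Multiset.sum_replicate, smul_eq_mul]; omega)
  obtain ⟨j, -, rfl⟩ := Multiset.le_replicate_iff.mp hν
  rw [Multiset.sum_replicate, smul_eq_mul] at hsum
  exact hm ⟨j, by omega⟩


variable {F : Type u} [Field F]

/-- the matrix-level hypothesis: every element of `SL_n(F)` whose `r`-th power is scalar and
which is not scalar fixes a pair of complementary subspaces, the first of dimension `m`. -/
def PairProp (F : Type u) [Field F] (n m r : ℕ) : Prop :=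
  ∀ x : Matrix.SpecialLinearGroup (Fin n) F,
      (∃ c : F, ((x ^ r : Matrix.SpecialLinearGroup (Fin n) F) : Matrix (Fin n) (Fin n) F) =
        c • (1 : Matrix (Fin n) (Fin n) F)) →
      (∀ c : F, (x : Matrix (Fin n) (Fin n) F) ≠ c • (1 : Matrix (Fin n) (Fin n) F)) →
      ∃ U W : Submodule F (Fin n → F), IsCompl U W ∧ Module.finrank F ↥U = m ∧
        U.map (Matrix.toLin' (x : Matrix (Fin n) (Fin n) F)) ≤ U ∧
        W.map (Matrix.toLin' (x : Matrix (Fin n) (Fin n) F)) ≤ W

theorem partCond_of_pairProp {p : ℕ} [Fact p.Prime] [CharP F p] (n m : ℕ) (hmn : m ≤ n)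
    (H : PairProp F n m p) : PartCond p n m := by
  classical
  intro μ hμ hsum
  by_cases hne : ∃ b ∈ μ, 2 ≤ b
  · obtain ⟨x, hxp, hns, hk⟩ := exists_unip (F := F) (p := p) n μ hμ hsum hne
    obtain ⟨U, W, hUW, hUm, hU, hW⟩ := H x ⟨1, by
      rw [Matrix.SpecialLinearGroup.coe_pow, hxp, one_smul]⟩ hns
    have hN : Matrix.toLin' ((x : Matrix (Fin n) (Fin n) F) - 1) =
        Matrix.toLin' (x : Matrix (Fin n) (Fin n) F) - 1 := by
      rw [map_sub, Matrix.toLin'_one]; rfl
    have hinv : ∀ S : Submodule F (Fin n → F),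
        S.map (Matrix.toLin' (x : Matrix (Fin n) (Fin n) F)) ≤ S →
        ∀ v ∈ S, (Matrix.toLin' ((x : Matrix (Fin n) (Fin n) F) - 1)) v ∈ S := by
      intro S hS v hv
      rw [hN, LinearMap.sub_apply, Module.End.one_apply]
      exact S.sub_mem (hS (Submodule.mem_map_of_mem hv)) hv
    have hfin : finrank F (Fin n → F) = n := Module.finrank_fin_fun F
    obtain ⟨ν, hν, hνs⟩ := exists_sub_multiset_of_isCompl _ μ hk (by rw [hsum, hfin])
      U W hUW (hinv U hU) (hinv W hW)
    exact ⟨ν, hν, by rw [hνs, hUm]⟩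
  · push Not at hne
    have hone : ∀ b ∈ μ, b = 1 := by
      intro b hb
      have h1 := (hμ b hb).1
      have h2 := hne b hb
      omega
    have hrep : μ = Multiset.replicate (Multiset.card μ) 1 := Multiset.eq_replicate_card.mpr hone
    have hcard : Multiset.card μ = n := by
      have h1 : μ.sum = Multiset.card μ := by
        conv_lhs => rw [hrep]
        rw [Multiset.sum_replicate, smul_eq_mul, mul_one]
      omega
    refine ⟨Multiset.replicate m 1, ?_, by rw [Multiset.sum_replicate, smul_eq_mul, mul_one]⟩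
    rw [hrep, hcard, Multiset.replicate_le_replicate]
    exact hmn

theorem scalar_ne_zero (n : ℕ) (hn : 0 < n) (r : ℕ) (x : Matrix.SpecialLinearGroup (Fin n) F) (c : F)
    (hxc : ((x ^ r : Matrix.SpecialLinearGroup (Fin n) F) : Matrix (Fin n) (Fin n) F) =
        c • (1 : Matrix (Fin n) (Fin n) F)) : c ≠ 0 := by
  rintro rfl
  have h1 := (x ^ r).2
  have : Nonempty (Fin n) := ⟨⟨0, hn⟩⟩
  rw [hxc, zero_smul, Matrix.det_zero] at h1
  exact zero_ne_one h1

theorem pairProp_of_partCond [Finite F] {p : ℕ} [Fact p.Prime] [CharP F p] (n m : ℕ) (hn : 0 < n)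
    (h : PartCond p n m) : PairProp F n m p := by
  classical
  have hp : p.Prime := Fact.out
  intro x ⟨c, hxc⟩ _
  have hc0 : c ≠ 0 := scalar_ne_zero n hn p x c hxc
  obtain ⟨l, hl⟩ : ∃ l : F, l ^ p = c := by
    have := surjective_frobenius F p c
    simpa [frobenius_def] using this
  have hl0 : l ≠ 0 := by
    rintro rfl
    exact hc0 (by rw [← hl, zero_pow hp.ne_zero])
  set f : Module.End F (Fin n → F) := Matrix.toLin' (x : Matrix (Fin n) (Fin n) F) with hf
  have hfp : f ^ p = c • (1 : Module.End F (Fin n → F)) := by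
    rw [hf, ← Matrix.toLin'_pow, ← Matrix.SpecialLinearGroup.coe_pow, hxc, map_smul,
      Matrix.toLin'_one]
    rfl
  set g : Module.End F (Fin n → F) := l⁻¹ • f with hg
  have hgp : g ^ p = 1 := by
    rw [hg, _root_.smul_pow, hfp, smul_smul, ← hl, ← mul_pow, inv_mul_cancel₀ hl0, one_pow, one_smul]
  have hNp : (g - 1) ^ p = 0 := by
    have hpoly : ((X : F[X]) - 1) ^ p = X ^ p - 1 := by rw [sub_pow_char, one_pow]
    have := congrArg (aeval g) hpoly
    simp only [map_pow, map_sub, aeval_X, map_one] at this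
    rw [this, hgp, sub_self]
  obtain ⟨μ, hμ, hsum, hall⟩ := Cfsg.Agent.Helper99.JSplit.exists_type_split (g - 1) p hNp
  have hfin : finrank F (Fin n → F) = n := Module.finrank_fin_fun F
  obtain ⟨ν, hν, hνs⟩ := h μ hμ (by rw [hsum, hfin])
  obtain ⟨U, W, hUW, hU, hW, hdim⟩ := hall ν hν
  have hinv : ∀ S : Submodule F (Fin n → F), (∀ v ∈ S, (g - 1) v ∈ S) → S.map f ≤ S := by
    rintro S hS _ ⟨v, hv, rfl⟩
    have h1 : g v ∈ S := by
      have := S.add_mem (hS v hv) hv
      rwa [LinearMap.sub_apply, Module.End.one_apply, sub_add_cancel] at this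
    have h2 : f v = l • g v := by
      rw [hg, LinearMap.smul_apply, smul_smul, mul_inv_cancel₀ hl0, one_smul]
    rw [h2]
    exact S.smul_mem l h1
  exact ⟨U, W, hUW, by rw [hdim, hνs], hinv U hU, hinv W hW⟩



section neChar

open Cfsg.Agent.Helper59.Elusive

variable [Fintype F]

theorem pairProp_iff_of_ne {p : ℕ} [Fact p.Prime] [CharP F p]
    (n m : ℕ) (hn : 2 ≤ n) (hm : 1 ≤ m) (hmn : 2 * m ≤ n)
    (r : ℕ) [Fact r.Prime] (hrp : r ≠ p)
    (hrΩ : r ∣ Nat.card {P : Submodule F (Fin n → F) × Submodule F (Fin n → F) //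
      IsCompl P.1 P.2 ∧ Module.finrank F ↥P.1 = m}) :
    PairProp F n m r ↔
      ((orderOf ((Fintype.card F : ℕ) : ZMod r) = 1 ∧ (r ∣ m ∨
          (padicValNat r n ≤ padicValNat r (Fintype.card F - 1) ∧
            (r = 2 → Even n → Fintype.card F % 4 = 1)))) ∨
       (2 ≤ orderOf ((Fintype.card F : ℕ) : ZMod r) ∧
        orderOf ((Fintype.card F : ℕ) : ZMod r) ≤ m ∧
        m % orderOf ((Fintype.card F : ℕ) : ZMod r) ≤
          n % orderOf ((Fintype.card F : ℕ) : ZMod r))) := by
  classical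
  have hr : r.Prime := Fact.out
  have hrΩ' : r ∣ Nat.card {W : Submodule F (Fin n → F) // Module.finrank F ↥W = m} :=
    Cfsg.Agent.Helper99.ComplCount.dvd_card_subspaces_of_dvd_card_pairs (p := p) m r hr hrp hrΩ
  have hiff := elusive_iff (F := F) (p := p) n m hn hm hmn r hrΩ'
  constructor
  · intro H
    have HE : ElusiveProp F n m r := by
      intro x h1 h2
      obtain ⟨U, W, -, hUm, hU, -⟩ := H x h1 h2
      exact ⟨U, hUm, hU⟩
    exact (hiff.mp HE).2
  · intro hR
    have HE : ElusiveProp F n m r := hiff.mpr ⟨hrp, hR⟩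
    intro x h1 h2
    obtain ⟨U, hUm, hU⟩ := HE x h1 h2
    obtain ⟨c, hxc⟩ := h1
    have hc0 : c ≠ 0 := scalar_ne_zero n (by omega) r x c hxc
    have hfr : (Matrix.toLin' (x : Matrix (Fin n) (Fin n) F)) ^ r =
        c • (1 : Module.End F (Fin n → F)) := by
      rw [← Matrix.toLin'_pow, ← Matrix.SpecialLinearGroup.coe_pow, hxc, map_smul,
        Matrix.toLin'_one]
      rfl
    have hrF : (r : F) ≠ 0 := by
      intro h
      have := (CharP.cast_eq_zero_iff F p r).mp h
      exact hrp ((Nat.prime_dvd_prime_iff_eq (Fact.out) (Fact.out)).mp this).symm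
    obtain ⟨W, hUW, hW⟩ := Cfsg.Agent.Helper99.SemiCompl.exists_invariant_compl r hrF _ c hc0 hfr U hU
    exact ⟨U, W, hUW, hUm, hU, hW⟩


end neChar

end Cfsg.Agent.Helper99.ComplPairs
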