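import Mathlib

set_option autoImplicit false

namespace Cfsg.Agent.Helper99

open Module LinearMap

section HypFam
variable {F V : Type*} [Field F] [AddCommGroup V] [Module F V]

/-- partner index in a hyperbolic family -/
def partner {ι : Type} (a : ι × Fin 2) : ι × Fin 2 := (a.1, Equiv.swap 0 1 a.2)

@[simp] theorem partner_partner {ι : Type} (a : ι × Fin 2) : partner (partner a) = a := by
  obtain ⟨i, ε⟩ := a
  simp [partner]

theorem partner_ne {ι : Type} (a : ι × Fin 2) : partner a ≠ a := by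
  obtain ⟨i, ε⟩ := a
  intro h
  have h2 : Equiv.swap (0 : Fin 2) 1 ε = ε := congrArg Prod.snd h
  fin_cases ε
  · rw [show ((⟨0, by decide⟩ : Fin 2)) = 0 from rfl, Equiv.swap_apply_left] at h2
    exact absurd h2 (by decide)
  · rw [show ((⟨1, by decide⟩ : Fin 2)) = 1 from rfl, Equiv.swap_apply_right] at h2
    exact absurd h2 (by decide)

/-- A family of hyperbolic pairs `g (i, 0), g (i, 1)` spanning `M`, whose planes are permuted by
`X` according to `τ`. -/
structure HypFamG {ι : Type} (B : LinearMap.BilinForm F V) (X : V →ₗ[F] V) (τ : ι → ι)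
    (g : ι × Fin 2 → V) (M : Submodule F V) : Prop where
  span_eq : Submodule.span F (Set.range g) = M
  gram : ∀ a b : ι × Fin 2, B (g a) (g b) ≠ 0 ↔ b = partner a
  xcond : ∀ i ε, X (g (i, ε)) ∈ Submodule.span F {g (τ i, 0), g (τ i, 1)}

namespace HypFamG

variable {ι : Type} {B : LinearMap.BilinForm F V} {X : V →ₗ[F] V} {τ : ι → ι}
  {g : ι × Fin 2 → V} {M : Submodule F V}

theorem mem (h : HypFamG B X τ g M) (a : ι × Fin 2) : g a ∈ M := by
  rw [← h.span_eq]
  exact Submodule.subset_span ⟨a, rfl⟩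

theorem gram_partner (h : HypFamG B X τ g M) (a : ι × Fin 2) : B (g a) (g (partner a)) ≠ 0 :=
  (h.gram a (partner a)).mpr rfl

theorem gram_partner' (h : HypFamG B X τ g M) (a : ι × Fin 2) : B (g (partner a)) (g a) ≠ 0 := by
  have := h.gram_partner (partner a)
  rwa [partner_partner] at this

theorem gram_zero (h : HypFamG B X τ g M) {a b : ι × Fin 2} (hab : b ≠ partner a) :
    B (g a) (g b) = 0 := by
  by_contra hne
  exact hab ((h.gram a b).mp hne)

theorem pair_le (h : HypFamG B X τ g M) (i : ι) :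
    Submodule.span F {g (i, 0), g (i, 1)} ≤ M := by
  rw [Submodule.span_le]
  rintro _ (rfl | rfl)
  · exact h.mem _
  · exact h.mem _

theorem invt (h : HypFamG B X τ g M) : M ∈ Module.End.invtSubmodule X := by
  rw [Module.End.mem_invtSubmodule, ← h.span_eq, Submodule.span_le]
  rintro _ ⟨⟨i, ε⟩, rfl⟩
  rw [SetLike.mem_coe, Submodule.mem_comap, h.span_eq]
  exact h.pair_le (τ i) (h.xcond i ε)

theorem left_sum [Fintype ι] (h : HypFamG B X τ g M) (c : ι × Fin 2 → F) (a : ι × Fin 2) :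
    B (g a) (∑ b, c b • g b) = c (partner a) * B (g a) (g (partner a)) := by
  rw [map_sum]
  rw [Finset.sum_eq_single (partner a)]
  · rw [map_smul, smul_eq_mul]
  · intro b _ hb
    rw [map_smul, h.gram_zero hb, smul_zero]
  · intro hn
    exact absurd (Finset.mem_univ _) hn

theorem right_sum [Fintype ι] (h : HypFamG B X τ g M) (c : ι × Fin 2 → F) (a : ι × Fin 2) :
    B (∑ b, c b • g b) (g a) = c (partner a) * B (g (partner a)) (g a) := by
  rw [map_sum, LinearMap.sum_apply]
  rw [Finset.sum_eq_single (partner a)]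
  · rw [map_smul, LinearMap.smul_apply, smul_eq_mul]
  · intro b _ hb
    have : a ≠ partner b := by
      intro h'
      apply hb
      rw [h', partner_partner]
    rw [map_smul, LinearMap.smul_apply, h.gram_zero this, smul_zero]
  · intro hn
    exact absurd (Finset.mem_univ _) hn

theorem linearIndependent [Fintype ι] (h : HypFamG B X τ g M) : LinearIndependent F g := by
  rw [Fintype.linearIndependent_iff]
  intro c hc a
  have h1 := h.left_sum c (partner a)
  rw [hc, map_zero, partner_partner] at h1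
  rcases mul_eq_zero.mp h1.symm with h2 | h2
  · exact h2
  · exact absurd h2 (h.gram_partner' a)

theorem nondeg [Fintype ι] (h : HypFamG B X τ g M) : Disjoint M (B.orthogonal M) := by
  rw [Submodule.disjoint_def]
  intro u hu hu'
  rw [← h.span_eq, Submodule.mem_span_range_iff_exists_fun] at hu
  obtain ⟨c, rfl⟩ := hu
  rw [LinearMap.BilinForm.mem_orthogonal_iff] at hu'
  have hc : ∀ a, c a = 0 := by
    intro a
    have h1 := h.left_sum c (partner a)
    rw [hu' _ (h.mem _), partner_partner] at h1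
    rcases mul_eq_zero.mp h1.symm with h2 | h2
    · exact h2
    · exact absurd h2 (h.gram_partner' a)
  simp [hc]

theorem ne_bot (h : HypFamG B X τ g M) (i : ι) : M ≠ ⊥ := by
  intro hM
  have h1 := h.mem (i, 0)
  rw [hM, Submodule.mem_bot] at h1
  apply h.gram_partner (i, 0)
  rw [h1, map_zero, LinearMap.zero_apply]

/-- reindexing -/
theorem reindex {ι' : Type} {τ' : ι' → ι'} {g' : ι' × Fin 2 → V} (h : HypFamG B X τ' g' M)
    (e : ι' ≃ ι) (he : ∀ i', τ (e i') = e (τ' i')) :
    HypFamG B X τ (fun a => g' (e.symm a.1, a.2)) M := by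
  refine ⟨?_, ?_, ?_⟩
  · rw [← h.span_eq]
    congr 1
    ext v
    constructor
    · rintro ⟨a, rfl⟩
      exact ⟨_, rfl⟩
    · rintro ⟨⟨i', ε⟩, rfl⟩
      exact ⟨(e i', ε), by simp⟩
  · intro a b
    rw [h.gram]
    obtain ⟨i, ε⟩ := a
    obtain ⟨j, ε'⟩ := b
    simp only [partner, Prod.mk.injEq]
    rw [Equiv.symm_apply_eq, Equiv.apply_symm_apply]
  · intro i ε
    have h1 := h.xcond (e.symm i) ε
    have h2 : e.symm (τ i) = τ' (e.symm i) := by
      rw [Equiv.symm_apply_eq, ← he, Equiv.apply_symm_apply]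
    simp only [h2]
    exact h1

/-- orthogonal sum -/
theorem sum {ι₁ ι₂ : Type} {τ₁ : ι₁ → ι₁} {τ₂ : ι₂ → ι₂} {g₁ : ι₁ × Fin 2 → V}
    {g₂ : ι₂ × Fin 2 → V} {M₁ M₂ : Submodule F V} (hB : B.IsRefl)
    (h₁ : HypFamG B X τ₁ g₁ M₁) (h₂ : HypFamG B X τ₂ g₂ M₂)
    (horth : ∀ u ∈ M₁, ∀ v ∈ M₂, B u v = 0) :
    HypFamG B X (Sum.map τ₁ τ₂)
      (fun a => Sum.elim (fun i => g₁ (i, a.2)) (fun i => g₂ (i, a.2)) a.1) (M₁ ⊔ M₂) := by
  refine ⟨?_, ?_, ?_⟩
  · apply le_antisymm
    · rw [Submodule.span_le]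
      rintro _ ⟨⟨(i | i), ε⟩, rfl⟩
      · exact Submodule.mem_sup_left (h₁.mem _)
      · exact Submodule.mem_sup_right (h₂.mem _)
    · rw [← h₁.span_eq, ← h₂.span_eq, sup_le_iff, Submodule.span_le, Submodule.span_le]
      constructor
      · rintro _ ⟨⟨i, ε⟩, rfl⟩
        exact Submodule.subset_span ⟨(Sum.inl i, ε), rfl⟩
      · rintro _ ⟨⟨i, ε⟩, rfl⟩
        exact Submodule.subset_span ⟨(Sum.inr i, ε), rfl⟩
  · rintro ⟨(i | i), ε⟩ ⟨(j | j), ε'⟩
    · simp only [Sum.elim_inl, partner, Prod.mk.injEq, Sum.inl.injEq]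
      rw [h₁.gram]
      simp [partner]
    · simp only [Sum.elim_inl, Sum.elim_inr, partner, Prod.mk.injEq, reduceCtorEq, false_and,
        iff_false, not_not]
      exact horth _ (h₁.mem _) _ (h₂.mem _)
    · simp only [Sum.elim_inl, Sum.elim_inr, partner, Prod.mk.injEq, reduceCtorEq, false_and,
        iff_false, not_not]
      exact hB _ _ (horth _ (h₁.mem _) _ (h₂.mem _))
    · simp only [Sum.elim_inr, partner, Prod.mk.injEq, Sum.inr.injEq]
      rw [h₂.gram]
      simp [partner]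
  · rintro (i | i) ε
    · exact h₁.xcond i ε
    · exact h₂.xcond i ε

end HypFamG

/-- a fixed hyperbolic plane -/
theorem hypFam_plane (B : LinearMap.BilinForm F V) (hB : B.IsAlt) (X : V →ₗ[F] V) (v w : V)
    (hvw : B v w ≠ 0) (hXv : X v ∈ Submodule.span F {v, w}) (hXw : X w ∈ Submodule.span F {v, w}) :
    HypFamG B X (id : Unit → Unit) (fun a => ![v, w] a.2) (Submodule.span F {v, w}) := by
  have hwv : B w v ≠ 0 := by
    rw [← hB.neg_eq]
    exact neg_ne_zero.mpr hvw
  refine ⟨?_, ?_, ?_⟩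
  · congr 1
    ext u
    constructor
    · rintro ⟨⟨_, ε⟩, rfl⟩
      fin_cases ε
      · left; rfl
      · right; rfl
    · rintro (rfl | rfl)
      · exact ⟨((), 0), rfl⟩
      · exact ⟨((), 1), rfl⟩
  · rintro ⟨_, ε⟩ ⟨_, ε'⟩
    fin_cases ε <;> fin_cases ε' <;> simp [partner, hB.self_eq_zero, hvw, hwv]
  · intro i ε
    fin_cases ε
    · exact hXv
    · exact hXw

/-- a pair of hyperbolic planes swapped by `X` -/
theorem hypFam_swap (B : LinearMap.BilinForm F V) (hB : B.IsAlt) (X : V →ₗ[F] V)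
    (hXB : ∀ u v, B (X u) (X v) = B u v) (hXX : ∀ v, X (X v) = v) (e f : V)
    (hef : B e f ≠ 0) (h1 : B e (X e) = 0) (h2 : B f (X f) = 0) (h3 : B (X e) f = 0) :
    HypFamG B X (Equiv.swap (0 : Fin 2) 1)
      (fun a => ![![e, f], ![X e, X f]] a.1 a.2)
      (Submodule.span F (Set.range (fun a : Fin 2 × Fin 2 => ![![e, f], ![X e, X f]] a.1 a.2))) := by
  have hfe : B f e ≠ 0 := by
    rw [← hB.neg_eq]
    exact neg_ne_zero.mpr hef
  have h1' : B (X e) e = 0 := by rw [← hB.neg_eq, h1, neg_zero]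
  have h2' : B (X f) f = 0 := by rw [← hB.neg_eq, h2, neg_zero]
  have h3' : B f (X e) = 0 := by rw [← hB.neg_eq, h3, neg_zero]
  have h4 : B e (X f) = 0 := by rw [← hXB, hXX]; exact h3
  have h4' : B (X f) e = 0 := by rw [← hB.neg_eq, h4, neg_zero]
  refine ⟨rfl, ?_, ?_⟩
  · rintro ⟨i, ε⟩ ⟨j, ε'⟩
    fin_cases i <;> fin_cases ε <;> fin_cases j <;> fin_cases ε' <;>
      simp [partner, hB.self_eq_zero, hef, hfe, h1, h2, h3, h1', h2', h3', h4, h4', hXB]
  · intro i ε
    fin_cases i <;> fin_cases ε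
    · exact Submodule.subset_span (Or.inl rfl)
    · exact Submodule.subset_span (Or.inr rfl)
    · show X (X e) ∈ _
      rw [hXX]
      exact Submodule.subset_span (Or.inl rfl)
    · show X (X f) ∈ _
      rw [hXX]
      exact Submodule.subset_span (Or.inr rfl)

end HypFam

end Cfsg.Agent.Helper99
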