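import Mathlib

/-!
# The odd-product graph on a class of involutions is connected, given the
"iterated commutators generate" statement (S3927) for the same group.

`s3264_of_s3927` : S3264 from S3927 (statement-as-hypothesis, for the inner automorphism
`MulAut.conj t` of the same group `G`).
-/

set_option autoImplicit false

namespace Cfsg.Agent.Helper99.OddGraph

variable {G : Type*} [Group G]

/-- the map `c ↦ c * (t c t⁻¹)⁻¹` -/
def fc (t : G) (c : G) : G := c * (MulAut.conj t c)⁻¹

theorem fc_eq (t c : G) : fc t c = c * t * c⁻¹ * t⁻¹ := by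
  simp [fc, MulAut.conj_apply, mul_assoc]

/-- `t` inverts `fc t c` when `t² = 1`. -/
theorem inv_fc {t : G} (ht : t * t = 1) (c : G) : t * fc t c * t⁻¹ = (fc t c)⁻¹ := by
  have hti : t⁻¹ = t := inv_eq_of_mul_eq_one_right ht
  rw [fc_eq]
  simp only [mul_inv_rev, inv_inv, hti]
  have h1 : t * (c * t * c⁻¹ * t) * t = t * c * t * c⁻¹ * (t * t) := by group
  rw [h1, ht, mul_one]
  group

theorem fc_of_inverted {t s : G} (hs : t * s * t⁻¹ = s⁻¹) : fc t s = s ^ 2 := by
  simp [fc, MulAut.conj_apply, hs, pow_two]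

theorem inverted_pow {t s : G} (hs : t * s * t⁻¹ = s⁻¹) (n : ℕ) :
    t * s ^ n * t⁻¹ = (s ^ n)⁻¹ := by
  have : t * s ^ n * t⁻¹ = (t * s * t⁻¹) ^ n := by
    simp [conj_pow]
  rw [this, hs, inv_pow]

/-- the iterates of `fc t` : `fc^[k+1] c = (fc t c)^(2^k)`. -/
theorem iterate_fc {t : G} (ht : t * t = 1) (c : G) (k : ℕ) :
    (fc t)^[k + 1] c = (fc t c) ^ (2 ^ k) := by
  induction k with
  | zero => simp
  | succ k ih =>
    rw [Function.iterate_succ_apply', ih]
    have h1 : t * (fc t c) ^ (2 ^ k) * t⁻¹ = ((fc t c) ^ (2 ^ k))⁻¹ :=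
      inverted_pow (inv_fc ht c) _
    rw [fc_of_inverted h1, ← pow_mul, pow_succ]

/-- a high 2-power power of an element of a finite group has odd order. -/
theorem odd_orderOf_pow_two_pow [Finite G] (x : G) :
    Odd (orderOf (x ^ (2 ^ (Nat.card G)))) := by
  classical
  set n := orderOf x with hn
  have hnpos : 0 < n := orderOf_pos x
  -- n = 2^a * m, m odd
  obtain ⟨a, m, hm, hnam⟩ := Nat.exists_eq_two_pow_mul_odd (Nat.pos_iff_ne_zero.mp hnpos)
  have ha : a ≤ Nat.card G := by
    have h1 : 2 ^ a ∣ n := ⟨m, hnam⟩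
    have h2 : n ∣ Nat.card G := orderOf_dvd_natCard x
    have h3 : 2 ^ a ≤ Nat.card G := Nat.le_of_dvd Nat.card_pos (h1.trans h2)
    exact (Nat.lt_two_pow_self).le.trans h3 |> fun h => by
      by_contra hlt
      push Not at hlt
      have : 2 ^ Nat.card G < 2 ^ a := Nat.pow_lt_pow_right (by norm_num) hlt
      have h4 : Nat.card G < 2 ^ Nat.card G := Nat.lt_two_pow_self
      omega
  have hdvd : orderOf (x ^ (2 ^ (Nat.card G))) ∣ m := by
    apply orderOf_dvd_of_pow_eq_one
    rw [← pow_mul]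
    apply orderOf_dvd_iff_pow_eq_one.mp
    rw [← hn, hnam]
    exact Nat.mul_dvd_mul (pow_dvd_pow 2 ha) dvd_rfl
  exact hm.of_dvd_nat hdvd

/-- the odd-product graph on the conjugacy class of `t` -/
abbrev oddGraph (t : G) : SimpleGraph {x : G // IsConj t x} :=
  SimpleGraph.fromRel fun x y : {x : G // IsConj t x} => Odd (orderOf (x.1 * y.1))

/-- conjugation by `g` on the class of `t` -/
def conjX (t g : G) (x : {x : G // IsConj t x}) : {x : G // IsConj t x} :=
  ⟨g * x.1 * g⁻¹, x.2.trans (isConj_iff.mpr ⟨g, rfl⟩)⟩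

@[simp] theorem conjX_val (t g : G) (x : {x : G // IsConj t x}) :
    (conjX t g x).1 = g * x.1 * g⁻¹ := rfl

theorem orderOf_conj_mul (g a b : G) :
    orderOf (g * a * g⁻¹ * (g * b * g⁻¹)) = orderOf (a * b) := by
  have : g * a * g⁻¹ * (g * b * g⁻¹) = MulAut.conj g (a * b) := by
    simp [MulAut.conj_apply, mul_assoc]
  rw [this, MulEquiv.orderOf_eq]

/-- conjugation is a graph homomorphism of the odd-product graph -/
def conjHom (t g : G) : oddGraph t →g oddGraph t where
  toFun := conjX t g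
  map_rel' := by
    intro x y hxy
    rw [SimpleGraph.fromRel_adj] at hxy ⊢
    refine ⟨?_, ?_⟩
    · intro h
      apply hxy.1
      have h1 : (conjX t g x).1 = (conjX t g y).1 := congrArg Subtype.val h
      simp only [conjX_val] at h1
      apply Subtype.ext
      exact mul_left_cancel (mul_right_cancel h1)
    · rcases hxy.2 with h | h
      · left
        show Odd (orderOf (g * x.1 * g⁻¹ * (g * y.1 * g⁻¹)))
        rw [orderOf_conj_mul]
        exact h
      · right
        show Odd (orderOf (g * y.1 * g⁻¹ * (g * x.1 * g⁻¹)))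
        rw [orderOf_conj_mul]
        exact h

theorem reachable_conj (t g : G) {x y : {x : G // IsConj t x}}
    (h : (oddGraph t).Reachable x y) :
    (oddGraph t).Reachable (conjX t g x) (conjX t g y) :=
  h.map (conjHom t g)

/-- The main reduction: S3264 from S3927 for the inner automorphism of `t`. -/
theorem s3264_of_s3927 [Finite G] [IsSimpleGroup G]
    (hG : ¬ IsMulCommutative G) (t : G) (ht : orderOf t = 2)
    (h27 : ∀ (α : MulAut G),
      Subgroup.closure (Set.range (fun c : G => c * (α c)⁻¹)) = ⊤ →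
      ∀ k : ℕ, 1 ≤ k →
        Subgroup.closure (Set.range ((fun c : G => c * (α c)⁻¹)^[k])) = ⊤) :
    (SimpleGraph.fromRel fun x y : {x : G // IsConj t x} =>
      Odd (orderOf (x.1 * y.1))).Connected := by
  classical
  have htt : t * t = 1 := by
    have := pow_orderOf_eq_one t
    rwa [ht, pow_two] at this
  have hti : t⁻¹ = t := inv_eq_of_mul_eq_one_right htt
  have ht1 : t ≠ 1 := by
    intro h
    rw [h, orderOf_one] at ht
    norm_num at ht
  -- the centre is trivial
  have hZ : Subgroup.center G = ⊥ := by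
    rcases (inferInstance : (Subgroup.center G).Normal).eq_bot_or_eq_top with h | h
    · exact h
    · exfalso
      apply hG
      refine ⟨⟨fun a b => ?_⟩⟩
      have hb : b ∈ Subgroup.center G := by rw [h]; trivial
      exact (Subgroup.mem_center_iff.mp hb a)
  -- t is not central
  obtain ⟨c0, hc0⟩ : ∃ c : G, c * t ≠ t * c := by
    by_contra hcon
    push Not at hcon
    have : t ∈ Subgroup.center G := Subgroup.mem_center_iff.mpr fun g => hcon g
    rw [hZ, Subgroup.mem_bot] at this
    exact ht1 this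
  -- N = [G, t] is normal, nontrivial, hence everything
  set α : MulAut G := MulAut.conj t with hα
  have hfun : (fun c : G => c * (α c)⁻¹) = fc t := rfl
  set N : Subgroup G := Subgroup.closure (Set.range (fc t)) with hN
  have hNnorm : N.Normal := by
    constructor
    intro n hn g
    induction hn using Subgroup.closure_induction with
    | mem x hx =>
      obtain ⟨c, rfl⟩ := hx
      have : g * fc t c * g⁻¹ = fc t (g * c) * (fc t g)⁻¹ := by
        simp only [fc_eq]
        group
      rw [this]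
      exact N.mul_mem (Subgroup.subset_closure ⟨_, rfl⟩)
        (N.inv_mem (Subgroup.subset_closure ⟨_, rfl⟩))
    | one => simp
    | mul a b _ _ ha hb =>
      have : g * (a * b) * g⁻¹ = (g * a * g⁻¹) * (g * b * g⁻¹) := by group
      rw [this]
      exact N.mul_mem ha hb
    | inv a _ ha =>
      have : g * a⁻¹ * g⁻¹ = (g * a * g⁻¹)⁻¹ := by group
      rw [this]
      exact N.inv_mem ha
  have hNtop : N = ⊤ := by
    rcases hNnorm.eq_bot_or_eq_top with h | h
    · exfalso
      have h1 : fc t c0 ∈ N := Subgroup.subset_closure ⟨_, rfl⟩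
      rw [h, Subgroup.mem_bot, fc_eq] at h1
      apply hc0
      have : c0 * t = (c0 * t * c0⁻¹ * t⁻¹) * (t * c0) := by group
      rw [this, h1, one_mul]
    · exact h
  -- apply S3927
  have hgen := h27 α (by rw [hfun]; exact hNtop) (Nat.card G + 1) (by omega)
  rw [hfun] at hgen
  -- the component of t
  set Γ := oddGraph t with hΓ
  let t0 : {x : G // IsConj t x} := ⟨t, IsConj.refl t⟩
  -- Δ as a set of elements of G
  let Δ : Set G := {g | ∃ h : IsConj t g, Γ.Reachable t0 ⟨g, h⟩}
  have htΔ : t ∈ Δ := ⟨IsConj.refl t, SimpleGraph.Reachable.refl _⟩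
  -- every iterate value lies in closure Δ
  have hσ : ∀ c : G, (fc t)^[Nat.card G + 1] c ∈ Subgroup.closure Δ := by
    intro c
    rw [iterate_fc htt]
    set σ := (fc t c) ^ (2 ^ Nat.card G) with hσdef
    have hodd : Odd (orderOf σ) := odd_orderOf_pow_two_pow (fc t c)
    have hinv : t * σ * t⁻¹ = σ⁻¹ := inverted_pow (inv_fc htt c) _
    -- y = t σ is a conjugate of t
    set n := orderOf σ with hn
    obtain ⟨j, hj⟩ := hodd
    have hconj : σ ^ j * t * (σ ^ j)⁻¹ = t * σ := by
      have h1 : t * (σ ^ j) * t⁻¹ = (σ ^ j)⁻¹ := inverted_pow hinv j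
      have h2 : σ ^ j * t = t * (σ ^ j)⁻¹ := by
        have : t * (σ ^ j)⁻¹ = t * (t * σ ^ j * t⁻¹) := by rw [h1]
        rw [this, hti]
        have : t * (t * σ ^ j * t) = (t * t) * σ ^ j * t := by group
        rw [this, htt, one_mul]
      rw [h2, mul_assoc, ← mul_inv_rev, ← pow_add]
      have h3 : σ ^ (j + j) = σ⁻¹ := by
        have h4 : σ ^ (j + j) * σ = 1 := by
          rw [← pow_succ]
          have : j + j + 1 = n := by omega
          rw [this, hn, pow_orderOf_eq_one]
        exact eq_inv_of_mul_eq_one_left h4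
      rw [h3, inv_inv]
    have hyconj : IsConj t (t * σ) := isConj_iff.mpr ⟨σ ^ j, hconj⟩
    have hyΔ : t * σ ∈ Δ := by
      refine ⟨hyconj, ?_⟩
      by_cases hyt : (⟨t * σ, hyconj⟩ : {x : G // IsConj t x}) = t0
      · rw [hyt]
      · apply SimpleGraph.Adj.reachable
        rw [hΓ, SimpleGraph.fromRel_adj]
        refine ⟨fun h => hyt h.symm, Or.inl ?_⟩
        show Odd (orderOf (t * (t * σ)))
        have : t * (t * σ) = σ := by rw [← mul_assoc, htt, one_mul]
        rw [this]
        exact ⟨j, hj⟩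
    have : σ = t * (t * σ) := by rw [← mul_assoc, htt, one_mul]
    rw [this]
    exact (Subgroup.closure Δ).mul_mem (Subgroup.subset_closure htΔ)
      (Subgroup.subset_closure hyΔ)
  have hDtop : Subgroup.closure Δ = ⊤ := by
    rw [eq_top_iff, ← hgen, Subgroup.closure_le]
    rintro _ ⟨c, rfl⟩
    exact hσ c
  -- conjugation by an element of Δ (or its inverse) preserves Δ
  have hstep : ∀ d ∈ Δ, ∀ x : G, x ∈ Δ ↔ d * x * d⁻¹ ∈ Δ := by
    intro d hd x
    obtain ⟨hdc, hdr⟩ := hd
    constructor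
    · rintro ⟨hxc, hxr⟩
      have h1 : Γ.Reachable (⟨d, hdc⟩ : {x : G // IsConj t x}) ⟨x, hxc⟩ := hdr.symm.trans hxr
      have h2 := reachable_conj t d h1
      have h3 : conjX t d ⟨d, hdc⟩ = ⟨d, hdc⟩ := by
        apply Subtype.ext
        simp
      rw [h3] at h2
      exact ⟨(conjX t d ⟨x, hxc⟩).2, hdr.trans h2⟩
    · rintro ⟨hxc, hxr⟩
      have h1 : Γ.Reachable (⟨d, hdc⟩ : {x : G // IsConj t x}) ⟨d * x * d⁻¹, hxc⟩ :=
        hdr.symm.trans hxr
      have h2 := reachable_conj t d⁻¹ h1
      have h3 : conjX t d⁻¹ ⟨d, hdc⟩ = ⟨d, hdc⟩ := by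
        apply Subtype.ext
        simp
      have h4 : (conjX t d⁻¹ ⟨d * x * d⁻¹, hxc⟩).1 = x := by
        simp only [conjX_val, inv_inv]
        group
      rw [h3] at h2
      have hxc' : IsConj t x := by
        have := (conjX t d⁻¹ ⟨d * x * d⁻¹, hxc⟩).2
        rwa [h4] at this
      refine ⟨hxc', hdr.trans ?_⟩
      have h5 : conjX t d⁻¹ ⟨d * x * d⁻¹, hxc⟩ = ⟨x, hxc'⟩ := Subtype.ext h4
      rwa [h5] at h2
  have hall : ∀ g ∈ Subgroup.closure Δ, ∀ x : G, x ∈ Δ ↔ g * x * g⁻¹ ∈ Δ := by
    intro g hg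
    induction hg using Subgroup.closure_induction with
    | mem d hd => exact hstep d hd
    | one => intro x; simp
    | mul a b _ _ ha hb =>
      intro x
      rw [hb x, ha (b * x * b⁻¹)]
      have : a * (b * x * b⁻¹) * a⁻¹ = a * b * x * (a * b)⁻¹ := by group
      rw [this]
    | inv a _ ha =>
      intro x
      rw [ha (a⁻¹ * x * a⁻¹⁻¹)]
      have : a * (a⁻¹ * x * a⁻¹⁻¹) * a⁻¹ = x := by group
      rw [this]
  -- conclude
  rw [SimpleGraph.connected_iff]
  refine ⟨?_, ⟨t0⟩⟩
  have hreach : ∀ x : {x : G // IsConj t x}, Γ.Reachable t0 x := by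
    intro x
    obtain ⟨g, hg⟩ := isConj_iff.mp x.2
    have hgD : g ∈ Subgroup.closure Δ := by rw [hDtop]; trivial
    have := (hall g hgD t).mp htΔ
    rw [hg] at this
    obtain ⟨h, hr⟩ := this
    exact hr
  intro x y
  exact (hreach x).symm.trans (hreach y)

end Cfsg.Agent.Helper99.OddGraph
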