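import Mathlib
import Cfsg.Prelude.Def_GeometricClasses
import Cfsg.Agent.Helper99.OrthJTE

/-!
# Square-zero unipotent isometries: invariant nondegenerate subspaces of dimension `≡ 0 (mod 4)` are
of plus type; a multiset lemma
-/

set_option autoImplicit false

namespace Cfsg.Agent.Helper99.OrthJT

open Module
open Cfsg.Agent.Helper43 Cfsg.Agent.Helper43.JT
open Cfsg.Agent.Helper99.KdimSplit

universe u v

section abstract

variable {F : Type u} [Field F] {V : Type v} [AddCommGroup V] [Module F V] [FiniteDimensional F V]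

/-- The restriction package: `W` and `W^⊥` are `N`-invariant complements, kernel dimensions add up,
odd powers of `N|W` have even rank. -/
theorem restrict_package (h2 : (2 : F) ≠ 0) (B : LinearMap.BilinForm F V)
    (hs : ∀ x y, B x y = B y x) (u : Module.End F V) (hu : ∀ x y, B (u x) (u y) = B x y)
    (hnil : IsNilpotent (u - 1)) (W : Submodule F V) (hW : ∀ x ∈ W, u x ∈ W)
    (hnd : ∀ w ∈ W, w ≠ 0 → ∃ x ∈ W, B x w ≠ 0) :
    ∃ (hNW : ∀ x ∈ W, (u - 1) x ∈ W) (hNP : ∀ x ∈ B.orthogonal W, (u - 1) x ∈ B.orthogonal W),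
      IsCompl W (B.orthogonal W) ∧
      (∀ l, kdim (u - 1) l = kdim ((u - 1).restrict hNW) l + kdim ((u - 1).restrict hNP) l) ∧
      ∀ k, Even (finrank F (LinearMap.range (((u - 1).restrict hNW) ^ (2 * k + 1)))) := by
  set N : Module.End F V := u - 1 with hN
  have huN : ∀ x, u x = x + N x := by
    intro x
    rw [hN, LinearMap.sub_apply, Module.End.one_apply]
    abel
  have hNW : ∀ x ∈ W, N x ∈ W := by
    intro x hx
    rw [hN, LinearMap.sub_apply, Module.End.one_apply]
    exact W.sub_mem (hW x hx) hx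
  have hrefl : B.IsRefl := isRefl_of_symm hs
  have hdisj : Disjoint W (B.orthogonal W) := by
    rw [Submodule.disjoint_def]
    intro x hx hx'
    by_contra hx0
    obtain ⟨y, hy, hyx⟩ := hnd x hx hx0
    rw [LinearMap.BilinForm.mem_orthogonal_iff] at hx'
    exact hyx (hx' y hy)
  have hcompl : IsCompl W (B.orthogonal W) :=
    (LinearMap.BilinForm.isCompl_orthogonal_iff_disjoint hrefl).mpr hdisj
  have huu : IsUnit u := by
    have := hnil.isUnit_one_add
    rwa [hN, add_sub_cancel] at this
  have huinj : Function.Injective u := by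
    obtain ⟨w, hw⟩ := huu
    rw [← hw]
    exact (LinearMap.GeneralLinearGroup.generalLinearEquiv F V w).injective
  have hsurjW : ∀ w ∈ W, ∃ w' ∈ W, u w' = w := by
    have hinj : Function.Injective (u.restrict hW) := by
      intro x y hxy
      apply Subtype.ext
      apply huinj
      have := congrArg Subtype.val hxy
      simpa [LinearMap.restrict_apply] using this
    have hsurj := LinearMap.injective_iff_surjective.mp hinj
    intro w hw
    obtain ⟨w', hw'⟩ := hsurj ⟨w, hw⟩
    refine ⟨w'.1, w'.2, ?_⟩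
    have := congrArg Subtype.val hw'
    simpa [LinearMap.restrict_apply] using this
  have hNperp : ∀ y ∈ B.orthogonal W, N y ∈ B.orthogonal W := by
    intro y hy
    rw [LinearMap.BilinForm.mem_orthogonal_iff] at hy ⊢
    intro w hw
    obtain ⟨w', hw', rfl⟩ := hsurjW w hw
    rw [hN, LinearMap.sub_apply, Module.End.one_apply, map_sub, hu, hy w' hw', hy _ (hW w' hw'),
      sub_zero]
  refine ⟨hNW, hNperp, hcompl, kdim_of_isCompl N W (B.orthogonal W) hcompl hNW hNperp, ?_⟩
  set NW : Module.End F ↥W := N.restrict hNW with hNWdef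
  set BW : LinearMap.BilinForm F ↥W := B.restrict W with hBW
  have hBWa : ∀ x y : ↥W, BW x y = B x y := fun x y => rfl
  have hsymW : ∀ x y : ↥W, BW x y = BW y x := fun x y => hs _ _
  have hndW : BW.Nondegenerate := by
    refine (LinearMap.IsRefl.nondegenerate_iff_separatingLeft (isRefl_of_symm hsymW)).mpr ?_
    intro x hx
    by_contra hx0
    have hx0' : (x : V) ≠ 0 := fun h => hx0 (Subtype.ext h)
    obtain ⟨y, hy, hyx⟩ := hnd x x.2 hx0'
    apply hyx
    rw [hs]
    exact hx ⟨y, hy⟩
  have hnilW : IsNilpotent NW := by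
    obtain ⟨n, hn⟩ := hnil
    refine ⟨n, ?_⟩
    rw [hNWdef, Module.End.pow_restrict n hNW]
    apply LinearMap.ext
    intro x
    apply Subtype.ext
    rw [LinearMap.restrict_apply]
    show (N ^ n) x = 0
    rw [hn]
    rfl
  have hisoW : ∀ x y : ↥W, BW (x + NW x) (y + NW y) = BW x y := by
    intro x y
    rw [hBWa, hBWa]
    have h1 : ∀ z : ↥W, ((z + NW z : ↥W) : V) = u z := by
      intro z
      rw [huN]
      rfl
    rw [h1, h1, hu]
  intro k
  exact even_finrank_range_odd_pow_of_isom h2 BW hsymW hndW NW hnilW hisoW k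

/-- For a square-zero endomorphism, the kernel has at least half the dimension. -/
theorem finrank_le_two_mul_kdim_one (N : Module.End F V) (hN2 : N ^ 2 = 0) (U : Submodule F V)
    (hU : ∀ x ∈ U, N x ∈ U) : finrank F ↥U ≤ 2 * kdim (N.restrict hU) 1 := by
  set NU : Module.End F ↥U := N.restrict hU with hNU
  have hle : LinearMap.range NU ≤ LinearMap.ker NU := by
    rintro _ ⟨x, rfl⟩
    rw [LinearMap.mem_ker]
    apply Subtype.ext
    rw [hNU, LinearMap.restrict_apply, LinearMap.restrict_apply]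
    show N (N x) = 0
    have := congrArg (fun f : Module.End F V => f x) hN2
    simpa [pow_two, Module.End.mul_apply] using this
  have h1 := LinearMap.finrank_range_add_finrank_ker NU
  have h3 := Submodule.finrank_mono hle
  unfold kdim
  rw [pow_one]
  omega

/-- The image of a square-zero `N` with `1 + N` an isometry is totally isotropic. -/
theorem form_apply_apply_eq_zero (B : LinearMap.BilinForm F V) (u : Module.End F V)
    (hu : ∀ x y, B (u x) (u y) = B x y) (hN2 : (u - 1) ^ 2 = 0) (x y : V) :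
    B ((u - 1) x) ((u - 1) y) = 0 := by
  have h1 := hu x ((u - 1) y)
  have h3 : u ((u - 1) y) = (u - 1) y := by
    have := congrArg (fun f : Module.End F V => f y) hN2
    simp only [pow_two, Module.End.mul_apply, LinearMap.zero_apply] at this
    have h4 : u ((u - 1) y) = (u - 1) ((u - 1) y) + (u - 1) y := by
      simp only [LinearMap.sub_apply, Module.End.one_apply]
      abel
    rw [h4, this, zero_add]
  rw [h3] at h1
  have h5 : u x = (u - 1) x + x := by
    simp only [LinearMap.sub_apply, Module.End.one_apply]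
    abel
  rw [h5, map_add, LinearMap.add_apply] at h1
  exact add_eq_right.mp h1

end abstract

section concrete

variable {F : Type u} [Field F]

/-- **Plus type.** A square-zero unipotent isometry `x` with `2 dim ker (x - 1) = n + 2` (Jordan type
`(2^{(n-2)/2}, 1, 1)`): every invariant nondegenerate subspace of dimension `≡ 0 (mod 4)` is of plus
type. -/
theorem isPlusTypeOn_of_sq_zero {ι : Type} [Fintype ι] [DecidableEq ι] (h2 : (2 : F) ≠ 0)
    (Q : QuadraticForm F (ι → F)) (x : Matrix ι ι F) (hx : ∀ v, Q (x.mulVec v) = Q v)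
    (hN2 : (x - 1) ^ 2 = 0) (hk1 : 2 * kdim (Matrix.toLin' (x - 1)) 1 = Fintype.card ι + 2)
    (W : Submodule F (ι → F)) (hW : W.map (Matrix.toLin' x) ≤ W)
    (hnd : Cfsg.Geo.IsNondegenerateOn (QuadraticMap.polar ⇑Q) W) (hm4 : finrank F ↥W % 4 = 0) :
    Cfsg.Geo.IsPlusTypeOn ⇑Q W := by
  have hB : ∀ a b, QuadraticMap.polarBilin Q a b = QuadraticMap.polar ⇑Q a b :=
    fun a b => QuadraticMap.polarBilin_apply_apply Q a b
  have hsub : Matrix.toLin' x - 1 = Matrix.toLin' (x - 1) := by
    rw [map_sub, Matrix.toLin'_one]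
    rfl
  set u : Module.End F (ι → F) := Matrix.toLin' x with hu
  have hN2' : (u - 1) ^ 2 = 0 := by
    rw [hsub, ← Matrix.toLin'_pow, hN2, map_zero]
  have hs : ∀ a b, QuadraticMap.polarBilin Q a b = QuadraticMap.polarBilin Q b a := by
    intro a b
    rw [hB, hB, QuadraticMap.polar_comm]
  have huiso : ∀ a b, QuadraticMap.polarBilin Q (u a) (u b) = QuadraticMap.polarBilin Q a b := by
    intro a b
    rw [hB, hB]
    unfold QuadraticMap.polar
    rw [← map_add, hu, Matrix.toLin'_apply, Matrix.toLin'_apply, Matrix.toLin'_apply, hx, hx, hx]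
  obtain ⟨hNW, hNP, hcompl, hadd, hpar⟩ := restrict_package h2 (QuadraticMap.polarBilin Q) hs u
    huiso ⟨2, hN2'⟩ W (fun v hv => hW (Submodule.mem_map_of_mem hv)) (by
      intro w hw hw0
      obtain ⟨⟨y, hy, hyw⟩, _⟩ := hnd w hw hw0
      exact ⟨y, hy, by rw [hB]; exact hyw⟩)
  have h1 : kdim (Matrix.toLin' (x - 1)) 1
      = kdim ((u - 1).restrict hNW) 1 + kdim ((u - 1).restrict hNP) 1 := by
    rw [← hsub]
    exact hadd 1
  have hfin := Submodule.finrank_add_eq_of_isCompl hcompl
  rw [Module.finrank_fintype_fun_eq_card] at hfin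
  have hR2W := finrank_le_two_mul_kdim_one (u - 1) hN2' W hNW
  have hR2P := finrank_le_two_mul_kdim_one (u - 1) hN2' _ hNP
  have hp0 := hpar 0
  have hrn := LinearMap.finrank_range_add_finrank_ker (((u - 1).restrict hNW) ^ (2 * 0 + 1))
  have hkd : kdim ((u - 1).restrict hNW) 1
      = finrank F (LinearMap.ker (((u - 1).restrict hNW) ^ (2 * 0 + 1))) := rfl
  -- conclusion: the rank of `N|W` is half the dimension
  have hrank : 2 * finrank F (LinearMap.range (((u - 1).restrict hNW) ^ (2 * 0 + 1)))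
      = finrank F ↥W := by
    obtain ⟨t, ht⟩ := hp0
    omega
  refine ⟨(LinearMap.range (((u - 1).restrict hNW) ^ (2 * 0 + 1))).map W.subtype, ?_, ?_, ?_⟩
  · intro v hv
    obtain ⟨w, _, rfl⟩ := Submodule.mem_map.mp hv
    exact w.2
  · intro v hv
    obtain ⟨w, hw, rfl⟩ := Submodule.mem_map.mp hv
    obtain ⟨y, rfl⟩ := hw
    have h3 : ((((u - 1).restrict hNW) ^ (2 * 0 + 1)) y : ι → F) = (u - 1) (y : ι → F) := by
      simp [LinearMap.restrict_apply]
    show Q (W.subtype _) = 0
    rw [Submodule.subtype_apply, h3]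
    have h4 := form_apply_apply_eq_zero (QuadraticMap.polarBilin Q) u huiso hN2' (y : ι → F) y
    rw [hB, QuadraticMap.polar_self, two_smul, ← two_mul] at h4
    rcases mul_eq_zero.mp h4 with h | h
    · exact absurd h h2
    · exact h
  · rw [Submodule.finrank_map_subtype_eq, hrank]

end concrete

/-- A multiset lemma: moving from `(e+1, e-1)` back to `(e, e)`. -/
theorem exists_sub_of_shift (μ' : Multiset ℕ) (e m : ℕ) (he : Even e) (he2 : 2 ≤ e)
    (hm : Even m) (hall : ∀ x ∈ μ', Even x) (ν'' : Multiset ℕ)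
    (hle : ν'' ≤ (e + 1) ::ₘ (e - 1) ::ₘ μ') (hsum : ν''.sum = m)
    (hev : ∀ x : ℕ, Even x → Even (ν''.count x)) :
    ∃ ν : Multiset ℕ, ν ≤ e ::ₘ e ::ₘ μ' ∧ ν.sum = m ∧ ∀ x : ℕ, Even x → Even (ν.count x) := by
  classical
  set ν₀ := ν''.filter (fun x => Even x) with hν₀
  set ν₁ := ν''.filter (fun x => ¬ Even x) with hν₁
  have hsplit : ν₀ + ν₁ = ν'' := Multiset.filter_add_not _ _
  have ho1 : ¬ Even (e + 1) := by
    rw [Nat.not_even_iff_odd]
    exact he.add_one
  have ho2 : ¬ Even (e - 1) := by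
    rw [Nat.not_even_iff_odd]
    obtain ⟨t, ht⟩ := he
    exact ⟨t - 1, by omega⟩
  have hfe : ((e + 1) ::ₘ (e - 1) ::ₘ μ').filter (fun x => Even x) = μ' := by
    rw [Multiset.filter_cons_of_neg _ ho1, Multiset.filter_cons_of_neg _ ho2]
    exact Multiset.filter_eq_self.mpr hall
  have hfo : ((e + 1) ::ₘ (e - 1) ::ₘ μ').filter (fun x => ¬ Even x) = {e + 1, e - 1} := by
    rw [Multiset.filter_cons_of_pos (p := fun x => ¬ Even x) _ ho1,
      Multiset.filter_cons_of_pos (p := fun x => ¬ Even x) _ ho2]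
    have : μ'.filter (fun x => ¬ Even x) = 0 :=
      Multiset.filter_eq_nil.mpr (fun x hx h => h (hall x hx))
    rw [this]
    rfl
  have hν₀le : ν₀ ≤ μ' := by
    rw [← hfe]
    exact Multiset.filter_le_filter _ hle
  have hν₁le : ν₁ ≤ {e + 1, e - 1} := by
    rw [← hfo]
    exact Multiset.filter_le_filter _ hle
  have hne : e + 1 ≠ e - 1 := by omega
  have hsub : ν₁.toFinset ⊆ {e + 1, e - 1} := by
    intro a ha
    rw [Multiset.mem_toFinset] at ha
    have := Multiset.mem_of_le hν₁le ha
    simpa using this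
  have hs₁ := Finset.sum_multiset_count_of_subset ν₁ {e + 1, e - 1} hsub
  rw [Finset.sum_pair hne] at hs₁
  simp only [smul_eq_mul] at hs₁
  have hc1 : ν₁.count (e + 1) ≤ 1 := by
    have := Multiset.le_iff_count.mp hν₁le (e + 1)
    have h3 : Multiset.count (e + 1) ({e + 1, e - 1} : Multiset ℕ) = 1 := by
      rw [Multiset.insert_eq_cons, Multiset.count_cons_self, Multiset.count_singleton,
        if_neg hne]
    omega
  have hc2 : ν₁.count (e - 1) ≤ 1 := by
    have := Multiset.le_iff_count.mp hν₁le (e - 1)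
    have h3 : Multiset.count (e - 1) ({e + 1, e - 1} : Multiset ℕ) = 1 := by
      rw [Multiset.insert_eq_cons, Multiset.count_cons_of_ne hne.symm, Multiset.count_singleton,
        if_pos rfl]
    omega
  have hs₀even : Even ν₀.sum := by
    rw [even_iff_two_dvd]
    apply Multiset.dvd_sum
    intro x hx
    exact even_iff_two_dvd.mp (Multiset.mem_filter.mp hx).2
  have hsum' : ν₀.sum + ν₁.sum = m := by
    rw [← Multiset.sum_add, hsplit, hsum]
  have hcount₀ : ∀ x : ℕ, Even x → ν₀.count x = ν''.count x := by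
    intro x hx
    rw [hν₀, Multiset.count_filter_of_pos hx]
  -- the two cases
  have hcases : (ν₁.count (e + 1) = 0 ∧ ν₁.count (e - 1) = 0) ∨
      (ν₁.count (e + 1) = 1 ∧ ν₁.count (e - 1) = 1) := by
    obtain ⟨s, hs⟩ := hs₀even
    obtain ⟨t, ht⟩ := hm
    obtain ⟨r, hr⟩ := he
    have h1 : ν₁.count (e + 1) = 0 ∨ ν₁.count (e + 1) = 1 := by omega
    have h3 : ν₁.count (e - 1) = 0 ∨ ν₁.count (e - 1) = 1 := by omega
    rcases h1 with h1 | h1 <;> rcases h3 with h3 | h3
    · exact Or.inl ⟨h1, h3⟩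
    · exfalso
      rw [h1, h3] at hs₁
      omega
    · exfalso
      rw [h1, h3] at hs₁
      omega
    · exact Or.inr ⟨h1, h3⟩
  rcases hcases with ⟨h1, h3⟩ | ⟨h1, h3⟩
  · refine ⟨ν₀, hν₀le.trans ((Multiset.le_cons_self _ _).trans (Multiset.le_cons_self _ _)), ?_, ?_⟩
    · rw [h1, h3] at hs₁
      omega
    · intro x hx
      rw [hcount₀ x hx]
      exact hev x hx
  · refine ⟨e ::ₘ e ::ₘ ν₀, Multiset.cons_le_cons _ (Multiset.cons_le_cons _ hν₀le), ?_, ?_⟩
    · rw [Multiset.sum_cons, Multiset.sum_cons]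
      rw [h1, h3] at hs₁
      omega
    · intro x hx
      rw [Multiset.count_cons, Multiset.count_cons, hcount₀ x hx]
      obtain ⟨t, ht⟩ := hev x hx
      by_cases hxe : x = e
      · rw [if_pos hxe]
        exact ⟨t + 1, by omega⟩
      · rw [if_neg hxe]
        exact ⟨t, by omega⟩

end Cfsg.Agent.Helper99.OrthJT
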