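import Mathlib
import Cfsg.Agent.Lib.Nilpotent

/-!
# (A1) for S6000 : symplectic type + exponent 4 + `|Z| = 4` ⟹ `G/Z` elementary abelian
-/

set_option autoImplicit false

namespace Cfsg.Agent.Helper99.P4A1

open Subgroup

variable {G : Type*} [Group G]

theorem mem_Z2 (u : G) : u ∈ Subgroup.upperCentralSeries G 2 ↔ ∀ h : G, u * h * u⁻¹ * h⁻¹ ∈ center G := by
  rw [show (2 : ℕ) = 1 + 1 from rfl, Subgroup.mem_upperCentralSeries_succ_iff,
    Subgroup.upperCentralSeries_one]
  simp only [commutatorElement_def]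

/-- the "critical" subgroup -/
def Csub (G : Type*) [Group G] : Subgroup G where
  carrier := {u | u ∈ Subgroup.upperCentralSeries G 2 ∧ u * u ∈ center G}
  one_mem' := ⟨one_mem _, by rw [mul_one]; exact one_mem _⟩
  mul_mem' := by
    rintro u v ⟨hu, hu2⟩ ⟨hv, hv2⟩
    refine ⟨mul_mem hu hv, ?_⟩
    have hc : v * u * v⁻¹ * u⁻¹ ∈ center G := (mem_Z2 v).mp hv u
    have hcc := mem_center_iff.mp hc
    have h1 : v * u = (v * u * v⁻¹ * u⁻¹) * (u * v) := by group
    have : u * v * (u * v) = (v * u * v⁻¹ * u⁻¹) * (u * u) * (v * v) := by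
      calc u * v * (u * v) = u * (v * u) * v := by group
        _ = u * ((v * u * v⁻¹ * u⁻¹) * (u * v)) * v := by rw [← h1]
        _ = (u * (v * u * v⁻¹ * u⁻¹)) * (u * v) * v := by group
        _ = ((v * u * v⁻¹ * u⁻¹) * u) * (u * v) * v := by rw [hcc u]
        _ = (v * u * v⁻¹ * u⁻¹) * (u * u) * (v * v) := by group
    rw [this]
    exact mul_mem (mul_mem hc hu2) hv2
  inv_mem' := by
    rintro u ⟨hu, hu2⟩
    refine ⟨inv_mem hu, ?_⟩
    have : u⁻¹ * u⁻¹ = (u * u)⁻¹ := by group
    rw [this]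
    exact inv_mem hu2

theorem mem_Csub (u : G) : u ∈ Csub G ↔ u ∈ Subgroup.upperCentralSeries G 2 ∧ u * u ∈ center G := Iff.rfl

instance : (Csub G).Characteristic := by
  rw [characteristic_iff_le_comap]
  intro φ u hu
  obtain ⟨h1, h2⟩ := hu
  refine ⟨?_, ?_⟩
  · exact (characteristic_iff_le_comap.mp (inferInstance : (Subgroup.upperCentralSeries G 2).Characteristic)) φ h1
  · have := (characteristic_iff_le_comap.mp (inferInstance : (center G).Characteristic)) φ h2
    simpa using this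

theorem center_le_Csub : center G ≤ Csub G := by
  intro z hz
  refine ⟨?_, mul_mem hz hz⟩
  have : Subgroup.upperCentralSeries G 1 ≤ Subgroup.upperCentralSeries G 2 := Subgroup.upperCentralSeries_mono G (by norm_num)
  rw [Subgroup.upperCentralSeries_one] at this
  exact this hz

/-- the centre of the critical subgroup -/
def ZC (G : Type*) [Group G] : Subgroup G := Csub G ⊓ centralizer (Csub G : Set G)

instance : (ZC G).Characteristic := by
  unfold ZC
  infer_instance

instance : IsMulCommutative (ZC G) := by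
  refine ⟨⟨fun a b => ?_⟩⟩
  apply Subtype.ext
  have ha : (a : G) ∈ centralizer (Csub G : Set G) := a.2.2
  have hb : (b : G) ∈ Csub G := b.2.1
  have := mem_centralizer_iff.mp ha b hb
  simpa using this.symm

theorem center_le_ZC : center G ≤ ZC G := by
  intro z hz
  refine ⟨center_le_Csub hz, ?_⟩
  show z ∈ centralizer (Csub G : Set G)
  rw [mem_centralizer_iff]
  intro h _
  exact (mem_center_iff.mp hz h)

theorem main {G : Type*} [Group G] [Finite G] (hp : IsPGroup 2 G)
    (hexp : Monoid.exponent G = 4)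
    (hcyc : ∀ A : Subgroup G, A.Characteristic → IsMulCommutative A → IsCyclic A)
    (hZ : Nat.card (Subgroup.center G) = 4) (g h : G) :
    g * g ∈ Subgroup.center G ∧ g * h * g⁻¹ * h⁻¹ ∈ Subgroup.center G := by
  classical
  haveI : Fact (Nat.Prime 2) := ⟨Nat.prime_two⟩
  haveI : Group.IsNilpotent G := hp.isNilpotent
  -- `ZC = center`
  have hZCcyc : IsCyclic (ZC G) := hcyc (ZC G) inferInstance inferInstance
  have hZCcard : Nat.card (ZC G) ≤ 4 := by
    have h1 : Monoid.exponent (ZC G) = Nat.card (ZC G) := IsCyclic.exponent_eq_card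
    have h2 : Monoid.exponent (ZC G) ∣ Monoid.exponent G :=
      Monoid.exponent_dvd_of_monoidHom (ZC G).subtype (ZC G).subtype_injective
    rw [h1, hexp] at h2
    exact Nat.le_of_dvd (by norm_num) h2
  have hZCeq : center G = ZC G :=
    Subgroup.eq_of_le_of_card_ge center_le_ZC (by rw [hZ]; exact hZCcard)
  -- the centralizer of `Csub` is the centre
  have hD : centralizer (Csub G : Set G) ≤ center G := by
    by_contra hnot
    -- image in the quotient
    set Z := center G with hZdef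
    set D := centralizer (Csub G : Set G) with hDdef
    set Dbar : Subgroup (G ⧸ Z) := D.map (QuotientGroup.mk' Z) with hDbar
    haveI : Dbar.Normal := Subgroup.Normal.map inferInstance _ (QuotientGroup.mk'_surjective Z)
    have hne : Dbar ≠ ⊥ := by
      intro hbot
      apply hnot
      intro d hd
      have : (QuotientGroup.mk' Z d) ∈ Dbar := Subgroup.mem_map_of_mem _ hd
      rw [hbot, Subgroup.mem_bot] at this
      exact (QuotientGroup.eq_one_iff d).mp this
    have := Cfsg.Agent.Lib.normal_inf_center_ne_bot Dbar hne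
    obtain ⟨xb, hxb1⟩ := (Subgroup.ne_bot_iff_exists_ne_one).mp this
    have hxbD : (xb : G ⧸ Z) ∈ Dbar := (Subgroup.mem_inf.mp xb.2).1
    have hxbC : (xb : G ⧸ Z) ∈ center (G ⧸ Z) := (Subgroup.mem_inf.mp xb.2).2
    obtain ⟨x, hxD, hxeq⟩ := Subgroup.mem_map.mp hxbD
    have hxZ : x ∉ Z := by
      intro hx
      apply hxb1
      apply Subtype.ext
      rw [← hxeq]
      exact (QuotientGroup.eq_one_iff x).mpr hx
    -- `x ∈ Z₂`
    have hx2 : x ∈ Subgroup.upperCentralSeries G 2 := by
      rw [mem_Z2]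
      intro k
      rw [← QuotientGroup.eq_one_iff]
      have hc := mem_center_iff.mp hxbC (QuotientGroup.mk' Z k)
      rw [← hxeq] at hc
      have : ((x * k * x⁻¹ * k⁻¹ : G) : G ⧸ Z) =
          (QuotientGroup.mk' Z x) * (QuotientGroup.mk' Z k) * (QuotientGroup.mk' Z x)⁻¹ *
            (QuotientGroup.mk' Z k)⁻¹ := by
        simp
      rw [this, ← hc]
      group
    -- an element of `Csub ⊓ D` outside `Z`
    by_cases hxx : x * x ∈ Z
    · have : x ∈ ZC G := ⟨⟨hx2, hxx⟩, hxD⟩
      rw [← hZCeq] at this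
      exact hxZ this
    · have h4 : x * x * (x * x) = 1 := by
        have := Monoid.pow_exponent_eq_one x
        rw [hexp] at this
        rw [← this]; simp [pow_succ, mul_assoc]
      have : x * x ∈ ZC G := by
        refine ⟨⟨mul_mem hx2 hx2, ?_⟩, mul_mem hxD hxD⟩
        rw [h4]; exact one_mem _
      rw [← hZCeq] at this
      exact hxx this
  -- the hom `ζ_u`
  have key : ∀ u ∈ Csub G, ∀ w : G, ∃ z ∈ center G, w * u = u * z * w := by
    intro u hu w
    have hu' : u⁻¹ ∈ Subgroup.upperCentralSeries G 2 := inv_mem hu.1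
    refine ⟨u⁻¹ * w * u * w⁻¹, ?_, by group⟩
    have := (mem_Z2 u⁻¹).mp hu' w
    simpa using this
  have hsq : ∀ k : G, k * k ∈ centralizer (Csub G : Set G) := by
    intro k
    rw [mem_centralizer_iff]
    intro u hu
    obtain ⟨z, hz, hzk⟩ := key u hu k
    have hzc := mem_center_iff.mp hz
    have huu := mem_center_iff.mp hu.2
    -- `z * z = 1`
    have hzz : z * z = 1 := by
      have h1 : k * (u * u) = (u * u) * (z * z) * k := by
        calc k * (u * u) = (k * u) * u := by group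
          _ = (u * z * k) * u := by rw [hzk]
          _ = u * z * (k * u) := by group
          _ = u * z * (u * z * k) := by rw [hzk]
          _ = u * (z * u) * z * k := by group
          _ = u * (u * z) * z * k := by rw [hzc u]
          _ = (u * u) * (z * z) * k := by group
      have h2 : k * (u * u) = (u * u) * k := huu k
      have : (u * u) * (z * z) * k = (u * u) * 1 * k := by rw [← h1, h2, mul_one]
      have := mul_right_cancel this
      exact mul_left_cancel this
    calc u * (k * k) = u * (z * z) * (k * k) := by rw [hzz, mul_one]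
      _ = u * z * (z * k) * k := by group
      _ = u * z * (k * z) * k := by rw [hzc k]
      _ = (u * z * k) * z * k := by group
      _ = (k * u) * z * k := by rw [hzk]
      _ = k * (u * z * k) := by group
      _ = k * (k * u) := by rw [hzk]
      _ = k * k * u := by group
  have hcomm : ∀ a b : G, a * b * a⁻¹ * b⁻¹ ∈ centralizer (Csub G : Set G) := by
    intro a b
    rw [mem_centralizer_iff]
    intro u hu
    obtain ⟨za, hza, hka⟩ := key u hu a
    obtain ⟨zb, hzb, hkb⟩ := key u hu b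
    have hzac := mem_center_iff.mp hza
    have hzbc := mem_center_iff.mp hzb
    -- inverse actions
    have hia : a⁻¹ * u = u * za⁻¹ * a⁻¹ := by
      have e : u * a⁻¹ = a⁻¹ * u * za := by
        calc u * a⁻¹ = a⁻¹ * (a * u) * a⁻¹ := by group
          _ = a⁻¹ * (u * za * a) * a⁻¹ := by rw [hka]
          _ = a⁻¹ * u * za := by group
      calc a⁻¹ * u = (a⁻¹ * u * za) * za⁻¹ := by group
        _ = (u * a⁻¹) * za⁻¹ := by rw [e]
        _ = u * (a⁻¹ * za⁻¹) := by group
        _ = u * (za⁻¹ * a⁻¹) := by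
            have := mem_center_iff.mp (inv_mem hza) a⁻¹
            rw [this]
        _ = u * za⁻¹ * a⁻¹ := by group
    have hib : b⁻¹ * u = u * zb⁻¹ * b⁻¹ := by
      have e : u * b⁻¹ = b⁻¹ * u * zb := by
        calc u * b⁻¹ = b⁻¹ * (b * u) * b⁻¹ := by group
          _ = b⁻¹ * (u * zb * b) * b⁻¹ := by rw [hkb]
          _ = b⁻¹ * u * zb := by group
      calc b⁻¹ * u = (b⁻¹ * u * zb) * zb⁻¹ := by group
        _ = (u * b⁻¹) * zb⁻¹ := by rw [e]
        _ = u * (b⁻¹ * zb⁻¹) := by group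
        _ = u * (zb⁻¹ * b⁻¹) := by
            have := mem_center_iff.mp (inv_mem hzb) b⁻¹
            rw [this]
        _ = u * zb⁻¹ * b⁻¹ := by group
    have hzai := mem_center_iff.mp (inv_mem hza)
    have hzbi := mem_center_iff.mp (inv_mem hzb)
    -- push `u` through
    calc u * (a * b * a⁻¹ * b⁻¹)
        = u * (za * zb * za⁻¹ * zb⁻¹) * (a * b * a⁻¹ * b⁻¹) := by
          have : za * zb * za⁻¹ * zb⁻¹ = 1 := by
            rw [← hzac zb]; group
          rw [this, mul_one]
      _ = a * b * a⁻¹ * b⁻¹ * u := by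
          have e1 : a * b * a⁻¹ * b⁻¹ * u = a * b * a⁻¹ * (u * zb⁻¹ * b⁻¹) := by
            rw [← hib]; group
          have e2 : a * b * a⁻¹ * (u * zb⁻¹ * b⁻¹) = a * b * (a⁻¹ * u) * zb⁻¹ * b⁻¹ := by group
          have e3 : a * b * (a⁻¹ * u) * zb⁻¹ * b⁻¹ = a * (b * u) * za⁻¹ * a⁻¹ * zb⁻¹ * b⁻¹ := by
            rw [hia]; group
          have e4 : a * (b * u) * za⁻¹ * a⁻¹ * zb⁻¹ * b⁻¹ =
              (a * u) * zb * b * za⁻¹ * a⁻¹ * zb⁻¹ * b⁻¹ := by
            rw [hkb]; group
          have e5 : (a * u) * zb * b * za⁻¹ * a⁻¹ * zb⁻¹ * b⁻¹ =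
              u * za * a * zb * b * za⁻¹ * a⁻¹ * zb⁻¹ * b⁻¹ := by
            rw [hka]
          rw [e1, e2, e3, e4, e5]
          -- move central elements to the front
          have c1 : a * zb = zb * a := hzbc a
          have c2 : b * za⁻¹ = za⁻¹ * b := hzai b
          have c3 : a⁻¹ * zb⁻¹ = zb⁻¹ * a⁻¹ := hzbi a⁻¹
          have c4 : a * za⁻¹ = za⁻¹ * a := hzai a
          have c5 : b * zb⁻¹ = zb⁻¹ * b := hzbi b
          have c6 : a * zb⁻¹ = zb⁻¹ * a := hzbi a
          calc u * (za * zb * za⁻¹ * zb⁻¹) * (a * b * a⁻¹ * b⁻¹)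
              = u * za * zb * za⁻¹ * zb⁻¹ * a * b * a⁻¹ * b⁻¹ := by group
            _ = u * za * zb * za⁻¹ * (zb⁻¹ * a) * b * a⁻¹ * b⁻¹ := by group
            _ = u * za * zb * za⁻¹ * (a * zb⁻¹) * b * a⁻¹ * b⁻¹ := by rw [c6]
            _ = u * za * zb * (za⁻¹ * a) * zb⁻¹ * b * a⁻¹ * b⁻¹ := by group
            _ = u * za * zb * (a * za⁻¹) * zb⁻¹ * b * a⁻¹ * b⁻¹ := by rw [c4]
            _ = u * za * (zb * a) * za⁻¹ * zb⁻¹ * b * a⁻¹ * b⁻¹ := by group
            _ = u * za * (a * zb) * za⁻¹ * zb⁻¹ * b * a⁻¹ * b⁻¹ := by rw [c1]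
            _ = u * za * a * zb * za⁻¹ * (zb⁻¹ * b) * a⁻¹ * b⁻¹ := by group
            _ = u * za * a * zb * za⁻¹ * (b * zb⁻¹) * a⁻¹ * b⁻¹ := by rw [c5]
            _ = u * za * a * zb * (za⁻¹ * b) * zb⁻¹ * a⁻¹ * b⁻¹ := by group
            _ = u * za * a * zb * (b * za⁻¹) * zb⁻¹ * a⁻¹ * b⁻¹ := by rw [c2]
            _ = u * za * a * zb * b * za⁻¹ * (zb⁻¹ * a⁻¹) * b⁻¹ := by group
            _ = u * za * a * zb * b * za⁻¹ * (a⁻¹ * zb⁻¹) * b⁻¹ := by rw [c3]
            _ = u * za * a * zb * b * za⁻¹ * a⁻¹ * zb⁻¹ * b⁻¹ := by group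
  exact ⟨hD (hsq g), hD (hcomm g h)⟩

theorem elemAb_of_symplecticType {G : Type*} [Group G] [Finite G] (hp : IsPGroup 2 G)
    (hexp : Monoid.exponent G = 4)
    (hcyc : ∀ A : Subgroup G, A.Characteristic → IsMulCommutative A → IsCyclic A)
    (hZ : Nat.card (Subgroup.center G) = 4) (g h : G) :
    g * g ∈ Subgroup.center G ∧ g * h * g⁻¹ * h⁻¹ ∈ Subgroup.center G :=
  main hp hexp hcyc hZ g h

end Cfsg.Agent.Helper99.P4A1
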