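import Mathlib
import Cfsg.Agent.Helper99.P4Defs
import Cfsg.Agent.Helper22.P4E2
import Cfsg.Agent.Helper22.P4E3
import Cfsg.Agent.Helper35.P4D7
import Cfsg.Agent.Helper35.P4Dp
import Cfsg.Agent.Helper35.P4N6
import Cfsg.Agent.Helper35.P4N9
import Cfsg.Agent.Helper38.P4K2s
import Cfsg.Agent.Helper38.P4K5
import Cfsg.Agent.Helper41.P4U3
import Cfsg.Agent.Helper41.P4U4
import Cfsg.Agent.Helper42.P4E0
import Cfsg.Agent.Helper42.P4E1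
import Cfsg.Agent.Helper53.P4E4
import Cfsg.Agent.Helper53.P4E5
import Cfsg.Agent.Helper59.P4GEN
import Cfsg.Agent.Helper59.P4K3
import Cfsg.Agent.Helper63.P4T1d
import Cfsg.Agent.Helper63.P4T1e
import Cfsg.Agent.Helper64.P4N10
import Cfsg.Agent.Helper64.P4N3
import Cfsg.Agent.Helper66.P4N1
import Cfsg.Agent.Helper66.P4T1f
import Cfsg.Agent.Helper66.P4T2
import Cfsg.Agent.Helper66.P4TV
import Cfsg.Agent.Helper76.P4N11
import Cfsg.Agent.Helper76.P4N5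
import Cfsg.Agent.Helper76.P4T1g
import Cfsg.Agent.Helper76.P4U1
import Cfsg.Agent.Helper76.P4U2
import Cfsg.Agent.Helper79.P4D3
import Cfsg.Agent.Helper79.P4D5
import Cfsg.Agent.Helper81.P4N2V
import Cfsg.Agent.Helper81.P4N4
import Cfsg.Agent.Helper82.P4N7
import Cfsg.Agent.Helper82.P4U5
import Cfsg.Agent.Helper97.P4D5t
import Cfsg.Agent.Helper97.P4K2
import Cfsg.Agent.Helper97.P4KR
import Cfsg.Agent.Helper99.P4A1

/-!
# Glue for S6000: the pieces of WANTED #8930, restated under uniform names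
-/

set_option autoImplicit false
open scoped MatrixGroups

namespace Cfsg.Agent.Helper99.P4Glue

open Matrix Polynomial Cfsg.Agent.Helper99.P4 Cfsg.Geo

variable {F : Type*} [Field F]

/-! ## U : Pauli words -/

/-- (U1) -/
theorem pw_trace (v : V4) :
    Matrix.trace (pw v : Matrix (Fin 4) (Fin 4) F) = if v = 0 then 4 else 0 :=
  Cfsg.Agent.Helper76.P4.pw_trace v

/-- (U2) -/
theorem pw_unique (h2 : (2 : F) ≠ 0) (c c' : F) (u v : V4) (hc : c ≠ 0)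
    (h : c • (pw u : Matrix (Fin 4) (Fin 4) F) = c' • pw v) : u = v ∧ c = c' :=
  Cfsg.Agent.Helper76.P4.pw_unique h2 c c' u v hc h

/-- (U3) Pauli twirl -/
theorem twirl (M : Matrix (Fin 4) (Fin 4) F) :
    ∑ v : V4, (sg (eps v v) : F) • (pw v * M * pw v) = (4 * Matrix.trace M) • (1 : Matrix (Fin 4) (Fin 4) F) :=
  Cfsg.Agent.Helper41.P4.twirl M

/-- (U4) -/
theorem scalar_of_commute (h2 : (2 : F) ≠ 0) (M : Matrix (Fin 4) (Fin 4) F)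
    (h : ∀ v : V4, M * pw v = pw v * M) : ∃ c : F, M = c • 1 :=
  Cfsg.Agent.Helper41.P4.scalar_of_commute h2 M h

/-- (U5) nondegeneracy of `bil` -/
theorem exists_bil (chi : V4 → ZMod 2) (hadd : ∀ u v, chi (u + v) = chi u + chi v) :
    ∃ u : V4, ∀ v, chi v = bil u v :=
  Cfsg.Agent.Helper82.P4.exists_bil chi hadd

/-! ## N : the normalizer `N0` via `σ`, `λ` -/

/-- (N1) -/
theorem exists_sigma {i : F} (hi : i ^ 2 = -1) (g : GL (Fin 4) F) (hg : g ∈ N0 i hi) :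
    ∃ (σ : V4 → V4) (lam : V4 → F), ∀ v,
      (g : Matrix (Fin 4) (Fin 4) F) * pw v = lam v • (pw (σ v) * (g : Matrix (Fin 4) (Fin 4) F)) ∧
      lam v ^ 4 = 1 :=
  Cfsg.Agent.Helper66.P4.exists_sigma hi g hg

/-- (N2) trace identity -/
theorem trace_identity (h2 : (2 : F) ≠ 0) (g : GL (Fin 4) F) (σ : V4 → V4) (lam : V4 → F)
    (hrel : ∀ v, (g : Matrix (Fin 4) (Fin 4) F) * pw v =
      lam v • (pw (σ v) * (g : Matrix (Fin 4) (Fin 4) F))) :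
    Matrix.trace (g : Matrix (Fin 4) (Fin 4) F) * Matrix.trace ((g⁻¹ : GL (Fin 4) F) : Matrix (Fin 4) (Fin 4) F) =
      ∑ v ∈ Finset.univ.filter (fun v : V4 => σ v = v), lam v :=
  Cfsg.Agent.Helper81.P4.trace_identity h2 g σ lam hrel

/-- (N3) -/
theorem sigma_add (h2 : (2 : F) ≠ 0) (g : GL (Fin 4) F) (σ : V4 → V4) (lam : V4 → F)
    (hrel : ∀ v, (g : Matrix (Fin 4) (Fin 4) F) * pw v =
      lam v • (pw (σ v) * (g : Matrix (Fin 4) (Fin 4) F))) (u v : V4) :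
    σ (u + v) = σ u + σ v ∧
      lam (u + v) * sg (eps u v) = lam u * lam v * sg (eps (σ u) (σ v)) :=
  Cfsg.Agent.Helper64.P4.sigma_add h2 g σ lam hrel u v

/-- (N4) -/
theorem sigma_pow (h2 : (2 : F) ≠ 0) (g : GL (Fin 4) F) (σ : V4 → V4) (lam : V4 → F)
    (hrel : ∀ v, (g : Matrix (Fin 4) (Fin 4) F) * pw v =
      lam v • (pw (σ v) * (g : Matrix (Fin 4) (Fin 4) F)))
    (n : ℕ) (z : F) (hz : ((g ^ n : GL (Fin 4) F) : Matrix (Fin 4) (Fin 4) F) = z • 1) (v : V4) :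
    σ^[n] v = v :=
  Cfsg.Agent.Helper81.P4.sigma_pow h2 g σ lam hrel n z hz v

/-- (N5) -/
theorem sigma_bil (h2 : (2 : F) ≠ 0) (g : GL (Fin 4) F) (σ : V4 → V4) (lam : V4 → F)
    (hrel : ∀ v, (g : Matrix (Fin 4) (Fin 4) F) * pw v =
      lam v • (pw (σ v) * (g : Matrix (Fin 4) (Fin 4) F))) (u v : V4) :
    bil (σ u) (σ v) = bil u v :=
  Cfsg.Agent.Helper76.P4.sigma_bil h2 g σ lam hrel u v

/-- (N6) -/
theorem fix_card (σ : V4 → V4) (hadd : ∀ u v, σ (u + v) = σ u + σ v) (r : ℕ) (hr : r.Prime)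
    (hpow : ∀ v, σ^[r] v = v) :
    ((Finset.univ.filter (fun v : V4 => σ v = v)).card ∈ ({1, 2, 4, 8, 16} : Set ℕ)) ∧
      16 ≡ (Finset.univ.filter (fun v : V4 => σ v = v)).card [MOD r] :=
  Cfsg.Agent.Helper35.P4.fix_card σ hadd r hr hpow

/-- (N7) -/
theorem sum_fix (lam : V4 → F) (Fix : Finset V4) (h0 : (0 : V4) ∈ Fix)
    (hadd : ∀ u ∈ Fix, ∀ v ∈ Fix, u + v ∈ Fix)
    (hmul : ∀ u ∈ Fix, ∀ v ∈ Fix, lam (u + v) = lam u * lam v) :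
    (∑ v ∈ Fix, lam v = (Fix.card : F) ∧ ∀ v ∈ Fix, lam v = 1) ∨ ∑ v ∈ Fix, lam v = 0 :=
  Cfsg.Agent.Helper82.P4.sum_fix lam Fix h0 hadd hmul

/-- (N9) -/
theorem no_fix_two (σ : V4 → V4) (hadd : ∀ u v, σ (u + v) = σ u + σ v)
    (hbil : ∀ u v, bil (σ u) (σ v) = bil u v) (hpow : ∀ v, σ^[7] v = v) :
    (Finset.univ.filter (fun v : V4 => σ v = v)).card ≠ 2 :=
  Cfsg.Agent.Helper35.P4.no_fix_two σ hadd hbil hpow

/-- (N10) -/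
theorem scalar_mul_pw_of_sigma_id (h2 : (2 : F) ≠ 0) (g : GL (Fin 4) F) (lam : V4 → F)
    (hrel : ∀ v, (g : Matrix (Fin 4) (Fin 4) F) * pw v =
      lam v • (pw v * (g : Matrix (Fin 4) (Fin 4) F))) :
    ∃ (s : F) (u : V4), (g : Matrix (Fin 4) (Fin 4) F) = s • pw u :=
  Cfsg.Agent.Helper64.P4.scalar_mul_pw_of_sigma_id h2 g lam hrel

/-- (N11) -/
theorem pw_zero_of_pow_scalar (h2 : (2 : F) ≠ 0) (s : F) (hs : s ≠ 0) (u : V4) (r : ℕ) (hr : Odd r)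
    (z : F) (h : (s • (pw u : Matrix (Fin 4) (Fin 4) F)) ^ r = z • 1) : u = 0 :=
  Cfsg.Agent.Helper76.P4.pw_zero_of_pow_scalar h2 s hs u r hr z h

/-! ## E : explicit elements of `N0` -/

/-- (E0) -/
theorem mem_N0_of_gens {i : F} (hi : i ^ 2 = -1) (g : GL (Fin 4) F)
    (h1 : ∃ (k : ℕ) (v : V4), (g : Matrix (Fin 4) (Fin 4) F) * mX1 = i ^ k • (pw v * (g : Matrix (Fin 4) (Fin 4) F)))
    (h2 : ∃ (k : ℕ) (v : V4), (g : Matrix (Fin 4) (Fin 4) F) * mZ1 = i ^ k • (pw v * (g : Matrix (Fin 4) (Fin 4) F)))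
    (h3 : ∃ (k : ℕ) (v : V4), (g : Matrix (Fin 4) (Fin 4) F) * mX2 = i ^ k • (pw v * (g : Matrix (Fin 4) (Fin 4) F)))
    (h4 : ∃ (k : ℕ) (v : V4), (g : Matrix (Fin 4) (Fin 4) F) * mZ2 = i ^ k • (pw v * (g : Matrix (Fin 4) (Fin 4) F))) :
    g ∈ N0 i hi :=
  Cfsg.Agent.Helper42.P4.mem_N0_of_gens hi g h1 h2 h3 h4

/-- (E1) scalars -/
theorem scalar_mem_N0 {i : F} (hi : i ^ 2 = -1) (g : GL (Fin 4) F) (c : F)
    (hg : (g : Matrix (Fin 4) (Fin 4) F) = c • 1) : g ∈ N0 i hi :=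
  Cfsg.Agent.Helper42.P4.scalar_mem_N0 hi g c hg

/-- (E1') `R0 ≤ N0` -/
theorem R0_le_N0 {i : F} (hi : i ^ 2 = -1) : R0 i hi ≤ N0 i hi :=
  Cfsg.Agent.Helper42.P4.R0_le_N0 hi

/-- (E2) -/
theorem CZ_rel :
    (CZm : Matrix (Fin 4) (Fin 4) F) * CZm = 1 ∧
    (CZm : Matrix (Fin 4) (Fin 4) F) * mX1 = pw (1, 0, 0, 1) * CZm ∧
    (CZm : Matrix (Fin 4) (Fin 4) F) * mZ1 = pw (0, 1, 0, 0) * CZm ∧
    (CZm : Matrix (Fin 4) (Fin 4) F) * mX2 = pw (0, 1, 1, 0) * CZm ∧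
    (CZm : Matrix (Fin 4) (Fin 4) F) * mZ2 = pw (0, 0, 0, 1) * CZm ∧
    Matrix.trace (CZm : Matrix (Fin 4) (Fin 4) F) = 2 :=
  Cfsg.Agent.Helper22.P4.CZ_rel 

/-- (E3) -/
theorem MM_rel {i : F} (hi : i ^ 2 = -1) :
    (MMm i) ^ 3 = (8 * i) • (1 : Matrix (Fin 4) (Fin 4) F) ∧
    MMm i * mX1 = pw (0, 1, 0, 0) * MMm i ∧
    MMm i * mZ1 = i • (pw (1, 1, 0, 0) * MMm i) ∧
    MMm i * mX2 = pw (0, 0, 0, 1) * MMm i ∧
    MMm i * mZ2 = i • (pw (0, 0, 1, 1) * MMm i) ∧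
    Matrix.trace (MMm i) = -2 * i :=
  Cfsg.Agent.Helper22.P4.MM_rel hi

/-- (E4) -/
theorem M1_rel {i : F} (hi : i ^ 2 = -1) :
    (M1m i) ^ 3 = (2 + 2 * i) • (1 : Matrix (Fin 4) (Fin 4) F) ∧
    M1m i * mX1 = pw (0, 1, 0, 0) * M1m i ∧
    M1m i * mZ1 = i • (pw (1, 1, 0, 0) * M1m i) ∧
    M1m i * mX2 = pw (0, 0, 1, 0) * M1m i ∧
    M1m i * mZ2 = pw (0, 0, 0, 1) * M1m i ∧
    Matrix.trace (M1m i) = 2 - 2 * i :=
  Cfsg.Agent.Helper53.P4.M1_rel hi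

/-- (E5) -/
theorem G5_rel {i : F} (hi : i ^ 2 = -1) :
    (G5m i) ^ 5 = (32 * i) • (1 : Matrix (Fin 4) (Fin 4) F) ∧
    G5m i * mX1 = i ^ 3 • (pw (1, 1, 1, 0) * G5m i) ∧
    G5m i * mZ1 = pw (1, 0, 0, 0) * G5m i ∧
    G5m i * mX2 = pw (1, 0, 0, 1) * G5m i ∧
    G5m i * mZ2 = pw (0, 0, 1, 0) * G5m i ∧
    Matrix.trace (G5m i) = -2 * i :=
  Cfsg.Agent.Helper53.P4.G5_rel hi

/-! ## K : conjugacy classification -/

/-- (GEN) -/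
theorem sl_conj_of_charpoly [Fintype F] (x y : GL (Fin 4) F) (m : ℕ) (hm : (m : F) ≠ 0)
    (hx : x ^ m = 1) (hy : y ^ m = 1)
    (hc : (x : Matrix (Fin 4) (Fin 4) F).charpoly = (y : Matrix (Fin 4) (Fin 4) F).charpoly) :
    ∃ g ∈ specialLinear (Fin 4) F, g⁻¹ * x * g = y :=
  Cfsg.Agent.Helper59.P4.sl_conj_of_charpoly x y m hm hx hy hc

/-- (K2s) -/
theorem square_of_sq_scalar [Fintype F] {p : ℕ} [Fact p.Prime] [CharP F p]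
    (hF : Fintype.card F = p) (hp4 : p % 4 = 1)
    (x : Matrix (Fin 4) (Fin 4) F) (hdet : x.det = 1) (z : F) (hx : x * x = z • 1) :
    ∃ c : F, c ^ 2 = z :=
  Cfsg.Agent.Helper38.P4.square_of_sq_scalar hF hp4 x hdet z hx

/-- (K2) -/
theorem invol_class (h2 : (2 : F) ≠ 0) (h3 : (3 : F) ≠ 0) (y z : Matrix (Fin 4) (Fin 4) F)
    (hy : y * y = 1) (hz : z * z = 1) (htr : Matrix.trace y = Matrix.trace z) :
    y.charpoly = z.charpoly :=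
  Cfsg.Agent.Helper97.P4.invol_class h2 h3 y z hy hz htr

/-- (K2t) -/
theorem invol_trace (h2 : (2 : F) ≠ 0) (y : Matrix (Fin 4) (Fin 4) F) (hy : y * y = 1) :
    (Matrix.trace y = 4 ∧ y = 1) ∨ Matrix.trace y = 2 ∨ Matrix.trace y = 0 ∨ Matrix.trace y = -2 ∨
      (Matrix.trace y = -4 ∧ y = -1) :=
  Cfsg.Agent.Helper97.P4.invol_trace h2 y hy

/-- (K3) -/
theorem cube_class [Fintype F] {p : ℕ} [Fact p.Prime] [CharP F p] (h2 : (2 : F) ≠ 0)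
    (hF : Fintype.card F = p) (hp3 : p % 3 = 2) (y z : Matrix (Fin 4) (Fin 4) F)
    (hy : y ^ 3 = 1) (hz : z ^ 3 = 1) (htr : Matrix.trace y = Matrix.trace z) :
    y.charpoly = z.charpoly :=
  Cfsg.Agent.Helper59.P4.cube_class h2 hF hp3 y z hy hz htr

/-- (K3t) -/
theorem cube_trace [Fintype F] {p : ℕ} [Fact p.Prime] [CharP F p] (h2 : (2 : F) ≠ 0)
    (hF : Fintype.card F = p) (hp3 : p % 3 = 2) (y : Matrix (Fin 4) (Fin 4) F)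
    (hy : y ^ 3 = 1) :
    (Matrix.trace y = 4 ∧ y = 1) ∨ Matrix.trace y = 1 ∨ Matrix.trace y = -2 :=
  Cfsg.Agent.Helper59.P4.cube_trace h2 hF hp3 y hy

/-- (K5) -/
theorem fifth_class [Fintype F] {p : ℕ} [Fact p.Prime] [CharP F p]
    (hF : Fintype.card F = p) (hord : orderOf (p : ZMod 5) = 4) (y z : Matrix (Fin 4) (Fin 4) F)
    (hy : y ^ 5 = 1) (hz : z ^ 5 = 1) (hy1 : y ≠ 1) (hz1 : z ≠ 1) :
    y.charpoly = z.charpoly :=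
  Cfsg.Agent.Helper38.P4.fifth_class hF hord y z hy hz hy1 hz1

/-- (KR) roots : `r`-th power map is onto when `gcd(r, p-1) = 1` -/
theorem exists_root [Fintype F] (r : ℕ) (hr0 : 0 < r) (hr : (Fintype.card F - 1).Coprime r) (z : F) :
    ∃ c : F, c ^ r = z :=
  Cfsg.Agent.Helper97.P4.exists_root r hr0 hr z

/-! ## D : derangements -/

/-- (D3) -/
theorem exists_derangement_three {i : F} (hi : i ^ 2 = -1) (h2 : (2 : F) ≠ 0) (h3 : (3 : F) ≠ 0)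
    (h7 : (7 : F) ≠ 0) (ω : F) (hω : ω ^ 2 + ω + 1 = 0)
    (hN : ∀ g ∈ N0 i hi, (∃ z : F, ((g ^ 3 : GL (Fin 4) F) : Matrix (Fin 4) (Fin 4) F) = z • 1) →
      (∀ z : F, (g : Matrix (Fin 4) (Fin 4) F) ≠ z • 1) →
      Matrix.trace (g : Matrix (Fin 4) (Fin 4) F) * Matrix.trace ((g⁻¹ : GL (Fin 4) F) : Matrix (Fin 4) (Fin 4) F) = 0 ∨
      Matrix.trace (g : Matrix (Fin 4) (Fin 4) F) * Matrix.trace ((g⁻¹ : GL (Fin 4) F) : Matrix (Fin 4) (Fin 4) F) = 1 ∨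
      Matrix.trace (g : Matrix (Fin 4) (Fin 4) F) * Matrix.trace ((g⁻¹ : GL (Fin 4) F) : Matrix (Fin 4) (Fin 4) F) = 4) :
    ∃ x ∈ specialLinear (Fin 4) F,
      (∃ z : F, ((x ^ 3 : GL (Fin 4) F) : Matrix (Fin 4) (Fin 4) F) = z • 1) ∧
      (∀ z : F, (x : Matrix (Fin 4) (Fin 4) F) ≠ z • 1) ∧
      ∀ g : GL (Fin 4) F, g⁻¹ * x * g ∉ N0 i hi :=
  Cfsg.Agent.Helper79.P4.exists_derangement_three hi h2 h3 h7 ω hω hN

/-- (D5) -/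
theorem exists_derangement_five {i : F} (hi : i ^ 2 = -1) (h2 : (2 : F) ≠ 0) (h5 : (5 : F) ≠ 0)
    (τ : F) (hτ : τ ^ 2 + τ - 1 = 0)
    (hN : ∀ g ∈ N0 i hi, (∃ z : F, ((g ^ 5 : GL (Fin 4) F) : Matrix (Fin 4) (Fin 4) F) = z • 1) →
      (∀ z : F, (g : Matrix (Fin 4) (Fin 4) F) ≠ z • 1) →
      Matrix.trace (g : Matrix (Fin 4) (Fin 4) F) * Matrix.trace ((g⁻¹ : GL (Fin 4) F) : Matrix (Fin 4) (Fin 4) F) = 0 ∨
      Matrix.trace (g : Matrix (Fin 4) (Fin 4) F) * Matrix.trace ((g⁻¹ : GL (Fin 4) F) : Matrix (Fin 4) (Fin 4) F) = 1) :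
    ∃ x ∈ specialLinear (Fin 4) F,
      (∃ z : F, ((x ^ 5 : GL (Fin 4) F) : Matrix (Fin 4) (Fin 4) F) = z • 1) ∧
      (∀ z : F, (x : Matrix (Fin 4) (Fin 4) F) ≠ z • 1) ∧
      ∀ g : GL (Fin 4) F, g⁻¹ * x * g ∉ N0 i hi :=
  Cfsg.Agent.Helper79.P4.exists_derangement_five hi h2 h5 τ hτ hN

/-- (D5t) existence of the golden ratio -/
theorem exists_tau [Fintype F] {p : ℕ} [Fact p.Prime] [CharP F p]
    (hF : Fintype.card F = p) (hp4 : p % 4 = 1) (hp5 : p % 5 = 1 ∨ p % 5 = 4) :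
    ∃ τ : F, τ ^ 2 + τ - 1 = 0 :=
  Cfsg.Agent.Helper97.P4.exists_tau hF hp4 hp5

/-- (TV) no transvection normalizes `R0` -/
theorem no_transvection {i : F} (hi : i ^ 2 = -1) (h2 : (2 : F) ≠ 0) (u φ : Fin 4 → F)
    (hu : u ≠ 0) (hφ : φ ≠ 0) (hφu : φ ⬝ᵥ u = 0) (t : GL (Fin 4) F)
    (ht : (t : Matrix (Fin 4) (Fin 4) F) = 1 + Matrix.vecMulVec u φ) : t ∉ N0 i hi :=
  Cfsg.Agent.Helper66.P4.no_transvection hi h2 u φ hu hφ hφu t ht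

/-- (Dp) derangement of order `p` (used for `p = 5`) -/
theorem exists_derangement_p {i : F} (hi : i ^ 2 = -1) (h2 : (2 : F) ≠ 0) {p : ℕ} [Fact p.Prime]
    [CharP F p]
    (hTV : ∀ (u φ : Fin 4 → F), u ≠ 0 → φ ≠ 0 → φ ⬝ᵥ u = 0 → ∀ t : GL (Fin 4) F,
      (t : Matrix (Fin 4) (Fin 4) F) = 1 + Matrix.vecMulVec u φ → t ∉ N0 i hi) :
    ∃ x ∈ specialLinear (Fin 4) F,
      (∃ z : F, ((x ^ p : GL (Fin 4) F) : Matrix (Fin 4) (Fin 4) F) = z • 1) ∧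
      (∀ z : F, (x : Matrix (Fin 4) (Fin 4) F) ≠ z • 1) ∧
      ∀ g : GL (Fin 4) F, g⁻¹ * x * g ∉ N0 i hi :=
  Cfsg.Agent.Helper35.P4.exists_derangement_p hi h2 hTV

/-- (D7) -/
theorem exists_derangement_ge7 [Fintype F] {i : F} (hi : i ^ 2 = -1) (r : ℕ) (hr : r.Prime)
    (h7 : 7 ≤ r) (hdvd : r ∣ Nat.card (specialLinear (Fin 4) F))
    (hN : ∀ g ∈ N0 i hi, (∃ z : F, ((g ^ r : GL (Fin 4) F) : Matrix (Fin 4) (Fin 4) F) = z • 1) →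
      ∃ z : F, (g : Matrix (Fin 4) (Fin 4) F) = z • 1) :
    ∃ x ∈ specialLinear (Fin 4) F,
      (∃ z : F, ((x ^ r : GL (Fin 4) F) : Matrix (Fin 4) (Fin 4) F) = z • 1) ∧
      (∀ z : F, (x : Matrix (Fin 4) (Fin 4) F) ≠ z • 1) ∧
      ∀ g : GL (Fin 4) F, g⁻¹ * x * g ∉ N0 i hi :=
  Cfsg.Agent.Helper35.P4.exists_derangement_ge7 hi r hr h7 hdvd hN

/-! ## T : normal form and transfer -/

/-- (A1) abstract: symplectic type + exponent 4 + |Z| = 4 ⟹ `G/Z` elementary abelian -/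
theorem elemAb_of_symplecticType {G : Type*} [Group G] [Finite G] (hp : IsPGroup 2 G)
    (hexp : Monoid.exponent G = 4)
    (hcyc : ∀ A : Subgroup G, A.Characteristic → IsMulCommutative A → IsCyclic A)
    (hZ : Nat.card (Subgroup.center G) = 4) (g h : G) :
    g * g ∈ Subgroup.center G ∧ g * h * g⁻¹ * h⁻¹ ∈ Subgroup.center G :=
  Cfsg.Agent.Helper99.P4A1.elemAb_of_symplecticType hp hexp hcyc hZ g h

/-- (T1g) -/
theorem pauliLike_of_symplecticType (h2 : (2 : F) ≠ 0) (R : Subgroup (GL (Fin 4) F)) [Finite R]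
    (hRs : IsSymplecticTypeGroup 2 R) (hRi : ActsAbsolutelyIrreducibly (matrixSet R))
    (hRZ : Nat.card (Subgroup.center R) = 4)
    (hA1 : ∀ g h : R, g * g ∈ Subgroup.center R ∧ g * h * g⁻¹ * h⁻¹ ∈ Subgroup.center R) :
    ∃ i : F, i ^ 2 = -1 ∧ IsPauliLike i R :=
  Cfsg.Agent.Helper76.P4.pauliLike_of_symplecticType h2 R hRs hRi hRZ hA1

/-- (T1d) -/
theorem exists_abcd (h2 : (2 : F) ≠ 0) {i : F} (hi : i ^ 2 = -1) (R : Subgroup (GL (Fin 4) F))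
    (hR : IsPauliLike i R) (hcard : Nat.card R = 64) :
    ∃ a ∈ R, ∃ b ∈ R, ∃ c ∈ R, ∃ d ∈ R,
      (a : Matrix (Fin 4) (Fin 4) F) * a = 1 ∧ (b : Matrix (Fin 4) (Fin 4) F) * b = 1 ∧
      (c : Matrix (Fin 4) (Fin 4) F) * c = 1 ∧ (d : Matrix (Fin 4) (Fin 4) F) * d = 1 ∧
      (a : Matrix (Fin 4) (Fin 4) F) * b = -((b : Matrix (Fin 4) (Fin 4) F) * a) ∧
      (c : Matrix (Fin 4) (Fin 4) F) * d = -((d : Matrix (Fin 4) (Fin 4) F) * c) ∧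
      (a : Matrix (Fin 4) (Fin 4) F) * c = c * a ∧ (a : Matrix (Fin 4) (Fin 4) F) * d = d * a ∧
      (b : Matrix (Fin 4) (Fin 4) F) * c = c * b ∧ (b : Matrix (Fin 4) (Fin 4) F) * d = d * b :=
  Cfsg.Agent.Helper63.P4.exists_abcd h2 hi R hR hcard

/-- (T1e) -/
theorem basis_of_abcd (h2 : (2 : F) ≠ 0) (A B C D : Matrix (Fin 4) (Fin 4) F)
    (hA : A * A = 1) (hB : B * B = 1) (hC : C * C = 1) (hD : D * D = 1)
    (hAB : A * B = -(B * A)) (hCD : C * D = -(D * C))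
    (hAC : A * C = C * A) (hAD : A * D = D * A) (hBC : B * C = C * B) (hBD : B * D = D * B) :
    ∃ P : GL (Fin 4) F,
      A * (P : Matrix (Fin 4) (Fin 4) F) = (P : Matrix (Fin 4) (Fin 4) F) * mZ1 ∧
      B * (P : Matrix (Fin 4) (Fin 4) F) = (P : Matrix (Fin 4) (Fin 4) F) * mX1 ∧
      C * (P : Matrix (Fin 4) (Fin 4) F) = (P : Matrix (Fin 4) (Fin 4) F) * mZ2 ∧
      D * (P : Matrix (Fin 4) (Fin 4) F) = (P : Matrix (Fin 4) (Fin 4) F) * mX2 :=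
  Cfsg.Agent.Helper63.P4.basis_of_abcd h2 A B C D hA hB hC hD hAB hCD hAC hAD hBC hBD

/-- (T1f) -/
theorem R_eq_conj (h2 : (2 : F) ≠ 0) {i : F} (hi : i ^ 2 = -1) (R : Subgroup (GL (Fin 4) F))
    (hR : IsPauliLike i R) (P : GL (Fin 4) F) (a b c d : GL (Fin 4) F)
    (ha : a ∈ R) (hb : b ∈ R) (hc : c ∈ R) (hd : d ∈ R)
    (hPa : (a : Matrix (Fin 4) (Fin 4) F) * (P : Matrix (Fin 4) (Fin 4) F) = (P : Matrix (Fin 4) (Fin 4) F) * mZ1)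
    (hPb : (b : Matrix (Fin 4) (Fin 4) F) * (P : Matrix (Fin 4) (Fin 4) F) = (P : Matrix (Fin 4) (Fin 4) F) * mX1)
    (hPc : (c : Matrix (Fin 4) (Fin 4) F) * (P : Matrix (Fin 4) (Fin 4) F) = (P : Matrix (Fin 4) (Fin 4) F) * mZ2)
    (hPd : (d : Matrix (Fin 4) (Fin 4) F) * (P : Matrix (Fin 4) (Fin 4) F) = (P : Matrix (Fin 4) (Fin 4) F) * mX2) :
    R = (R0 i hi).map (MulAut.conj P).toMonoidHom :=
  Cfsg.Agent.Helper66.P4.R_eq_conj h2 hi R hR P a b c d ha hb hc hd hPa hPb hPc hPd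

/-- (T2) transfer of the fixed-point condition along conjugation by `P` -/
theorem transfer {i : F} (hi : i ^ 2 = -1) (R : Subgroup (GL (Fin 4) F)) (P : GL (Fin 4) F)
    (hRP : R = (R0 i hi).map (MulAut.conj P).toMonoidHom) (r : ℕ) :
    (∀ x ∈ specialLinear (Fin 4) F,
      (∃ z : F, ((x ^ r : GL (Fin 4) F) : Matrix (Fin 4) (Fin 4) F) = z • 1) →
      (∀ z : F, (x : Matrix (Fin 4) (Fin 4) F) ≠ z • 1) →
      ∃ g ∈ specialLinear (Fin 4) F, g⁻¹ * x * g ∈ subgroupNormalizer R) ↔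
    (∀ x ∈ specialLinear (Fin 4) F,
      (∃ z : F, ((x ^ r : GL (Fin 4) F) : Matrix (Fin 4) (Fin 4) F) = z • 1) →
      (∀ z : F, (x : Matrix (Fin 4) (Fin 4) F) ≠ z • 1) →
      ∃ g ∈ specialLinear (Fin 4) F, g⁻¹ * x * g ∈ N0 i hi) :=
  Cfsg.Agent.Helper66.P4.transfer hi R P hRP r

end Cfsg.Agent.Helper99.P4Glue
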