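import Mathlib
import Cfsg.Agent.Helper99.P4Defs
import Cfsg.Agent.Helper99.P4Glue

/-!
# S6000 : restrictions on elements of `N0` whose `r`-th power is scalar
-/

set_option autoImplicit false
open scoped MatrixGroups

namespace Cfsg.Agent.Helper99.P4N

open Matrix Cfsg.Agent.Helper99.P4 Cfsg.Agent.Helper99.P4Glue Cfsg.Geo

variable {F : Type*} [Field F]

theorem sg_ne_zero (t : ZMod 2) : (sg t : F) ≠ 0 := by
  rcases sg_eq (F := F) t with h | h <;> rw [h] <;> simp

/-- the fixed set of `σ` -/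
def Fix (σ : V4 → V4) : Finset V4 := Finset.univ.filter (fun v : V4 => σ v = v)

theorem mem_Fix (σ : V4 → V4) (v : V4) : v ∈ Fix σ ↔ σ v = v := by
  simp [Fix]

theorem core {i : F} (hi : i ^ 2 = -1) (h2 : (2 : F) ≠ 0) (g : GL (Fin 4) F) (hg : g ∈ N0 i hi)
    (r : ℕ) (hr : r.Prime) (z : F)
    (hz : ((g ^ r : GL (Fin 4) F) : Matrix (Fin 4) (Fin 4) F) = z • 1) :
    ∃ (σ : V4 → V4) (lam : V4 → F),
      (∀ v, (g : Matrix (Fin 4) (Fin 4) F) * pw v =
        lam v • (pw (σ v) * (g : Matrix (Fin 4) (Fin 4) F))) ∧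
      (∀ u v, σ (u + v) = σ u + σ v) ∧ (∀ v, σ^[r] v = v) ∧
      (∀ u v, bil (σ u) (σ v) = bil u v) ∧
      ((Fix σ).card ∈ ({1, 2, 4, 8, 16} : Set ℕ)) ∧ 16 ≡ (Fix σ).card [MOD r] ∧
      ((Matrix.trace (g : Matrix (Fin 4) (Fin 4) F) *
          Matrix.trace ((g⁻¹ : GL (Fin 4) F) : Matrix (Fin 4) (Fin 4) F) = ((Fix σ).card : F) ∧
          ∀ v ∈ Fix σ, lam v = 1) ∨
        Matrix.trace (g : Matrix (Fin 4) (Fin 4) F) *
          Matrix.trace ((g⁻¹ : GL (Fin 4) F) : Matrix (Fin 4) (Fin 4) F) = 0) := by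
  obtain ⟨σ, lam, h⟩ := exists_sigma hi g hg
  have hrel : ∀ v, (g : Matrix (Fin 4) (Fin 4) F) * pw v =
      lam v • (pw (σ v) * (g : Matrix (Fin 4) (Fin 4) F)) := fun v => (h v).1
  have hadd : ∀ u v, σ (u + v) = σ u + σ v := fun u v => (sigma_add h2 g σ lam hrel u v).1
  have hpow : ∀ v, σ^[r] v = v := fun v => sigma_pow h2 g σ lam hrel r z hz v
  have hbil : ∀ u v, bil (σ u) (σ v) = bil u v := fun u v => sigma_bil h2 g σ lam hrel u v
  obtain ⟨hc1, hc2⟩ := fix_card σ hadd r hr hpow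
  have h0 : σ 0 = 0 := by
    have := hadd 0 0
    rw [add_zero] at this
    exact left_eq_add.mp this
  have hF0 : (0 : V4) ∈ Fix σ := (mem_Fix σ 0).mpr h0
  have hFadd : ∀ u ∈ Fix σ, ∀ v ∈ Fix σ, u + v ∈ Fix σ := by
    intro u hu v hv
    rw [mem_Fix] at hu hv ⊢
    rw [hadd, hu, hv]
  have hFmul : ∀ u ∈ Fix σ, ∀ v ∈ Fix σ, lam (u + v) = lam u * lam v := by
    intro u hu v hv
    rw [mem_Fix] at hu hv
    have := (sigma_add h2 g σ lam hrel u v).2
    rw [hu, hv] at this
    exact mul_right_cancel₀ (sg_ne_zero _) this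
  have htr := trace_identity h2 g σ lam hrel
  refine ⟨σ, lam, hrel, hadd, hpow, hbil, hc1, hc2, ?_⟩
  rcases sum_fix lam (Fix σ) hF0 hFadd hFmul with ⟨hs, hall⟩ | hs
  · left
    exact ⟨by rw [htr]; exact hs, hall⟩
  · right
    rw [htr]; exact hs

theorem scalar_of_all (h2 : (2 : F) ≠ 0) (g : GL (Fin 4) F) (σ : V4 → V4) (lam : V4 → F)
    (hrel : ∀ v, (g : Matrix (Fin 4) (Fin 4) F) * pw v =
      lam v • (pw (σ v) * (g : Matrix (Fin 4) (Fin 4) F)))
    (hcard : (Fix σ).card = 16) (hall : ∀ v ∈ Fix σ, lam v = 1) :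
    ∃ c : F, (g : Matrix (Fin 4) (Fin 4) F) = c • 1 := by
  have huniv : Fix σ = Finset.univ := by
    apply Finset.eq_univ_of_card
    rw [hcard]
    decide
  apply scalar_of_commute h2
  intro v
  have hv : v ∈ Fix σ := by rw [huniv]; exact Finset.mem_univ v
  have h1 := hrel v
  rw [hall v hv, (mem_Fix σ v).mp hv, one_smul] at h1
  exact h1

/-- elements of `N0` with scalar cube -/
theorem restrict3 {i : F} (hi : i ^ 2 = -1) (h2 : (2 : F) ≠ 0) (g : GL (Fin 4) F)
    (hg : g ∈ N0 i hi)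
    (hz : ∃ z : F, ((g ^ 3 : GL (Fin 4) F) : Matrix (Fin 4) (Fin 4) F) = z • 1)
    (hns : ∀ z : F, (g : Matrix (Fin 4) (Fin 4) F) ≠ z • 1) :
    Matrix.trace (g : Matrix (Fin 4) (Fin 4) F) * Matrix.trace ((g⁻¹ : GL (Fin 4) F) : Matrix (Fin 4) (Fin 4) F) = 0 ∨
    Matrix.trace (g : Matrix (Fin 4) (Fin 4) F) * Matrix.trace ((g⁻¹ : GL (Fin 4) F) : Matrix (Fin 4) (Fin 4) F) = 1 ∨
    Matrix.trace (g : Matrix (Fin 4) (Fin 4) F) * Matrix.trace ((g⁻¹ : GL (Fin 4) F) : Matrix (Fin 4) (Fin 4) F) = 4 := by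
  obtain ⟨z, hz⟩ := hz
  obtain ⟨σ, lam, hrel, -, -, -, hc1, hc2, hcase⟩ := core hi h2 g hg 3 Nat.prime_three z hz
  rcases hcase with ⟨hs, hall⟩ | hs
  · simp only [Set.mem_insert_iff, Set.mem_singleton_iff] at hc1
    rcases hc1 with h | h | h | h | h
    · right; left; rw [hs, h]; simp
    · exfalso; rw [h] at hc2; revert hc2; decide
    · right; right; rw [hs, h]; norm_num
    · exfalso; rw [h] at hc2; revert hc2; decide
    · exfalso
      obtain ⟨c, hc⟩ := scalar_of_all h2 g σ lam hrel h hall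
      exact hns c hc
  · left; exact hs

/-- elements of `N0` with scalar fifth power -/
theorem restrict5 {i : F} (hi : i ^ 2 = -1) (h2 : (2 : F) ≠ 0) (g : GL (Fin 4) F)
    (hg : g ∈ N0 i hi)
    (hz : ∃ z : F, ((g ^ 5 : GL (Fin 4) F) : Matrix (Fin 4) (Fin 4) F) = z • 1)
    (hns : ∀ z : F, (g : Matrix (Fin 4) (Fin 4) F) ≠ z • 1) :
    Matrix.trace (g : Matrix (Fin 4) (Fin 4) F) * Matrix.trace ((g⁻¹ : GL (Fin 4) F) : Matrix (Fin 4) (Fin 4) F) = 0 ∨
    Matrix.trace (g : Matrix (Fin 4) (Fin 4) F) * Matrix.trace ((g⁻¹ : GL (Fin 4) F) : Matrix (Fin 4) (Fin 4) F) = 1 := by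
  obtain ⟨z, hz⟩ := hz
  obtain ⟨σ, lam, hrel, -, -, -, hc1, hc2, hcase⟩ := core hi h2 g hg 5 Nat.prime_five z hz
  rcases hcase with ⟨hs, hall⟩ | hs
  · simp only [Set.mem_insert_iff, Set.mem_singleton_iff] at hc1
    rcases hc1 with h | h | h | h | h
    · right; rw [hs, h]; simp
    · exfalso; rw [h] at hc2; revert hc2; decide
    · exfalso; rw [h] at hc2; revert hc2; decide
    · exfalso; rw [h] at hc2; revert hc2; decide
    · exfalso
      obtain ⟨c, hc⟩ := scalar_of_all h2 g σ lam hrel h hall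
      exact hns c hc
  · left; exact hs

/-- for a prime `r ≥ 7`, elements of `N0` with scalar `r`-th power are scalar -/
theorem scalar_of_pow_ge7 {i : F} (hi : i ^ 2 = -1) (h2 : (2 : F) ≠ 0) (r : ℕ) (hr : r.Prime)
    (h7 : 7 ≤ r) (g : GL (Fin 4) F) (hg : g ∈ N0 i hi)
    (hz : ∃ z : F, ((g ^ r : GL (Fin 4) F) : Matrix (Fin 4) (Fin 4) F) = z • 1) :
    ∃ z : F, (g : Matrix (Fin 4) (Fin 4) F) = z • 1 := by
  obtain ⟨z, hz⟩ := hz
  obtain ⟨σ, lam, hrel, hadd, hpow, hbil, hc1, hc2, -⟩ := core hi h2 g hg r hr z hz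
  -- the fixed set is everything
  have hcard : (Fix σ).card = 16 := by
    have hle : (Fix σ).card ≤ 16 := by
      simp only [Set.mem_insert_iff, Set.mem_singleton_iff] at hc1
      rcases hc1 with h | h | h | h | h <;> omega
    have hdvd : r ∣ 16 - (Fix σ).card := (Nat.modEq_iff_dvd' hle).mp hc2.symm
    by_cases h7' : r = 7
    · subst h7'
      have hne : (Fix σ).card ≠ 2 := no_fix_two σ hadd hbil hpow
      simp only [Set.mem_insert_iff, Set.mem_singleton_iff] at hc1
      rcases hc1 with h | h | h | h | h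
      · exfalso; rw [h] at hdvd; revert hdvd; decide
      · exact absurd h hne
      · exfalso; rw [h] at hdvd; revert hdvd; decide
      · exfalso; rw [h] at hdvd; revert hdvd; decide
      · exact h
    · have h11 : 11 ≤ r := by
        have h8 : r ≠ 8 := by rintro rfl; revert hr; decide
        have h9 : r ≠ 9 := by rintro rfl; revert hr; decide
        have h10 : r ≠ 10 := by rintro rfl; revert hr; decide
        omega
      simp only [Set.mem_insert_iff, Set.mem_singleton_iff] at hc1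
      rcases hc1 with h | h | h | h | h
      · exfalso
        rw [h] at hdvd
        have := Nat.le_of_dvd (by norm_num) hdvd
        have h15 : r ∣ 15 := hdvd
        have : r = 15 ∨ r < 15 := by omega
        have h3 : r ∣ 3 * 5 := h15
        rcases (Nat.Prime.dvd_mul hr).mp h3 with h' | h'
        · have := Nat.le_of_dvd (by norm_num) h'; omega
        · have := Nat.le_of_dvd (by norm_num) h'; omega
      · exfalso
        rw [h] at hdvd
        have h14 : r ∣ 2 * 7 := hdvd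
        rcases (Nat.Prime.dvd_mul hr).mp h14 with h' | h'
        · have := Nat.le_of_dvd (by norm_num) h'; omega
        · have := Nat.le_of_dvd (by norm_num) h'; omega
      · exfalso
        rw [h] at hdvd
        have h12 : r ∣ 12 := hdvd
        have := Nat.le_of_dvd (by norm_num) h12
        have h12' : r ∣ 4 * 3 := h12
        rcases (Nat.Prime.dvd_mul hr).mp h12' with h' | h'
        · have := Nat.le_of_dvd (by norm_num) h'; omega
        · have := Nat.le_of_dvd (by norm_num) h'; omega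
      · exfalso
        rw [h] at hdvd
        have := Nat.le_of_dvd (by norm_num) hdvd
        omega
      · exact h
  have huniv : Fix σ = Finset.univ := by
    apply Finset.eq_univ_of_card
    rw [hcard]
    decide
  have hσ : ∀ v, σ v = v := fun v => (mem_Fix σ v).mp (by rw [huniv]; exact Finset.mem_univ v)
  have hrel' : ∀ v, (g : Matrix (Fin 4) (Fin 4) F) * pw v =
      lam v • (pw v * (g : Matrix (Fin 4) (Fin 4) F)) := by
    intro v
    have := hrel v
    rw [hσ v] at this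
    exact this
  obtain ⟨s, u, hsu⟩ := scalar_mul_pw_of_sigma_id h2 g lam hrel'
  have hs : s ≠ 0 := by
    rintro rfl
    rw [zero_smul] at hsu
    have hdet := Matrix.GeneralLinearGroup.det_ne_zero g
    rw [hsu] at hdet
    simp at hdet
  have hodd : Odd r := hr.odd_of_ne_two (by omega)
  have hpow' : (s • (pw u : Matrix (Fin 4) (Fin 4) F)) ^ r = z • 1 := by
    rw [← hsu, ← Units.val_pow_eq_pow_val, hz]
  have hu : u = 0 := pw_zero_of_pow_scalar h2 s hs u r hodd z hpow'
  refine ⟨s, ?_⟩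
  rw [hsu, hu, pw_zero]

end Cfsg.Agent.Helper99.P4N
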