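import Mathlib
import Cfsg.Agent.Helper99.P4Defs
import Cfsg.Agent.Helper99.P4Glue

/-!
# S6000 : the positive cases `r = 2, 3, 5`
-/

set_option autoImplicit false
open scoped MatrixGroups

namespace Cfsg.Agent.Helper99.P4Pos

open Matrix Cfsg.Agent.Helper99.P4 Cfsg.Agent.Helper99.P4Glue Cfsg.Geo

variable {F : Type*} [Field F]

theorem exists_gl_of_pow_eq_one (A : Matrix (Fin 4) (Fin 4) F) (m : ℕ) (hm : m ≠ 0)
    (hA : A ^ m = 1) : ∃ g : GL (Fin 4) F, g.val = A ∧ g ^ m = 1 := by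
  obtain ⟨t, rfl⟩ : ∃ t, m = t + 1 := ⟨m - 1, by omega⟩
  refine ⟨⟨A, A ^ t, by rw [← pow_succ', hA], by rw [← pow_succ, hA]⟩, rfl, ?_⟩
  apply Units.ext
  rw [Units.val_pow_eq_pow_val]
  exact hA

/-- the scalar `c • 1` as an element of `GL` -/
def scG (c : F) (hc : c ≠ 0) : GL (Fin 4) F :=
  ⟨c • 1, c⁻¹ • 1, by rw [smul_mul_smul_comm, mul_inv_cancel₀ hc, one_smul, Matrix.one_mul],
    by rw [smul_mul_smul_comm, inv_mul_cancel₀ hc, one_smul, Matrix.one_mul]⟩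

@[simp] theorem scG_val (c : F) (hc : c ≠ 0) :
    ((scG c hc : GL (Fin 4) F) : Matrix (Fin 4) (Fin 4) F) = c • 1 := rfl

theorem scG_comm (c : F) (hc : c ≠ 0) (g : GL (Fin 4) F) : scG c hc * g = g * scG c hc := by
  apply Units.ext
  simp [Units.val_mul]

/-- the generic positive step -/
theorem pos_of_rep [Fintype F] {i : F} (hi : i ^ 2 = -1) (x : GL (Fin 4) F) (c : F) (hc : c ≠ 0)
    (m : ℕ) (hm : (m : F) ≠ 0)
    (hy : (c⁻¹ • (x : Matrix (Fin 4) (Fin 4) F)) ^ m = 1) (M : Matrix (Fin 4) (Fin 4) F) (s : F)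
    (hs : s ≠ 0) (hM : (s⁻¹ • M) ^ m = 1)
    (hMN : ∀ t : GL (Fin 4) F, (t : Matrix (Fin 4) (Fin 4) F) = M → t ∈ N0 i hi)
    (hchar : (c⁻¹ • (x : Matrix (Fin 4) (Fin 4) F)).charpoly = (s⁻¹ • M).charpoly) :
    ∃ g ∈ specialLinear (Fin 4) F, g⁻¹ * x * g ∈ N0 i hi := by
  have hm0 : m ≠ 0 := by
    rintro rfl
    exact hm Nat.cast_zero
  obtain ⟨Y, hYv, hYm⟩ := exists_gl_of_pow_eq_one _ m hm0 hy
  obtain ⟨Z, hZv, hZm⟩ := exists_gl_of_pow_eq_one _ m hm0 hM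
  obtain ⟨g, hg, hgYZ⟩ := sl_conj_of_charpoly Y Z m hm hYm hZm (by rw [hYv, hZv]; exact hchar)
  refine ⟨g, hg, ?_⟩
  -- `x = scG c * Y`
  have hxY : x = scG c hc * Y := by
    apply Units.ext
    rw [Units.val_mul, scG_val, hYv, Matrix.smul_mul, Matrix.one_mul, smul_smul,
      mul_inv_cancel₀ hc, one_smul]
  -- `Z = scG s⁻¹ * Mg`
  have hsi : s⁻¹ ≠ 0 := inv_ne_zero hs
  set Mg : GL (Fin 4) F := scG s hs * Z with hMg
  have hMgv : (Mg : Matrix (Fin 4) (Fin 4) F) = M := by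
    rw [hMg, Units.val_mul, scG_val, hZv, Matrix.smul_mul, Matrix.one_mul, smul_smul,
      mul_inv_cancel₀ hs, one_smul]
  have hMgN : Mg ∈ N0 i hi := hMN Mg hMgv
  have hZN : Z ∈ N0 i hi := by
    have : Z = (scG s hs)⁻¹ * Mg := by rw [hMg, inv_mul_cancel_left]
    rw [this]
    exact (N0 i hi).mul_mem ((N0 i hi).inv_mem (scalar_mem_N0 hi _ s (scG_val s hs))) hMgN
  have : g⁻¹ * x * g = scG c hc * Z := by
    rw [hxY, ← hgYZ]
    rw [← mul_assoc g⁻¹, ← scG_comm c hc g⁻¹]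
    group
  rw [this]
  exact (N0 i hi).mul_mem (scalar_mem_N0 hi _ c (scG_val c hc)) hZN

theorem z_ne_zero (x : GL (Fin 4) F) (r : ℕ) (z : F)
    (hz : ((x ^ r : GL (Fin 4) F) : Matrix (Fin 4) (Fin 4) F) = z • 1) : z ≠ 0 := by
  rintro rfl
  have hdet := Matrix.GeneralLinearGroup.det_ne_zero (x ^ r)
  rw [hz] at hdet
  simp at hdet

theorem scaled_pow (x : GL (Fin 4) F) (r : ℕ) (z c : F) (hc : c ≠ 0) (hcz : c ^ r = z)
    (hz : ((x ^ r : GL (Fin 4) F) : Matrix (Fin 4) (Fin 4) F) = z • 1) :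
    (c⁻¹ • (x : Matrix (Fin 4) (Fin 4) F)) ^ r = 1 := by
  rw [_root_.smul_pow, ← Units.val_pow_eq_pow_val, hz, smul_smul, ← hcz, inv_pow,
    inv_mul_cancel₀ (pow_ne_zero r hc), one_smul]

theorem not_scaled_one (x : GL (Fin 4) F) (c : F) (hc : c ≠ 0)
    (hns : ∀ z : F, (x : Matrix (Fin 4) (Fin 4) F) ≠ z • 1) (d : F) :
    c⁻¹ • (x : Matrix (Fin 4) (Fin 4) F) ≠ d • 1 := by
  intro h
  apply hns (c * d)
  have : (x : Matrix (Fin 4) (Fin 4) F) = c • (c⁻¹ • (x : Matrix (Fin 4) (Fin 4) F)) := by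
    rw [smul_smul, mul_inv_cancel₀ hc, one_smul]
  rw [this, h, smul_smul]

/-! ### membership of the explicit elements -/

theorem CZ_mem {i : F} (hi : i ^ 2 = -1) (t : GL (Fin 4) F)
    (ht : (t : Matrix (Fin 4) (Fin 4) F) = CZm) : t ∈ N0 i hi := by
  obtain ⟨-, h1, h2, h3, h4, -⟩ := CZ_rel (F := F)
  apply mem_N0_of_gens hi t
  · exact ⟨0, _, by rw [ht, h1, pow_zero, one_smul]⟩
  · exact ⟨0, _, by rw [ht, h2, pow_zero, one_smul]⟩
  · exact ⟨0, _, by rw [ht, h3, pow_zero, one_smul]⟩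
  · exact ⟨0, _, by rw [ht, h4, pow_zero, one_smul]⟩

theorem negCZ_mem {i : F} (hi : i ^ 2 = -1) (t : GL (Fin 4) F)
    (ht : (t : Matrix (Fin 4) (Fin 4) F) = -CZm) : t ∈ N0 i hi := by
  obtain ⟨-, h1, h2, h3, h4, -⟩ := CZ_rel (F := F)
  apply mem_N0_of_gens hi t
  · exact ⟨0, _, by rw [ht, Matrix.neg_mul, h1, pow_zero, one_smul, Matrix.mul_neg]⟩
  · exact ⟨0, _, by rw [ht, Matrix.neg_mul, h2, pow_zero, one_smul, Matrix.mul_neg]⟩
  · exact ⟨0, _, by rw [ht, Matrix.neg_mul, h3, pow_zero, one_smul, Matrix.mul_neg]⟩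
  · exact ⟨0, _, by rw [ht, Matrix.neg_mul, h4, pow_zero, one_smul, Matrix.mul_neg]⟩

theorem Z1_mem {i : F} (hi : i ^ 2 = -1) (t : GL (Fin 4) F)
    (ht : (t : Matrix (Fin 4) (Fin 4) F) = mZ1) : t ∈ N0 i hi := by
  apply R0_le_N0 hi
  refine ⟨0, (0, 1, 0, 0), ?_⟩
  rw [ht, pow_zero, one_smul]
  simp [pw, z2_v1]

theorem MM_mem {i : F} (hi : i ^ 2 = -1) (t : GL (Fin 4) F)
    (ht : (t : Matrix (Fin 4) (Fin 4) F) = MMm i) : t ∈ N0 i hi := by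
  obtain ⟨-, h1, h2, h3, h4, -⟩ := MM_rel hi
  apply mem_N0_of_gens hi t
  · exact ⟨0, _, by rw [ht, h1, pow_zero, one_smul]⟩
  · exact ⟨1, _, by rw [ht, h2, pow_one]⟩
  · exact ⟨0, _, by rw [ht, h3, pow_zero, one_smul]⟩
  · exact ⟨1, _, by rw [ht, h4, pow_one]⟩

theorem M1_mem {i : F} (hi : i ^ 2 = -1) (t : GL (Fin 4) F)
    (ht : (t : Matrix (Fin 4) (Fin 4) F) = M1m i) : t ∈ N0 i hi := by
  obtain ⟨-, h1, h2, h3, h4, -⟩ := M1_rel hi
  apply mem_N0_of_gens hi t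
  · exact ⟨0, _, by rw [ht, h1, pow_zero, one_smul]⟩
  · exact ⟨1, _, by rw [ht, h2, pow_one]⟩
  · exact ⟨0, _, by rw [ht, h3, pow_zero, one_smul]⟩
  · exact ⟨0, _, by rw [ht, h4, pow_zero, one_smul]⟩

theorem G5_mem {i : F} (hi : i ^ 2 = -1) (t : GL (Fin 4) F)
    (ht : (t : Matrix (Fin 4) (Fin 4) F) = G5m i) : t ∈ N0 i hi := by
  obtain ⟨-, h1, h2, h3, h4, -⟩ := G5_rel hi
  apply mem_N0_of_gens hi t
  · exact ⟨3, _, by rw [ht, h1]⟩
  · exact ⟨0, _, by rw [ht, h2, pow_zero, one_smul]⟩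
  · exact ⟨0, _, by rw [ht, h3, pow_zero, one_smul]⟩
  · exact ⟨0, _, by rw [ht, h4, pow_zero, one_smul]⟩

/-! ### `r = 2` -/

theorem pos_two [Fintype F] {p : ℕ} [Fact p.Prime] [CharP F p] (hF : Fintype.card F = p)
    (hp4 : p % 4 = 1) {i : F} (hi : i ^ 2 = -1) (h2 : (2 : F) ≠ 0) (h3 : (3 : F) ≠ 0)
    (x : GL (Fin 4) F) (hx : x ∈ specialLinear (Fin 4) F)
    (hz : ∃ z : F, ((x ^ 2 : GL (Fin 4) F) : Matrix (Fin 4) (Fin 4) F) = z • 1)
    (hns : ∀ z : F, (x : Matrix (Fin 4) (Fin 4) F) ≠ z • 1) :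
    ∃ g ∈ specialLinear (Fin 4) F, g⁻¹ * x * g ∈ N0 i hi := by
  obtain ⟨z, hz⟩ := hz
  have hz0 := z_ne_zero x 2 z hz
  have hdet : (x : Matrix (Fin 4) (Fin 4) F).det = 1 := by
    have := hx
    rw [specialLinear, MonoidHom.mem_ker] at this
    have h := congrArg Units.val this
    simpa using h
  have hxx : (x : Matrix (Fin 4) (Fin 4) F) * x = z • 1 := by
    rw [← hz, pow_two, Units.val_mul]
  obtain ⟨c, hcz⟩ := square_of_sq_scalar hF hp4 _ hdet z hxx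
  have hc : c ≠ 0 := by
    rintro rfl
    apply hz0
    rw [← hcz]; ring
  have hy := scaled_pow x 2 z c hc hcz hz
  have hyy : (c⁻¹ • (x : Matrix (Fin 4) (Fin 4) F)) * (c⁻¹ • (x : Matrix (Fin 4) (Fin 4) F)) = 1 := by
    rw [← pow_two]; exact hy
  have hone : ((1 : F)⁻¹ • (CZm : Matrix (Fin 4) (Fin 4) F)) = CZm := by rw [inv_one, one_smul]
  obtain ⟨hCZ2, -, -, -, -, hCZtr⟩ := CZ_rel (F := F)
  have h2F : ((2 : ℕ) : F) ≠ 0 := by exact_mod_cast h2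
  rcases invol_trace h2 _ hyy with ⟨-, h1⟩ | htr | htr | htr | ⟨-, h1⟩
  · exact absurd (by rw [h1, one_smul]) (not_scaled_one x c hc hns 1)
  · -- trace 2 : CZ
    refine pos_of_rep hi x c hc 2 h2F hy CZm 1 one_ne_zero (by rw [hone, pow_two, hCZ2])
      (CZ_mem hi) ?_
    rw [hone]
    exact invol_class h2 h3 _ _ hyy hCZ2 (by rw [htr, hCZtr])
  · -- trace 0 : Z1
    have hZ : ((1 : F)⁻¹ • (mZ1 : Matrix (Fin 4) (Fin 4) F)) = mZ1 := by rw [inv_one, one_smul]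
    have hZtr : Matrix.trace (mZ1 : Matrix (Fin 4) (Fin 4) F) = 0 := by
      simp [mZ1, Matrix.trace, Fin.sum_univ_four]
    refine pos_of_rep hi x c hc 2 h2F hy mZ1 1 one_ne_zero (by rw [hZ, pow_two, mZ1_sq])
      (Z1_mem hi) ?_
    rw [hZ]
    exact invol_class h2 h3 _ _ hyy mZ1_sq (by rw [htr, hZtr])
  · -- trace -2 : -CZ
    have hN : ((1 : F)⁻¹ • (-CZm : Matrix (Fin 4) (Fin 4) F)) = -CZm := by rw [inv_one, one_smul]
    have hNsq : (-CZm : Matrix (Fin 4) (Fin 4) F) * (-CZm) = 1 := by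
      rw [Matrix.neg_mul, Matrix.mul_neg, neg_neg, hCZ2]
    refine pos_of_rep hi x c hc 2 h2F hy (-CZm) 1 one_ne_zero (by rw [hN, pow_two, hNsq])
      (negCZ_mem hi) ?_
    rw [hN]
    exact invol_class h2 h3 _ _ hyy hNsq (by rw [htr, Matrix.trace_neg, hCZtr])
  · exact absurd (by rw [h1]; simp) (not_scaled_one x c hc hns (-1))

/-! ### `r = 3` -/

theorem pos_three [Fintype F] {p : ℕ} [Fact p.Prime] [CharP F p] (hF : Fintype.card F = p)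
    (hp3 : p % 3 = 2) {i : F} (hi : i ^ 2 = -1) (h2 : (2 : F) ≠ 0) (h3 : (3 : F) ≠ 0)
    (x : GL (Fin 4) F)
    (hz : ∃ z : F, ((x ^ 3 : GL (Fin 4) F) : Matrix (Fin 4) (Fin 4) F) = z • 1)
    (hns : ∀ z : F, (x : Matrix (Fin 4) (Fin 4) F) ≠ z • 1) :
    ∃ g ∈ specialLinear (Fin 4) F, g⁻¹ * x * g ∈ N0 i hi := by
  obtain ⟨z, hz⟩ := hz
  have hz0 := z_ne_zero x 3 z hz
  have hcop : (Fintype.card F - 1).Coprime 3 := by
    rw [hF]
    have : (p - 1) % 3 = 1 := by omega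
    rw [Nat.coprime_comm, Nat.Prime.coprime_iff_not_dvd Nat.prime_three]
    omega
  obtain ⟨c, hcz⟩ := exists_root (F := F) 3 (by norm_num) hcop z
  have hc : c ≠ 0 := by
    rintro rfl
    apply hz0
    rw [← hcz]; ring
  have hy := scaled_pow x 3 z c hc hcz hz
  have h3F : ((3 : ℕ) : F) ≠ 0 := by exact_mod_cast h3
  have hi0 : i ≠ 0 := by
    rintro rfl
    have : (0 : F) ^ 2 = -1 := hi
    simp at this
  rcases cube_trace h2 hF hp3 _ hy with ⟨-, h1⟩ | htr | htr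
  · exact absurd (by rw [h1, one_smul]) (not_scaled_one x c hc hns 1)
  · -- trace 1 : MM / (-2 i)
    obtain ⟨hM3, -, -, -, -, hMtr⟩ := MM_rel hi
    have hs : (-2 * i : F) ≠ 0 := mul_ne_zero (neg_ne_zero.mpr h2) hi0
    have hs3 : (-2 * i : F) ^ 3 = 8 * i := by
      have : i ^ 3 = -i := by rw [pow_succ, hi]; ring
      calc (-2 * i : F) ^ 3 = -8 * i ^ 3 := by ring
        _ = 8 * i := by rw [this]; ring
    have hMp : ((-2 * i : F)⁻¹ • MMm i) ^ 3 = 1 := by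
      rw [_root_.smul_pow, hM3, smul_smul, inv_pow, hs3, inv_mul_cancel₀, one_smul]
      rw [← hs3]; exact pow_ne_zero 3 hs
    have hMt : Matrix.trace ((-2 * i : F)⁻¹ • MMm i) = 1 := by
      rw [Matrix.trace_smul, hMtr, smul_eq_mul, inv_mul_cancel₀ hs]
    refine pos_of_rep hi x c hc 3 h3F hy (MMm i) (-2 * i) hs hMp (MM_mem hi) ?_
    exact cube_class h2 hF hp3 _ _ hy hMp (by rw [htr, hMt])
  · -- trace -2 : M1 / (i - 1)
    obtain ⟨hM3, -, -, -, -, hMtr⟩ := M1_rel hi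
    have hs : (i - 1 : F) ≠ 0 := by
      intro h
      have h1 : i = 1 := sub_eq_zero.mp h
      rw [h1] at hi
      apply h2
      linear_combination hi
    have hs3 : (i - 1 : F) ^ 3 = 2 + 2 * i := by
      have : i ^ 3 = -i := by rw [pow_succ, hi]; ring
      calc (i - 1 : F) ^ 3 = i ^ 3 - 3 * i ^ 2 + 3 * i - 1 := by ring
        _ = 2 + 2 * i := by rw [this, hi]; ring
    have hMp : ((i - 1 : F)⁻¹ • M1m i) ^ 3 = 1 := by
      rw [_root_.smul_pow, hM3, smul_smul, inv_pow, hs3, inv_mul_cancel₀, one_smul]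
      rw [← hs3]; exact pow_ne_zero 3 hs
    have hMt : Matrix.trace ((i - 1 : F)⁻¹ • M1m i) = -2 := by
      rw [Matrix.trace_smul, hMtr, smul_eq_mul]
      field_simp
      ring
    refine pos_of_rep hi x c hc 3 h3F hy (M1m i) (i - 1) hs hMp (M1_mem hi) ?_
    exact cube_class h2 hF hp3 _ _ hy hMp (by rw [htr, hMt])

/-! ### `r = 5` -/

theorem pos_five [Fintype F] {p : ℕ} [Fact p.Prime] [CharP F p] (hF : Fintype.card F = p)
    (hord : orderOf (p : ZMod 5) = 4) (hp5 : p % 5 = 2 ∨ p % 5 = 3)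
    {i : F} (hi : i ^ 2 = -1) (h2 : (2 : F) ≠ 0) (h5 : (5 : F) ≠ 0)
    (x : GL (Fin 4) F)
    (hz : ∃ z : F, ((x ^ 5 : GL (Fin 4) F) : Matrix (Fin 4) (Fin 4) F) = z • 1)
    (hns : ∀ z : F, (x : Matrix (Fin 4) (Fin 4) F) ≠ z • 1) :
    ∃ g ∈ specialLinear (Fin 4) F, g⁻¹ * x * g ∈ N0 i hi := by
  obtain ⟨z, hz⟩ := hz
  have hz0 := z_ne_zero x 5 z hz
  have hcop : (Fintype.card F - 1).Coprime 5 := by
    rw [hF]
    rw [Nat.coprime_comm, Nat.Prime.coprime_iff_not_dvd Nat.prime_five]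
    omega
  obtain ⟨c, hcz⟩ := exists_root (F := F) 5 (by norm_num) hcop z
  have hc : c ≠ 0 := by
    rintro rfl
    apply hz0
    rw [← hcz]; ring
  have hy := scaled_pow x 5 z c hc hcz hz
  have h5F : ((5 : ℕ) : F) ≠ 0 := by exact_mod_cast h5
  have hi0 : i ≠ 0 := by
    rintro rfl
    have : (0 : F) ^ 2 = -1 := hi
    simp at this
  obtain ⟨hG5, -, -, -, -, -⟩ := G5_rel hi
  have hs : (2 * i : F) ≠ 0 := mul_ne_zero h2 hi0
  have hs5 : (2 * i : F) ^ 5 = 32 * i := by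
    have : i ^ 5 = i := by
      have : i ^ 5 = (i ^ 2) ^ 2 * i := by ring
      rw [this, hi]; ring
    calc (2 * i : F) ^ 5 = 32 * i ^ 5 := by ring
      _ = 32 * i := by rw [this]
  have hGp : ((2 * i : F)⁻¹ • G5m i) ^ 5 = 1 := by
    rw [_root_.smul_pow, hG5, smul_smul, inv_pow, hs5, inv_mul_cancel₀, one_smul]
    rw [← hs5]; exact pow_ne_zero 5 hs
  have hG1 : ((2 * i : F)⁻¹ • G5m i) ≠ 1 := by
    intro h
    have h01 := congrFun (congrFun h 0) 1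
    simp [G5m] at h01
    rcases h01 with h' | h'
    · exact hi0 h'
    · exact h2 h'
  have hy1 : c⁻¹ • (x : Matrix (Fin 4) (Fin 4) F) ≠ 1 := by
    intro h
    exact not_scaled_one x c hc hns 1 (by rw [h, one_smul])
  refine pos_of_rep hi x c hc 5 h5F hy (G5m i) (2 * i) hs hGp (G5_mem hi) ?_
  exact fifth_class hF hord _ _ hy hGp hy1 hG1

end Cfsg.Agent.Helper99.P4Pos
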