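import Mathlib
import Cfsg.Agent.Helper99.P4Defs
import Cfsg.Agent.Helper99.P4Glue
import Cfsg.Agent.Helper99.P4N
import Cfsg.Agent.Helper99.P4Pos
import Cfsg.Agent.Helper59.FieldSubL

/-!
# S6000 : main assembly
-/

set_option autoImplicit false
open scoped MatrixGroups

namespace Cfsg.Agent.Helper99.P4Main

open Matrix Cfsg.Agent.Helper99.P4 Cfsg.Agent.Helper99.P4Glue Cfsg.Geo
open Cfsg.Agent.Helper99.P4N Cfsg.Agent.Helper99.P4Pos

variable {F : Type*} [Field F]

theorem o0 : orderOf (0 : ZMod 5) = 0 := by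
  rw [orderOf_eq_zero_iff']
  intro n hn
  rw [zero_pow (by omega)]
  decide
theorem o2 : orderOf (2 : ZMod 5) = 4 := by
  have h4 : (2 : ZMod 5) ^ (2 ^ (1 + 1)) = 1 := by decide
  have h2' : (2 : ZMod 5) ^ (2 ^ 1) ≠ 1 := by decide
  have := orderOf_eq_prime_pow h2' h4
  simpa using this
theorem o3 : orderOf (3 : ZMod 5) = 4 := by
  have h4 : (3 : ZMod 5) ^ (2 ^ (1 + 1)) = 1 := by decide
  have h2' : (3 : ZMod 5) ^ (2 ^ 1) ≠ 1 := by decide
  have := orderOf_eq_prime_pow h2' h4
  simpa using this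
theorem o4 : orderOf (4 : ZMod 5) = 2 := by
  have h4 : (4 : ZMod 5) ^ (2 ^ (0 + 1)) = 1 := by decide
  have h2' : (4 : ZMod 5) ^ (2 ^ 0) ≠ 1 := by decide
  have := orderOf_eq_prime_pow h2' h4
  simpa using this
theorem ord_iff (p : ℕ) : orderOf (p : ZMod 5) = 4 ↔ (p % 5 = 2 ∨ p % 5 = 3) := by
  have hcast : (p : ZMod 5) = ((p % 5 : ℕ) : ZMod 5) := by rw [ZMod.natCast_mod]
  have hlt : p % 5 < 5 := Nat.mod_lt _ (by norm_num)
  rw [hcast]
  rcases (by omega : p % 5 = 0 ∨ p % 5 = 1 ∨ p % 5 = 2 ∨ p % 5 = 3 ∨ p % 5 = 4) with h | h | h | h | h <;>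
    rw [h]
  · simp [o0]
  · simp
  · simp [o2]
  · simp [o3]
  · simp [o4]

/-- the normal form: `R` is conjugate to the standard group -/
theorem normal_form (h2 : (2 : F) ≠ 0) (R : Subgroup (GL (Fin 4) F)) [Finite R]
    (hRs : IsSymplecticTypeGroup 2 R) (hRi : ActsAbsolutelyIrreducibly (matrixSet R))
    (hRZ : Nat.card (Subgroup.center R) = 4) (hcard : Nat.card R = 64) :
    ∃ (i : F) (hi : i ^ 2 = -1) (P : GL (Fin 4) F),
      R = (R0 i hi).map (MulAut.conj P).toMonoidHom := by
  have hexp : Monoid.exponent R = 4 := by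
    rw [hRs.exponent_eq]; rfl
  have hA1 : ∀ g h : R, g * g ∈ Subgroup.center R ∧ g * h * g⁻¹ * h⁻¹ ∈ Subgroup.center R :=
    fun g h => elemAb_of_symplecticType hRs.pGroup hexp hRs.cyclic_of_characteristic hRZ g h
  obtain ⟨i, hi, hPL⟩ := pauliLike_of_symplecticType h2 R hRs hRi hRZ hA1
  obtain ⟨a, ha, b, hb, c, hc, d, hd, haa, hbb, hcc, hdd, hab, hcd, hac, had, hbc, hbd⟩ :=
    exists_abcd h2 hi R hPL hcard
  obtain ⟨P, hPa, hPb, hPc, hPd⟩ := basis_of_abcd h2 _ _ _ _ haa hbb hcc hdd hab hcd hac had hbc hbd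
  exact ⟨i, hi, P, R_eq_conj h2 hi R hPL P a b c d ha hb hc hd hPa hPb hPc hPd⟩

/-- the statement for the standard group -/
theorem main_std [Fintype F] {p : ℕ} [Fact p.Prime] [CharP F p] (hF : Fintype.card F = p)
    (hp4 : p % 4 = 1) {i : F} (hi : i ^ 2 = -1) (r : ℕ) [Fact r.Prime]
    (hdvd : r ∣ Nat.card (specialLinear (Fin 4) F)) :
    (∀ x ∈ specialLinear (Fin 4) F,
      (∃ z : F, ((x ^ r : GL (Fin 4) F) : Matrix (Fin 4) (Fin 4) F) = z • 1) →
      (∀ z : F, (x : Matrix (Fin 4) (Fin 4) F) ≠ z • 1) →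
      ∃ g ∈ specialLinear (Fin 4) F, g⁻¹ * x * g ∈ N0 i hi) ↔
    (r = 2 ∨ (r = 3 ∧ p % 3 = 2) ∨ (r = 5 ∧ orderOf (p : ZMod 5) = 4)) := by
  have hpprime := (Fact.out : p.Prime)
  have hrprime := (Fact.out : r.Prime)
  have hp5 : 5 ≤ p := by
    have := hpprime.two_le
    by_contra hlt
    push Not at hlt
    have : p = 4 := by omega
    rw [this] at hpprime
    norm_num at hpprime
  have hchar : ∀ n : ℕ, 0 < n → n < p → ((n : ℕ) : F) ≠ 0 := by
    intro n hn hlt h
    have := (CharP.cast_eq_zero_iff F p n).mp h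
    exact absurd (Nat.le_of_dvd hn this) (by omega)
  have h2 : (2 : F) ≠ 0 := by
    have := hchar 2 (by norm_num) (by omega); exact_mod_cast this
  have h3 : (3 : F) ≠ 0 := by
    have := hchar 3 (by norm_num) (by omega); exact_mod_cast this
  have hord_iff := ord_iff p
  constructor
  · intro hall
    by_contra hcon
    push Not at hcon
    obtain ⟨hr2, hr3, hr5⟩ := hcon
    -- produce a derangement
    have hder : ∃ x ∈ specialLinear (Fin 4) F,
        (∃ z : F, ((x ^ r : GL (Fin 4) F) : Matrix (Fin 4) (Fin 4) F) = z • 1) ∧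
        (∀ z : F, (x : Matrix (Fin 4) (Fin 4) F) ≠ z • 1) ∧
        ∀ g : GL (Fin 4) F, g⁻¹ * x * g ∉ N0 i hi := by
      by_cases h3r : r = 3
      · subst h3r
        have hp3 : p % 3 = 1 := by
          have hne : p % 3 ≠ 2 := hr3 rfl
          have hne0 : p % 3 ≠ 0 := by
            intro h0
            have hd : 3 ∣ p := Nat.dvd_of_mod_eq_zero h0
            have := (Nat.prime_dvd_prime_iff_eq Nat.prime_three hpprime).mp hd
            omega
          omega
        obtain ⟨ω, hω⟩ := Cfsg.Agent.Helper59.FieldSub.exists_orderOf_eq (F := F) 3 (by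
          rw [hF]; omega)
        have hω3 : ω ^ 3 = 1 := by rw [← hω]; exact pow_orderOf_eq_one ω
        have hω1 : ω ≠ 1 := by
          intro h
          rw [h, orderOf_one] at hω
          norm_num at hω
        have hωq : ω ^ 2 + ω + 1 = 0 := by
          have : (ω - 1) * (ω ^ 2 + ω + 1) = 0 := by linear_combination hω3
          rcases mul_eq_zero.mp this with h | h
          · exact absurd (sub_eq_zero.mp h) hω1
          · exact h
        have h7 : (7 : F) ≠ 0 := by
          have hp7 : p ≠ 7 := by omega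
          by_cases hlt : 7 < p
          · have := hchar 7 (by norm_num) hlt; exact_mod_cast this
          · have hp57 : p = 5 := by
              have : p ≤ 6 := by omega
              interval_cases p <;> simp_all
            omega
        exact exists_derangement_three hi h2 h3 h7 ω hωq
          (fun g hg hz hns => restrict3 hi h2 g hg hz hns)
      · by_cases h5r : r = 5
        · subst h5r
          have hnord : ¬ (p % 5 = 2 ∨ p % 5 = 3) := fun h => hr5 rfl (hord_iff.mpr h)
          by_cases hp5' : p = 5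
          · subst hp5'
            exact exists_derangement_p hi h2 (p := 5)
              (fun u φ hu hφ hφu t ht => no_transvection hi h2 u φ hu hφ hφu t ht)
          · have hne0 : p % 5 ≠ 0 := by
              intro h0
              have hd : 5 ∣ p := Nat.dvd_of_mod_eq_zero h0
              have := (Nat.prime_dvd_prime_iff_eq Nat.prime_five hpprime).mp hd
              omega
            have hp14 : p % 5 = 1 ∨ p % 5 = 4 := by omega
            obtain ⟨τ, hτ⟩ := exists_tau hF hp4 hp14
            have h5 : (5 : F) ≠ 0 := by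
              have := hchar 5 (by norm_num) (by omega); exact_mod_cast this
            exact exists_derangement_five hi h2 h5 τ hτ
              (fun g hg hz hns => restrict5 hi h2 g hg hz hns)
        · have h7 : 7 ≤ r := by
            have := hrprime.two_le
            have h4 : r ≠ 4 := by rintro rfl; norm_num at hrprime
            have h6 : r ≠ 6 := by rintro rfl; norm_num at hrprime
            omega
          exact exists_derangement_ge7 hi r hrprime h7 hdvd
            (fun g hg hz => scalar_of_pow_ge7 hi h2 r hrprime h7 g hg hz)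
    obtain ⟨x, hx, hz, hns, hno⟩ := hder
    obtain ⟨g, -, hg⟩ := hall x hx hz hns
    exact hno g hg
  · rintro (hr | ⟨hr, hp3⟩ | ⟨hr, hord⟩)
    · subst hr
      intro x hx hz hns
      exact pos_two hF hp4 hi h2 h3 x hx hz hns
    · subst hr
      intro x _ hz hns
      exact pos_three hF hp3 hi h2 h3 x hz hns
    · subst hr
      intro x _ hz hns
      have hp23 := hord_iff.mp hord
      have h5 : (5 : F) ≠ 0 := by
        have hp5' : p ≠ 5 := by omega
        have := hchar 5 (by norm_num) (by omega); exact_mod_cast this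
      exact pos_five hF hord hp23 hi h2 h5 x hz hns

/-- S6000 -/
theorem main [Fintype F] {p : ℕ} [Fact p.Prime] [CharP F p] (hF : Fintype.card F = p)
    (hp4 : p % 4 = 1) (R : Subgroup (GL (Fin 4) F)) (hR : IsLinearSymplecticTypeData 2 R)
    (hR6 : Nat.card R = 2 ^ 6) (r : ℕ) [Fact r.Prime]
    (hΩ : r ∣ (subgroupNormalizer R).relIndex (specialLinear (Fin 4) F)) :
    (∀ x ∈ specialLinear (Fin 4) F,
      (∃ z : F, ((x ^ r : GL (Fin 4) F) : Matrix (Fin 4) (Fin 4) F) = z • 1) →
      (∀ z : F, (x : Matrix (Fin 4) (Fin 4) F) ≠ z • 1) →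
      ∃ g ∈ specialLinear (Fin 4) F, g⁻¹ * x * g ∈ subgroupNormalizer R) ↔
    (r = 2 ∨ (r = 3 ∧ p % 3 = 2) ∨ (r = 5 ∧ orderOf (p : ZMod 5) = 4)) := by
  classical
  have hpprime := (Fact.out : p.Prime)
  have h2 : (2 : F) ≠ 0 := by
    intro h
    have h' : ((2 : ℕ) : F) = 0 := by exact_mod_cast h
    have := (CharP.cast_eq_zero_iff F p 2).mp h'
    have := Nat.le_of_dvd (by norm_num) this
    have := hpprime.two_le
    have : p = 2 := by omega
    omega
  have hRZ : Nat.card (Subgroup.center R) = 4 := by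
    obtain ⟨p', e, -, -, hcase⟩ := hR.field
    rcases hcase with ⟨hodd, -⟩ | ⟨-, -, h, -⟩ | ⟨-, -, hcard, -⟩
    · exact absurd hodd (by decide)
    · exact h
    · simp at hcard
  haveI : Finite R := inferInstance
  obtain ⟨i, hi, P, hRP⟩ := normal_form h2 R hR.symplecticType hR.absIrred hRZ (by rw [hR6]; norm_num)
  rw [transfer hi R P hRP r]
  exact main_std hF hp4 hi r (dvd_trans hΩ (Subgroup.relIndex_dvd_card _ _))

end Cfsg.Agent.Helper99.P4Main
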