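import Mathlib
import Cfsg.Prelude.Def_GeometricClasses
import Cfsg.Agent.Helper99.JordanElt

set_option autoImplicit false

/-!
# Unipotent elements of order `p` permuting the summands of an equidimensional decomposition
-/

namespace Cfsg.Agent.Helper99.PDecomp

open Module Matrix Polynomial
open Cfsg.Agent.Helper43.JT
open Cfsg.Agent.Helper99.KdimSplit
open Cfsg.Agent.Helper99.JordanElt

universe u

variable {F : Type u} [Field F]

/-- `1 + X + ... + X^(p-1) = (X - 1)^(p-1)` in characteristic `p`, evaluated at an endomorphism. -/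
theorem geom_sum_eq_sub_one_pow {p : ℕ} [Fact p.Prime] [CharP F p]
    {V : Type*} [AddCommGroup V] [Module F V] (f : Module.End F V) :
    ∑ k ∈ Finset.range p, f ^ k = (f - 1) ^ (p - 1) := by
  have hp : p.Prime := Fact.out
  have hpoly : ∑ k ∈ Finset.range p, (X : F[X]) ^ k = (X - 1) ^ (p - 1) := by
    have h1 : (∑ k ∈ Finset.range p, (X : F[X]) ^ k) * (X - 1) = X ^ p - 1 := geom_sum_mul X p
    have h2 : ((X : F[X]) - 1) ^ (p - 1) * (X - 1) = X ^ p - 1 := by
      rw [← pow_succ, Nat.sub_add_cancel hp.pos, sub_pow_char, one_pow]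
    have h3 : ((X : F[X]) - 1) ≠ 0 := by
      have : ((X : F[X]) - 1) = X - C 1 := by simp
      rw [this]; exact X_sub_C_ne_zero 1
    exact mul_right_cancel₀ h3 (h1.trans h2.symm)
  have := congrArg (aeval f) hpoly
  simpa using this

variable {n : ℕ}

theorem map_pow_eq {t : ℕ} (f : Module.End F (Fin n → F)) (D : Fin t → Submodule F (Fin n → F))
    (σ : Equiv.Perm (Fin t)) (hσ : ∀ j, (D j).map f = D (σ j)) (k : ℕ) (j : Fin t) :
    (D j).map (f ^ k) = D ((σ ^ k) j) := by
  induction k with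
  | zero =>
    rw [pow_zero, pow_zero, Equiv.Perm.one_apply]
    exact Submodule.map_id _
  | succ k ih =>
    rw [pow_succ', pow_succ', Module.End.mul_eq_comp, Submodule.map_comp, ih, hσ]
    rfl

theorem decomp_injective {t a : ℕ} (D : Fin t → Submodule F (Fin n → F))
    (hD : Cfsg.Geo.IsMDecomposition a D) : Function.Injective D := by
  intro i i' hii
  by_contra hne
  have h1 : Disjoint (D i) (⨆ k, ⨆ (_ : k ≠ i), D k) := hD.indep i
  have h2 : D i ≤ ⨆ k, ⨆ (_ : k ≠ i), D k := by
    rw [hii]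
    exact le_iSup₂_of_le i' (Ne.symm hne) le_rfl
  have h3 : D i = ⊥ := by
    rw [eq_bot_iff]
    exact h1 le_rfl h2
  have h4 := hD.finrank_eq i
  rw [h3, finrank_bot] at h4
  have := hD.pos
  omega


theorem sigma_fixes {p : ℕ} [Fact p.Prime] [CharP F p] {t a : ℕ}
    (f : Module.End F (Fin n → F)) (hfp : f ^ p = 1)
    (D : Fin t → Submodule F (Fin n → F)) (hD : Cfsg.Geo.IsMDecomposition a D)
    (σ : Equiv.Perm (Fin t)) (hσ : ∀ j, (D j).map f = D (σ j))
    (hrank : finrank F ↥(LinearMap.range ((f - 1) ^ (p - 1))) < a) : ∀ j, σ j = j := by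
  classical
  have hp : p.Prime := Fact.out
  by_contra hcon
  push Not at hcon
  obtain ⟨j, hj⟩ := hcon
  have hσp : ∀ i, (σ ^ p) i = i := by
    intro i
    apply decomp_injective D hD
    rw [← map_pow_eq f D σ hσ p i, hfp]
    exact Submodule.map_id _
  have hk : ∀ k, 0 < k → k < p → (σ ^ k) j ≠ j := by
    intro k hk0 hkp heq
    have h1 : Function.IsPeriodicPt (⇑σ) k j := by
      unfold Function.IsPeriodicPt Function.IsFixedPt
      rw [Equiv.Perm.iterate_eq_pow]; exact heq
    have h2 : Function.IsPeriodicPt (⇑σ) p j := by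
      unfold Function.IsPeriodicPt Function.IsFixedPt
      rw [Equiv.Perm.iterate_eq_pow]; exact hσp j
    have h3 := h1.gcd h2
    have h4 : Nat.gcd k p = 1 :=
      Nat.Coprime.symm ((Nat.Prime.coprime_iff_not_dvd hp).mpr (Nat.not_dvd_of_pos_of_lt hk0 hkp))
    rw [h4] at h3
    exact hj h3
  set φ : Module.End F (Fin n → F) := ∑ k ∈ Finset.range p, f ^ k with hφ
  have hφeq : φ = (f - 1) ^ (p - 1) := geom_sum_eq_sub_one_pow f
  have hinj : ∀ d ∈ D j, φ d = 0 → d = 0 := by
    intro d hd h0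
    obtain ⟨p', rfl⟩ : ∃ p', p = p' + 1 := ⟨p - 1, by have := hp.pos; omega⟩
    rw [hφ, Finset.sum_range_succ', LinearMap.add_apply, pow_zero, Module.End.one_apply,
      LinearMap.sum_apply] at h0
    have hrest : ∑ k ∈ Finset.range p', (f ^ (k + 1)) d ∈ ⨆ i, ⨆ (_ : i ≠ j), D i := by
      apply Submodule.sum_mem
      intro k hk'
      rw [Finset.mem_range] at hk'
      have h1 : (f ^ (k + 1)) d ∈ D ((σ ^ (k + 1)) j) := by
        rw [← map_pow_eq f D σ hσ (k + 1) j]
        exact Submodule.mem_map_of_mem hd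
      exact Submodule.mem_iSup_of_mem _ (Submodule.mem_iSup_of_mem (hk (k + 1) (by omega) (by omega)) h1)
    have hd2 : d ∈ ⨆ i, ⨆ (_ : i ≠ j), D i := by
      have : d = -∑ k ∈ Finset.range p', (f ^ (k + 1)) d := by
        rw [eq_neg_iff_add_eq_zero, add_comm]; exact h0
      rw [this]
      exact Submodule.neg_mem _ hrest
    have hdis : Disjoint (D j) (⨆ i, ⨆ (_ : i ≠ j), D i) := hD.indep j
    have := hdis.le_bot ⟨hd, hd2⟩
    simpa using this
  have hle : finrank F ↥(D j) ≤ finrank F ↥(LinearMap.range φ) := by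
    have hinj' : Function.Injective (φ.domRestrict (D j)) := by
      rw [← LinearMap.ker_eq_bot, LinearMap.ker_eq_bot']
      intro d hd0
      have := hinj d.1 d.2 hd0
      exact Subtype.ext this
    rw [← LinearMap.finrank_range_of_inj hinj']
    apply Submodule.finrank_mono
    rintro _ ⟨d, rfl⟩
    exact ⟨d.1, rfl⟩
  rw [hφeq, hD.finrank_eq j] at hle
  omega



/-- If a unipotent `x` of order `p` and Jordan type `μ` with fewer than `a` blocks of size `p`
permutes the summands of a decomposition into `a`-dimensional subspaces, then a sub-multiset of `μ`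
sums to `a`. -/
theorem exists_sub_multiset_of_decomp {p : ℕ} [Fact p.Prime] [CharP F p] {t a : ℕ}
    (x : Matrix (Fin n) (Fin n) F) (hxp : x ^ p = 1) (μ : Multiset ℕ) (hμ : ∀ b ∈ μ, b ≤ p)
    (hk : ∀ l, kdim (Matrix.toLin' (x - 1)) l = minSum μ l) (hsum : μ.sum = n)
    (hcount : μ.count p < a)
    (D : Fin t → Submodule F (Fin n → F)) (hD : Cfsg.Geo.IsMDecomposition a D)
    (σ : Equiv.Perm (Fin t)) (hσ : ∀ j, (D j).map (Matrix.toLin' x) = D (σ j)) :
    ∃ ν : Multiset ℕ, ν ≤ μ ∧ ν.sum = a := by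
  classical
  have hp : p.Prime := Fact.out
  set f : Module.End F (Fin n → F) := Matrix.toLin' x with hf
  have hN : Matrix.toLin' (x - 1) = f - 1 := by
    rw [map_sub, Matrix.toLin'_one]; rfl
  have hfp : f ^ p = 1 := by
    rw [hf, ← Matrix.toLin'_pow, hxp, Matrix.toLin'_one]; rfl
  have hfin : finrank F (Fin n → F) = n := Module.finrank_fin_fun F
  rw [hN] at hk
  have hrank : finrank F ↥(LinearMap.range ((f - 1) ^ (p - 1))) < a := by
    rw [finrank_range_pow_pred (f - 1) μ hk (by rw [hsum, hfin]) p hp.pos hμ]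
    exact hcount
  have hfix := sigma_fixes f hfp D hD σ hσ hrank
  have hinv : ∀ j, ∀ v ∈ D j, (f - 1) v ∈ D j := by
    intro j v hv
    rw [LinearMap.sub_apply, Module.End.one_apply]
    apply Submodule.sub_mem _ _ hv
    have h1 : f v ∈ (D j).map f := Submodule.mem_map_of_mem hv
    rw [hσ j, hfix j] at h1
    exact h1
  have ht := hD.two_le
  let j0 : Fin t := ⟨0, by omega⟩
  set W : Submodule F (Fin n → F) := ⨆ i, ⨆ (_ : i ≠ j0), D i with hW
  have hcompl : IsCompl (D j0) W := by
    refine ⟨hD.indep j0, ?_⟩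
    rw [codisjoint_iff, eq_top_iff, ← hD.iSup_eq_top]
    apply iSup_le
    intro i
    by_cases hi : i = j0
    · rw [hi]; exact le_sup_left
    · exact le_sup_of_le_right (le_iSup₂_of_le i hi le_rfl)
  have hWinv : ∀ v ∈ W, (f - 1) v ∈ W := by
    intro v hv
    have h1 : W.map (f - 1) ≤ W := by
      rw [hW, Submodule.map_iSup]
      apply iSup_le
      intro i
      rw [Submodule.map_iSup]
      apply iSup_le
      intro hi
      refine le_iSup₂_of_le i hi ?_
      rintro _ ⟨w, hw, rfl⟩
      exact hinv i w hw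
    exact h1 (Submodule.mem_map_of_mem hv)
  obtain ⟨ν, hν, hνs⟩ := exists_sub_multiset_of_isCompl (f - 1) μ hk (by rw [hsum, hfin])
    (D j0) W hcompl (hinv j0) hWinv
  exact ⟨ν, hν, by rw [hνs, hD.finrank_eq]⟩


end Cfsg.Agent.Helper99.PDecomp
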