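import Mathlib
import Cfsg.Prelude.Def_Classical
import Cfsg.Agent.Helper99.PGDefs
import Cfsg.Agent.Helper12.PGO7
import Cfsg.Agent.Helper12.PGO8
import Cfsg.Agent.Helper22.PGAP2
import Cfsg.Agent.Helper23.PGG1
import Cfsg.Agent.Helper23.PGG2
import Cfsg.Agent.Helper30.PGO5
import Cfsg.Agent.Helper30.PGS4
import Cfsg.Agent.Helper47.PGS3
import Cfsg.Agent.Helper49.PGS2
import Cfsg.Agent.Helper53.PGAP1
import Cfsg.Agent.Helper53.PGAU2
import Cfsg.Agent.Helper59.PGO1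
import Cfsg.Agent.Helper59.PGO6
import Cfsg.Agent.Helper63.PGM1
import Cfsg.Agent.Helper63.PGM2
import Cfsg.Agent.Helper68.PGG4
import Cfsg.Agent.Helper68.PGO3
import Cfsg.Agent.Helper81.PGAU1
import Cfsg.Agent.Helper81.PGO4
import Cfsg.Agent.Helper87.PGO2
import Cfsg.Agent.Helper87.PGS1
import Cfsg.Agent.Helper93.PGG3
import Cfsg.Agent.Helper93.PGS5
import Cfsg.Agent.Helper99.BCDefs
import Cfsg.Agent.Helper99.BCLin
import Cfsg.Agent.Helper44.Spinor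
import Cfsg.Agent.Helper44.StdForms

/-!
# Glue for S2474 (prime graphs of `Ω_{2n+1}(q)` and `PSp_{2n}(q)` coincide, q odd, n ≥ 3)

Every theorem below is a farmed piece (WANTED #10721 of helper99), restated under a uniform name.  Notation: `OOdd n F` is the isometry
group of `x₀² + Σ xᵢyᵢ`, `SpG n F` is `Sp_{2n}(F)`, `lin g` the endomorphism of an isometry,
`fixS A = ker (A - 1)`, `movS A r = ker (1 + A + ... + A^(r-1))`.
-/

set_option autoImplicit false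

universe u

namespace Cfsg.Agent.Helper99.PGGlue

open Module Matrix Cfsg.Agent.Helper99.BC Cfsg.Agent.Helper99.PG Cfsg.Agent.Helper44

variable {F : Type u} [Field F] [Fintype F]

/-! ## (G) group-theoretic reductions -/

/-- (G1) `|O : Ω| = 4` (`Cfsg.Agent.Helper44.index_Omega_eq_four`, `Ω` is normal), so elements of odd
order lie in `Ω` -/
theorem mem_Omega_of_odd_order (h2 : (2 : F) ≠ 0) (n : ℕ) (hn : 1 ≤ n) (x : OOdd n F)
    (hx : Odd (orderOf x)) : x ∈ Cfsg.Omega F (Cfsg.quadFormOdd n F) :=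
  Cfsg.Agent.Helper23.PG.mem_Omega_of_odd_order h2 n hn x hx

/-- (G2) an element of order `2s` of `Ω` is the same as a commuting pair (order `s`, involution in `Ω`);
use (G1) for `a ∈ Ω` -/
theorem omega_two_mul_iff (h2 : (2 : F) ≠ 0) (n : ℕ) (hn : 1 ≤ n) (s : ℕ) (hs : s.Prime)
    (hs2 : s ≠ 2) :
    (∃ x : OOdd n F, x ∈ Cfsg.Omega F (Cfsg.quadFormOdd n F) ∧ orderOf x = 2 * s) ↔
    ∃ a t : OOdd n F, Commute a t ∧ orderOf a = s ∧ orderOf t = 2 ∧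
      t ∈ Cfsg.Omega F (Cfsg.quadFormOdd n F) :=
  Cfsg.Agent.Helper23.PG.omega_two_mul_iff h2 n hn s hs hs2

/-- (G3) odd orders lift from `PSp` to `Sp` and back (centre of order `≤ 2`, `Cfsg.Agent.S0246.result`;
see `Cfsg.Agent.S2469.exists_lift_orderOf`, `Cfsg.Agent.S2472.orderOf_mk_of_coprime_center`,
`Cfsg.Agent.S2469.coprime_card_center_of_odd`) -/
theorem psp_odd_iff (n : ℕ) (hn : 1 ≤ n) (N : ℕ) (hN : Odd N) :
    N ∈ Set.range (orderOf : Cfsg.PSp n F → ℕ) ↔ ∃ X : SpG n F, orderOf X = N :=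
  Cfsg.Agent.Helper93.PG.psp_odd_iff n hn N hN

/-- (G4) an element of order `2s` of `PSp` is the same as a commuting pair `a, t` in `Sp` with `a` of
order `s`, `t² = ±1`, `t ≠ ±1` (centre of `Sp` is `{±1}`) -/
theorem psp_two_mul_iff (h2 : (2 : F) ≠ 0) (n : ℕ) (hn : 1 ≤ n) (s : ℕ) (hs : s.Prime)
    (hs2 : s ≠ 2) :
    2 * s ∈ Set.range (orderOf : Cfsg.PSp n F → ℕ) ↔
    ∃ a t : SpG n F, Commute a t ∧ orderOf a = s ∧
      ((t : Matrix (Fin n ⊕ Fin n) (Fin n ⊕ Fin n) F) * (t : Matrix (Fin n ⊕ Fin n) (Fin n ⊕ Fin n) F) = 1 ∨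
        (t : Matrix (Fin n ⊕ Fin n) (Fin n ⊕ Fin n) F) * (t : Matrix (Fin n ⊕ Fin n) (Fin n ⊕ Fin n) F) = -1) ∧
      (t : Matrix (Fin n ⊕ Fin n) (Fin n ⊕ Fin n) F) ≠ 1 ∧
      (t : Matrix (Fin n ⊕ Fin n) (Fin n ⊕ Fin n) F) ≠ -1 :=
  Cfsg.Agent.Helper68.PG.psp_two_mul_iff h2 n hn s hs hs2

/-! ## (S) symplectic side -/

/-- (S1) Cauchy with `Cfsg.Agent.Helper5.card_sp` -/
theorem exists_orderOf_sp_char (p : ℕ) [Fact p.Prime] [CharP F p] (m : ℕ) (hm : 1 ≤ m) :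
    ∃ y : SpG m F, orderOf y = p :=
  Cfsg.Agent.Helper87.PG.exists_orderOf_sp_char p m hm

/-- (S2) block embedding `Cfsg.Agent.Helper38.spBlock`: `a = (a₀, 1)`, `t = (1, -1)` -/
theorem sp_pair_of_small (h2 : (2 : F) ≠ 0) (n i : ℕ) (hi : 1 ≤ i) (hin : i < n) (s : ℕ)
    (a₀ : SpG i F) (ha₀ : orderOf a₀ = s) :
    ∃ a t : SpG n F, Commute a t ∧ orderOf a = s ∧
      ((t : Matrix (Fin n ⊕ Fin n) (Fin n ⊕ Fin n) F) * (t : Matrix (Fin n ⊕ Fin n) (Fin n ⊕ Fin n) F) = 1 ∨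
        (t : Matrix (Fin n ⊕ Fin n) (Fin n ⊕ Fin n) F) * (t : Matrix (Fin n ⊕ Fin n) (Fin n ⊕ Fin n) F) = -1) ∧
      (t : Matrix (Fin n ⊕ Fin n) (Fin n ⊕ Fin n) F) ≠ 1 ∧
      (t : Matrix (Fin n ⊕ Fin n) (Fin n ⊕ Fin n) F) ≠ -1 :=
  Cfsg.Agent.Helper49.PG.sp_pair_of_small h2 n i hi hin s a₀ ha₀

/-- (S3) the case `η = n` in `Sp`: `t² = 1` is impossible (eigenspaces of `t` are non-degenerate
`a`-invariant, and `2n ∣ dim` of each, `Cfsg.Agent.Helper38.two_eta_dvd_finrank_range`); so `t² = -1`,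
`a t` has order `4s` and acts freely on the non-zero vectors; `S(x,y) = B(x, t y)` is a non-degenerate
symmetric form invariant under `a` and `t`; count a non-zero fibre of `x ↦ S(x,x)/2`
(`Cfsg.Agent.Helper44.exists_hasType`, `fc_eq_fc_one`, `fc_one_mul`) -/
theorem sp_pair_big_imp (h2 : (2 : F) ≠ 0) (n : ℕ) (hn : 1 ≤ n) (s : ℕ) (hs : s.Prime)
    (hs2 : s ≠ 2) (hsq : ¬ s ∣ Fintype.card F)
    (hmin : ∀ i : ℕ, 0 < i → s ∣ Fintype.card F ^ (2 * i) - 1 → n ∣ i)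
    (a t : SpG n F) (hc : Commute a t) (ha : orderOf a = s)
    (ht : (t : Matrix (Fin n ⊕ Fin n) (Fin n ⊕ Fin n) F) * (t : Matrix (Fin n ⊕ Fin n) (Fin n ⊕ Fin n) F) = 1 ∨
        (t : Matrix (Fin n ⊕ Fin n) (Fin n ⊕ Fin n) F) * (t : Matrix (Fin n ⊕ Fin n) (Fin n ⊕ Fin n) F) = -1)
    (ht1 : (t : Matrix (Fin n ⊕ Fin n) (Fin n ⊕ Fin n) F) ≠ 1)
    (htm : (t : Matrix (Fin n ⊕ Fin n) (Fin n ⊕ Fin n) F) ≠ -1) :
    4 * s ∣ Fintype.card F ^ n - 1 ∨ 4 * s ∣ Fintype.card F ^ n + 1 :=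
  Cfsg.Agent.Helper47.PG.sp_pair_big_imp h2 n hn s hs hs2 hsq hmin a t hc ha ht ht1 htm

/-- (S4) `4s ∣ q^n - 1`: Singer cycle of `GL_n` (`Cfsg.Agent.Helper38.exists_matrix_orderOf`) through
`Cfsg.Agent.Helper40.glToSp`; `4s ∣ q^n + 1`: `Cfsg.Agent.Helper38.exists_sp_orderOf_of_dvd_pow_add_one`;
an element of order `4s` of `Sp` has image of order `4s` or `2s` in `PSp` -/
theorem psp_of_dvd (n : ℕ) (hn : 1 ≤ n) (s : ℕ) (hs : s.Prime) (hs2 : s ≠ 2)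
    (h : 4 * s ∣ Fintype.card F ^ n - 1 ∨ 4 * s ∣ Fintype.card F ^ n + 1) :
    2 * s ∈ Set.range (orderOf : Cfsg.PSp n F → ℕ) :=
  Cfsg.Agent.Helper30.PG.psp_of_dvd n hn s hs hs2 h

/-- (S5) Lagrange with `Cfsg.Agent.Helper5.card_sp` -/
theorem exists_dvd_of_orderOf_sp (n : ℕ) (s : ℕ) (hs : s.Prime) (hsq : ¬ s ∣ Fintype.card F)
    (X : SpG n F) (hX : orderOf X = s) :
    ∃ i : ℕ, 1 ≤ i ∧ i ≤ n ∧ s ∣ Fintype.card F ^ (2 * i) - 1 :=
  Cfsg.Agent.Helper93.PG.exists_dvd_of_orderOf_sp n s hs hsq X hX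

/-! ## (O) orthogonal side -/

/-- (O1) block sum then similarity: `Cfsg.Agent.Helper44.blockDiagIso`, `exists_similarity_odd`,
`isoTransport`, `mem_isometryGroup_smul_iff` -/
theorem exists_blockHom (h2 : (2 : F) ≠ 0) {ι₁ ι₂ : Type} [Fintype ι₁] [DecidableEq ι₁] [Fintype ι₂]
    [DecidableEq ι₂] (Q₁ : QuadraticForm F (ι₁ → F)) (Q₂ : QuadraticForm F (ι₂ → F))
    (h₁ : ∀ x, (∀ y, QuadraticMap.polar Q₁ x y = 0) → x = 0)
    (h₂ : ∀ x, (∀ y, QuadraticMap.polar Q₂ x y = 0) → x = 0) (n : ℕ)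
    (hcard : Fintype.card ι₁ + Fintype.card ι₂ = 2 * n + 1) :
    ∃ Φ : ↥(Cfsg.isometryGroup F ⇑Q₁) × ↥(Cfsg.isometryGroup F ⇑Q₂) →* OOdd n F,
      Function.Injective Φ ∧
      ∀ g, (((Φ g).1 : GL (Unit ⊕ (Fin n ⊕ Fin n)) F) : Matrix (Unit ⊕ (Fin n ⊕ Fin n)) (Unit ⊕ (Fin n ⊕ Fin n)) F).det =
        ((g.1.1 : GL ι₁ F) : Matrix ι₁ ι₁ F).det * ((g.2.1 : GL ι₂ F) : Matrix ι₂ ι₂ F).det :=
  Cfsg.Agent.Helper59.PG.exists_blockHom h2 Q₁ Q₂ h₁ h₂ n hcard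

/-- (O2) e.g. the product of two reflections in orthogonal vectors of equal norm
(`Cfsg.Agent.Helper44.prod_reflT_mem_Omega_iff`), or Cauchy in `Ω` -/
theorem exists_involution_Omega_odd (h2 : (2 : F) ≠ 0) (j : ℕ) (hj : 1 ≤ j) :
    ∃ t : OOdd j F, t ∈ Cfsg.Omega F (Cfsg.quadFormOdd j F) ∧ orderOf t = 2 :=
  Cfsg.Agent.Helper87.PG.exists_involution_Omega_odd h2 j hj

/-- (O3) Cauchy with `Cfsg.Agent.S0286.result` -/
theorem exists_orderOf_char_odd (p : ℕ) [Fact p.Prime] [CharP F p] (hp2 : p ≠ 2) (j : ℕ)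
    (hj : 1 ≤ j) : ∃ u : OOdd j F, orderOf u = p :=
  Cfsg.Agent.Helper68.PG.exists_orderOf_char_odd p hp2 j hj

/-- (O4) e.g. the product of the four reflections in `e₀ ± f₀`, `e₁ ± f₁`
(`Cfsg.Agent.Helper44.prod_reflT_mem_Omega_iff`) -/
theorem exists_involution_Omega_plus (h2 : (2 : F) ≠ 0) (j : ℕ) (hj : 2 ≤ j) :
    ∃ t : ↥(Cfsg.isometryGroup F (Cfsg.quadFormPlus j F)),
      t ∈ Cfsg.Omega F (Cfsg.quadFormPlus j F) ∧ orderOf t = 2 :=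
  Cfsg.Agent.Helper81.PG.exists_involution_Omega_plus h2 j hj

/-- (O5) an element of order `r` of `Sp_{2η}` (`Cfsg.Agent.S2472.exists_orderOf_sp`) has no non-zero
fixed vector (`Cfsg.Agent.Helper38.two_eta_dvd_finrank_range`), so it preserves a non-degenerate
quadratic form (`Cfsg.Agent.Helper44.exists_invariant_quadratic_odd`) -/
theorem exists_evenForm_orderOf (h2 : (2 : F) ≠ 0) (η r : ℕ) (hη : 1 ≤ η) (hr : r.Prime)
    (hr2 : r ≠ 2) (hrq : ¬ r ∣ Fintype.card F) (hdvd : r ∣ Fintype.card F ^ (2 * η) - 1)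
    (hmin : ∀ i : ℕ, 0 < i → r ∣ Fintype.card F ^ (2 * i) - 1 → η ∣ i) :
    ∃ Q₁ : QuadraticForm F (Fin η ⊕ Fin η → F),
      (∀ x, (∀ y, QuadraticMap.polar Q₁ x y = 0) → x = 0) ∧
      ∃ a₁ : ↥(Cfsg.isometryGroup F ⇑Q₁), orderOf a₁ = r :=
  Cfsg.Agent.Helper30.PG.exists_evenForm_orderOf h2 η r hη hr hr2 hrq hdvd hmin

/-- (O6) the case `η = n` in `O_{2n+1}`: `movS` has dimension `2n`, the fixed space is a line, and
a commuting involution of determinant one is `-1` on `movS`, `+1` on the line -/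
theorem structure_of_commuting_involution (h2 : (2 : F) ≠ 0) (n : ℕ) (hn : 1 ≤ n) (s : ℕ)
    (hs : s.Prime) (hs2 : s ≠ 2) (hsq : ¬ s ∣ Fintype.card F)
    (hmin : ∀ i : ℕ, 0 < i → s ∣ Fintype.card F ^ (2 * i) - 1 → n ∣ i)
    (a t : OOdd n F) (hc : Commute a t) (ha : orderOf a = s) (ht : orderOf t = 2)
    (hdet : ((t.1 : GL (Unit ⊕ (Fin n ⊕ Fin n)) F) : Matrix (Unit ⊕ (Fin n ⊕ Fin n)) (Unit ⊕ (Fin n ⊕ Fin n)) F).det = 1) :
    finrank F (fixS (lin a)) = 1 ∧ (∀ y ∈ movS (lin a) s, lin t y = -y) ∧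
      (∀ y ∈ fixS (lin a), lin t y = y) :=
  Cfsg.Agent.Helper59.PG.structure_of_commuting_involution h2 n hn s hs hs2 hsq hmin a t hc ha ht hdet

/-- (O7) the sign of `t = (-1) ⊕ 1` on a level set `X_c`: `⟨a⟩` acts freely off the fixed line `L`,
`t` is an involution with fixed points `X_c ∩ L` (`0` or `2` points), and
`|X_c| = q^(2n) ± q^n` (`Cfsg.Agent.Helper51.BC.card_levelSet_quadFormOdd`) -/
theorem signChar_of_neg_movS (h2 : (2 : F) ≠ 0) (n : ℕ) (hn : 1 ≤ n) (s : ℕ) (hs : s.Prime)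
    (hs2 : s ≠ 2) (hsq : ¬ s ∣ Fintype.card F)
    (a t : OOdd n F) (ha : orderOf a = s) (hfix : finrank F (fixS (lin a)) = 1)
    (hmov : ∀ y ∈ movS (lin a) s, lin t y = -y) (hfx : ∀ y ∈ fixS (lin a), lin t y = y) :
    (s ∣ Fintype.card F ^ n - 1 ∧ ∀ c : F, c ≠ 0 →
      (signChar (Cfsg.quadFormOdd n F) c t = 1 ↔ 4 ∣ Fintype.card F ^ n - 1)) ∨
    (s ∣ Fintype.card F ^ n + 1 ∧ ∀ c : F, c ≠ 0 →
      (signChar (Cfsg.quadFormOdd n F) c t = 1 ↔ 4 ∣ Fintype.card F ^ n + 1)) :=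
  Cfsg.Agent.Helper12.PG.signChar_of_neg_movS h2 n hn s hs hs2 hsq a t ha hfix hmov hfx

/-- (O8) Lagrange with `Cfsg.Agent.S0286.result` -/
theorem exists_dvd_of_orderOf_orth (hodd : Odd (Fintype.card F)) (n : ℕ) (s : ℕ) (hs : s.Prime)
    (hs2 : s ≠ 2) (hsq : ¬ s ∣ Fintype.card F) (x : OOdd n F) (hx : orderOf x = s) :
    ∃ i : ℕ, 1 ≤ i ∧ i ≤ n ∧ s ∣ Fintype.card F ^ (2 * i) - 1 :=
  Cfsg.Agent.Helper12.PG.exists_dvd_of_orderOf_orth hodd n s hs hs2 hsq x hx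

/-! ## (M) models and transfers -/

/-- (M1) Darboux basis: `Cfsg.Agent.Helper38.exists_symplectic_basis` -/
theorem SpModel.real {m N : ℕ} (h : SpModel F m N) : ∃ X : SpG m F, orderOf X = N :=
  Cfsg.Agent.Helper63.PG.SpModel.real h

/-- (M2) coordinates -/
theorem OModel.real {m N : ℕ} (h : OModel F m N) :
    ∃ Q₁ : QuadraticForm F (Fin (2 * m) → F),
      (∀ x, (∀ y, QuadraticMap.polar Q₁ x y = 0) → x = 0) ∧
      ∃ g₁ : ↥(Cfsg.isometryGroup F ⇑Q₁), orderOf g₁ = N :=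
  Cfsg.Agent.Helper63.PG.OModel.real h

section transfer

variable {V : Type u} [AddCommGroup V] [Module F V] [FiniteDimensional F V]

/-- (AU1) uniform transfer `Sp → O`: on `M = movS g N` the form `B` is non-degenerate, `g` has no
non-zero fixed vector and neither has `g²`; `S(x,y) = B(x, (g - g⁻¹) y)` is symmetric, non-degenerate
and `g`-invariant (`Cfsg.Agent.Helper44.exists_invariant_quadratic_odd`); `g|M` has the order of `g` -/
theorem omodel_of_sp (h2 : (2 : F) ≠ 0) (B : LinearMap.BilinForm F V) (hB : B.IsAlt)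
    (hnd : B.Nondegenerate) (g : Module.End F V) (hg : ∀ x y, B (g x) (g y) = B x y)
    (n N : ℕ) (hV : finrank F V = 2 * n) (hN : Odd N) (hNF : (N : F) ≠ 0) (hgN : orderOf g = N) :
    ∃ m : ℕ, m ≤ n ∧ OModel F m N :=
  Cfsg.Agent.Helper81.PG.omodel_of_sp h2 B hB hnd g hg n N hV hN hNF hgN

/-- (AU2) uniform transfer `O → Sp`: the same with `B(x,y) = polar Q x ((g - g⁻¹) y)`, alternating -/
theorem spmodel_of_orth (h2 : (2 : F) ≠ 0) (Q : QuadraticForm F V)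
    (hnd : ∀ x, (∀ y, QuadraticMap.polar Q x y = 0) → x = 0) (g : Module.End F V)
    (hg : ∀ x, Q (g x) = Q x)
    (n N : ℕ) (hV : finrank F V = 2 * n + 1) (hN : Odd N) (hNF : (N : F) ≠ 0) (hgN : orderOf g = N) :
    ∃ m : ℕ, m ≤ n ∧ SpModel F m N :=
  Cfsg.Agent.Helper53.PG.spmodel_of_orth h2 Q hnd g hg n N hV hN hNF hgN

/-- (AP1) transfer `Sp → O` for order `r p`: `a = g ^ p`, `u = g ^ r`, `M = movS a r`; the form
`S(x,y) = B(x, (a - a⁻¹) y)` on `M` is invariant under `g`; if `u ≠ 1` on `M` then `g|M` has order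
`r p`; otherwise `u ≠ 1` on `fixS a`, which is non-degenerate alternating, so `dim M ≤ 2n - 2` -/
theorem omodel_of_sp_char (h2 : (2 : F) ≠ 0) (p : ℕ) [Fact p.Prime] [CharP F p]
    (B : LinearMap.BilinForm F V) (hB : B.IsAlt)
    (hnd : B.Nondegenerate) (g : Module.End F V) (hg : ∀ x y, B (g x) (g y) = B x y)
    (n r : ℕ) (hV : finrank F V = 2 * n) (hr : r.Prime) (hr2 : r ≠ 2) (hrp : r ≠ p)
    (hgN : orderOf g = r * p) :
    (∃ m : ℕ, m ≤ n ∧ OModel F m (r * p)) ∨ (∃ m : ℕ, m + 1 ≤ n ∧ OModel F m r) :=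
  Cfsg.Agent.Helper53.PG.omodel_of_sp_char h2 p B hB hnd g hg n r hV hr hr2 hrp hgN

/-- (AP2) transfer `O → Sp` for order `r p`: as (AP1); if `u = 1` on `M` then `u` is a non-trivial
unipotent isometry of the non-degenerate quadratic space `fixS a`, which therefore has dimension
at least `3`, so `dim M ≤ 2n - 2` -/
theorem spmodel_of_orth_char (h2 : (2 : F) ≠ 0) (p : ℕ) [Fact p.Prime] [CharP F p]
    (Q : QuadraticForm F V)
    (hnd : ∀ x, (∀ y, QuadraticMap.polar Q x y = 0) → x = 0) (g : Module.End F V)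
    (hg : ∀ x, Q (g x) = Q x)
    (n r : ℕ) (hV : finrank F V = 2 * n + 1) (hr : r.Prime) (hr2 : r ≠ 2) (hrp : r ≠ p)
    (hgN : orderOf g = r * p) :
    (∃ m : ℕ, m ≤ n ∧ SpModel F m (r * p)) ∨ (∃ m : ℕ, m + 1 ≤ n ∧ SpModel F m r) :=
  Cfsg.Agent.Helper22.PG.spmodel_of_orth_char h2 p Q hnd g hg n r hV hr hr2 hrp hgN

end transfer

end Cfsg.Agent.Helper99.PGGlue
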