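import Mathlib
import Cfsg.Prelude.Def_Classical
import Cfsg.Agent.Helper99.PGGlue
import Cfsg.Agent.Helper99.PGBridge
import Cfsg.Agent.Helper38.SpBlock

/-!
# S2474: assembly
-/

set_option autoImplicit false
set_option maxHeartbeats 800000

universe u

namespace Cfsg.Agent.Helper99.PG

open Module Matrix Cfsg.Agent.Helper99.BC Cfsg.Agent.Helper99.PGGlue Cfsg.Agent.Helper44

variable {F : Type u} [Field F] [Fintype F]

/-! ## realisations -/

/-- an orthogonal model of dimension `2m` plus an isometry of the standard `(2j+1)`-space -/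
theorem orth_of_omodel (h2 : (2 : F) ≠ 0) {m N j n : ℕ} (h : OModel F m N) (hmn : m + j = n)
    (z : OOdd j F) : ∃ x : OOdd n F, orderOf x = Nat.lcm N (orderOf z) := by
  obtain ⟨Q₁, hQ₁, g₁, hg₁⟩ := OModel.real h
  have hcard : Fintype.card (Fin (2 * m)) + Fintype.card (Unit ⊕ (Fin j ⊕ Fin j)) = 2 * n + 1 := by
    rw [Fintype.card_fin, Fintype.card_sum, Fintype.card_sum, Fintype.card_fin, Fintype.card_unit]
    omega
  obtain ⟨Φ, hinj, -⟩ := exists_blockHom h2 Q₁ (oddForm j F) hQ₁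
    (Cfsg.Agent.Helper44.QType.nondeg_oddForm h2 j) n hcard
  let z' : ↥(Cfsg.isometryGroup F ⇑(oddForm j F)) := z
  refine ⟨Φ (g₁, z'), ?_⟩
  rw [orderOf_injective Φ hinj, Prod.orderOf_mk, hg₁]
  rfl

/-- a symplectic model of dimension `2m` plus an element of `Sp_{2j}` -/
theorem sp_of_spmodel {m N j n : ℕ} (h : SpModel F m N) (hmn : m + j = n)
    (z : SpG j F) : ∃ X : SpG n F, orderOf X = Nat.lcm N (orderOf z) := by
  obtain ⟨X₀, hX₀⟩ := SpModel.real h
  refine ⟨Cfsg.Agent.Helper38.spBlock (F := F) hmn (X₀, z), ?_⟩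
  rw [orderOf_injective _ (Cfsg.Agent.Helper38.spBlock_injective hmn), Prod.orderOf_mk, hX₀]

/-! ## odd orders -/

theorem natCast_ne_zero_of_not_dvd (p : ℕ) [CharP F p] (N : ℕ) (h : ¬ p ∣ N) : (N : F) ≠ 0 := by
  intro h0
  exact h ((CharP.cast_eq_zero_iff F p N).mp h0)

theorem lcm_prime_mul (r p : ℕ) (hr : r.Prime) (hp : p.Prime) (hrp : r ≠ p) :
    Nat.lcm r p = r * p :=
  ((Nat.coprime_primes hr hp).mpr hrp).lcm_eq_mul

/-- odd orders prime to `p` -/
theorem odd_uniform (h2 : (2 : F) ≠ 0) (p : ℕ) [Fact p.Prime] [CharP F p] (n N : ℕ)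
    (hN : Odd N) (hpN : ¬ p ∣ N) :
    (∃ x : OOdd n F, orderOf x = N) ↔ (∃ X : SpG n F, orderOf X = N) := by
  have hNF := natCast_ne_zero_of_not_dvd (F := F) p N hpN
  constructor
  · rintro ⟨x, hx⟩
    obtain ⟨m, hm, hmod⟩ := spmodel_of_orth h2 (oddForm n F)
      (Cfsg.Agent.Helper44.QType.nondeg_oddForm h2 n) (lin x) (fun v => lin_iso x v) n N
      (finrank_odd n) hN hNF (by rw [orderOf_lin, hx])
    obtain ⟨X, hX⟩ := sp_of_spmodel hmod (show m + (n - m) = n by omega) (1 : SpG (n - m) F)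
    refine ⟨X, ?_⟩
    rw [hX, orderOf_one, Nat.lcm_one_right]
  · rintro ⟨X, hX⟩
    obtain ⟨m, hm, hmod⟩ := omodel_of_sp h2 (Cfsg.Agent.Helper99.sympBilin n F)
      Cfsg.Agent.Helper99.sympBilin_isAlt (Cfsg.Agent.S2472.sympBilin_nondegenerate n) (slin X)
      (slin_isometry X) n N (finrank_sp n) hN hNF (by rw [orderOf_slin, hX])
    obtain ⟨x, hx⟩ := orth_of_omodel h2 hmod (show m + (n - m) = n by omega) (1 : OOdd (n - m) F)
    refine ⟨x, ?_⟩
    rw [hx, orderOf_one, Nat.lcm_one_right]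

/-- orders `r p` -/
theorem odd_char (h2 : (2 : F) ≠ 0) (p : ℕ) [hp : Fact p.Prime] [CharP F p] (n r : ℕ)
    (hr : r.Prime) (hr2 : r ≠ 2) (hrp : r ≠ p) :
    (∃ x : OOdd n F, orderOf x = r * p) ↔ (∃ X : SpG n F, orderOf X = r * p) := by
  have hp2 : p ≠ 2 := by
    rintro rfl
    exact h2 (by exact_mod_cast (CharP.cast_eq_zero F 2))
  constructor
  · rintro ⟨x, hx⟩
    rcases spmodel_of_orth_char h2 p (oddForm n F)
      (Cfsg.Agent.Helper44.QType.nondeg_oddForm h2 n) (lin x) (fun v => lin_iso x v) n r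
      (finrank_odd n) hr hr2 hrp (by rw [orderOf_lin, hx]) with ⟨m, hm, hmod⟩ | ⟨m, hm, hmod⟩
    · obtain ⟨X, hX⟩ := sp_of_spmodel hmod (show m + (n - m) = n by omega) (1 : SpG (n - m) F)
      refine ⟨X, ?_⟩
      rw [hX, orderOf_one, Nat.lcm_one_right]
    · obtain ⟨z, hz⟩ := exists_orderOf_sp_char (F := F) p (n - m) (by omega)
      obtain ⟨X, hX⟩ := sp_of_spmodel hmod (show m + (n - m) = n by omega) z
      refine ⟨X, ?_⟩
      rw [hX, hz, lcm_prime_mul r p hr hp.out hrp]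
  · rintro ⟨X, hX⟩
    rcases omodel_of_sp_char h2 p (Cfsg.Agent.Helper99.sympBilin n F)
      Cfsg.Agent.Helper99.sympBilin_isAlt (Cfsg.Agent.S2472.sympBilin_nondegenerate n) (slin X)
      (slin_isometry X) n r (finrank_sp n) hr hr2 hrp (by rw [orderOf_slin, hX])
      with ⟨m, hm, hmod⟩ | ⟨m, hm, hmod⟩
    · obtain ⟨x, hx⟩ := orth_of_omodel h2 hmod (show m + (n - m) = n by omega) (1 : OOdd (n - m) F)
      refine ⟨x, ?_⟩
      rw [hx, orderOf_one, Nat.lcm_one_right]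
    · obtain ⟨z, hz⟩ := exists_orderOf_char_odd (F := F) p hp2 (n - m) (by omega)
      obtain ⟨x, hx⟩ := orth_of_omodel h2 hmod (show m + (n - m) = n by omega) z
      refine ⟨x, ?_⟩
      rw [hx, hz, lcm_prime_mul r p hr hp.out hrp]

/-- the case of two odd primes -/
theorem odd_case (h2 : (2 : F) ≠ 0) (p : ℕ) [hp : Fact p.Prime] [CharP F p] (n : ℕ) (r s : ℕ)
    (hr : r.Prime) (hs : s.Prime) (hrs : r ≠ s) (hr2 : r ≠ 2) (hs2 : s ≠ 2) :
    (∃ x : OOdd n F, orderOf x = r * s) ↔ (∃ X : SpG n F, orderOf X = r * s) := by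
  by_cases hsp : s = p
  · subst hsp
    exact odd_char h2 s n r hr hr2 hrs
  by_cases hrp : r = p
  · subst hrp
    rw [mul_comm]
    exact odd_char h2 r n s hs hs2 hsp
  · apply odd_uniform h2 p n (r * s) ((hr.odd_of_ne_two hr2).mul (hs.odd_of_ne_two hs2))
    intro h
    rcases (Nat.Prime.dvd_mul hp.out).mp h with h | h
    · exact hrp ((Nat.prime_dvd_prime_iff_eq hp.out hr).mp h).symm
    · exact hsp ((Nat.prime_dvd_prime_iff_eq hp.out hs).mp h).symm

end Cfsg.Agent.Helper99.PG
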