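import Mathlib
import Cfsg.Prelude.Def_Classical
import Cfsg.Agent.Helper99.PGGlue
import Cfsg.Agent.Helper99.PGBridge

/-!
# S2474: pairs `(2, s)`
-/

set_option autoImplicit false
set_option maxHeartbeats 800000

universe u

namespace Cfsg.Agent.Helper99.PG

open Module Matrix Cfsg.Agent.Helper99.BC Cfsg.Agent.Helper99.PGGlue Cfsg.Agent.Helper44

variable {F : Type u} [Field F] [Fintype F]

/-- a commuting pair (order `s`, involution of `Ω`) in `O_{2n+1}` -/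
def PairO (F : Type u) [Field F] (n s : ℕ) : Prop :=
  ∃ a t : OOdd n F, Commute a t ∧ orderOf a = s ∧ orderOf t = 2 ∧
    t ∈ Cfsg.Omega F (Cfsg.quadFormOdd n F)

/-- block construction of a pair -/
theorem pairO_of_block (h2 : (2 : F) ≠ 0) {ι₁ ι₂ : Type} [Fintype ι₁] [DecidableEq ι₁] [Fintype ι₂]
    [DecidableEq ι₂] (Q₁ : QuadraticForm F (ι₁ → F)) (Q₂ : QuadraticForm F (ι₂ → F))
    (h₁ : ∀ x, (∀ y, QuadraticMap.polar Q₁ x y = 0) → x = 0)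
    (h₂ : ∀ x, (∀ y, QuadraticMap.polar Q₂ x y = 0) → x = 0) (n : ℕ)
    (hcard : Fintype.card ι₁ + Fintype.card ι₂ = 2 * n + 1) (s : ℕ)
    (a₁ : ↥(Cfsg.isometryGroup F ⇑Q₁)) (ha₁ : orderOf a₁ = s)
    (t₂ : ↥(Cfsg.isometryGroup F ⇑Q₂)) (ht₂ : orderOf t₂ = 2) (ht₂Ω : t₂ ∈ Cfsg.Omega F ⇑Q₂) :
    PairO F n s := by
  obtain ⟨Φ, hinj, -⟩ := exists_blockHom h2 Q₁ Q₂ h₁ h₂ n hcard
  refine ⟨Φ (a₁, 1), Φ (1, t₂), ?_, ?_, ?_, ?_⟩
  · show Φ (a₁, 1) * Φ (1, t₂) = Φ (1, t₂) * Φ (a₁, 1)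
    rw [← map_mul, ← map_mul]
    congr 1
    ext <;> simp
  · rw [orderOf_injective Φ hinj, Prod.orderOf_mk, ha₁, orderOf_one, Nat.lcm_one_right]
  · rw [orderOf_injective Φ hinj, Prod.orderOf_mk, ht₂, orderOf_one, Nat.lcm_one_left]
  · exact map_mem_commutator (Φ.comp (MonoidHom.inr _ _)) ht₂Ω

/-- `(2, p)` on the orthogonal side -/
theorem pairO_char (h2 : (2 : F) ≠ 0) (p : ℕ) [Fact p.Prime] [CharP F p] (hp2 : p ≠ 2) (n : ℕ)
    (hn : 3 ≤ n) : PairO F n p := by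
  obtain ⟨u, hu⟩ := exists_orderOf_char_odd (F := F) p hp2 1 le_rfl
  obtain ⟨t, htΩ, ht⟩ := exists_involution_Omega_plus (F := F) h2 (n - 1) (by omega)
  have hcard : Fintype.card (Unit ⊕ (Fin 1 ⊕ Fin 1)) + Fintype.card (Fin (n - 1) ⊕ Fin (n - 1))
      = 2 * n + 1 := by
    rw [Fintype.card_sum, Fintype.card_sum, Fintype.card_sum, Fintype.card_fin, Fintype.card_fin,
      Fintype.card_unit]
    omega
  exact pairO_of_block h2 (oddForm 1 F) (plusForm (n - 1) F)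
    (Cfsg.Agent.Helper44.QType.nondeg_oddForm h2 1)
    ((polarBilin_nondeg_iff _).mp (nondegenerate_plusForm (n - 1))) n hcard p u hu t ht htΩ

/-- `(2, s)` on the orthogonal side when `η < n` -/
theorem pairO_small (h2 : (2 : F) ≠ 0) (n η s : ℕ) (hη : 1 ≤ η) (hηn : η < n) (hs : s.Prime)
    (hs2 : s ≠ 2) (hsq : ¬ s ∣ Fintype.card F) (hdvd : s ∣ Fintype.card F ^ (2 * η) - 1)
    (hmin : ∀ i : ℕ, 0 < i → s ∣ Fintype.card F ^ (2 * i) - 1 → η ∣ i) : PairO F n s := by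
  obtain ⟨Q₁, hQ₁, a₁, ha₁⟩ := exists_evenForm_orderOf h2 η s hη hs hs2 hsq hdvd hmin
  obtain ⟨t, htΩ, ht⟩ := exists_involution_Omega_odd (F := F) h2 (n - η) (by omega)
  have hcard : Fintype.card (Fin η ⊕ Fin η) + Fintype.card (Unit ⊕ (Fin (n - η) ⊕ Fin (n - η)))
      = 2 * n + 1 := by
    rw [Fintype.card_sum, Fintype.card_sum, Fintype.card_sum, Fintype.card_fin, Fintype.card_fin,
      Fintype.card_unit]
    omega
  exact pairO_of_block h2 Q₁ (oddForm (n - η) F) hQ₁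
    (Cfsg.Agent.Helper44.QType.nondeg_oddForm h2 (n - η)) n hcard s a₁ ha₁ t ht htΩ

/-- the numeric condition in the case `η = n` -/
def NumC (q n s : ℕ) : Prop := 4 * s ∣ q ^ n - 1 ∨ 4 * s ∣ q ^ n + 1

theorem not_dvd_both (q n s : ℕ) (hq : 1 ≤ q) (hs : s.Prime) (hs2 : s ≠ 2) (h1 : s ∣ q ^ n - 1)
    (h2 : s ∣ q ^ n + 1) : False := by
  have hq1 : 1 ≤ q ^ n := Nat.one_le_pow _ _ hq
  have h3 : s ∣ (q ^ n + 1) - (q ^ n - 1) := Nat.dvd_sub h2 h1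
  have h4 : (q ^ n + 1) - (q ^ n - 1) = 2 := by omega
  rw [h4] at h3
  exact hs2 ((Nat.prime_dvd_prime_iff_eq hs Nat.prime_two).mp h3)

theorem four_mul_dvd (s N : ℕ) (hs : s.Prime) (hs2 : s ≠ 2) (h4 : 4 ∣ N) (hsN : s ∣ N) :
    4 * s ∣ N := by
  have hcop : Nat.Coprime 4 s := by
    have : Nat.Coprime 2 s := (Nat.coprime_primes Nat.prime_two hs).mpr (Ne.symm hs2)
    exact Nat.Coprime.pow_left 2 this
  exact hcop.mul_dvd_of_dvd_of_dvd h4 hsN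

/-- `(2, s)` on the orthogonal side when `η = n`: necessity -/
theorem numC_of_pairO (h2 : (2 : F) ≠ 0) (n s : ℕ) (hn : 1 ≤ n) (hs : s.Prime) (hs2 : s ≠ 2)
    (hsq : ¬ s ∣ Fintype.card F)
    (hmin : ∀ i : ℕ, 0 < i → s ∣ Fintype.card F ^ (2 * i) - 1 → n ∣ i) (h : PairO F n s) :
    NumC (Fintype.card F) n s := by
  obtain ⟨a, t, hc, ha, ht, htΩ⟩ := h
  have hdet := det_eq_one_of_mem_Omega n t htΩ
  obtain ⟨hfix, hmov, hfx⟩ :=
    structure_of_commuting_involution h2 n hn s hs hs2 hsq hmin a t hc ha ht hdet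
  rcases signChar_of_neg_movS h2 n hn s hs hs2 hsq a t ha hfix hmov hfx with ⟨hd, hsg⟩ | ⟨hd, hsg⟩
  · left
    exact four_mul_dvd s _ hs hs2
      ((hsg 1 one_ne_zero).mp (hom_eq_one_of_mem_Omega (signChar _ 1) htΩ)) hd
  · right
    exact four_mul_dvd s _ hs hs2
      ((hsg 1 one_ne_zero).mp (hom_eq_one_of_mem_Omega (signChar _ 1) htΩ)) hd

theorem negOne_ne_one {ι : Type} [Fintype ι] [DecidableEq ι] [Nonempty ι] (h2 : (2 : F) ≠ 0)
    (Q : QuadraticForm F (ι → F)) : negOne Q ≠ 1 := by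
  intro h
  obtain ⟨i⟩ := ‹Nonempty ι›
  have h1 := negOne_mulVec Q (Pi.single i (1 : F))
  rw [h, isometryGroup_one_mulVec] at h1
  have h3 := congrFun h1 i
  rw [Pi.neg_apply, Pi.single_eq_same] at h3
  apply h2
  have : (1 : F) + 1 = 0 := by
    nth_rewrite 1 [h3]
    exact neg_add_cancel 1
  rw [← one_add_one_eq_two]
  exact this

theorem negOne_commute {ι : Type} [Fintype ι] [DecidableEq ι]
    (Q : QuadraticForm F (ι → F)) (g : ↥(Cfsg.isometryGroup F ⇑Q)) : g * negOne Q = negOne Q * g := by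
  apply isometryGroup_ext
  intro x
  rw [isometryGroup_mul_mulVec, isometryGroup_mul_mulVec, negOne_mulVec, negOne_mulVec,
    Matrix.mulVec_neg]

/-- `(2, s)` on the orthogonal side when `η = n`: sufficiency -/
theorem pairO_of_numC (h2 : (2 : F) ≠ 0) (n s : ℕ) (hn : 1 ≤ n) (hs : s.Prime) (hs2 : s ≠ 2)
    (hsq : ¬ s ∣ Fintype.card F) (hdvd : s ∣ Fintype.card F ^ (2 * n) - 1)
    (hmin : ∀ i : ℕ, 0 < i → s ∣ Fintype.card F ^ (2 * i) - 1 → n ∣ i)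
    (h : NumC (Fintype.card F) n s) : PairO F n s := by
  have hq : 1 ≤ Fintype.card F := Fintype.card_pos
  obtain ⟨Q₁, hQ₁, a₁, ha₁⟩ := exists_evenForm_orderOf h2 n s hn hs hs2 hsq hdvd hmin
  have hcard : Fintype.card (Fin n ⊕ Fin n) + Fintype.card (Unit ⊕ (Fin 0 ⊕ Fin 0))
      = 2 * n + 1 := by
    rw [Fintype.card_sum, Fintype.card_sum, Fintype.card_sum, Fintype.card_fin, Fintype.card_fin,
      Fintype.card_unit]
    omega
  obtain ⟨Φ, hinj, hdetΦ⟩ := exists_blockHom h2 Q₁ (oddForm 0 F) hQ₁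
    (Cfsg.Agent.Helper44.QType.nondeg_oddForm h2 0) n hcard
  haveI : Nonempty (Fin n ⊕ Fin n) := ⟨Sum.inl ⟨0, by omega⟩⟩
  have hneg2 : orderOf (negOne Q₁) = 2 := by
    haveI : Fact (Nat.Prime 2) := ⟨Nat.prime_two⟩
    apply orderOf_eq_prime
    · rw [pow_two]; exact negOne_mul_self Q₁
    · exact negOne_ne_one h2 Q₁
  set a : OOdd n F := Φ (a₁, 1) with hadef
  set t : OOdd n F := Φ (negOne Q₁, 1) with htdef
  have hc : Commute a t := by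
    show Φ (a₁, 1) * Φ (negOne Q₁, 1) = Φ (negOne Q₁, 1) * Φ (a₁, 1)
    rw [← map_mul, ← map_mul]
    congr 1
    ext : 1
    · exact negOne_commute Q₁ a₁
    · rfl
  have ha : orderOf a = s := by
    rw [hadef, orderOf_injective Φ hinj, Prod.orderOf_mk, ha₁, orderOf_one, Nat.lcm_one_right]
  have ht : orderOf t = 2 := by
    rw [htdef, orderOf_injective Φ hinj, Prod.orderOf_mk, hneg2, orderOf_one, Nat.lcm_one_right]
  have hdet : ((t.1 : GL (Unit ⊕ (Fin n ⊕ Fin n)) F) :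
      Matrix (Unit ⊕ (Fin n ⊕ Fin n)) (Unit ⊕ (Fin n ⊕ Fin n)) F).det = 1 := by
    rw [htdef, hdetΦ]
    have e1 : (((negOne Q₁).1 : GL (Fin n ⊕ Fin n) F) : Matrix (Fin n ⊕ Fin n) (Fin n ⊕ Fin n) F)
        = -1 := by
      show ((-1 : GL (Fin n ⊕ Fin n) F) : Matrix (Fin n ⊕ Fin n) (Fin n ⊕ Fin n) F) = -1
      rw [Units.val_neg, Units.val_one]
    have e2 : ((((1 : ↥(Cfsg.isometryGroup F ⇑(oddForm 0 F)))).1 : GL (Unit ⊕ (Fin 0 ⊕ Fin 0)) F) :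
        Matrix (Unit ⊕ (Fin 0 ⊕ Fin 0)) (Unit ⊕ (Fin 0 ⊕ Fin 0)) F) = 1 := rfl
    show (((negOne Q₁).1 : GL (Fin n ⊕ Fin n) F) : Matrix (Fin n ⊕ Fin n) (Fin n ⊕ Fin n) F).det *
      ((((1 : ↥(Cfsg.isometryGroup F ⇑(oddForm 0 F)))).1 : GL (Unit ⊕ (Fin 0 ⊕ Fin 0)) F) :
        Matrix (Unit ⊕ (Fin 0 ⊕ Fin 0)) (Unit ⊕ (Fin 0 ⊕ Fin 0)) F).det = 1
    rw [e1, e2, Matrix.det_one, mul_one, Matrix.det_neg, Matrix.det_one, mul_one, Fintype.card_sum,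
      Fintype.card_fin, ← two_mul, pow_mul]
    norm_num
  obtain ⟨hfix, hmov, hfx⟩ :=
    structure_of_commuting_involution h2 n hn s hs hs2 hsq hmin a t hc ha ht hdet
  refine ⟨a, t, hc, ha, ht, ?_⟩
  apply mem_Omega_of_signChar h2 n t
  intro c hc0
  rcases signChar_of_neg_movS h2 n hn s hs hs2 hsq a t ha hfix hmov hfx with ⟨hd, hsg⟩ | ⟨hd, hsg⟩
  · rcases h with h | h
    · exact (hsg c hc0).mpr ((dvd_mul_right 4 s).trans h)
    · exact (not_dvd_both _ n s hq hs hs2 hd ((dvd_mul_left s 4).trans h)).elim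
  · rcases h with h | h
    · exact (not_dvd_both _ n s hq hs hs2 ((dvd_mul_left s 4).trans h) hd).elim
    · exact (hsg c hc0).mpr ((dvd_mul_right 4 s).trans h)

end Cfsg.Agent.Helper99.PG
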