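import Mathlib
import Cfsg.Prelude.Def_Classical
import Cfsg.Agent.Helper99.PGGlue
import Cfsg.Agent.Helper99.PGBridge
import Cfsg.Agent.Helper99.PGMain
import Cfsg.Agent.Helper99.PGTwo

/-!
# S2474: the final case analysis
-/

set_option autoImplicit false
set_option maxHeartbeats 800000

universe u

namespace Cfsg.Agent.Helper99.PG

open Module Matrix Cfsg.Agent.Helper99.BC Cfsg.Agent.Helper99.PGGlue Cfsg.Agent.Helper44

variable {F : Type u} [Field F] [Fintype F]

theorem two_ne_zero_of_odd (hodd : Odd (Fintype.card F)) : (2 : F) ≠ 0 := by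
  intro h
  have h1 : ((2 : ℕ) : F) = 0 := by exact_mod_cast h
  obtain ⟨p, hp⟩ := CharP.exists F
  have h3 := (CharP.cast_eq_zero_iff F p 2).mp h1
  haveI : Fact p.Prime := ⟨CharP.char_is_prime F p⟩
  have hp2 : p = 2 := (Nat.prime_dvd_prime_iff_eq (Fact.out) Nat.prime_two).mp h3
  subst hp2
  obtain ⟨f, -, hf⟩ := FiniteField.card F 2
  rw [hf] at hodd
  have : Even (2 ^ (f : ℕ)) := (Nat.even_pow.mpr ⟨even_two, f.pos.ne'⟩)
  exact (Nat.not_odd_iff_even.mpr this) hodd

theorem not_dvd_card_of_ne (p : ℕ) [hp : Fact p.Prime] [CharP F p] (s : ℕ) (hs : s.Prime)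
    (hsp : s ≠ p) : ¬ s ∣ Fintype.card F := by
  obtain ⟨f, -, hf⟩ := FiniteField.card F p
  intro h
  rw [hf] at h
  exact hsp ((Nat.prime_dvd_prime_iff_eq hs hp.out).mp (hs.dvd_of_dvd_pow h))

/-- pairs `(2, s)` -/
theorem two_case (hodd : Odd (Fintype.card F)) (p : ℕ) [hp : Fact p.Prime] [CharP F p] (n : ℕ)
    (hn : 3 ≤ n) (s : ℕ) (hs : s.Prime) (hs2 : s ≠ 2) :
    PairO F n s ↔ 2 * s ∈ Set.range (orderOf : Cfsg.PSp n F → ℕ) := by
  have h2 : (2 : F) ≠ 0 := two_ne_zero_of_odd hodd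
  have hp2 : p ≠ 2 := by
    rintro rfl
    exact h2 (by exact_mod_cast (CharP.cast_eq_zero F 2))
  have hq : 1 ≤ Fintype.card F := Fintype.card_pos
  haveI : Fact s.Prime := ⟨hs⟩
  by_cases hsp : s = p
  · subst hsp
    constructor
    · intro _
      obtain ⟨z, hz⟩ := exists_orderOf_sp_char (F := F) s 1 le_rfl
      exact (psp_two_mul_iff h2 n (by omega) s hs hs2).mpr
        (sp_pair_of_small h2 n 1 le_rfl (by omega) s z hz)
    · intro _
      exact pairO_char h2 s hp2 n hn
  · have hsq : ¬ s ∣ Fintype.card F := not_dvd_card_of_ne p s hs hsp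
    have hiff := dvd_pow_two_mul_sub_one_iff (Fintype.card F) s hq
    have hηpos := etaOrd_pos (Fintype.card F) s hs hsq
    set η := etaOrd (Fintype.card F) s with hηdef
    have hdvd : s ∣ Fintype.card F ^ (2 * η) - 1 := (hiff η).mpr dvd_rfl
    have hmin : ∀ i : ℕ, 0 < i → s ∣ Fintype.card F ^ (2 * i) - 1 → η ∣ i :=
      fun i _ h => (hiff i).mp h
    rcases lt_trichotomy η n with hlt | heq | hgt
    · -- both adjacent
      constructor
      · intro _
        obtain ⟨y, hy⟩ := Cfsg.Agent.S2472.exists_orderOf_sp (F := F) η s η hηpos le_rfl hdvd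
        exact (psp_two_mul_iff h2 n (by omega) s hs hs2).mpr
          (sp_pair_of_small h2 n η hηpos hlt s y hy)
      · intro _
        exact pairO_small h2 n η s hηpos hlt hs hs2 hsq hdvd hmin
    · -- the critical case
      rw [heq] at hdvd hmin
      have hS : 2 * s ∈ Set.range (orderOf : Cfsg.PSp n F → ℕ) ↔ NumC (Fintype.card F) n s := by
        constructor
        · intro h
          obtain ⟨a, t, hc, ha, ht, ht1, htm⟩ := (psp_two_mul_iff h2 n (by omega) s hs hs2).mp h
          exact sp_pair_big_imp h2 n (by omega) s hs hs2 hsq hmin a t hc ha ht ht1 htm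
        · intro h
          exact psp_of_dvd n (by omega) s hs hs2 h
      rw [hS]
      constructor
      · exact numC_of_pairO h2 n s (by omega) hs hs2 hsq hmin
      · exact pairO_of_numC h2 n s (by omega) hs hs2 hsq hdvd hmin
    · -- neither
      constructor
      · rintro ⟨a, t, -, ha, -, -⟩
        obtain ⟨i, hi1, hin, hi⟩ := exists_dvd_of_orderOf_orth hodd n s hs hs2 hsq a ha
        have := Nat.le_of_dvd (by omega) ((hiff i).mp hi)
        omega
      · intro h
        obtain ⟨a, t, -, ha, -, -, -⟩ := (psp_two_mul_iff h2 n (by omega) s hs hs2).mp h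
        obtain ⟨i, hi1, hin, hi⟩ := exists_dvd_of_orderOf_sp n s hs hsq a ha
        have := Nat.le_of_dvd (by omega) ((hiff i).mp hi)
        omega

/-- the statement, with `s` odd -/
theorem key (hodd : Odd (Fintype.card F)) (n : ℕ) (hn : 3 ≤ n) (r s : ℕ) (hr : r.Prime)
    (hs : s.Prime) (hrs : r ≠ s) (hs2 : s ≠ 2) :
    (r * s ∈ Set.range (orderOf : Cfsg.POmega F (Cfsg.quadFormOdd n F) → ℕ)) ↔
      (r * s ∈ Set.range (orderOf : Cfsg.PSp n F → ℕ)) := by
  have h2 : (2 : F) ≠ 0 := two_ne_zero_of_odd hodd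
  obtain ⟨p, hpc⟩ := CharP.exists F
  haveI := hpc
  haveI : Fact p.Prime := ⟨CharP.char_is_prime F p⟩
  rw [mem_range_POmega_iff h2 n hn]
  by_cases hr2 : r = 2
  · subst hr2
    rw [omega_two_mul_iff h2 n (by omega) s hs hs2]
    exact two_case hodd p n hn s hs hs2
  · have hodd' : Odd (r * s) := (hr.odd_of_ne_two hr2).mul (hs.odd_of_ne_two hs2)
    have hcase := odd_case (F := F) h2 p n r s hr hs hrs hr2 hs2
    constructor
    · rintro ⟨x, -, hx⟩
      exact (psp_odd_iff n (by omega) (r * s) hodd').mpr (hcase.mp ⟨x, hx⟩)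
    · intro h
      obtain ⟨x, hx⟩ := hcase.mpr ((psp_odd_iff n (by omega) (r * s) hodd').mp h)
      exact ⟨x, mem_Omega_of_odd_order h2 n (by omega) x (by rw [hx]; exact hodd'), hx⟩

/-- **S2474** -/
theorem prime_graphs_eq (hodd : Odd (Fintype.card F)) (n : ℕ) (hn : 3 ≤ n) (r s : ℕ) (hr : r.Prime)
    (hs : s.Prime) (hrs : r ≠ s) :
    (r * s ∈ Set.range (orderOf : Cfsg.POmega F (Cfsg.quadFormOdd n F) → ℕ)) ↔
      (r * s ∈ Set.range (orderOf : Cfsg.PSp n F → ℕ)) := by
  by_cases hs2 : s = 2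
  · have hr2 : r ≠ 2 := fun h => hrs (h.trans hs2.symm)
    rw [mul_comm]
    exact key hodd n hn s r hs hr (Ne.symm hrs) hr2
  · exact key hodd n hn r s hr hs hrs hs2

end Cfsg.Agent.Helper99.PG
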