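import Mathlib
import Cfsg.Agent.Helper99.QSpEllDefs
import Cfsg.Agent.Helper99.QSpGlue

/-!
# (MC2a) characteristic two: an involutory isometry has an invariant nondegenerate plane or an
invariant hyperbolic nondegenerate 4-space inside every nonzero invariant nondegenerate subspace
-/

set_option autoImplicit false
set_option linter.unusedSectionVars false
set_option linter.unusedVariables false

namespace Cfsg.Agent.Helper99.QSpMC2a

open Module
open Cfsg.Agent.Helper59.InvChain Cfsg.Agent.Helper59.Elusive
open Cfsg.Agent.Helper99.SpStruct Cfsg.Agent.Helper99.RDecomp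
open Cfsg.Agent.Helper44 Cfsg.Agent.Helper44.QType
open Cfsg.Agent.Helper99.QSp

universe u v

variable {F : Type u} [Field F]
variable {V : Type v} [AddCommGroup V] [Module F V]

theorem pB_self_zero (h2 : (2 : F) = 0) (Q : QuadraticForm F V) (v : V) : pB Q v v = 0 := by
  rw [pB_self, h2, zero_mul]

theorem add_self_zero (h2 : (2 : F) = 0) (v : V) : v + v = 0 := by
  rw [← two_smul F v, h2, zero_smul]

/-- a pair with nonzero product spans a nondegenerate plane -/
theorem pair_props (h2 : (2 : F) = 0) (Q : QuadraticForm F V) {u w : V} (h : pB Q u w ≠ 0) :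
    finrank F ↥(Submodule.span F {u, w}) = 2 ∧ Nd (pB Q) (Submodule.span F {u, w}) := by
  have hwu : pB Q w u = pB Q u w := (pB_symm Q).eq w u
  have key : ∀ α β : F, (∀ z ∈ Submodule.span F {u, w}, pB Q z (α • u + β • w) = 0) →
      α = 0 ∧ β = 0 := by
    intro α β hz
    have e1 := hz u (Submodule.subset_span (by simp))
    have e2 := hz w (Submodule.subset_span (by simp))
    rw [map_add, map_smul, map_smul, pB_self_zero h2, smul_eq_mul, smul_eq_mul, mul_zero,
      zero_add] at e1
    rw [map_add, map_smul, map_smul, pB_self_zero h2, smul_eq_mul, smul_eq_mul, mul_zero,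
      add_zero, hwu] at e2
    exact ⟨(mul_eq_zero.mp e2).resolve_right h, (mul_eq_zero.mp e1).resolve_right h⟩
  have hli : LinearIndependent F ![u, w] := by
    rw [LinearIndependent.pair_iff]
    intro α β hαβ
    apply key α β
    intro z _
    rw [hαβ, map_zero]
  constructor
  · have h1 : Set.range ![u, w] = {u, w} := by
      ext z
      simp only [Set.mem_range, Set.mem_insert_iff, Set.mem_singleton_iff]
      constructor
      · rintro ⟨i, rfl⟩
        fin_cases i
        · left; rfl
        · right; rfl
      · rintro (rfl | rfl)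
        · exact ⟨0, rfl⟩
        · exact ⟨1, rfl⟩
    rw [← h1, finrank_span_eq_card hli, Fintype.card_fin]
  · rw [nd_iff]
    intro z hz hz'
    obtain ⟨α, β, rfl⟩ := Submodule.mem_span_pair.mp hz
    obtain ⟨rfl, rfl⟩ := key α β hz'
    simp

variable [Fintype F] [FiniteDimensional F V]

/-- (MC2a) peeling: an invariant nondegenerate plane or an invariant hyperbolic 4-space -/
theorem invol_char_two_peel (h2 : (2 : F) = 0) (Q : QuadraticForm F V) (x : Module.End F V)
    (hiso : ∀ v, Q (x v) = Q v) (hxx : x * x = 1) (X : Submodule F V) (hXinv : Inv x X)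
    (hXnd : Nd (pB Q) X) (hpos : 0 < finrank F ↥X) :
    (∃ P : Submodule F V, P ≤ X ∧ Inv x P ∧ Nd (pB Q) P ∧ finrank F ↥P = 2) ∨
    (∃ A : Submodule F V, A ≤ X ∧ Inv x A ∧ Nd (pB Q) A ∧ finrank F ↥A = 4 ∧ Hyp Q A) := by
  classical
  have hB := pB_symm Q
  have hxxv : ∀ v, x (x v) = v := by
    intro v
    have := congrArg (fun f => f v) hxx
    simpa using this
  have hBiso : ∀ u v, pB Q (x u) (x v) = pB Q u v := isom_pB hiso
  have hself := pB_self_zero h2 Q
  have hadd := add_self_zero (F := F) (V := V) h2
  -- partners inside `X`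
  have hpartner : ∀ n ∈ X, n ≠ 0 → ∃ w ∈ X, pB Q n w = 1 := by
    intro n hn hn0
    have hex : ∃ w ∈ X, pB Q w n ≠ 0 := by
      by_contra hcon
      push Not at hcon
      exact hn0 (nd_iff.mp hXnd n hn hcon)
    obtain ⟨w, hw, hwn⟩ := hex
    have hnw : pB Q n w ≠ 0 := by rwa [hB.eq]
    exact ⟨(pB Q n w)⁻¹ • w, X.smul_mem _ hw, by
      rw [map_smul, smul_eq_mul, inv_mul_cancel₀ hnw]⟩
  by_cases hc1 : ∃ v ∈ X, pB Q v (x v) ≠ 0
  · -- a plane `⟨v, x v⟩`
    left
    obtain ⟨v, hv, hvx⟩ := hc1
    obtain ⟨hdim, hnd⟩ := pair_props h2 Q hvx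
    refine ⟨Submodule.span F {v, x v}, ?_, ?_, hnd, hdim⟩
    · rw [Submodule.span_le]
      rintro z (rfl | rfl)
      · exact hv
      · exact hXinv.apply_mem hv
    · rw [inv_iff]
      intro z hz
      obtain ⟨α, β, rfl⟩ := Submodule.mem_span_pair.mp hz
      rw [map_add, map_smul, map_smul, hxxv]
      exact Submodule.add_mem _ (Submodule.smul_mem _ _ (Submodule.subset_span (by simp)))
        (Submodule.smul_mem _ _ (Submodule.subset_span (by simp)))
  push Not at hc1
  by_cases hc2 : ∃ v ∈ X, x v ≠ v
  · -- a hyperbolic 4-space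
    right
    obtain ⟨v, hv, hxv⟩ := hc2
    have hxvX : x v ∈ X := hXinv.apply_mem hv
    obtain ⟨n, hn⟩ : ∃ n : V, n = x v + v := ⟨_, rfl⟩
    have hnX : n ∈ X := by rw [hn]; exact X.add_mem hxvX hv
    have hn0 : n ≠ 0 := by
      intro h0
      apply hxv
      have : x v = x v + (v + v) := by rw [hadd, add_zero]
      rw [this, ← add_assoc, ← hn, h0, zero_add]
    obtain ⟨w, hw, hnw⟩ := hpartner n hnX hn0
    have hxwX : x w ∈ X := hXinv.apply_mem hw
    obtain ⟨m', hm'⟩ : ∃ m' : V, m' = x w + w := ⟨_, rfl⟩
    have hm'X : m' ∈ X := by rw [hm']; exact X.add_mem hxwX hw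
    -- the polarised identity
    have hpol : pB Q v (x w) = pB Q (x v) w := by
      have h1 := hc1 (v + w) (X.add_mem hv hw)
      have e : pB Q (v + w) (x (v + w)) =
          pB Q v (x v) + pB Q v (x w) + pB Q w (x v) + pB Q w (x w) := by
        simp only [map_add, LinearMap.add_apply]
        ring
      rw [e, hc1 v hv, hc1 w hw, hB.eq w (x v)] at h1
      linear_combination h1 - pB Q (x v) w * h2
    have hxn : x n = n := by
      rw [hn, map_add, hxxv, add_comm]
    have hxm : x m' = m' := by
      rw [hm', map_add, hxxv, add_comm]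
    -- products
    have hvn : pB Q v n = 0 := by
      rw [hn, map_add, hc1 v hv, hself, add_zero]
    have hwm : pB Q w m' = 0 := by
      rw [hm', map_add, hc1 w hw, hself, add_zero]
    have hnw' : pB Q (x v) w + pB Q v w = 1 := by
      have := hnw
      rw [hn, map_add, LinearMap.add_apply] at this
      exact this
    have hvm : pB Q v m' = 1 := by
      rw [hm', map_add, hpol]
      exact hnw'
    have hnm : pB Q n m' = 0 := by
      have e : pB Q n m' = pB Q (x v) (x w) + pB Q (x v) w + pB Q v (x w) + pB Q v w := by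
        rw [hn, hm']
        simp only [map_add, LinearMap.add_apply]
        ring
      rw [e, hBiso, hpol]
      linear_combination (pB Q v w + pB Q (x v) w) * h2
    have hnn : pB Q n n = 0 := hself n
    have hmm : pB Q m' m' = 0 := hself m'
    have hQn : Q n = 0 := by
      have h1 : Q n = Q (x v) + Q v + pB Q (x v) v := by
        rw [hn, pB_apply]
        unfold QuadraticMap.polar
        ring
      rw [h1, hiso, hB.eq (x v) v, hc1 v hv, add_zero, ← two_mul, h2, zero_mul]
    have hQm : Q m' = 0 := by
      have h1 : Q m' = Q (x w) + Q w + pB Q (x w) w := by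
        rw [hm', pB_apply]
        unfold QuadraticMap.polar
        ring
      rw [h1, hiso, hB.eq (x w) w, hc1 w hw, add_zero, ← two_mul, h2, zero_mul]
    -- the two planes
    obtain ⟨c, hcdef⟩ : ∃ c : F, c = pB Q v w := ⟨_, rfl⟩
    obtain ⟨v', hv'⟩ : ∃ v' : V, v' = v + c • n := ⟨_, rfl⟩
    have hv'X : v' ∈ X := by rw [hv']; exact X.add_mem hv (X.smul_mem _ hnX)
    have hP1 := pair_props h2 Q (u := n) (w := w) (by rw [hnw]; exact one_ne_zero)
    have hv'm : pB Q v' m' = 1 := by
      rw [hv', map_add, LinearMap.add_apply, map_smul, LinearMap.smul_apply, hnm, smul_zero,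
        add_zero, hvm]
    have hP2 := pair_props h2 Q (u := v') (w := m') (by rw [hv'm]; exact one_ne_zero)
    have horth : Orth (pB Q) (Submodule.span F {n, w}) (Submodule.span F {v', m'}) := by
      rw [orth_iff_le, Submodule.span_le]
      have hmem : ∀ z : V, pB Q n z = 0 → pB Q w z = 0 →
          z ∈ (pB Q).orthogonal (Submodule.span F {n, w}) := by
        intro z h1 h3
        rw [LinearMap.BilinForm.mem_orthogonal_iff]
        intro y hy
        obtain ⟨α, β, rfl⟩ := Submodule.mem_span_pair.mp hy
        show pB Q (α • n + β • w) z = 0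
        rw [map_add, LinearMap.add_apply, map_smul, map_smul, LinearMap.smul_apply,
          LinearMap.smul_apply, h1, h3, smul_zero, smul_zero, add_zero]
      rintro z (rfl | rfl)
      · apply hmem
        · rw [hv', map_add, map_smul, hnn, smul_zero, add_zero, hB.eq n v, hvn]
        · rw [hv', map_add, map_smul, hB.eq w v, hB.eq w n, hnw, smul_eq_mul, mul_one, ← hcdef,
            ← two_mul, h2, zero_mul]
      · apply hmem
        · exact hnm
        · exact hwm
    obtain ⟨A, hA⟩ : ∃ A : Submodule F V, A = Submodule.span F {n, w} ⊔ Submodule.span F {v', m'} := ⟨_, rfl⟩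
    have hnA : n ∈ A := by rw [hA]; exact Submodule.mem_sup_left (Submodule.subset_span (by simp))
    have hwA : w ∈ A := by rw [hA]; exact Submodule.mem_sup_left (Submodule.subset_span (by simp))
    have hv'A : v' ∈ A := by rw [hA]; exact Submodule.mem_sup_right (Submodule.subset_span (by simp))
    have hm'A : m' ∈ A := by rw [hA]; exact Submodule.mem_sup_right (Submodule.subset_span (by simp))
    have hxw : x w = m' + w := by
      rw [hm', add_assoc, hadd, add_zero]
    have hxv' : x v' = v' + n := by
      have h1 : x v = n + v := by rw [hn, add_assoc, hadd, add_zero]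
      rw [hv', map_add, map_smul, hxn, h1]
      abel
    refine ⟨A, ?_, ?_, by rw [hA]; exact hP1.2.sup hB.isRefl hP2.2 horth, ?_, ?_⟩
    · rw [hA]
      apply sup_le
      · rw [Submodule.span_le]
        rintro z (rfl | rfl)
        · exact hnX
        · exact hw
      · rw [Submodule.span_le]
        rintro z (rfl | rfl)
        · exact hv'X
        · exact hm'X
    · have hAinv : ∀ z ∈ A, x z ∈ A := by
        intro z hz
        rw [hA] at hz
        obtain ⟨z1, hz1, z2, hz2, rfl⟩ := Submodule.mem_sup.mp hz
        obtain ⟨α, β, rfl⟩ := Submodule.mem_span_pair.mp hz1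
        obtain ⟨γ, δ, rfl⟩ := Submodule.mem_span_pair.mp hz2
        rw [map_add, map_add, map_add, map_smul, map_smul, map_smul, map_smul, hxn, hxw, hxm, hxv']
        exact A.add_mem (A.add_mem (A.smul_mem _ hnA) (A.smul_mem _ (A.add_mem hm'A hwA)))
          (A.add_mem (A.smul_mem _ (A.add_mem hv'A hnA)) (A.smul_mem _ hm'A))
      exact inv_iff.mpr hAinv
    · rw [hA, finrank_sup_of_disjoint (horth.disjoint hP1.2), hP1.1, hP2.1]
    · -- the totally singular plane `⟨n, m'⟩`
      have hwn : pB Q w n = 1 := by rw [hB.eq]; exact hnw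
      have hli : LinearIndependent F ![n, m'] := by
        rw [LinearIndependent.pair_iff]
        intro α β hαβ
        have e1 : pB Q w (α • n + β • m') = 0 := by rw [hαβ, map_zero]
        have e2 : pB Q v (α • n + β • m') = 0 := by rw [hαβ, map_zero]
        rw [map_add, map_smul, map_smul, hwn, hwm, smul_eq_mul, smul_eq_mul, mul_one, mul_zero,
          add_zero] at e1
        rw [map_add, map_smul, map_smul, hvn, hvm, smul_eq_mul, smul_eq_mul, mul_one, mul_zero,
          zero_add] at e2
        exact ⟨e1, e2⟩
      refine ⟨Submodule.span F {n, m'}, ?_, ?_, ?_⟩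
      · rw [Submodule.span_le]
        rintro z (rfl | rfl)
        · exact hnA
        · exact hm'A
      · intro z hz
        obtain ⟨α, β, rfl⟩ := Submodule.mem_span_pair.mp hz
        have hnm' : QuadraticMap.polar (⇑Q) n m' = 0 := hnm
        rw [QuadraticMap.map_add ⇑Q, QuadraticMap.map_smul, QuadraticMap.map_smul,
          QuadraticMap.polar_smul_left, QuadraticMap.polar_smul_right, hQn, hQm, hnm']
        simp
      · have h1 : Set.range ![n, m'] = {n, m'} := by
          ext z
          simp only [Set.mem_range, Set.mem_insert_iff, Set.mem_singleton_iff]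
          constructor
          · rintro ⟨i, rfl⟩
            fin_cases i
            · left; rfl
            · right; rfl
          · rintro (rfl | rfl)
            · exact ⟨0, rfl⟩
            · exact ⟨1, rfl⟩
        rw [← h1, finrank_span_eq_card hli, Fintype.card_fin, hA,
          finrank_sup_of_disjoint (horth.disjoint hP1.2), hP1.1, hP2.1]
  · -- `x` is the identity on `X`
    left
    push Not at hc2
    obtain ⟨u, hu, hu0⟩ : ∃ u ∈ X, u ≠ 0 := by
      by_contra hcon
      push Not at hcon
      have : X = ⊥ := by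
        rw [eq_bot_iff]
        intro z hz
        rw [Submodule.mem_bot]
        exact hcon z hz
      rw [this, finrank_bot] at hpos
      exact lt_irrefl 0 hpos
    obtain ⟨w, hw, huw⟩ := hpartner u hu hu0
    obtain ⟨hdim, hnd⟩ := pair_props h2 Q (u := u) (w := w) (by rw [huw]; exact one_ne_zero)
    refine ⟨Submodule.span F {u, w}, ?_, ?_, hnd, hdim⟩
    · rw [Submodule.span_le]
      rintro z (rfl | rfl)
      · exact hu
      · exact hw
    · rw [inv_iff]
      intro z hz
      obtain ⟨α, β, rfl⟩ := Submodule.mem_span_pair.mp hz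
      rw [map_add, map_smul, map_smul, hc2 u hu, hc2 w hw]
      exact Submodule.add_mem _ (Submodule.smul_mem _ _ (Submodule.subset_span (by simp)))
        (Submodule.smul_mem _ _ (Submodule.subset_span (by simp)))

end Cfsg.Agent.Helper99.QSpMC2a
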