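import Mathlib
import Cfsg.Agent.Helper99.QSpEllDefs
import Cfsg.Agent.Helper99.QSpGlue
import Cfsg.Agent.Helper94.TnK
import Cfsg.Agent.Helper55.QSpMC1a
import Cfsg.Agent.Helper51.QSpMC1b
import Cfsg.Agent.Helper41.QSpMC2b
import Cfsg.Agent.Helper59.QSpMF2
import Cfsg.Agent.Helper75.QSpMF0
import Cfsg.Agent.Helper75.QSpMF1
import Cfsg.Agent.Helper99.QSpMC2a

/-!
# Glue for S5990 (helper99): the pieces proved by helper41, helper51, helper55, helper59,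
helper75 under one namespace, with uniform names.
-/

set_option autoImplicit false
set_option linter.unusedSectionVars false
set_option linter.unusedVariables false

namespace Cfsg.Agent.Helper99.QSpMGlue

open Module
open Cfsg.Agent.Helper59.InvChain Cfsg.Agent.Helper59.Elusive
open Cfsg.Agent.Helper99.SpStruct Cfsg.Agent.Helper99.RDecomp
open Cfsg.Agent.Helper44 Cfsg.Agent.Helper44.QType
open Cfsg.Agent.Helper99.QSp

universe u v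

/-! ## (MF) arithmetic for `εV = -1`, `ε = -1` -/

/-- the right hand side of S5990 for even `i` -/
def EvenRHSMM (i c d m : ℕ) : Prop :=
  ((2 * d) % c = 0 ∧ (Even ((2 * d) / i) ∨ (m % c = 0 ∧ Odd (m / i)))) ∨
    (0 < (2 * d) % c ∧ i ≤ m ∧ ((0 < m % c ∧ m % c < (2 * d) % c) ∨ (m % c = 0 ∧ Odd (m / i)) ∨
      (m % c = (2 * d) % c ∧ Even ((2 * d + m - 2 * ((2 * d) % c)) / i))))

/-- (MF0) from the divisibility (ME5, `εV = -1`) to the star -/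
theorem starEllM_of_dvd {q r : ℕ} [Fact r.Prime] (hr2 : r ≠ 2) (hrq : ¬ r ∣ q) {d e : ℕ}
    (he : 1 ≤ e) (hed : e + 1 ≤ d)
    (h : (∃ k : ℕ, k + 1 < e ∧ (r : ℤ) ∣ ((q : ℤ) ^ (d - k) - (-1)) * ((q : ℤ) ^ (d - k - 1) + (-1))) ∨
      (r : ℤ) ∣ ((q : ℤ) ^ (d - e + 1) - (-1)) * ((q : ℤ) ^ (d - e) - (-1))) :
    StarEllM (orderOf (q : ZMod r)) d e :=
  Cfsg.Agent.Helper75.QSpM.starEllM_of_dvd hr2 hrq he hed h

/-- (MF1) -/
theorem crit_of_rhs_mm_odd {i c d e b : ℕ} (hi : Odd i) (hc : c = 2 * i) (he : 1 ≤ e)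
    (hed : e + 1 ≤ d)
    (hrhs : (2 * d) % c = 0 ∨ (c ≤ 2 * e ∧ 0 < (2 * e) % c ∧ (2 * e) % c ≤ (2 * d) % c))
    (hb1 : 1 ≤ b) (hbc : b * c ≤ 2 * d) (hadm : b * c = 2 * d → bsign i b = -1) :
    Crit i c d e b (-1) (-1) :=
  Cfsg.Agent.Helper75.QSpM.crit_of_rhs_mm_odd hi hc he hed hrhs hb1 hbc hadm

theorem crit_of_rhs_mm_even {i c d e b : ℕ} (hi : Even i) (hi0 : 0 < i) (hc : c = i) (he : 1 ≤ e)
    (hed : e + 1 ≤ d) (hrhs : EvenRHSMM i c d (2 * e)) (hb1 : 1 ≤ b) (hbc : b * c ≤ 2 * d)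
    (hadm : b * c = 2 * d → bsign i b = -1) : Crit i c d e b (-1) (-1) :=
  Cfsg.Agent.Helper75.QSpM.crit_of_rhs_mm_even hi hi0 hc he hed hrhs hb1 hbc hadm

/-- (MF2) -/
theorem rhs_of_crit_mm_odd {i c d e : ℕ} (hi : Odd i) (hc : c = 2 * i) (he : 1 ≤ e)
    (hed : e + 1 ≤ d) (hstar : StarEllM i d e)
    (hcrit : (2 * d) / c * c ≠ 2 * d → Crit i c d e ((2 * d) / c) (-1) (-1)) :
    (2 * d) % c = 0 ∨ (c ≤ 2 * e ∧ 0 < (2 * e) % c ∧ (2 * e) % c ≤ (2 * d) % c) :=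
  Cfsg.Agent.Helper59.QSpM.rhs_of_crit_mm_odd hi hc he hed hstar hcrit

theorem rhs_of_crit_mm_even {i c d e : ℕ} (hi : Even i) (hi0 : 0 < i) (hc : c = i) (he : 1 ≤ e)
    (hed : e + 1 ≤ d) (hstar : StarEllM i d e)
    (hcrit1 : ((2 * d) / c * c = 2 * d → bsign i ((2 * d) / c) = -1) →
      Crit i c d e ((2 * d) / c) (-1) (-1))
    (hcrit2 : ((2 * d) / c * c = 2 * d ∧ bsign i ((2 * d) / c) = 1) →
      Crit i c d e ((2 * d) / c - 1) (-1) (-1)) :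
    EvenRHSMM i c d (2 * e) :=
  Cfsg.Agent.Helper59.QSpM.rhs_of_crit_mm_even hi hi0 hc he hed hstar hcrit1 hcrit2

variable {F : Type u} [Field F] [Fintype F]
variable {V : Type v} [AddCommGroup V] [Module F V] [FiniteDimensional F V]

/-! ## (MC1) characteristic two: the derangement (`d` odd, `e` even) -/

/-- (MC1a) `x = 1 + N` with `N² = 0`, `Q ∘ N = 0` and `rank N ≥ d - 1`: invariant nondegenerate
subspaces of dimension `2k`, `k` even, are hyperbolic -/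
theorem hyp_of_sq_zero_even (h2 : (2 : F) = 0) (Q : QuadraticForm F V)
    (hnd : (pB Q).Nondegenerate) {d : ℕ} (hV : finrank F V = 2 * d) (N : Module.End F V)
    (hNN : N * N = 0) (hNQ : ∀ v, Q (N v) = 0) (hiso : ∀ v, Q (v + N v) = Q v)
    (hker : finrank F ↥(LinearMap.ker N) ≤ d + 1) {W : Submodule F V} (hWinv : Inv N W)
    (hWnd : Nd (pB Q) W) {k : ℕ} (hWdim : finrank F ↥W = 2 * k) (hk : Even k) : Hyp Q W :=
  Cfsg.Agent.Helper55.QSpM.hyp_of_sq_zero_even h2 Q hnd hV N hNN hNQ hiso hker hWinv hWnd hWdim hk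

/-- (MC1b) the involution of type `a_k` of `Ω⁻_{2k+2}(F)`, `k` even, characteristic two -/
theorem exists_minus_a_invol [CharP F 2] (k : ℕ) (hk : Even k) (hk2 : 2 ≤ k) (a b : F)
    (hab : ∀ z₁ z₂ : F, z₁ ^ 2 + a * z₁ * z₂ + b * z₂ ^ 2 = 0 → z₁ = 0 ∧ z₂ = 0) :
    ∃ g : ↥(Cfsg.isometryGroup F (Cfsg.quadFormMinus k F a b)),
      g ∈ Cfsg.Omega F (Cfsg.quadFormMinus k F a b) ∧ g * g = 1 ∧
      (∀ z : F, ((g : GL ((Fin k ⊕ Fin k) ⊕ Fin 2) F) :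
        Matrix ((Fin k ⊕ Fin k) ⊕ Fin 2) ((Fin k ⊕ Fin k) ⊕ Fin 2) F) ≠
          z • (1 : Matrix ((Fin k ⊕ Fin k) ⊕ Fin 2) ((Fin k ⊕ Fin k) ⊕ Fin 2) F)) ∧
      ∃ N : Module.End F ((Fin k ⊕ Fin k) ⊕ Fin 2 → F),
        Matrix.toLin' ((g : GL ((Fin k ⊕ Fin k) ⊕ Fin 2) F) :
          Matrix ((Fin k ⊕ Fin k) ⊕ Fin 2) ((Fin k ⊕ Fin k) ⊕ Fin 2) F) = 1 + N ∧
        N * N = 0 ∧ (∀ v, minusForm k F a b (N v) = 0) ∧
        finrank F ↥(LinearMap.ker N) ≤ k + 2 :=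
  Cfsg.Agent.Helper51.QSpM.exists_minus_a_invol k hk hk2 a b hab

/-! ## (MC2) characteristic two: every involutory isometry has invariant subspaces -/

/-- (MC2a) peeling: an invariant nondegenerate plane or an invariant hyperbolic 4-space -/
theorem invol_char_two_peel (h2 : (2 : F) = 0) (Q : QuadraticForm F V) (x : Module.End F V)
    (hiso : ∀ v, Q (x v) = Q v) (hxx : x * x = 1) (X : Submodule F V) (hXinv : Inv x X)
    (hXnd : Nd (pB Q) X) (hpos : 0 < finrank F ↥X) :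
    (∃ P : Submodule F V, P ≤ X ∧ Inv x P ∧ Nd (pB Q) P ∧ finrank F ↥P = 2) ∨
    (∃ A : Submodule F V, A ≤ X ∧ Inv x A ∧ Nd (pB Q) A ∧ finrank F ↥A = 4 ∧ Hyp Q A) :=
  Cfsg.Agent.Helper99.QSpMC2a.invol_char_two_peel h2 Q x hiso hxx X hXinv hXnd hpos

/-- (MC2b) the double induction -/
theorem invol_char_two_exists (h2 : (2 : F) = 0) (Q : QuadraticForm F V)
    (hnd : (pB Q).Nondegenerate) (x : Module.End F V) (hiso : ∀ v, Q (x v) = Q v)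
    (hxx : x * x = 1)
    (hpeel : ∀ X : Submodule F V, Inv x X → Nd (pB Q) X → 0 < finrank F ↥X →
      (∃ P : Submodule F V, P ≤ X ∧ Inv x P ∧ Nd (pB Q) P ∧ finrank F ↥P = 2) ∨
      (∃ A : Submodule F V, A ≤ X ∧ Inv x A ∧ Nd (pB Q) A ∧ finrank F ↥A = 4 ∧ Hyp Q A)) :
    ∀ (d : ℕ) (X : Submodule F V), Inv x X → Nd (pB Q) X → finrank F ↥X = 2 * d →
      ∀ τ : ℤ, QType Q X d τ → ∀ e : ℕ, e ≤ d →
        ((τ = 1 ∧ (Odd d ∨ Even e)) → ∃ W : Submodule F V, W ≤ X ∧ Inv x W ∧ Nd (pB Q) W ∧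
          finrank F ↥W = 2 * e ∧ QType Q W e 1) ∧
        ((τ = -1 ∧ 1 ≤ e ∧ (Even d ∨ Odd e ∨ e = d)) → ∃ W : Submodule F V, W ≤ X ∧ Inv x W ∧
          Nd (pB Q) W ∧ finrank F ↥W = 2 * e ∧ QType Q W e (-1)) :=
  Cfsg.Agent.Helper41.QSpM.invol_char_two_exists h2 Q hnd x hiso hxx hpeel

end Cfsg.Agent.Helper99.QSpMGlue
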