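import Mathlib
import Cfsg.Agent.Helper99.QSpGen
import Cfsg.Agent.Helper99.QSpEllGlue
import Cfsg.Agent.Helper99.QSpMGlue
import Cfsg.Agent.Helper94.TpJ
import Cfsg.Agent.Helper94.TnO

/-!
# `PΩ⁻_{2d}(q)` on elliptic `m`-spaces (S5990): bridge to the statement and assembly
-/

set_option autoImplicit false
set_option linter.unusedSectionVars false
set_option linter.style.haveILetI false

namespace Cfsg.Agent.Helper99.QSpMinus

open Module Polynomial Matrix
open Cfsg
open Cfsg.Agent.Helper59.InvChain Cfsg.Agent.Helper59.Elusive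
open Cfsg.Agent.Helper99.SpStruct Cfsg.Agent.Helper99.RDecomp Cfsg.Agent.Helper99.SpElt
open Cfsg.Agent.Helper44 Cfsg.Agent.Helper44.QType
open Cfsg.Agent.Helper99.QSp
open Cfsg.Agent.Helper99.QSpGlue
open Cfsg.Agent.Helper99.QSpGen
open Cfsg.Agent.Helper99.QSpEllGlue Cfsg.Agent.Helper99.QSpMGlue

universe u

variable {F : Type u} [Field F] [Fintype F] {ι : Type} [Fintype ι] [DecidableEq ι]

/-! ## the bridge -/

omit [Fintype F] in
theorem nd_iff_stmt (Q : QuadraticForm F (ι → F)) {W : Submodule F (ι → F)} :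
    Nd (pB Q) W ↔ Cfsg.Geo.IsNondegenerateOn (QuadraticMap.polar (⇑Q)) W :=
  Cfsg.Agent.Helper94.Tp.nd_iff_isNondegenerateOn' Q

omit [Fintype F] [Fintype ι] [DecidableEq ι] in
theorem hyp_iff_stmt (Q : QuadraticForm F (ι → F)) {W : Submodule F (ι → F)} :
    Hyp Q W ↔ Cfsg.Geo.IsPlusTypeOn (⇑Q) W := by
  unfold Hyp TS Cfsg.Geo.IsPlusTypeOn Cfsg.Geo.IsTotallySingularQuad
  rfl

/-- elliptic = type `-` -/
theorem not_hyp_iff_qType (Q : QuadraticForm F (ι → F)) {W : Submodule F (ι → F)}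
    (hW : Nd (pB Q) W) {e : ℕ} (hdim : finrank F ↥W = 2 * e) :
    ¬ Hyp Q W ↔ QType Q W e (-1) := by
  obtain ⟨ε, hε, hty⟩ := exists_qType Q hW hdim
  constructor
  · intro h
    rcases hε with rfl | rfl
    · exact absurd ((hyp_iff_qType Q hW hdim).mpr hty) h
    · exact hty
  · intro h hh
    have := ((hyp_iff_qType Q hW hdim).mp hh).unique h
    norm_num at this

theorem goodT_iff_stmt (Q : QuadraticForm F (ι → F)) {e : ℕ} (A : Matrix ι ι F) :
    (∃ W : Submodule F (ι → F), (Module.finrank F ↥W = 2 * e ∧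
        Cfsg.Geo.IsNondegenerateOn (QuadraticMap.polar (⇑Q)) W ∧
        ¬ Cfsg.Geo.IsPlusTypeOn (⇑Q) W) ∧ W.map (Matrix.toLin' A) ≤ W) ↔ GoodT Q e (-1) A := by
  constructor
  · rintro ⟨W, ⟨h1, h2, h3⟩, h4⟩
    have hnd := (nd_iff_stmt Q).mpr h2
    exact ⟨W, h1, hnd, (not_hyp_iff_qType Q hnd h1).mp (fun h => h3 ((hyp_iff_stmt Q).mp h)), h4⟩
  · rintro ⟨W, h1, h2, h3, h4⟩
    exact ⟨W, ⟨h1, (nd_iff_stmt Q).mp h2,
      fun h => (not_hyp_iff_qType Q h2 h1).mpr h3 ((hyp_iff_stmt Q).mpr h)⟩, h4⟩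

/-- the property of the statement -/
def StmtProp (Q : QuadraticForm F (ι → F)) (e r : ℕ) : Prop :=
  ∀ x : GL ι F, x ∈ Cfsg.Geo.omegaGL (⇑Q) →
    (∃ z : F, ((x ^ r : GL ι F) : Matrix ι ι F) = z • (1 : Matrix ι ι F)) →
    (∀ z : F, (x : Matrix ι ι F) ≠ z • (1 : Matrix ι ι F)) →
    GoodT Q e (-1) (x : Matrix ι ι F)

/-! ## the statement in our language -/

theorem stmtProp_iff (Q : QuadraticForm F (ι → F)) (e r : ℕ) :
    (∀ x : GL ι F, x ∈ Cfsg.Geo.omegaGL (⇑Q) →
      (∃ z : F, ((x ^ r : GL ι F) : Matrix ι ι F) = z • (1 : Matrix ι ι F)) →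
      (∀ z : F, (x : Matrix ι ι F) ≠ z • (1 : Matrix ι ι F)) →
      ∃ W : Submodule F (ι → F), (Module.finrank F ↥W = 2 * e ∧
        Cfsg.Geo.IsNondegenerateOn (QuadraticMap.polar (⇑Q)) W ∧
        ¬ Cfsg.Geo.IsPlusTypeOn (⇑Q) W) ∧ W.map (Matrix.toLin' (x : Matrix ι ι F)) ≤ W) ↔
      StmtProp Q e r := by
  unfold StmtProp
  constructor
  · intro H x hx hz hns
    exact (goodT_iff_stmt Q _).mp (H x hx hz hns)
  · intro H x hx hz hns
    exact (goodT_iff_stmt Q _).mpr (H x hx hz hns)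

omit [Fintype F] in
theorem card_bridge (Q : QuadraticForm F (ι → F)) (e : ℕ) :
    Nat.card {W : Submodule F (ι → F) // Module.finrank F ↥W = 2 * e ∧
      Cfsg.Geo.IsNondegenerateOn (QuadraticMap.polar (⇑Q)) W ∧ ¬ Cfsg.Geo.IsPlusTypeOn (⇑Q) W} =
    Nat.card {W : Submodule F (ι → F) // finrank F ↥W = 2 * e ∧ Nd (pB Q) W ∧ ¬ Hyp Q W} := by
  apply Nat.card_congr
  apply Equiv.subtypeEquivRight
  intro W
  rw [nd_iff_stmt Q, hyp_iff_stmt Q]

/-! ## odd `r` -/

section odd

variable {p : ℕ} [Fact p.Prime] [CharP F p]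

theorem crit_zero {i c d e : ℕ} {εV ε : ℤ} (he : 1 ≤ e) (hed : e + 1 ≤ d) :
    Crit i c d e 0 εV ε :=
  ⟨0, le_rfl, by omega, Or.inr (Or.inl ⟨by omega, by omega⟩)⟩

/-- the main theorem for odd `r`, minus type, in our language -/
theorem odd_iff (Q : QuadraticForm F (ι → F)) (hnd : (pB Q).Nondegenerate) {d : ℕ} (hd : 4 ≤ d)
    (hι : Fintype.card ι = 2 * d) (hT : QType Q ⊤ d (-1))
    (r : ℕ) [Fact r.Prime] (hrp : r ≠ p) (hr2 : r ≠ 2) {e : ℕ}
    (he : 1 ≤ e) (hed : e + 1 ≤ d)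
    (hrΩ : r ∣ Nat.card {W : Submodule F (ι → F) // finrank F ↥W = 2 * e ∧
      Nd (pB Q) W ∧ ¬ Hyp Q W}) :
    StmtProp Q e r ↔
    ((Odd (orderOf ((Fintype.card F : ℕ) : ZMod r)) ∧
        ((2 * d) % blockSize (orderOf ((Fintype.card F : ℕ) : ZMod r)) = 0 ∨
          (blockSize (orderOf ((Fintype.card F : ℕ) : ZMod r)) ≤ 2 * e ∧
            0 < (2 * e) % blockSize (orderOf ((Fintype.card F : ℕ) : ZMod r)) ∧
            (2 * e) % blockSize (orderOf ((Fintype.card F : ℕ) : ZMod r)) ≤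
              (2 * d) % blockSize (orderOf ((Fintype.card F : ℕ) : ZMod r))))) ∨
      (Even (orderOf ((Fintype.card F : ℕ) : ZMod r)) ∧
        EvenRHSMM (orderOf ((Fintype.card F : ℕ) : ZMod r))
          (blockSize (orderOf ((Fintype.card F : ℕ) : ZMod r))) d (2 * e))) := by
  classical
  have hr : r.Prime := Fact.out
  have hrodd : Odd r := hr.odd_of_ne_two hr2
  have hrq := Cfsg.Agent.Helper94.Tn.not_dvd_card_of_ne (F := F) r hrp
  haveI : Nonempty ι := by
    rw [← Fintype.card_pos_iff, hι]; omega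
  have hι4 : Fintype.card F ≠ 2 ∨ Fintype.card ι ≠ 4 := Or.inr (by rw [hι]; omega)
  have hV : finrank F (ι → F) = 2 * d := finrank_fun hι
  set i := orderOf ((Fintype.card F : ℕ) : ZMod r) with hidef
  set c := blockSize i with hcdef
  have hipos : 0 < i := orderOf_card_pos r hrp
  have hcpos : 0 < c := blockSize_pos hipos
  constructor
  · intro H
    -- the consequence of the counting hypothesis
    obtain ⟨e', rfl⟩ : ∃ e', e = e' + 1 := ⟨e - 1, by omega⟩
    have hcount := exists_dvd_of_dvd_card_ell' Q hnd hV hT e' (by omega) r hr hrq hrΩ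
    have hstar : StarEllM i d (e' + 1) := by
      apply starEllM_of_dvd hr2 hrq (by omega) (by omega)
      rcases hcount with ⟨k, hk, hdvd⟩ | hdvd
      · left
        exact ⟨k, by omega, hdvd⟩
      · right
        have e1 : d - (e' + 1) + 1 = d - e' := by omega
        have e2 : d - (e' + 1) = d - e' - 1 := by omega
        rw [e1, e2]
        exact hdvd
    -- the hypothesis for elements of order `r` of `Ω`
    have H' : ∀ g : ↥(Cfsg.isometryGroup F ⇑Q), g ∈ Cfsg.Omega F ⇑Q → orderOf g = r →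
        GoodT Q (e' + 1) (-1) ((g : GL ι F) : Matrix ι ι F) := by
      intro g hgΩ hgord
      have hgr : g ^ r = 1 := by rw [← hgord]; exact pow_orderOf_eq_one g
      refine H (g : GL ι F) (Subgroup.mem_map.mpr ⟨g, hgΩ, rfl⟩) ⟨1, ?_⟩
        (not_scalar_of_orderOf Q hnd hr hrodd g hgord)
      have h3 : ((g ^ r : ↥(Cfsg.isometryGroup F ⇑Q)) : GL ι F) = 1 := by rw [hgr]; rfl
      have h4 := congrArg (fun w : GL ι F => (w : Matrix ι ι F)) h3
      rw [one_smul]
      simpa using h4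
    have hcritB : ∀ B : ℕ, B * c ≤ 2 * d → (B * c = 2 * d → bsign i B = -1) →
        Crit i c d (e' + 1) B (-1) (-1) := by
      intro B hBc hadm
      by_cases hB : 1 ≤ B
      · exact crit_of_good Q hnd hι hι4 (Or.inr rfl) hT (Or.inr rfl) r hrp hr2 H' hB hBc hadm
      · have hB0 : B = 0 := by omega
        rw [hB0]
        exact crit_zero (by omega) hed
    have hBc : 2 * d / c * c ≤ 2 * d := Nat.div_mul_le_self _ _
    by_cases hie : Even i
    · right
      refine ⟨hie, ?_⟩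
      have hci : c = i := blockSize_even hie
      apply rhs_of_crit_mm_even hie hipos hci (by omega) hed hstar
      · intro hadm
        exact hcritB _ hBc hadm
      · rintro ⟨hfull, -⟩
        obtain ⟨B, hBdef⟩ : ∃ B, 2 * d / c = B := ⟨_, rfl⟩
        rw [hBdef] at hfull hBc ⊢
        have h1 : 1 ≤ B := by
          rcases Nat.eq_zero_or_pos B with h0 | h0
          · rw [h0] at hfull; omega
          · exact h0
        obtain ⟨B', rfl⟩ : ∃ B', B = B' + 1 := ⟨B - 1, by omega⟩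
        rw [Nat.add_sub_cancel]
        have hmul : (B' + 1) * c = B' * c + c := by ring
        apply hcritB
        · omega
        · intro h
          omega
    · left
      have hio : Odd i := Nat.not_even_iff_odd.mp hie
      have hci : c = 2 * i := blockSize_odd hie
      refine ⟨hio, rhs_of_crit_mm_odd hio hci (by omega) hed hstar ?_⟩
      intro hne
      exact hcritB _ hBc (fun h => absurd h hne)
  · intro hrhs x hx ⟨z, hz⟩ hns
    obtain ⟨g, -, rfl⟩ := Subgroup.mem_map.mp hx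
    refine good_of_crit Q hnd hι hT (Or.inr rfl) r hrp hr2 ?_ g hz hns
    intro b hb1 hbc hadm
    rcases hrhs with ⟨hio, hrhs'⟩ | ⟨hie, hev⟩
    · have hci : c = 2 * i := blockSize_odd (Nat.not_even_iff_odd.mpr hio)
      exact crit_of_rhs_mm_odd hio hci he hed hrhs' hb1 hbc hadm
    · have hci : c = i := blockSize_even hie
      exact crit_of_rhs_mm_even hie hipos hci he hed hev hb1 hbc hadm

end odd

/-! ## `r = 2` -/

section two

open Cfsg.Agent.Helper94.Tp

variable {k : ℕ}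

theorem minus_nd {a b : F}
    (hab : ∀ z₁ z₂ : F, z₁ ^ 2 + a * z₁ * z₂ + b * z₂ ^ 2 = 0 → z₁ = 0 ∧ z₂ = 0) :
    (pB (minusForm k F a b)).Nondegenerate :=
  Cfsg.Agent.Helper5.nondegenerate_minusForm_of_aniso k a b hab

theorem minus_qType_top {a b : F}
    (hab : ∀ z₁ z₂ : F, z₁ ^ 2 + a * z₁ * z₂ + b * z₂ ^ 2 = 0 → z₁ = 0 ∧ z₂ = 0) :
    QType (minusForm k F a b) ⊤ (k + 1) (-1) :=
  (qType_top_iff _ _ _).mpr (hT_minus hab)

/-- the square of a group element as an endomorphism -/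
theorem toLin_mul_self_of (Q : QuadraticForm F (ι → F)) (g : ↥(Cfsg.isometryGroup F ⇑Q)) {z : F}
    (hz : (((g : GL ι F) ^ 2 : GL ι F) : Matrix ι ι F) = z • (1 : Matrix ι ι F)) :
    Matrix.toLin' ((g : GL ι F) : Matrix ι ι F) * Matrix.toLin' ((g : GL ι F) : Matrix ι ι F) =
      z • (1 : Module.End F (ι → F)) := by
  have hAA : ((g : GL ι F) : Matrix ι ι F) * ((g : GL ι F) : Matrix ι ι F) =
      z • (1 : Matrix ι ι F) := by
    rw [← hz, pow_two, Units.val_mul]
  rw [Module.End.mul_eq_comp, ← Matrix.toLin'_mul, hAA, map_smul, Matrix.toLin'_one]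
  rfl

/-- `r = 2`, odd characteristic -/
theorem two_iff_odd_char (h2F : (2 : F) ≠ 0) {a b : F}
    (hab : ∀ z₁ z₂ : F, z₁ ^ 2 + a * z₁ * z₂ + b * z₂ ^ 2 = 0 → z₁ = 0 ∧ z₂ = 0)
    {e : ℕ} (he : 1 ≤ e) (hed : e ≤ k) :
    StmtProp (minusForm k F a b) e 2 ↔
      (Even (k + 1) ∨ Fintype.card F % 8 ≠ 7 ∨ Odd e) := by
  classical
  set Q := minusForm k F a b with hQ
  have hnd : (pB Q).Nondegenerate := minus_nd hab
  have hndtop : Nd (pB Q) ⊤ := Cfsg.Agent.Helper94.Ts.nd_top_of_nondeg' hnd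
  have hTtop : QType Q ⊤ (k + 1) (-1) := minus_qType_top hab
  have hV : finrank F ((Fin k ⊕ Fin k) ⊕ Fin 2 → F) = 2 * (k + 1) := finrank_fun card_minus
  haveI : Nonempty ((Fin k ⊕ Fin k) ⊕ Fin 2) := ⟨Sum.inr 0⟩
  have hqodd : Odd (Fintype.card F) := by
    rw [Nat.odd_iff]
    exact FiniteField.odd_card_of_char_ne_two (by
      intro hch
      haveI : CharP F 2 := ringChar.of_eq hch
      exact h2F (CharTwo.two_eq_zero))
  have hsq_iff : (∃ c : F, c * c = -1) ↔ Fintype.card F % 4 = 1 := by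
    have h1 := FiniteField.isSquare_neg_one_iff (F := F)
    have hq2 := Nat.odd_iff.mp hqodd
    constructor
    · rintro ⟨c, hc⟩
      have : IsSquare (-1 : F) := ⟨c, hc.symm⟩
      have := h1.mp this
      omega
    · intro h
      obtain ⟨c, hc⟩ := h1.mpr (by omega)
      exact ⟨c, hc.symm⟩
  -- the type of invariant subspaces when `x² = -1` and `-1` is not a square
  have htype : ∀ (Y : Module.End F ((Fin k ⊕ Fin k) ⊕ Fin 2 → F)),
      (∀ v, Q (Y v) = Q v) → Y * Y = -1 → (∀ c : F, c * c ≠ -1) →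
      ∀ (t : ℕ) (W : Submodule F ((Fin k ⊕ Fin k) ⊕ Fin 2 → F)), Inv Y W → Nd (pB Q) W →
        finrank F ↥W = 2 * t → QType Q W t ((-1) ^ t) := by
    intro Y hYiso hYY hns t W hWinv hWnd hWdim
    obtain ⟨W', hW'le, -, -, hW'dim, hW'ty⟩ :=
      exists_inv_typed_of_sq_neg_one_nonsplit Q hnd h2F Y hYiso hYY hns t W hWinv hWnd
        (by omega)
    have : W' = W := Submodule.eq_of_le_of_finrank_eq hW'le (by rw [hW'dim, hWdim])
    rw [← this]
    exact hW'ty
  -- `x² = -1` is impossible if `-1` is a square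
  have hsplit : ∀ (Y : Module.End F ((Fin k ⊕ Fin k) ⊕ Fin 2 → F)),
      (∀ v, Q (Y v) = Q v) → Y * Y = -1 → ∀ c : F, c * c ≠ -1 := by
    intro Y hYiso hYY c hc
    obtain ⟨W, -, -, hWnd, hWdim, hWhyp⟩ :=
      exists_inv_hyp_of_sq_neg_one_split Q hnd h2F Y hYiso hYY hc (k + 1) ⊤
        (Cfsg.Agent.Helper59.InvChain.inv_top _) hndtop (by rw [finrank_top, hV])
    have hWtop : W = ⊤ := Submodule.eq_top_of_finrank_eq (by rw [hWdim, hV])
    rw [hWtop] at hWhyp
    have h1 := (hyp_iff_qType Q hndtop (by rw [finrank_top, hV])).mp hWhyp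
    have := h1.unique hTtop
    norm_num at this
  constructor
  · intro H
    by_contra hcon
    push Not at hcon
    obtain ⟨h1, h3, h4⟩ := hcon
    have hq7 : Fintype.card F % 8 = 7 := h3
    have hdodd : Odd (k + 1) := Nat.not_even_iff_odd.mp h1
    have heeven : Even e := Nat.not_odd_iff_even.mp h4
    obtain ⟨g, hgΩ, hg⟩ := (exists_minus_Omega_sq_neg_iff (k := k) h2F rfl hqodd hab).mpr
      ⟨hdodd, hq7⟩
    have hns : ∀ c : F, c * c ≠ -1 := by
      intro c hc
      have := hsq_iff.mp ⟨c, hc⟩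
      omega
    set A := ((g : GL ((Fin k ⊕ Fin k) ⊕ Fin 2) F) :
      Matrix ((Fin k ⊕ Fin k) ⊕ Fin 2) ((Fin k ⊕ Fin k) ⊕ Fin 2) F) with hA
    have hAA : A * A = -1 := by
      apply Matrix.toLin'.injective
      apply LinearMap.ext
      intro v
      rw [Matrix.toLin'_mul, LinearMap.comp_apply, Matrix.toLin'_apply, Matrix.toLin'_apply, hg v]
      simp
    obtain ⟨W, hWdim, hWnd, hWty, hWinv⟩ := H (g : GL ((Fin k ⊕ Fin k) ⊕ Fin 2) F)
      (Subgroup.mem_map.mpr ⟨g, hgΩ, rfl⟩)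
      ⟨-1, by rw [pow_two, Units.val_mul, ← hA, hAA, neg_smul, one_smul]⟩
      (fun z hz => by
        have hz' : A = z • (1 : Matrix ((Fin k ⊕ Fin k) ⊕ Fin 2) ((Fin k ⊕ Fin k) ⊕ Fin 2) F) := hz
        rw [hz'] at hAA
        rw [Matrix.smul_mul, Matrix.mul_smul, Matrix.one_mul, smul_smul] at hAA
        have h5 := congrFun (congrFun hAA (Sum.inr 0)) (Sum.inr 0)
        simp only [Matrix.smul_apply, Matrix.one_apply_eq, smul_eq_mul, mul_one,
          Matrix.neg_apply] at h5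
        exact hns z h5)
    have hYY : Matrix.toLin' A * Matrix.toLin' A = -1 := by
      rw [Module.End.mul_eq_comp, ← Matrix.toLin'_mul, hAA, map_neg, Matrix.toLin'_one]
      rfl
    have hty := htype (Matrix.toLin' A) (fun v => Cfsg.Agent.Helper94.Ts.toLin_iso g v) hYY hns e W
      hWinv hWnd hWdim
    rw [heeven.neg_one_pow] at hty
    have := hty.unique hWty
    norm_num at this
  · intro hrhs x hx ⟨z, hz⟩ _
    obtain ⟨g, hgΩ, rfl⟩ := Subgroup.mem_map.mp hx
    set A := ((g : GL ((Fin k ⊕ Fin k) ⊕ Fin 2) F) :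
      Matrix ((Fin k ⊕ Fin k) ⊕ Fin 2) ((Fin k ⊕ Fin k) ⊕ Fin 2) F) with hA
    have hz2 : z ^ 2 = 1 := sq_eq_one_of_pow_eq_smul Q hnd g hz
    have hLL := toLin_mul_self_of Q g hz
    rw [← hA] at hLL
    have hiso : ∀ v, Q (Matrix.toLin' A v) = Q v := fun v => Cfsg.Agent.Helper94.Ts.toLin_iso g v
    have hz' : z = 1 ∨ z = -1 := by
      have : (z - 1) * (z + 1) = 0 := by linear_combination hz2
      rcases mul_eq_zero.mp this with h | h
      · left; exact sub_eq_zero.mp h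
      · right; exact eq_neg_of_add_eq_zero_left h
    rcases hz' with rfl | rfl
    · -- an involution
      have hS : Cfsg.Agent.Helper94.Ts.InvolSetup (pB Q) (Matrix.toLin' A) :=
        { symm := pB_symm _
          nondeg := hnd
          two_ne := h2F
          isom := isom_pB hiso
          sq := by
            intro v
            have := congrArg (fun f => f v) hLL
            simpa using this }
      obtain ⟨e', rfl⟩ : ∃ e', e = e' + 1 := ⟨e - 1, by omega⟩
      obtain ⟨W, -, hWinv, hWnd, hWdim, hWnh⟩ :=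
        Cfsg.Agent.Helper94.Tn.invol_exists_inv_ell hS e' ⊤
          (Cfsg.Agent.Helper59.InvChain.inv_top _) hndtop (by rw [finrank_top, hV]; omega)
      refine ⟨W, hWdim, hWnd, (not_hyp_iff_qType Q hWnd hWdim).mp ?_, hWinv⟩
      rintro ⟨U, hUW, hUts, hUdim⟩
      exact hWnh ⟨U, hUW, hUts.orth, hUdim⟩
    · -- `x² = -1`
      have hYY : Matrix.toLin' A * Matrix.toLin' A = -1 := by
        rw [hLL]
        apply LinearMap.ext
        intro v
        simp
      have hns := hsplit (Matrix.toLin' A) hiso hYY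
      -- `d` is odd
      have htop := htype (Matrix.toLin' A) hiso hYY hns (k + 1) ⊤
        (Cfsg.Agent.Helper59.InvChain.inv_top _) hndtop (by rw [finrank_top, hV])
      have hd1 : ((-1 : ℤ)) ^ (k + 1) = -1 := htop.unique hTtop
      have hdodd : Odd (k + 1) := by
        by_contra hev
        rw [Nat.not_odd_iff_even] at hev
        rw [hev.neg_one_pow] at hd1
        norm_num at hd1
      have heodd : Odd e := by
        rcases hrhs with h | h | h
        · exact absurd h (Nat.not_even_iff_odd.mpr hdodd)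
        · exfalso
          apply h
          have hg : ∀ v : (Fin k ⊕ Fin k) ⊕ Fin 2 → F, A *ᵥ (A *ᵥ v) = -v := by
            intro v
            have := congrArg (fun f => f v) hYY
            simpa [Matrix.toLin'_apply] using this
          exact ((exists_minus_Omega_sq_neg_iff (k := k) h2F rfl hqodd hab).mp ⟨g, hgΩ, hg⟩).2
        · exact h
      obtain ⟨W, -, hWinv, hWnd, hWdim, hWty⟩ :=
        exists_inv_typed_of_sq_neg_one_nonsplit Q hnd h2F (Matrix.toLin' A) hiso hYY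
          hns e ⊤ (Cfsg.Agent.Helper59.InvChain.inv_top _) hndtop
          (by rw [finrank_top, hV]; omega)
      rw [heodd.neg_one_pow] at hWty
      exact ⟨W, hWdim, hWnd, hWty, hWinv⟩

/-- `r = 2`, characteristic two -/
theorem two_iff_char_two (h2F : (2 : F) = 0) {a b : F}
    (hab : ∀ z₁ z₂ : F, z₁ ^ 2 + a * z₁ * z₂ + b * z₂ ^ 2 = 0 → z₁ = 0 ∧ z₂ = 0)
    (hk : 3 ≤ k) {e : ℕ} (he : 1 ≤ e) (hed : e ≤ k) :
    StmtProp (minusForm k F a b) e 2 ↔ (Even (k + 1) ∨ Odd e) := by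
  classical
  haveI : CharP F 2 := CharTwo.of_one_ne_zero_of_two_eq_zero one_ne_zero h2F
  set Q := minusForm k F a b with hQ
  have hnd : (pB Q).Nondegenerate := minus_nd hab
  have hndtop : Nd (pB Q) ⊤ := Cfsg.Agent.Helper94.Ts.nd_top_of_nondeg' hnd
  have hTtop : QType Q ⊤ (k + 1) (-1) := minus_qType_top hab
  have hV : finrank F ((Fin k ⊕ Fin k) ⊕ Fin 2 → F) = 2 * (k + 1) := finrank_fun card_minus
  haveI : Nonempty ((Fin k ⊕ Fin k) ⊕ Fin 2) := ⟨Sum.inr 0⟩
  constructor
  · intro H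
    by_contra hcon
    push Not at hcon
    obtain ⟨h1, h3⟩ := hcon
    have hkeven : Even k := by
      rcases Nat.even_or_odd k with h | h
      · exact h
      · exact absurd (by rw [Nat.even_add_one, Nat.not_even_iff_odd]; exact h) h1
    have heeven : Even e := Nat.not_odd_iff_even.mp h3
    obtain ⟨g, hgΩ, hgg, hgns, N, hgN, hNN, hNQ, hker⟩ :=
      exists_minus_a_invol (F := F) k hkeven (by omega) a b hab
    obtain ⟨W, hWdim, hWnd, hWty, hWinv⟩ := H (g : GL ((Fin k ⊕ Fin k) ⊕ Fin 2) F)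
      (Subgroup.mem_map.mpr ⟨g, hgΩ, rfl⟩)
      ⟨1, by
        rw [one_smul, pow_two, ← Units.val_one]
        exact congrArg Units.val (congrArg Subtype.val hgg)⟩ hgns
    have hNinv : Inv N W := by
      rintro _ ⟨w, hw, rfl⟩
      have h5 := hWinv.apply_mem hw
      rw [hgN, LinearMap.add_apply, Module.End.one_apply] at h5
      have : N w = (w + N w) - w := by abel
      rw [this]
      exact W.sub_mem h5 hw
    have hiso : ∀ v, Q (v + N v) = Q v := by
      intro v
      have := Cfsg.Agent.Helper94.Ts.toLin_iso g v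
      rw [hgN, LinearMap.add_apply, Module.End.one_apply] at this
      exact this
    have hhyp := hyp_of_sq_zero_even h2F Q hnd hV N hNN hNQ hiso (by omega) hNinv hWnd hWdim heeven
    have := ((hyp_iff_qType Q hWnd hWdim).mp hhyp).unique hWty
    norm_num at this
  · intro hrhs x hx ⟨z, hz⟩ _
    obtain ⟨g, hgΩ, rfl⟩ := Subgroup.mem_map.mp hx
    set A := ((g : GL ((Fin k ⊕ Fin k) ⊕ Fin 2) F) :
      Matrix ((Fin k ⊕ Fin k) ⊕ Fin 2) ((Fin k ⊕ Fin k) ⊕ Fin 2) F) with hA
    have hz2 : z ^ 2 = 1 := sq_eq_one_of_pow_eq_smul Q hnd g hz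
    have hz1 : z = 1 := Cfsg.Agent.Helper94.OrD.sq_eq_one_char_two hz2
    have hLL := toLin_mul_self_of Q g hz
    rw [← hA, hz1, one_smul] at hLL
    have hiso : ∀ v, Q (Matrix.toLin' A v) = Q v := fun v => Cfsg.Agent.Helper94.Ts.toLin_iso g v
    have hmain := invol_char_two_exists h2F Q hnd (Matrix.toLin' A) hiso hLL
      (fun X hXinv hXnd hpos => invol_char_two_peel h2F Q (Matrix.toLin' A) hiso hLL X hXinv hXnd hpos)
      (k + 1) ⊤ (Cfsg.Agent.Helper59.InvChain.inv_top _) hndtop (by rw [finrank_top, hV]) (-1) hTtop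
      e (by omega)
    obtain ⟨W, -, hWinv, hWnd, hWdim, hWty⟩ := hmain.2 ⟨rfl, he, by
      rcases hrhs with h | h
      · left; exact h
      · right; left; exact h⟩
    exact ⟨W, hWdim, hWnd, hWty, hWinv⟩

end two

end Cfsg.Agent.Helper99.QSpMinus
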