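import Mathlib
import Cfsg.Agent.Helper5.PSL2Simple
import Cfsg.Agent.Helper38.SL2Borel

/-!
# Normal subgroups of `SL₂(F)`, `F` a finite field of odd order

* `sl2_mem_center_of_commutator_mem_center` : the second centre of `SL₂(F)` is the centre.
* `sl2_sup_normal` : two normal subgroups generating `SL₂(F)`: one of them is everything.
* `sl2_center_eq_one_or`, `sl2_exists_not_commute`, `card_field_eq_of_card_sl2_eq`.
-/

namespace Cfsg.Agent.Helper99

open Matrix Matrix.SpecialLinearGroup
open scoped commutatorElement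

variable {F : Type*} [Field F]


/-- a matrix in `SL₂` commuting up to a square-root-of-unity scalar with the upper unit transvection
is upper triangular with equal diagonal entries. -/
theorem sl2_entries_of_scalar_comm_upper (h2 : (2 : F) ≠ 0) (X : Matrix (Fin 2) (Fin 2) F)
    (hdet : X.det = 1) (r : F) (hr : r ^ 2 = 1)
    (h : X * !![1, 1; 0, 1] = (Matrix.scalar (Fin 2) r) * (!![1, 1; 0, 1] * X)) :
    X 1 0 = 0 ∧ X 0 0 = X 1 1 := by
  have h00 := congrFun (congrFun h 0) 0
  have h01 := congrFun (congrFun h 0) 1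
  have h10 := congrFun (congrFun h 1) 0
  have h11 := congrFun (congrFun h 1) 1
  simp [Matrix.mul_apply, Fin.sum_univ_two, Matrix.scalar_apply, Matrix.diagonal_apply,
    Matrix.vecMul, dotProduct] at h00 h01 h10 h11
  rw [Matrix.det_fin_two] at hdet
  have hr' : (r - 1) * (r + 1) = 0 := by linear_combination hr
  rcases mul_eq_zero.1 hr' with hr1 | hr1
  · have : r = 1 := by linear_combination hr1
    subst this
    constructor
    · linear_combination -h00
    · have hc : X 1 0 = 0 := by linear_combination -h00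
      linear_combination h01 
  · have hrm : r = -1 := by linear_combination hr1
    subst hrm
    exfalso
    have hc : (2 : F) * X 1 0 = 0 := by linear_combination h10
    have hc0 : X 1 0 = 0 := by
      rcases mul_eq_zero.1 hc with h | h
      · exact absurd h h2
      · exact h
    have ha : (2 : F) * X 0 0 = 0 := by
      rw [hc0] at h00
      linear_combination h00
    have ha0 : X 0 0 = 0 := by
      rcases mul_eq_zero.1 ha with h | h
      · exact absurd h h2
      · exact h
    rw [hc0, ha0] at hdet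
    simp at hdet

theorem sl2_entries_of_scalar_comm_lower (h2 : (2 : F) ≠ 0) (X : Matrix (Fin 2) (Fin 2) F)
    (hdet : X.det = 1) (r : F) (hr : r ^ 2 = 1)
    (h : X * !![1, 0; 1, 1] = (Matrix.scalar (Fin 2) r) * (!![1, 0; 1, 1] * X)) :
    X 0 1 = 0 ∧ X 0 0 = X 1 1 := by
  have h00 := congrFun (congrFun h 0) 0
  have h01 := congrFun (congrFun h 0) 1
  have h10 := congrFun (congrFun h 1) 0
  have h11 := congrFun (congrFun h 1) 1
  simp [Matrix.mul_apply, Fin.sum_univ_two, Matrix.scalar_apply, Matrix.diagonal_apply,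
    Matrix.vecMul, dotProduct] at h00 h01 h10 h11
  rw [Matrix.det_fin_two] at hdet
  have hr' : (r - 1) * (r + 1) = 0 := by linear_combination hr
  rcases mul_eq_zero.1 hr' with hr1 | hr1
  · have : r = 1 := by linear_combination hr1
    subst this
    constructor
    · linear_combination h00
    · have hc : X 0 1 = 0 := by linear_combination h00
      linear_combination -h10
  · have hrm : r = -1 := by linear_combination hr1
    subst hrm
    exfalso
    have hc : (2 : F) * X 0 1 = 0 := by linear_combination h01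
    have hc0 : X 0 1 = 0 := by
      rcases mul_eq_zero.1 hc with h | h
      · exact absurd h h2
      · exact h
    have ha : (2 : F) * X 1 1 = 0 := by
      rw [hc0] at h11
      linear_combination h11
    have ha0 : X 1 1 = 0 := by
      rcases mul_eq_zero.1 ha with h | h
      · exact absurd h h2
      · exact h
    rw [hc0, ha0] at hdet
    simp at hdet

theorem sl2_mem_center_of_commutator_mem_center (h2 : (2 : F) ≠ 0)
    (x : SpecialLinearGroup (Fin 2) F)
    (h : ∀ y : SpecialLinearGroup (Fin 2) F,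
      ⁅x, y⁆ ∈ Subgroup.center (SpecialLinearGroup (Fin 2) F)) :
    x ∈ Subgroup.center (SpecialLinearGroup (Fin 2) F) := by
  have key : ∀ y : SpecialLinearGroup (Fin 2) F, ∃ r : F, r ^ 2 = 1 ∧
      x.val * y.val = (Matrix.scalar (Fin 2) r) * (y.val * x.val) := by
    intro y
    obtain ⟨r, hr, hrc⟩ := Matrix.SpecialLinearGroup.mem_center_iff.1 (h y)
    refine ⟨r, by simpa using hr, ?_⟩
    have h1 : x * y = ⁅x, y⁆ * (y * x) := by
      rw [commutatorElement_def]; group
    have h2 := congrArg Subtype.val h1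
    rw [Matrix.SpecialLinearGroup.coe_mul, Matrix.SpecialLinearGroup.coe_mul,
      Matrix.SpecialLinearGroup.coe_mul, ← hrc] at h2
    exact h2
  obtain ⟨r1, hr1, e1⟩ := key ⟨!![1, 1; 0, 1], by simp [Matrix.det_fin_two]⟩
  obtain ⟨r2, hr2, e2⟩ := key ⟨!![1, 0; 1, 1], by simp [Matrix.det_fin_two]⟩
  obtain ⟨hc, had⟩ := sl2_entries_of_scalar_comm_upper h2 x.val x.2 r1 hr1 e1
  obtain ⟨hb, -⟩ := sl2_entries_of_scalar_comm_lower h2 x.val x.2 r2 hr2 e2
  rw [Matrix.SpecialLinearGroup.mem_center_iff]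
  refine ⟨x.val 0 0, ?_, ?_⟩
  · have hdet := x.2
    rw [Matrix.det_fin_two, hc, ← had] at hdet
    simp only [Fintype.card_fin]
    linear_combination hdet
  · ext i j
    fin_cases i <;> fin_cases j <;> simp [Matrix.scalar_apply, hc, hb, had]



theorem commutatorElement_mul_center {G : Type*} [Group G] (a₁ a₂ z₁ z₂ : G)
    (hz₁ : z₁ ∈ Subgroup.center G) (hz₂ : z₂ ∈ Subgroup.center G) :
    ⁅a₁ * z₁, a₂ * z₂⁆ = ⁅a₁, a₂⁆ := by
  rw [commutatorElement_def, commutatorElement_def]
  have c1 := Subgroup.mem_center_iff.1 hz₁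
  have c2 := Subgroup.mem_center_iff.1 hz₂
  calc a₁ * z₁ * (a₂ * z₂) * (a₁ * z₁)⁻¹ * (a₂ * z₂)⁻¹ 
      = a₁ * (z₁ * (a₂ * z₂)) * z₁⁻¹ * a₁⁻¹ * z₂⁻¹ * a₂⁻¹ := by group
    _ = a₁ * ((a₂ * z₂) * z₁) * z₁⁻¹ * a₁⁻¹ * z₂⁻¹ * a₂⁻¹ := by rw [← c1 (a₂ * z₂)]
    _ = a₁ * a₂ * (z₂ * a₁⁻¹) * z₂⁻¹ * a₂⁻¹ := by group
    _ = a₁ * a₂ * (a₁⁻¹ * z₂) * z₂⁻¹ * a₂⁻¹ := by rw [← c2 a₁⁻¹]
    _ = a₁ * a₂ * a₁⁻¹ * a₂⁻¹ := by group

theorem sl2_normal_le_center_or_eq_top [Fintype F] (h4 : 4 ≤ Fintype.card F)
    (A : Subgroup (SpecialLinearGroup (Fin 2) F)) [hA : A.Normal] :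
    A ≤ Subgroup.center (SpecialLinearGroup (Fin 2) F) ∨ A = ⊤ := by
  have := Helper5.isSimpleGroup_PSL2_of_card (F := F) h4
  have hperf : commutator (SpecialLinearGroup (Fin 2) F) = ⊤ :=
    Helper5.commutator_SL_eq_top_of_exists (Helper5.exists_sq_ne_one_of_card h4)
  set π := QuotientGroup.mk' (Subgroup.center (SpecialLinearGroup (Fin 2) F)) with hπ
  have hsurj : Function.Surjective π := QuotientGroup.mk'_surjective _
  have hn : (A.map π).Normal := hA.map π hsurj
  have hn' : (A.map π : Subgroup (Matrix.ProjectiveSpecialLinearGroup (Fin 2) F)).Normal := hn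
  rcases hn'.eq_bot_or_eq_top with h | h
  · left
    have h' : A.map π = ⊥ := h
    rw [Subgroup.map_eq_bot_iff, QuotientGroup.ker_mk'] at h'
    exact h'
  · right
    have h' : A.map π = ⊤ := h
    have hdec : ∀ s : SpecialLinearGroup (Fin 2) F, ∃ a ∈ A, ∃ z ∈ Subgroup.center (SpecialLinearGroup (Fin 2) F), s = a * z := by
      intro s
      have hs : π s ∈ A.map π := by rw [h']; trivial
      obtain ⟨a, ha, has⟩ := hs
      refine ⟨a, ha, a⁻¹ * s, ?_, by group⟩
      have : π (a⁻¹ * s) = 1 := by rw [map_mul, map_inv, has]; group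
      rwa [← MonoidHom.mem_ker, QuotientGroup.ker_mk'] at this
    rw [eq_top_iff, ← hperf, commutator_def, Subgroup.commutator_le]
    intro g₁ _ g₂ _
    obtain ⟨a₁, ha₁, z₁, hz₁, rfl⟩ := hdec g₁
    obtain ⟨a₂, ha₂, z₂, hz₂, rfl⟩ := hdec g₂
    rw [commutatorElement_mul_center _ _ _ _ hz₁ hz₂]
    exact Subgroup.commutator_le_right A A (Subgroup.commutator_mem_commutator ha₁ ha₂)

theorem sl2_sup_normal_of_four_le [Fintype F] (h4 : 4 ≤ Fintype.card F)
    (A B : Subgroup (SpecialLinearGroup (Fin 2) F)) [hA : A.Normal] [hB : B.Normal]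
    (hAB : A ⊔ B = ⊤) : A = ⊤ ∨ B = ⊤ := by
  rcases sl2_normal_le_center_or_eq_top h4 A with hA1 | hA1
  · rcases sl2_normal_le_center_or_eq_top h4 B with hB1 | hB1
    · exfalso
      have hperf : commutator (SpecialLinearGroup (Fin 2) F) = ⊤ :=
        Helper5.commutator_SL_eq_top_of_exists (Helper5.exists_sq_ne_one_of_card h4)
      have hc : Subgroup.center (SpecialLinearGroup (Fin 2) F) = ⊤ := by
        rw [eq_top_iff, ← hAB]; exact sup_le hA1 hB1
      have hbot : commutator (SpecialLinearGroup (Fin 2) F) = ⊥ := by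
        rw [eq_bot_iff, commutator_def, Subgroup.commutator_le]
        intro g₁ _ g₂ _
        have : g₁ ∈ Subgroup.center (SpecialLinearGroup (Fin 2) F) := by rw [hc]; trivial
        rw [Subgroup.mem_bot, commutatorElement_eq_one_iff_mul_comm]
        exact ((Subgroup.mem_center_iff.1 this) g₂).symm
      have htop : (⊤ : Subgroup (SpecialLinearGroup (Fin 2) F)) = ⊥ := by rw [← hperf, hbot]
      have := Helper5.isSimpleGroup_PSL2_of_card (F := F) h4
      have hnt : Nontrivial (Matrix.ProjectiveSpecialLinearGroup (Fin 2) F) := inferInstance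
      obtain ⟨x, y, hxy⟩ := hnt
      apply hxy
      obtain ⟨x', rfl⟩ := QuotientGroup.mk_surjective x
      obtain ⟨y', rfl⟩ := QuotientGroup.mk_surjective y
      have hx : x' ∈ (⊥ : Subgroup (SpecialLinearGroup (Fin 2) F)) := by rw [← htop]; trivial
      have hy : y' ∈ (⊥ : Subgroup (SpecialLinearGroup (Fin 2) F)) := by rw [← htop]; trivial
      rw [Subgroup.mem_bot] at hx hy
      rw [hx, hy]
    · exact Or.inr hB1
  · exact Or.inl hA1



theorem card_sl2_of_card_three [Fintype F] (h3 : Fintype.card F = 3) :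
    Nat.card (SpecialLinearGroup (Fin 2) F) = 24 := by
  have h := Helper38.card_SL2_mul (F := F)
  rw [h3] at h
  norm_num at h
  omega

theorem transvection_pow_three [Fintype F] (h3 : Fintype.card F = 3) {i j : Fin 2} (hij : i ≠ j)
    (c : F) : (SpecialLinearGroup.transvection hij c) ^ 3 = 1 := by
  have h30 : (3 : F) = 0 := by
    have := FiniteField.cast_card_eq_zero F
    rw [h3] at this
    exact_mod_cast this
  rw [pow_succ, pow_two, ← SpecialLinearGroup.transvection_add, ← SpecialLinearGroup.transvection_add]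
  have : c + c + c = 0 := by linear_combination c * h30
  rw [this, SpecialLinearGroup.transvection_coeff_zero]

theorem sl2_three_eq_top_of_three_dvd [Fintype F] (h3 : Fintype.card F = 3)
    (A : Subgroup (SpecialLinearGroup (Fin 2) F)) [hA : A.Normal] (hd : 3 ∣ Nat.card A) : A = ⊤ := by
  have hcard := card_sl2_of_card_three h3
  have hci := A.card_mul_index
  rw [hcard] at hci
  have hidx : A.index ∣ 8 := by
    obtain ⟨k, hk⟩ := hd
    rw [hk] at hci
    exact ⟨k, by lia⟩
  rw [eq_top_iff]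
  intro M _
  refine Helper5.transvection_induction (fun M => M ∈ A) ?_ (fun X Y hX hY => mul_mem hX hY) M
  intro i j hij c
  set t := SpecialLinearGroup.transvection hij c with ht
  have h1 : t ^ A.index ∈ A := A.pow_index_mem t
  obtain ⟨m, hm⟩ := hidx
  have h8 : t ^ 8 ∈ A := by
    rw [hm, pow_mul]; exact pow_mem h1 m
  have h9 : t ^ 9 = 1 := by
    rw [show 9 = 3 * 3 from rfl, pow_mul, transvection_pow_three h3 hij c, one_pow]
  have : t⁻¹ = t ^ 8 := by
    rw [inv_eq_iff_mul_eq_one, ← pow_succ', h9]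
  have hinv : t⁻¹ ∈ A := by rw [this]; exact h8
  simpa using inv_mem hinv

theorem sl2_sup_normal_of_card_three [Fintype F] (h3 : Fintype.card F = 3)
    (A B : Subgroup (SpecialLinearGroup (Fin 2) F)) [hA : A.Normal] [hB : B.Normal]
    (hAB : A ⊔ B = ⊤) : A = ⊤ ∨ B = ⊤ := by
  have hcard := card_sl2_of_card_three h3
  have hci := A.card_mul_index
  rw [hcard] at hci
  have hidx : A.index ∣ Nat.card B := by
    rw [← Subgroup.relIndex_top_right, ← hAB, Subgroup.relIndex_sup_left]
    exact Subgroup.relIndex_dvd_card A B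
  have h3d : 3 ∣ Nat.card A * Nat.card B := by
    obtain ⟨k, hk⟩ := hidx
    rw [hk, ← mul_assoc, hci]
    exact ⟨8 * k, by ring⟩
  rcases (Nat.Prime.dvd_mul Nat.prime_three).1 h3d with h | h
  · exact Or.inl (sl2_three_eq_top_of_three_dvd h3 A h)
  · exact Or.inr (sl2_three_eq_top_of_three_dvd h3 B h)

/-- In `SL₂(F)`, `F` a finite field of odd order, two normal subgroups generating the whole group:
one of them is the whole group. -/
theorem sl2_sup_normal [Fintype F] (hodd : Odd (Fintype.card F))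
    (A B : Subgroup (SpecialLinearGroup (Fin 2) F)) [hA : A.Normal] [hB : B.Normal]
    (hAB : A ⊔ B = ⊤) : A = ⊤ ∨ B = ⊤ := by
  by_cases h4 : 4 ≤ Fintype.card F
  · exact sl2_sup_normal_of_four_le h4 A B hAB
  · have h1 : 1 < Fintype.card F := Fintype.one_lt_card
    have h3 : Fintype.card F = 3 := by
      obtain ⟨k, hk⟩ := hodd
      omega
    exact sl2_sup_normal_of_card_three h3 A B hAB

theorem two_ne_zero_of_odd_card [Fintype F] (hodd : Odd (Fintype.card F)) : (2 : F) ≠ 0 := by
  intro h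
  have h2 : ringChar F = 2 := CharP.ringChar_of_prime_eq_zero Nat.prime_two (by exact_mod_cast h)
  have := FiniteField.even_card_of_char_two h2
  rw [Nat.odd_iff] at hodd
  omega



/-- the centre of `SL₂(F)`, `char F ≠ 2`, is `{1, j}` for any non-identity central `j` -/
theorem sl2_center_eq_one_or (j s : SpecialLinearGroup (Fin 2) F)
    (hj : j ∈ Subgroup.center (SpecialLinearGroup (Fin 2) F)) (hj1 : j ≠ 1)
    (hs : s ∈ Subgroup.center (SpecialLinearGroup (Fin 2) F)) : s = 1 ∨ s = j := by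
  obtain ⟨r, hr, hrj⟩ := Matrix.SpecialLinearGroup.mem_center_iff.1 hj
  obtain ⟨t, ht, hts⟩ := Matrix.SpecialLinearGroup.mem_center_iff.1 hs
  simp only [Fintype.card_fin] at hr ht
  have hr' : (r - 1) * (r + 1) = 0 := by linear_combination hr
  have ht' : (t - 1) * (t + 1) = 0 := by linear_combination ht
  have hrm : r = -1 := by
    rcases mul_eq_zero.1 hr' with h | h
    · exfalso
      apply hj1
      have : r = 1 := by linear_combination h
      apply Subtype.ext
      rw [← hrj, this]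
      simp
    · linear_combination h
  rcases mul_eq_zero.1 ht' with h | h
  · left
    have : t = 1 := by linear_combination h
    apply Subtype.ext
    rw [← hts, this]
    simp
  · right
    have : t = -1 := by linear_combination h
    apply Subtype.ext
    rw [← hts, ← hrj, this, hrm]

theorem sl2_exists_not_commute : ∃ a b : SpecialLinearGroup (Fin 2) F, a * b ≠ b * a := by
  refine ⟨⟨!![1, 1; 0, 1], by simp [Matrix.det_fin_two]⟩, ⟨!![1, 0; 1, 1], by simp [Matrix.det_fin_two]⟩, ?_⟩
  intro h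
  have h1 : (!![1, 1; 0, 1] : Matrix (Fin 2) (Fin 2) F) * !![1, 0; 1, 1]
      = !![1, 0; 1, 1] * !![1, 1; 0, 1] := congrArg Subtype.val h
  have h2 := congrFun (congrFun h1 0) 0
  simp [Matrix.mul_apply, Fin.sum_univ_two] at h2

theorem card_sl2_eq [Fintype F] (k : ℕ) (hk : Fintype.card F = k + 2) :
    Nat.card (SpecialLinearGroup (Fin 2) F) = (k + 1) * (k + 2) * (k + 3) := by
  have h := Helper38.card_SL2_mul (F := F)
  rw [hk] at h
  have e1 : k + 2 - 1 = k + 1 := by omega
  have e2 : (k + 2) ^ 2 - 1 = (k + 1) * (k + 3) := by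
    have : (k + 2) ^ 2 = (k + 1) * (k + 3) + 1 := by ring
    omega
  have e3 : (k + 2) ^ 2 - (k + 2) = (k + 2) * (k + 1) := by
    have : (k + 2) ^ 2 = (k + 2) * (k + 1) + (k + 2) := by ring
    omega
  rw [e1, e2, e3] at h
  have : (k + 1) * (k + 3) * ((k + 2) * (k + 1)) = ((k + 1) * (k + 2) * (k + 3)) * (k + 1) := by ring
  rw [this] at h
  exact Nat.eq_of_mul_eq_mul_right (by omega) h

theorem card_field_eq_of_card_sl2_eq {F₁ F₂ : Type*} [Field F₁] [Field F₂] [Fintype F₁] [Fintype F₂]
    (h : Nat.card (SpecialLinearGroup (Fin 2) F₁) = Nat.card (SpecialLinearGroup (Fin 2) F₂)) :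
    Fintype.card F₁ = Fintype.card F₂ := by
  have h1 : 1 < Fintype.card F₁ := Fintype.one_lt_card
  have h2 : 1 < Fintype.card F₂ := Fintype.one_lt_card
  obtain ⟨k₁, hk₁⟩ : ∃ k, Fintype.card F₁ = k + 2 := ⟨Fintype.card F₁ - 2, by omega⟩
  obtain ⟨k₂, hk₂⟩ : ∃ k, Fintype.card F₂ = k + 2 := ⟨Fintype.card F₂ - 2, by omega⟩
  rw [card_sl2_eq k₁ hk₁, card_sl2_eq k₂ hk₂] at h
  rw [hk₁, hk₂]
  rcases lt_trichotomy k₁ k₂ with hlt | heq | hgt
  · exfalso
    have : (k₁ + 1) * (k₁ + 2) * (k₁ + 3) < (k₂ + 1) * (k₂ + 2) * (k₂ + 3) := by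
      have a1 : k₁ + 1 < k₂ + 1 := by omega
      have a2 : k₁ + 2 < k₂ + 2 := by omega
      have a3 : k₁ + 3 < k₂ + 3 := by omega
      exact Nat.mul_lt_mul'' (Nat.mul_lt_mul'' a1 a2) a3
    omega
  · rw [heq]
  · exfalso
    have : (k₂ + 1) * (k₂ + 2) * (k₂ + 3) < (k₁ + 1) * (k₁ + 2) * (k₁ + 3) := by
      have a1 : k₂ + 1 < k₁ + 1 := by omega
      have a2 : k₂ + 2 < k₁ + 2 := by omega
      have a3 : k₂ + 3 < k₁ + 3 := by omega
      exact Nat.mul_lt_mul'' (Nat.mul_lt_mul'' a1 a2) a3
    omega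


end Cfsg.Agent.Helper99
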