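import Mathlib
import Cfsg.Agent.Helper99.CentralProd
import Cfsg.Agent.Helper99.SL2Normal

/-!
# A subgroup isomorphic to `SL₂(F)` with a given central involution
-/

namespace Cfsg.Agent.Helper99

open Matrix Matrix.SpecialLinearGroup
open scoped commutatorElement

variable {G : Type*} [Group G] {F : Type*} [Field F]

/-- the embedding `SL₂(F) → G` attached to an isomorphism `L ≃* SL₂(F)` -/
noncomputable def sl2Emb (L : Subgroup G) (e : ↥L ≃* SpecialLinearGroup (Fin 2) F) :
    SpecialLinearGroup (Fin 2) F →* G :=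
  L.subtype.comp e.symm.toMonoidHom

theorem sl2Emb_apply (L : Subgroup G) (e : ↥L ≃* SpecialLinearGroup (Fin 2) F)
    (s : SpecialLinearGroup (Fin 2) F) : sl2Emb L e s = ((e.symm s : ↥L) : G) := rfl

theorem sl2Emb_injective (L : Subgroup G) (e : ↥L ≃* SpecialLinearGroup (Fin 2) F) :
    Function.Injective (sl2Emb L e) := by
  intro a b h
  rw [sl2Emb_apply, sl2Emb_apply] at h
  exact e.symm.injective (Subtype.ext h)

theorem sl2Emb_range (L : Subgroup G) (e : ↥L ≃* SpecialLinearGroup (Fin 2) F) :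
    (sl2Emb L e).range = L := by
  ext x
  constructor
  · rintro ⟨s, rfl⟩
    rw [sl2Emb_apply]
    exact (e.symm s).2
  · intro hx
    refine ⟨e ⟨x, hx⟩, ?_⟩
    rw [sl2Emb_apply]
    simp

theorem sl2Emb_mem_zpowers_iff (L : Subgroup G) (e : ↥L ≃* SpecialLinearGroup (Fin 2) F)
    (j : G) (hj : orderOf j = 2) (hjL : j ∈ L) (hjc : ∀ x ∈ L, j * x = x * j)
    (s : SpecialLinearGroup (Fin 2) F) :
    sl2Emb L e s ∈ Subgroup.zpowers j ↔ s ∈ Subgroup.center (SpecialLinearGroup (Fin 2) F) := by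
  have hmemL : ∀ y, sl2Emb L e y ∈ L := fun y => by rw [sl2Emb_apply]; exact (e.symm y).2
  have hforward : ∀ s, sl2Emb L e s ∈ Subgroup.zpowers j →
      s ∈ Subgroup.center (SpecialLinearGroup (Fin 2) F) := by
    intro s hs
    rw [Subgroup.mem_center_iff]
    intro y
    apply sl2Emb_injective L e
    rw [map_mul, map_mul]
    obtain ⟨k, hk⟩ := hs
    rw [← hk]
    have : ∀ x ∈ L, Commute j x := fun x hx => hjc x hx
    exact ((this _ (hmemL y)).zpow_left k).symm.eq
  constructor
  · exact hforward s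
  · intro hs
    set j₁ := e ⟨j, hjL⟩ with hj₁
    have hfj : sl2Emb L e j₁ = j := by
      rw [sl2Emb_apply, hj₁]; simp
    have hj₁c : j₁ ∈ Subgroup.center (SpecialLinearGroup (Fin 2) F) := by
      apply hforward
      rw [hfj]
      exact Subgroup.mem_zpowers j
    have hj₁1 : j₁ ≠ 1 := by
      intro h
      rw [h, map_one] at hfj
      rw [← hfj, orderOf_one] at hj
      omega
    rcases sl2_center_eq_one_or j₁ s hj₁c hj₁1 hs with h | h
    · rw [h, map_one]; exact Subgroup.one_mem _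
    · rw [h, hfj]; exact Subgroup.mem_zpowers j

theorem sl2Emb_second_center [Fintype F] (hodd : Odd (Fintype.card F)) (L : Subgroup G)
    (e : ↥L ≃* SpecialLinearGroup (Fin 2) F)
    (j : G) (hj : orderOf j = 2) (hjL : j ∈ L) (hjc : ∀ x ∈ L, j * x = x * j)
    (x : SpecialLinearGroup (Fin 2) F)
    (hx : ∀ y, sl2Emb L e (x⁻¹ * y⁻¹ * x * y) ∈ Subgroup.zpowers j) :
    sl2Emb L e x ∈ Subgroup.zpowers j := by
  rw [sl2Emb_mem_zpowers_iff L e j hj hjL hjc]
  have h2 := two_ne_zero_of_odd_card hodd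
  have : x⁻¹ ∈ Subgroup.center (SpecialLinearGroup (Fin 2) F) := by
    apply sl2_mem_center_of_commutator_mem_center h2
    intro y
    have := hx y⁻¹
    rw [sl2Emb_mem_zpowers_iff L e j hj hjL hjc] at this
    rw [commutatorElement_def]
    simpa using this
  simpa using inv_mem this

theorem sl2Emb_not_le_zpowers (L : Subgroup G) (e : ↥L ≃* SpecialLinearGroup (Fin 2) F)
    (j : G) : ¬ L ≤ Subgroup.zpowers j := by
  intro hle
  obtain ⟨a, b, hab⟩ := sl2_exists_not_commute (F := F)
  apply hab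
  apply sl2Emb_injective L e
  rw [map_mul, map_mul]
  have ha : sl2Emb L e a ∈ Subgroup.zpowers j := hle (by rw [sl2Emb_apply]; exact (e.symm a).2)
  have hb : sl2Emb L e b ∈ Subgroup.zpowers j := hle (by rw [sl2Emb_apply]; exact (e.symm b).2)
  obtain ⟨k, hk⟩ := ha
  obtain ⟨l, hl⟩ := hb
  rw [← hk, ← hl]
  exact ((Commute.refl j).zpow_zpow k l).eq

end Cfsg.Agent.Helper99
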