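import Mathlib
import Cfsg.Agent.Helper99.SpNdD
import Cfsg.Agent.Helper43.JTForm

/-!
# Unipotent isometries of an alternating form in odd characteristic: invariant nondegenerate
subspaces of all the dimensions allowed by the Jordan type
-/

set_option autoImplicit false
set_option linter.unusedSectionVars false

namespace Cfsg.Agent.Helper99.SpNd

open Module
open Cfsg.Agent.Helper99.SpStruct
open Cfsg.Agent.Helper43.JT Cfsg.Agent.Helper99.KdimSplit

universe u v

variable {F : Type u} [Field F] {V : Type v} [AddCommGroup V] [Module F V] [FiniteDimensional F V]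

theorem kOn_bot (N : Module.End F V) (l : ℕ) : kOn N ⊥ l = 0 := by
  unfold kOn
  rw [bot_inf_eq, finrank_bot]

/-- the induction over atoms -/
theorem exists_inv_nd_of_sub_type (h2 : (2 : F) ≠ 0) (B : LinearMap.BilinForm F V) (hB : B.IsAlt)
    (N : Module.End F V) (hiso : ∀ u v, B (u + N u) (v + N v) = B u v) (hnil : IsNilpotent N) :
    ∀ n : ℕ, ∀ M : Submodule F V, finrank F ↥M = n → Inv N M → Nd B M →
      ∀ μ ν : Multiset ℕ, (∀ b ∈ μ, 0 < b) → (∀ l, minSum μ l = kOn N M l) → ν ≤ μ →
        (∀ a : ℕ, Odd a → Even (ν.count a)) →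
        ∃ W : Submodule F V, W ≤ M ∧ Inv N W ∧ Nd B W ∧ finrank F ↥W = ν.sum := by
  classical
  set X : Module.End F V := 1 + N with hX
  have hXB : ∀ u v, B (X u) (X v) = B u v := by
    intro u v
    rw [hX, one_add_apply', one_add_apply']
    exact hiso u v
  have hinj : Function.Injective X := by
    have hu : IsUnit X := by
      rw [hX, add_comm]
      exact hnil.isUnit_add_one
    exact ((Module.End.isUnit_iff X).mp hu).injective
  intro n
  induction n using Nat.strong_induction_on with
  | _ n ih =>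
    intro M hMn hM hMnd μ ν hμpos hμ hνμ hνpar
    by_cases hM0 : M = ⊥
    · -- trivial case
      have hμ0 : μ = 0 := by
        apply eq_of_minSum_eq μ 0 hμpos (by simp)
        intro l
        rw [hμ, hM0, kOn_bot, minSum_zero]
      rw [hμ0] at hνμ
      have hν0 : ν = 0 := le_antisymm hνμ (Multiset.zero_le _)
      exact ⟨⊥, bot_le, inv_bot N, nd_bot, by rw [hν0, finrank_bot, Multiset.sum_zero]⟩
    · -- the nilpotency index on `M`
      have hex : ∃ e, ∀ x ∈ M, (N ^ e) x = 0 := by
        obtain ⟨k, hk⟩ := hnil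
        exact ⟨k, fun x _ => by rw [hk, LinearMap.zero_apply]⟩
      set e := Nat.find hex with he
      have hespec : ∀ x ∈ M, (N ^ e) x = 0 := Nat.find_spec hex
      have he0 : e ≠ 0 := by
        intro h0
        apply hM0
        rw [eq_bot_iff]
        intro x hx
        have := hespec x hx
        rw [h0, pow_zero, Module.End.one_apply] at this
        rw [this]
        exact Submodule.zero_mem _
      obtain ⟨e', he'⟩ : ∃ e', e = e' + 1 := ⟨e - 1, by omega⟩
      have hne : ∃ x ∈ M, (N ^ e') x ≠ 0 := by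
        have := Nat.find_min hex (m := e') (by omega)
        push Not at this
        exact this
      rw [he'] at hespec
      obtain ⟨A, hAM, hAinv, hAnd, s, hs, hAdim, hAk⟩ :=
        exists_atom h2 B hB N hiso M hM hMnd e' hespec hne
      have hMX : Inv X M := (inv_one_add_iff N M).mpr hM
      have hAX : Inv X A := (inv_one_add_iff N A).mpr hAinv
      obtain ⟨hM'X, hM'nd, hM'dim⟩ := split_atom hB.isRefl hXB hinj hMX hMnd hAM hAX hAnd
      set M' := M ⊓ B.orthogonal A with hM'
      have hM'inv : Inv N M' := (inv_one_add_iff N M').mp hM'X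
      obtain ⟨hsup, hdis⟩ := hAnd.sup_inf_orth hB.isRefl hAM
      have hadd : ∀ l, kOn N M l = kOn N A l + kOn N M' l := by
        intro l
        conv_lhs => rw [← hsup]
        exact kOn_sup N A M' hAinv hM'inv hdis l
      obtain ⟨μ', hμ'pos, hμ'⟩ := exists_type N hnil M' hM'inv
      have hspos : 0 < s := by
        rcases hs with ⟨rfl, _⟩ | ⟨rfl, _⟩ <;> omega
      have hμeq : μ = Multiset.replicate s (e' + 1) + μ' := by
        apply eq_of_minSum_eq μ _ hμpos
        · intro b hb
          rcases Multiset.mem_add.mp hb with h | h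
          · rw [Multiset.eq_of_mem_replicate h]
            omega
          · exact hμ'pos b h
        · intro l
          rw [hμ, hadd, minSum_add, minSum_replicate', hAk, hμ']
      have hlt : finrank F ↥M' < n := by
        have : 0 < (e' + 1) * s := Nat.mul_pos (Nat.succ_pos _) hspos
        omega
      -- the glueing step
      have hglue : ∀ ν' : Multiset ℕ, ν' ≤ μ' → (∀ a : ℕ, Odd a → Even (ν'.count a)) →
          ν.sum = (e' + 1) * s + ν'.sum →
          ∃ W : Submodule F V, W ≤ M ∧ Inv N W ∧ Nd B W ∧ finrank F ↥W = ν.sum := by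
        intro ν' hν'le hν'par hsum
        obtain ⟨W', hW'le, hW'inv, hW'nd, hW'dim⟩ :=
          ih _ hlt M' rfl hM'inv hM'nd μ' ν' hμ'pos hμ' hν'le hν'par
        obtain ⟨g1, g2, g3, g4⟩ := glue_atom hB.isRefl hAM hAX hAnd hW'le
          ((inv_one_add_iff N W').mpr hW'inv) hW'nd
        exact ⟨A ⊔ W', g1, (inv_one_add_iff N _).mp g2, g3, by rw [g4, hAdim, hW'dim, hsum]⟩
      have hskip : ν ≤ μ' →
          ∃ W : Submodule F V, W ≤ M ∧ Inv N W ∧ Nd B W ∧ finrank F ↥W = ν.sum := by
        intro hle
        obtain ⟨W', hW'le, hW'inv, hW'nd, hW'dim⟩ :=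
          ih _ hlt M' rfl hM'inv hM'nd μ' ν hμ'pos hμ' hle hνpar
        exact ⟨W', hW'le.trans inf_le_left, hW'inv, hW'nd, hW'dim⟩
      rcases hs with ⟨rfl, hev⟩ | ⟨rfl, hodd⟩
      · -- one block of even size
        rw [Multiset.replicate_one, Multiset.singleton_add] at hμeq
        by_cases hmem : (e' + 1) ∈ ν
        · obtain ⟨ν', rfl⟩ := Multiset.exists_cons_of_mem hmem
          rw [hμeq, Multiset.cons_le_cons_iff] at hνμ
          refine hglue ν' hνμ ?_ (by rw [Multiset.sum_cons]; ring)
          intro a ha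
          have h1 := hνpar a ha
          rw [Multiset.count_cons_of_ne] at h1
          · exact h1
          · rintro rfl
            exact (Nat.not_odd_iff_even.mpr hev) ha
        · rw [hμeq, Multiset.le_cons_of_notMem hmem] at hνμ
          exact hskip hνμ
      · -- two blocks of odd size
        have hrep : Multiset.replicate 2 (e' + 1) + μ' = (e' + 1) ::ₘ (e' + 1) ::ₘ μ' := by
          rw [show (2 : ℕ) = 1 + 1 from rfl, Multiset.replicate_succ, Multiset.replicate_one,
            Multiset.cons_add, Multiset.singleton_add]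
        rw [hrep] at hμeq
        by_cases hcnt : 2 ≤ ν.count (e' + 1)
        · obtain ⟨ν', rfl⟩ := Cfsg.Agent.Helper99.OrthJT.exists_cons_cons_of_two_le_count hcnt
          rw [hμeq, Multiset.cons_le_cons_iff, Multiset.cons_le_cons_iff] at hνμ
          refine hglue ν' hνμ ?_ (by rw [Multiset.sum_cons, Multiset.sum_cons]; ring)
          intro a ha
          have h1 := hνpar a ha
          rw [Multiset.count_cons, Multiset.count_cons] at h1
          by_cases hae : a = e' + 1
          · rw [if_pos hae] at h1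
            obtain ⟨c, hc⟩ := h1
            exact ⟨c - 1, by omega⟩
          · rw [if_neg hae] at h1
            simpa using h1
        · have h0 : ν.count (e' + 1) = 0 := by
            obtain ⟨c, hc⟩ := hνpar _ hodd
            omega
          have hmem : (e' + 1) ∉ ν := Multiset.count_eq_zero.mp h0
          rw [hμeq, Multiset.le_cons_of_notMem hmem, Multiset.le_cons_of_notMem hmem] at hνμ
          exact hskip hνμ

/-- **Unipotent isometries, odd characteristic.** -/
theorem exists_inv_nd_of_unip (h2 : (2 : F) ≠ 0) (B : LinearMap.BilinForm F V) (hB : B.IsAlt)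
    (hnd : B.Nondegenerate) (X : Module.End F V) (hXB : ∀ u v, B (X u) (X v) = B u v) (p : ℕ)
    (hXp : (X - 1) ^ p = 0) (m : ℕ)
    (H : ∀ μ : Multiset ℕ, (∀ a ∈ μ, 0 < a ∧ a ≤ p) → (∀ a : ℕ, Odd a → Even (μ.count a)) →
      μ.sum = finrank F V →
      ∃ ν : Multiset ℕ, ν ≤ μ ∧ ν.sum = m ∧ ∀ a : ℕ, Odd a → Even (ν.count a)) :
    ∃ W : Submodule F V, Inv X W ∧ Nd B W ∧ finrank F ↥W = m := by
  classical
  set N : Module.End F V := X - 1 with hN
  have hXN : X = 1 + N := by rw [hN]; abel
  have hiso : ∀ u v, B (u + N u) (v + N v) = B u v := by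
    intro u v
    rw [← one_add_apply', ← one_add_apply', ← hXN]
    exact hXB u v
  have hnil : IsNilpotent N := ⟨p, hXp⟩
  have hndtop : Nd B (⊤ : Submodule F V) := by
    rw [nd_iff]
    intro u _ hu
    exact hnd.2 u (fun w => hu w Submodule.mem_top)
  obtain ⟨μ, hμpos, hμ⟩ := exists_type N hnil ⊤ (inv_top N)
  have hk : ∀ l, minSum μ l = kdim N l := fun l => by rw [hμ, kOn_top]
  have hbig : ∀ l, p ≤ l → kdim N l = finrank F V := by
    intro l hl
    exact kdim_of_pow_eq_zero (pow_eq_zero_of_le hl hXp)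
  have hparts : ∀ a ∈ μ, 0 < a ∧ a ≤ p := by
    intro a ha
    refine ⟨hμpos a ha, ?_⟩
    by_contra hcon
    push Not at hcon
    obtain ⟨j, rfl⟩ : ∃ j, a = j + 1 := ⟨a - 1, by have := hμpos a ha; omega⟩
    have h1 := minSum_second_diff μ j
    rw [hk, hk, hk, hbig j (by omega), hbig (j + 1) (by omega), hbig (j + 2) (by omega)] at h1
    have h3 : 0 < μ.count (j + 1) := Multiset.count_pos.mpr ha
    omega
  have hsum : μ.sum = finrank F V := by
    rw [← minSum_of_le μ p (fun b hb => (hparts b hb).2), hk, hbig p le_rfl]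
  have hVeven : Even (finrank F V) := by
    have := even_finrank hB hndtop
    rwa [finrank_top] at this
  have hkeven : ∀ k, Even (kdim N (2 * k)) := by
    intro k
    have h1 := even_finrank_range_pow_of_isom B hB hnd N hiso k
    have h3 := LinearMap.finrank_range_add_finrank_ker (N ^ (2 * k))
    unfold kdim
    obtain ⟨a, ha⟩ := h1
    obtain ⟨b, hb⟩ := hVeven
    exact ⟨b - a, by omega⟩
  have hpar : ∀ a : ℕ, Odd a → Even (μ.count a) := by
    intro a ha
    obtain ⟨k, rfl⟩ := ha
    have h1 := minSum_second_diff μ (2 * k)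
    rw [hk, hk, hk] at h1
    obtain ⟨a1, ha1⟩ := hkeven k
    obtain ⟨a2, ha2⟩ := hkeven (k + 1)
    have h4 : 2 * k + 2 = 2 * (k + 1) := by ring
    rw [h4, ha1, ha2] at h1
    exact ⟨kdim N (2 * k + 1) - a1 - a2, by omega⟩
  obtain ⟨ν, hνμ, hνsum, hνpar⟩ := H μ hparts hpar hsum
  obtain ⟨W, -, hWinv, hWnd, hWdim⟩ := exists_inv_nd_of_sub_type h2 B hB N hiso hnil
    (finrank F ↥(⊤ : Submodule F V)) ⊤ rfl (inv_top N) hndtop μ ν hμpos hμ hνμ hνpar
  refine ⟨W, ?_, hWnd, by rw [hWdim, hνsum]⟩
  rw [hXN]
  exact (inv_one_add_iff N W).mpr hWinv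

end Cfsg.Agent.Helper99.SpNd
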