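import Mathlib
import Cfsg.Agent.Helper99.SpMain

set_option autoImplicit false
set_option linter.unusedSectionVars false
set_option linter.style.haveILetI false

/-!
# Elements of odd prime order `r ≠ p` of `Sp_{2d}(q)` and invariant nondegenerate subspaces
-/

namespace Cfsg.Agent.Helper99.SpNdS

open Module Polynomial Matrix
open Cfsg Cfsg.Geo
open Cfsg.Agent.Helper13 Cfsg.Agent.S0776
open Cfsg.Agent.Helper59.InvChain Cfsg.Agent.Helper59.Elusive
open Cfsg.Agent.Helper99.RDecomp Cfsg.Agent.Helper99.SpStruct Cfsg.Agent.Helper99.SpCount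
open Cfsg.Agent.Helper99.SpElt Cfsg.Agent.Helper99.SpMain

universe u

variable {F : Type u} [Field F] {d : ℕ} [Fintype F] {p : ℕ} [Fact p.Prime] [CharP F p]

/-- (⇐) for semisimple elements of odd prime order -/
theorem exists_inv_nd_of_semisimple (r : ℕ) [Fact r.Prime] (hrp : r ≠ p) (hr2 : r ≠ 2)
    (y : Module.End F (Fin d ⊕ Fin d → F))
    (hiso : ∀ u v, Cfsg.sympForm d F (y u) (y v) = Cfsg.sympForm d F u v) (hy : y ^ r = 1)
    (m : ℕ) (hme : Even m) (hm : m ≤ 2 * d)
    (hcond : m % blockSize (orderOf ((Fintype.card F : ℕ) : ZMod r)) ≤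
      (2 * d) % blockSize (orderOf ((Fintype.card F : ℕ) : ZMod r))) :
    ∃ W : Submodule F (Fin d ⊕ Fin d → F), Inv y W ∧ Nd (omega d F) W ∧ finrank F ↥W = m := by
  have hr : r.Prime := Fact.out
  have hodd : Odd r := hr.odd_of_ne_two hr2
  have h := spSetup_of r hrp y hiso hy
  obtain ⟨hge, -⟩ := finrank_fix_ge h
  set c := blockSize (orderOf ((Fintype.card F : ℕ) : ZMod r)) with hcdef
  have hcpos : 0 < c := blockSize_pos (orderOf_card_pos r hrp)
  have hceven : Even c := even_blockSize _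
  have hrefl := h.alt.isRefl
  have hfnd : Nd (omega d F) (fixSp y) := by
    have := h.nd_inf_fix (inv_top y) nd_top
    rwa [top_inf_eq] at this
  have hcnd : Nd (omega d F) (cycSp r y) := by
    have := h.nd_inf_cyc (inv_top y) nd_top
    rwa [top_inf_eq] at this
  have htot := h.setup.total
  rw [finrank_space] at htot
  obtain ⟨s, hs⟩ := h.blockSize_dvd (inv_cycSp r y) hcnd le_rfl
  rw [← hcdef] at hs
  set j := min s (m / c) with hj
  have hjs : j ≤ s := min_le_left _ _
  have hjm : j ≤ m / c := min_le_right _ _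
  have hjc : j * c ≤ finrank F ↥(cycSp r y) := by
    rw [hs, mul_comm c s]
    exact Nat.mul_le_mul_right c hjs
  obtain ⟨N₁, hN₁le, hN₁inv, hN₁nd, hN₁dim⟩ := h.exists_blocks c hcpos
    (fun W hWi hWn hWc hne => h.exists_block hodd W hWi hWn hWc hne) j (cycSp r y)
    (inv_cycSp r y) hcnd le_rfl hjc
  have hjcm : j * c ≤ m := (Nat.mul_le_mul_right c hjm).trans (Nat.div_mul_le_self m c)
  have hrest_even : Even (m - j * c) :=
    (Nat.even_sub hjcm).mpr ⟨fun _ => hceven.mul_left j, fun _ => hme⟩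
  obtain ⟨k, hk⟩ := hrest_even
  have hrest_le : m - j * c ≤ finrank F ↥(fixSp y) := by
    rcases le_total s (m / c) with hle | hle
    · have hjs' : j = s := min_eq_left hle
      rw [hjs']
      have : s * c = c * s := mul_comm _ _
      omega
    · have hjm' : j = m / c := min_eq_right hle
      rw [hjm']
      have h1 : m - m / c * c = m % c := by
        have := Nat.div_add_mod' m c
        omega
      rw [h1]
      exact hcond.trans hge
  obtain ⟨A, hAle, hAnd, hAdim⟩ := exists_nd_sub h.alt k (fixSp y) hfnd (by omega)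
  have horth : Orth (omega d F) A N₁ := h.orth_fix_cyc.mono hAle hN₁le
  refine ⟨A ⊔ N₁, inv_sup (inv_of_le_fixSp hAle) hN₁inv, hAnd.sup hrefl hN₁nd horth, ?_⟩
  rw [finrank_sup_of_disjoint (horth.disjoint hAnd), hAdim, hN₁dim]
  omega

/-- (⇒), first half: the residue condition -/
theorem mod_le_of_fixes (r : ℕ) [Fact r.Prime] (hrp : r ≠ p) (m : ℕ)
    (hm : m ≤ 2 * d)
    (H : ∀ x : ↥(Matrix.symplecticGroup (Fin d) F), x ^ r = 1 → x ≠ 1 →
      ∃ W : Submodule F (Fin d ⊕ Fin d → F), finrank F ↥W = m ∧ Nd (omega d F) W ∧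
        Inv (Matrix.toLin' (x : Matrix (Fin d ⊕ Fin d) (Fin d ⊕ Fin d) F)) W) :
    m % blockSize (orderOf ((Fintype.card F : ℕ) : ZMod r)) ≤
      (2 * d) % blockSize (orderOf ((Fintype.card F : ℕ) : ZMod r)) := by
  have hr : r.Prime := Fact.out
  set c := blockSize (orderOf ((Fintype.card F : ℕ) : ZMod r)) with hcdef
  have hcpos : 0 < c := blockSize_pos (orderOf_card_pos r hrp)
  by_cases hc2d : c ≤ 2 * d
  · obtain ⟨x, hxr, hfix⟩ := exists_sp_elt (F := F) d r hrp (2 * d / c)
      (Nat.div_pos hc2d hcpos) (Nat.div_mul_le_self _ _)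
    rw [← hcdef, Cfsg.Agent.Helper99.RMain.sub_div_mul] at hfix
    have hmodlt : (2 * d) % c < c := Nat.mod_lt _ hcpos
    have hx1 : x ≠ 1 := by
      rintro rfl
      have : fixSp (Matrix.toLin' ((1 : ↥(Matrix.symplecticGroup (Fin d) F)) :
          Matrix (Fin d ⊕ Fin d) (Fin d ⊕ Fin d) F)) = ⊤ := by
        rw [eq_top_iff]
        intro v _
        rw [mem_fixSp]
        show Matrix.toLin' (1 : Matrix (Fin d ⊕ Fin d) (Fin d ⊕ Fin d) F) v = v
        rw [Matrix.toLin'_one]
        rfl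
      rw [this, finrank_top, finrank_space] at hfix
      omega
    obtain ⟨W, hWdim, hWnd, hWinv⟩ := H x hxr hx1
    have hy := toLin_pow_eq_one x hxr
    have h := spSetup_of r hrp _ (toLin_isom x) hy
    have hsplit := h.setup.split W hWinv
    obtain ⟨j, hj⟩ := h.blockSize_dvd (inv_inf hWinv (inv_cycSp r _)) (h.nd_inf_cyc hWinv hWnd)
      inf_le_right
    rw [← hcdef] at hj
    have hfle : finrank F ↥(W ⊓ fixSp (Matrix.toLin'
        (x : Matrix (Fin d ⊕ Fin d) (Fin d ⊕ Fin d) F))) ≤ (2 * d) % c := by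
      rw [← hfix]
      exact Submodule.finrank_mono inf_le_right
    rw [hWdim, hj] at hsplit
    rw [hsplit, Nat.add_mul_mod_self_left, Nat.mod_eq_of_lt (by omega)]
    exact hfle
  · push Not at hc2d
    rw [Nat.mod_eq_of_lt hc2d]
    exact (Nat.mod_le _ _).trans hm

end Cfsg.Agent.Helper99.SpNdS
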