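import Mathlib
import Cfsg.Agent.Helper99.SpMain
import Cfsg.Agent.Helper99.SpNdF
import Cfsg.Agent.Helper38.SpBlock

set_option autoImplicit false
set_option linter.unusedSectionVars false
set_option linter.style.haveILetI false

/-!
# `Sp_{2d}(F)` is transitive on nondegenerate subspaces of a given dimension; counting
-/

namespace Cfsg.Agent.Helper99.SpNdT

open Module Matrix Pointwise
open Cfsg Cfsg.Geo
open Cfsg.Agent.Helper13 Cfsg.Agent.S0776 Cfsg.Agent.Helper43.Lagr
open Cfsg.Agent.Helper99.SpStruct Cfsg.Agent.Helper99.SpCount Cfsg.Agent.Helper99.SpMain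
open Cfsg.Agent.Helper38

universe u

variable {F : Type u} [Field F] [Fintype F] {d : ℕ}

/-- the nondegenerate subspaces of dimension `m` -/
def NdSub (d : ℕ) (F : Type u) [Field F] (m : ℕ) (W : Submodule F (Fin d ⊕ Fin d → F)) : Prop :=
  finrank F ↥W = m ∧ ∀ u ∈ W, u ≠ 0 → ∃ v ∈ W, Cfsg.sympForm d F u v ≠ 0

theorem NdSub.smul {m : ℕ} {W : Submodule F (Fin d ⊕ Fin d → F)} (h : NdSub d F m W)
    (g : ↥(Matrix.symplecticGroup (Fin d) F)) : NdSub d F m (g • W) := by
  obtain ⟨h1, h2⟩ := h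
  refine ⟨?_, ?_⟩
  · rw [smul_eq_map_spEquiv, ← h1]
    exact LinearEquiv.finrank_map_eq (spEquiv g) W
  · intro u hu hu0
    rw [mem_smul_iff'] at hu
    obtain ⟨u', hu', rfl⟩ := hu
    have hu'0 : u' ≠ 0 := by
      rintro rfl
      exact hu0 (smul_zero g)
    obtain ⟨v', hv', hne⟩ := h2 u' hu' hu'0
    refine ⟨g • v', (mem_smul_iff' g _ _).mpr ⟨v', hv', rfl⟩, ?_⟩
    rw [sympForm_smul]
    exact hne

noncomputable instance instNdAct (m : ℕ) : MulAction ↥(Matrix.symplecticGroup (Fin d) F)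
    {W : Submodule F (Fin d ⊕ Fin d → F) // NdSub d F m W} where
  smul g W := ⟨g • W.1, W.2.smul g⟩
  one_smul W := Subtype.ext (one_smul _ W.1)
  mul_smul g h W := Subtype.ext (mul_smul g h W.1)

theorem ndAct_coe {m : ℕ} (g : ↥(Matrix.symplecticGroup (Fin d) F))
    (W : {W : Submodule F (Fin d ⊕ Fin d → F) // NdSub d F m W}) :
    ((g • W : {W : Submodule F (Fin d ⊕ Fin d → F) // NdSub d F m W}) :
      Submodule F (Fin d ⊕ Fin d → F)) = g • W.1 := rfl

/-- the standard subspace: vectors supported on the first block -/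
def stdSub {a b : ℕ} (F : Type u) [Field F] (h : a + b = d) : Submodule F (Fin d ⊕ Fin d → F) where
  carrier := {v | ∀ y : Fin b ⊕ Fin b, v (Cfsg.Agent.Helper38.spEquiv h (Sum.inr y)) = 0}
  add_mem' := by
    intro u v hu hv y
    rw [Pi.add_apply, hu y, hv y, add_zero]
  zero_mem' := fun _ => rfl
  smul_mem' := by
    intro c v hv y
    rw [Pi.smul_apply, hv y, smul_zero]

theorem mem_stdSub {a b : ℕ} (h : a + b = d) (v : Fin d ⊕ Fin d → F) :
    v ∈ stdSub F h ↔ ∀ y : Fin b ⊕ Fin b, v (Cfsg.Agent.Helper38.spEquiv h (Sum.inr y)) = 0 :=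
  Iff.rfl

theorem J_spEquiv {a b : ℕ} (h : a + b = d)
    (s s' : (Fin a ⊕ Fin a) ⊕ (Fin b ⊕ Fin b)) :
    Matrix.J (Fin d) F (Cfsg.Agent.Helper38.spEquiv h s) (Cfsg.Agent.Helper38.spEquiv h s') =
      Matrix.fromBlocks (Matrix.J (Fin a) F) 0 0 (Matrix.J (Fin b) F) s s' := by
  have h1 := blockSum_J (F := F) h
  have h2 := congrFun (congrFun h1 (Cfsg.Agent.Helper38.spEquiv h s))
    (Cfsg.Agent.Helper38.spEquiv h s')
  rw [← h2]
  show Matrix.reindex _ _ _ _ _ = _
  rw [Matrix.reindex_apply, Matrix.submatrix_apply, Equiv.symm_apply_apply,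
    Equiv.symm_apply_apply]

/-- every nondegenerate subspace of dimension `2a` is the image of the standard one -/
theorem exists_smul_stdSub {a b m : ℕ} (h : a + b = d) (hm : m = 2 * a)
    {W : Submodule F (Fin d ⊕ Fin d → F)} (hW : NdSub d F m W) :
    ∃ g : ↥(Matrix.symplecticGroup (Fin d) F), g • stdSub F h = W := by
  classical
  subst hm
  obtain ⟨hWdim, hWnd'⟩ := hW
  have hAlt := omega_isAlt (F := F) d
  have hrefl : (omega d F).IsRefl := hAlt.isRefl
  have hWnd : Nd (omega d F) W := nd_iff_stmt.mpr hWnd'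
  set W' := (omega d F).orthogonal W with hW'
  have hW'nd : Nd (omega d F) W' := by
    have := hWnd.inf_orth hrefl (le_top : W ≤ ⊤) nd_top
    rwa [top_inf_eq] at this
  have hW'dim : finrank F ↥W' = 2 * b := by
    have := hWnd.finrank_inf_orth hrefl (le_top : W ≤ ⊤)
    rw [top_inf_eq, finrank_top, finrank_space, hWdim, ← hW'] at this
    omega
  obtain ⟨b₁, hb₁⟩ := exists_symp_basis ((omega d F).restrict W) (fun x => hAlt x)
    (Cfsg.Agent.Helper99.SpNd.nondegenerate_restrict_of_nd _ hrefl W hWnd) a hWdim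
  obtain ⟨b₂, hb₂⟩ := exists_symp_basis ((omega d F).restrict W') (fun x => hAlt x)
    (Cfsg.Agent.Helper99.SpNd.nondegenerate_restrict_of_nd _ hrefl W' hW'nd) b hW'dim
  set E := Cfsg.Agent.Helper38.spEquiv h with hE
  set e : (Fin a ⊕ Fin a) ⊕ (Fin b ⊕ Fin b) → (Fin d ⊕ Fin d → F) :=
    Sum.elim (fun x => (b₁ x : Fin d ⊕ Fin d → F)) (fun y => (b₂ y : Fin d ⊕ Fin d → F)) with he
  set G : Matrix (Fin d ⊕ Fin d) (Fin d ⊕ Fin d) F := Matrix.of fun row col => e (E.symm col) row
    with hG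
  have hcol : ∀ c, G.col c = e (E.symm c) := fun c => rfl
  have horth : ∀ x y, Cfsg.sympForm d F (b₁ x : Fin d ⊕ Fin d → F) (b₂ y : Fin d ⊕ Fin d → F) = 0 := by
    intro x y
    have h1 := LinearMap.BilinForm.mem_orthogonal_iff.mp (b₂ y).2 (b₁ x) (b₁ x).2
    rw [← omega_apply]
    exact h1
  have horth' : ∀ x y, Cfsg.sympForm d F (b₂ y : Fin d ⊕ Fin d → F) (b₁ x : Fin d ⊕ Fin d → F) = 0 := by
    intro x y
    rw [← omega_apply]
    apply hrefl
    rw [omega_apply]
    exact horth x y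
  have hgram : ∀ c c', Cfsg.sympForm d F (G.col c) (G.col c') = Matrix.J (Fin d) F c c' := by
    intro c c'
    obtain ⟨s, rfl⟩ := E.surjective c
    obtain ⟨s', rfl⟩ := E.surjective c'
    rw [hcol, hcol, E.symm_apply_apply, E.symm_apply_apply, J_spEquiv h s s']
    rcases s with x | y <;> rcases s' with x' | y'
    · rw [Matrix.fromBlocks_apply₁₁, ← hb₁ x x']
      simp only [he, Sum.elim_inl]
      rw [← omega_apply]
      rfl
    · rw [Matrix.fromBlocks_apply₁₂, Matrix.zero_apply]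
      simp only [he, Sum.elim_inl, Sum.elim_inr]
      exact horth x y'
    · rw [Matrix.fromBlocks_apply₂₁, Matrix.zero_apply]
      simp only [he, Sum.elim_inl, Sum.elim_inr]
      exact horth' x' y
    · rw [Matrix.fromBlocks_apply₂₂, ← hb₂ y y']
      simp only [he, Sum.elim_inr]
      rw [← omega_apply]
      rfl
  have hGmem : G ∈ Matrix.symplecticGroup (Fin d) F := mem_symplecticGroup_of_cols G hgram
  have hGsingle : ∀ s, G *ᵥ (Pi.single (E s) 1) = e s := by
    intro s
    rw [Matrix.mulVec_single_one]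
    show G.col (E s) = e s
    rw [hcol, E.symm_apply_apply]
  refine ⟨⟨G, hGmem⟩, ?_⟩
  apply le_antisymm
  · -- the image is inside `W`
    intro v hv
    rw [mem_smul_iff] at hv
    obtain ⟨u, hu, rfl⟩ := hv
    rw [mem_stdSub] at hu
    have hu_eq : u = ∑ x : Fin a ⊕ Fin a, u (E (Sum.inl x)) • Pi.single (E (Sum.inl x)) (1 : F) := by
      funext c
      obtain ⟨s, rfl⟩ := E.surjective c
      rw [Finset.sum_apply]
      rcases s with x | y
      · rw [Finset.sum_eq_single x]
        · rw [Pi.smul_apply, Pi.single_eq_same, smul_eq_mul, mul_one]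
        · intro x' _ hx'
          rw [Pi.smul_apply, Pi.single_eq_of_ne, smul_zero]
          intro hc
          exact hx' (Sum.inl_injective (E.injective hc)).symm
        · intro hx
          exact absurd (Finset.mem_univ x) hx
      · rw [hu y]
        symm
        apply Finset.sum_eq_zero
        intro x' _
        rw [Pi.smul_apply, Pi.single_eq_of_ne, smul_zero]
        intro hc
        exact Sum.inr_ne_inl (E.injective hc)
    show G *ᵥ u ∈ W
    rw [hu_eq, Matrix.mulVec_sum]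
    apply Submodule.sum_mem
    intro x _
    rw [Matrix.mulVec_smul, hGsingle]
    apply Submodule.smul_mem
    simp only [he, Sum.elim_inl]
    exact (b₁ x).2
  · -- `W` is inside the image
    intro w hw
    rw [mem_smul_iff]
    set v : Fin d ⊕ Fin d → F :=
      ∑ x : Fin a ⊕ Fin a, (b₁.repr ⟨w, hw⟩ x) • Pi.single (E (Sum.inl x)) (1 : F) with hv
    refine ⟨v, ?_, ?_⟩
    · rw [mem_stdSub]
      intro y
      rw [hv, Finset.sum_apply]
      apply Finset.sum_eq_zero
      intro x _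
      rw [Pi.smul_apply, Pi.single_eq_of_ne, smul_zero]
      intro hc
      exact Sum.inr_ne_inl (E.injective hc)
    · show G *ᵥ v = w
      rw [hv, Matrix.mulVec_sum]
      have h1 : ∀ x : Fin a ⊕ Fin a,
          G *ᵥ ((b₁.repr ⟨w, hw⟩ x) • Pi.single (E (Sum.inl x)) (1 : F)) =
          (b₁.repr ⟨w, hw⟩ x) • (b₁ x : Fin d ⊕ Fin d → F) := by
        intro x
        rw [Matrix.mulVec_smul, hGsingle]
        simp only [he, Sum.elim_inl]
      rw [Finset.sum_congr rfl (fun x _ => h1 x)]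
      have h2 := b₁.sum_repr ⟨w, hw⟩
      have h3 := congrArg (Subtype.val : ↥W → (Fin d ⊕ Fin d → F)) h2
      simp only [Submodule.coe_sum, Submodule.coe_smul] at h3
      exact h3

/-- the block-diagonal subgroup stabilises the standard subspace -/
theorem spBlock_smul_stdSub_le {a b : ℕ} (h : a + b = d)
    (AB : ↥(Matrix.symplecticGroup (Fin a) F) × ↥(Matrix.symplecticGroup (Fin b) F)) :
    spBlock h AB • stdSub F h ≤ stdSub F h := by
  classical
  intro v hv
  rw [mem_smul_iff] at hv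
  obtain ⟨u, hu, rfl⟩ := hv
  rw [mem_stdSub] at hu ⊢
  intro y
  set E := Cfsg.Agent.Helper38.spEquiv h with hE
  show (Matrix.reindex E E (Matrix.fromBlocks (AB.1 : Matrix _ _ F) 0 0 (AB.2 : Matrix _ _ F)) *ᵥ u)
    (E (Sum.inr y)) = 0
  rw [Matrix.mulVec, dotProduct]
  rw [← Equiv.sum_comp E]
  rw [Fintype.sum_sum_type]
  have h1 : ∀ x : Fin a ⊕ Fin a,
      Matrix.reindex E E (Matrix.fromBlocks (AB.1 : Matrix _ _ F) 0 0 (AB.2 : Matrix _ _ F))
        (E (Sum.inr y)) (E (Sum.inl x)) * u (E (Sum.inl x)) = 0 := by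
    intro x
    rw [Matrix.reindex_apply, Matrix.submatrix_apply, Equiv.symm_apply_apply,
      Equiv.symm_apply_apply, Matrix.fromBlocks_apply₂₁, Matrix.zero_apply, zero_mul]
  have h2 : ∀ y' : Fin b ⊕ Fin b,
      Matrix.reindex E E (Matrix.fromBlocks (AB.1 : Matrix _ _ F) 0 0 (AB.2 : Matrix _ _ F))
        (E (Sum.inr y)) (E (Sum.inr y')) * u (E (Sum.inr y')) = 0 := by
    intro y'
    rw [hu y', mul_zero]
  rw [Finset.sum_eq_zero (fun x _ => h1 x), Finset.sum_eq_zero (fun y' _ => h2 y'), add_zero]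

theorem spBlock_smul_stdSub {a b : ℕ} (h : a + b = d)
    (AB : ↥(Matrix.symplecticGroup (Fin a) F) × ↥(Matrix.symplecticGroup (Fin b) F)) :
    spBlock h AB • stdSub F h = stdSub F h := by
  apply le_antisymm (spBlock_smul_stdSub_le h AB)
  have h1 := spBlock_smul_stdSub_le (F := F) h AB⁻¹
  rw [map_inv] at h1
  intro v hv
  have h2 : (spBlock h AB)⁻¹ • v ∈ (spBlock h AB)⁻¹ • stdSub F h :=
    Submodule.smul_mem_pointwise_smul _ _ _ hv
  have h3 := h1 h2
  have h4 : spBlock h AB • ((spBlock h AB)⁻¹ • v) ∈ spBlock h AB • stdSub F h :=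
    Submodule.smul_mem_pointwise_smul _ _ _ h3
  rwa [smul_inv_smul] at h4

/-- the counting consequence of transitivity -/
theorem card_mul_dvd {a b m : ℕ} (h : a + b = d) (hm : m = 2 * a)
    (W₁ : {W : Submodule F (Fin d ⊕ Fin d → F) // NdSub d F m W}) :
    Nat.card {W : Submodule F (Fin d ⊕ Fin d → F) // NdSub d F m W} *
      (Nat.card ↥(Matrix.symplecticGroup (Fin a) F) *
        Nat.card ↥(Matrix.symplecticGroup (Fin b) F)) ∣
      Nat.card ↥(Matrix.symplecticGroup (Fin d) F) := by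
  classical
  obtain ⟨g₁, hg₁⟩ := exists_smul_stdSub h hm W₁.2
  have hstd : NdSub d F m (stdSub F h) := by
    have := W₁.2.smul g₁⁻¹
    rwa [← hg₁, inv_smul_smul] at this
  set W₀ : {W : Submodule F (Fin d ⊕ Fin d → F) // NdSub d F m W} := ⟨stdSub F h, hstd⟩
    with hW₀
  have htrans : MulAction.IsPretransitive ↥(Matrix.symplecticGroup (Fin d) F)
      {W : Submodule F (Fin d ⊕ Fin d → F) // NdSub d F m W} := by
    refine ⟨fun U U' => ?_⟩
    obtain ⟨g, hg⟩ := exists_smul_stdSub h hm U.2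
    obtain ⟨g', hg'⟩ := exists_smul_stdSub h hm U'.2
    refine ⟨g' * g⁻¹, ?_⟩
    apply Subtype.ext
    rw [ndAct_coe, ← hg, ← hg', mul_smul, inv_smul_smul]
  have hidx := MulAction.index_stabilizer_of_transitive ↥(Matrix.symplecticGroup (Fin d) F) W₀
  have hle : (spBlock (F := F) h).range ≤
      MulAction.stabilizer ↥(Matrix.symplecticGroup (Fin d) F) W₀ := by
    rintro _ ⟨AB, rfl⟩
    rw [MulAction.mem_stabilizer_iff]
    apply Subtype.ext
    rw [ndAct_coe]
    exact spBlock_smul_stdSub h AB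
  have hcard : Nat.card ↥(spBlock (F := F) h).range =
      Nat.card ↥(Matrix.symplecticGroup (Fin a) F) *
        Nat.card ↥(Matrix.symplecticGroup (Fin b) F) := by
    rw [← Nat.card_prod]
    exact (Nat.card_congr (MonoidHom.ofInjective (spBlock_injective (F := F) h)).toEquiv).symm
  have hdvd := Subgroup.card_dvd_of_le hle
  rw [hcard] at hdvd
  rw [← hidx, ← Subgroup.index_mul_card
    (MulAction.stabilizer ↥(Matrix.symplecticGroup (Fin d) F) W₀)]
  exact Nat.mul_dvd_mul_left _ hdvd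

end Cfsg.Agent.Helper99.SpNdT
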