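import Mathlib
import Cfsg.Agent.Helper99.SpNdE
import Cfsg.Agent.Helper99.SpNdF
import Cfsg.Agent.Helper99.OrthJTF
import Cfsg.Agent.Helper43.JTSpConj

/-!
# Unipotent elements of `Sp_{2d}(q)` of given Jordan type; the restriction lemma for alternating forms
-/

set_option autoImplicit false
set_option linter.unusedSectionVars false

namespace Cfsg.Agent.Helper99.SpNd

open Module
open Cfsg.Agent.Helper99.SpStruct
open Cfsg.Agent.Helper43 Cfsg.Agent.Helper43.JT Cfsg.Agent.Helper99.KdimSplit
open Cfsg.Agent.Helper43.SpSS Cfsg.Agent.Helper43.SpCount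

universe u v

/-- the combinatorial core, with parity at the odd parts. -/
theorem exists_sub_multiset_odd (μ : Multiset ℕ) (kU kW : ℕ → ℕ) (a : ℕ)
    (hadd : ∀ l, minSum μ l = kU l + kW l)
    (hU0 : kU 0 = 0)
    (hUc : ∀ l, kU (l + 2) + kU l ≤ 2 * kU (l + 1))
    (hWc : ∀ l, kW (l + 2) + kW l ≤ 2 * kW (l + 1))
    (L : ℕ) (hL : kU L = a) (hL1 : kU (L + 1) = a)
    (heven : ∀ k, Even (kU (2 * k))) :
    ∃ ν : Multiset ℕ, ν ≤ μ ∧ ν.sum = a ∧ ∀ e : ℕ, Odd e → Even (ν.count e) := by
  classical
  set c : ℕ → ℕ := fun j => 2 * kU (j + 1) - kU j - kU (j + 2) with hc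
  have hceq : ∀ j, c j + kU j + kU (j + 2) = 2 * kU (j + 1) := by
    intro j
    have := hUc j
    simp only [hc]
    omega
  have hcle : ∀ j, c j ≤ μ.count (j + 1) := by
    intro j
    have h1 := minSum_second_diff μ j
    rw [hadd, hadd, hadd] at h1
    have h2 := hWc j
    have h3 := hceq j
    omega
  have hcount : ∀ j0 : ℕ, (∑ j ∈ Finset.range L, Multiset.replicate (c j) (j + 1)).count (j0 + 1)
      = if j0 ∈ Finset.range L then c j0 else 0 := by
    intro j0
    rw [Multiset.count_sum']
    simp only [Multiset.count_replicate]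
    calc ∑ j ∈ Finset.range L, (if j + 1 = j0 + 1 then c j else 0)
        = ∑ j ∈ Finset.range L, (if j0 = j then c j else 0) := by
          apply Finset.sum_congr rfl
          intro j _
          by_cases h : j = j0
          · subst h; simp
          · rw [if_neg (by omega), if_neg (by omega)]
      _ = if j0 ∈ Finset.range L then c j0 else 0 := Finset.sum_ite_eq _ _ _
  have hcount0 : (∑ j ∈ Finset.range L, Multiset.replicate (c j) (j + 1)).count 0 = 0 := by
    rw [Multiset.count_sum']
    simp only [Multiset.count_replicate]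
    apply Finset.sum_eq_zero
    intro j _
    rw [if_neg (by omega)]
  refine ⟨∑ j ∈ Finset.range L, Multiset.replicate (c j) (j + 1), ?_, ?_, ?_⟩
  · rw [Multiset.le_iff_count]
    intro b
    rcases Nat.eq_zero_or_pos b with hb | hb
    · subst hb
      rw [hcount0]
      exact Nat.zero_le _
    · obtain ⟨j0, rfl⟩ : ∃ j0, b = j0 + 1 := ⟨b - 1, by omega⟩
      rw [hcount]
      calc (if j0 ∈ Finset.range L then c j0 else 0) ≤ c j0 := by split_ifs <;> omega
        _ ≤ μ.count (j0 + 1) := hcle j0
  · have hsum : (∑ j ∈ Finset.range L, Multiset.replicate (c j) (j + 1)).sum =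
        ∑ j ∈ Finset.range L, c j * (j + 1) := by
      rw [Multiset.sum_sum]
      apply Finset.sum_congr rfl
      intro j _
      rw [Multiset.sum_replicate, smul_eq_mul]
    rw [hsum]
    have htel : ∀ M, ∑ j ∈ Finset.range M, c j * (j + 1) + M * kU (M + 1) = (M + 1) * kU M := by
      intro M
      induction M with
      | zero => simp [hU0]
      | succ M ih =>
        rw [Finset.sum_range_succ]
        have h3 := hceq M
        have h4 : M + 1 + 1 = M + 2 := rfl
        rw [h4]
        have h5 : c M * (M + 1) + kU M * (M + 1) + kU (M + 2) * (M + 1) =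
            2 * kU (M + 1) * (M + 1) := by
          rw [← h3]; ring
        nlinarith [ih, h5]
    have := htel L
    rw [hL, hL1] at this
    nlinarith [this]
  · intro e he
    obtain ⟨k, rfl⟩ := he
    rw [hcount]
    split_ifs
    · have h1 := hceq (2 * k)
      obtain ⟨s1, hs1⟩ := heven k
      obtain ⟨s2, hs2⟩ := heven (k + 1)
      have h4 : 2 * k + 2 = 2 * (k + 1) := by omega
      rw [h4, hs2, hs1] at h1
      exact ⟨kU (2 * k + 1) - s1 - s2, by omega⟩
    · exact Even.zero

variable {F : Type u} [Field F]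

section restrict

variable {V : Type v} [AddCommGroup V] [Module F V] [FiniteDimensional F V]

/-- **The restriction lemma, alternating forms.** -/
theorem exists_sub_multiset_of_nd_alt (B : LinearMap.BilinForm F V) (hB : B.IsAlt)
    (X : Module.End F V) (hXB : ∀ x y, B (X x) (X y) = B x y)
    (hnil : IsNilpotent (X - 1)) (μ : Multiset ℕ) (hμ : ∀ l, kdim (X - 1) l = minSum μ l)
    (W : Submodule F V) (hW : Inv X W) (hnd : Nd B W) :
    ∃ ν : Multiset ℕ, ν ≤ μ ∧ ν.sum = finrank F ↥W ∧ ∀ e : ℕ, Odd e → Even (ν.count e) := by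
  classical
  set N : Module.End F V := X - 1 with hN
  have hXN : X = 1 + N := by rw [hN]; abel
  have hiso : ∀ u v, B (u + N u) (v + N v) = B u v := by
    intro u v
    rw [← one_add_apply', ← one_add_apply', ← hXN]
    exact hXB u v
  have hinj : Function.Injective X := by
    have hu : IsUnit X := by
      rw [hXN, add_comm]
      exact hnil.isUnit_add_one
    exact ((Module.End.isUnit_iff X).mp hu).injective
  have hWN : Inv N W := by
    rw [hXN] at hW
    exact (inv_one_add_iff N W).mp hW
  have hW'X : Inv X (B.orthogonal W) := hW.orth hXB hinj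
  have hW'N : Inv N (B.orthogonal W) := by
    rw [hXN] at hW'X
    exact (inv_one_add_iff N _).mp hW'X
  have hcompl := hnd.isCompl hB.isRefl
  have hadd : ∀ l, minSum μ l = kOn N W l + kOn N (B.orthogonal W) l := by
    intro l
    rw [← hμ, ← kOn_top, ← hcompl.sup_eq_top]
    exact kOn_sup N W _ hWN hW'N hcompl.disjoint l
  obtain ⟨n, hn⟩ := hnil
  have hbig : ∀ l, n ≤ l → kOn N W l = finrank F ↥W := by
    intro l hl
    apply kOn_of_pow_eq_zero
    intro x _
    rw [pow_eq_zero_of_le hl hn, LinearMap.zero_apply]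
  -- parity
  have hres := nondegenerate_restrict_of_nd B hB.isRefl W hnd
  have hWeven : Even (finrank F ↥W) := even_finrank hB hnd
  have hpar : ∀ k, Even (kOn N W (2 * k)) := by
    intro k
    have h1 := even_finrank_range_pow_of_isom (B.restrict W) (fun x => hB x) hres
      (N.restrict hWN) (fun x y => hiso x y) k
    have h3 := LinearMap.finrank_range_add_finrank_ker ((N.restrict hWN) ^ (2 * k))
    rw [kOn_eq_kdim N W hWN]
    unfold kdim
    obtain ⟨s, hs⟩ := h1
    obtain ⟨t, ht⟩ := hWeven
    exact ⟨t - s, by omega⟩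
  exact exists_sub_multiset_odd μ (kOn N W) (kOn N (B.orthogonal W)) _ hadd (kOn_zero _ _)
    (kOn_concave N W hWN) (kOn_concave N _ hW'N) n (hbig n le_rfl) (hbig _ (Nat.le_succ _)) hpar

end restrict

/-- multisets with odd parts of even multiplicity are symplectic Jordan types -/
theorem good_of_multiset : ∀ (n : ℕ) (μ : Multiset ℕ), Multiset.card μ = n →
    (∀ b ∈ μ, 0 < b) → (∀ a : ℕ, Odd a → Even (μ.count a)) → Good F (minSum μ) := by
  classical
  intro n
  induction n using Nat.strong_induction_on with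
  | _ n ih =>
    intro μ hcard hpos hpar
    by_cases hμ0 : μ = 0
    · rw [hμ0]
      exact good_congr (fun l => (minSum_zero l).symm) good_zero
    obtain ⟨b, hb⟩ := Multiset.exists_mem_of_ne_zero hμ0
    have hbpos := hpos b hb
    rcases Nat.even_or_odd b with hev | hodd
    · obtain ⟨μ', rfl⟩ := Multiset.exists_cons_of_mem hb
      obtain ⟨k, hk⟩ : ∃ k, b = 2 * (k + 1) := by
        obtain ⟨t, ht⟩ := hev
        exact ⟨t - 1, by omega⟩
      rw [Multiset.card_cons] at hcard
      have h1 := ih (Multiset.card μ') (by omega) μ' rfl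
        (fun c hc => hpos c (Multiset.mem_cons_of_mem hc))
        (by
          intro a ha
          have h2 := hpar a ha
          rw [Multiset.count_cons_of_ne] at h2
          · exact h2
          · rintro rfl
            exact (Nat.not_odd_iff_even.mpr hev) ha)
      refine good_congr ?_ (good_add (good_even_block (F := F) k) h1)
      intro l
      rw [minSum_cons, hk]
    · have hcnt : 2 ≤ μ.count b := by
        obtain ⟨t, ht⟩ := hpar b hodd
        have : 0 < μ.count b := Multiset.count_pos.mpr hb
        omega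
      obtain ⟨μ', rfl⟩ := Cfsg.Agent.Helper99.OrthJT.exists_cons_cons_of_two_le_count hcnt
      rw [Multiset.card_cons, Multiset.card_cons] at hcard
      have h1 := ih (Multiset.card μ') (by omega) μ' rfl
        (fun c hc => hpos c (Multiset.mem_cons_of_mem (Multiset.mem_cons_of_mem hc)))
        (by
          intro a ha
          have h2 := hpar a ha
          rw [Multiset.count_cons, Multiset.count_cons] at h2
          by_cases hab : a = b
          · rw [if_pos hab] at h2
            obtain ⟨c, hc⟩ := h2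
            exact ⟨c - 1, by omega⟩
          · rw [if_neg hab] at h2
            simpa using h2)
      refine good_congr ?_ (good_add (good_pair (F := F) b) h1)
      intro l
      rw [minSum_cons, minSum_cons]
      ring

/-- **Existence.** Unipotent elements of `Sp_{2d}(q)` of every admissible Jordan type. -/
theorem exists_sp_unip [Fintype F] {p : ℕ} [Fact p.Prime] [CharP F p]
    (d : ℕ) (μ : Multiset ℕ) (hμ : ∀ b ∈ μ, 0 < b ∧ b ≤ p)
    (hpar : ∀ a : ℕ, Odd a → Even (μ.count a)) (hsum : μ.sum = 2 * d)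
    (hne : ∃ b ∈ μ, 2 ≤ b) :
    ∃ x : ↥(Matrix.symplecticGroup (Fin d) F), x ^ p = 1 ∧
      ((x : Matrix (Fin d ⊕ Fin d) (Fin d ⊕ Fin d) F) - 1) ^ p = 0 ∧
      (∀ z : F, (x : Matrix (Fin d ⊕ Fin d) (Fin d ⊕ Fin d) F) ≠ z • 1) ∧
      ∀ l, kdim (Matrix.toLin' ((x : Matrix (Fin d ⊕ Fin d) (Fin d ⊕ Fin d) F) - 1)) l
        = minSum μ l := by
  classical
  obtain ⟨V, _, _, _, N, hN, hk, B, halt, hnd, hiso⟩ :=
    good_of_multiset (F := F) _ μ rfl (fun b hb => (hμ b hb).1) hpar
  have hcard : Fintype.card (Fin d ⊕ Fin d) = 2 * d := by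
    rw [Fintype.card_sum, Fintype.card_fin, two_mul]
  have hfinV : finrank F V = 2 * d := by
    obtain ⟨n, hn⟩ := hN
    have h1 : kdim N (max n μ.sum) = finrank F V :=
      kdim_of_pow_eq_zero (pow_eq_zero_of_le (le_max_left _ _) hn)
    rw [hk, minSum_of_le μ _ (fun b hb => (Multiset.le_sum_of_mem hb).trans (le_max_right _ _)),
      hsum] at h1
    exact h1.symm
  have hdim : finrank F V = finrank F (Fin d ⊕ Fin d → F) := by
    rw [hfinV, Module.finrank_fintype_fun_eq_card, hcard]
  obtain ⟨φ, hφ⟩ := exists_isometry_alt halt hnd (Bn_alt (n := d) (F := F))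
    (Bn_nondeg (n := d) (F := F)) hdim
  set g : Module.End F V := 1 + N with hg
  set g' : Module.End F (Fin d ⊕ Fin d → F) := φ.conj g with hg'def
  have hg' : ∀ u, g' u = φ (g (φ.symm u)) := fun u => LinearEquiv.conj_apply_apply _ _ _
  set A : Matrix (Fin d ⊕ Fin d) (Fin d ⊕ Fin d) F := LinearMap.toMatrix' g' with hA
  have hAlin : Matrix.toLin' A = g' := Matrix.toLin'_toMatrix' _
  have hAv : ∀ v, A.mulVec v = g' v := by
    intro v
    rw [← Matrix.toLin'_apply, hAlin]
  have hgiso : ∀ x y, B (g x) (g y) = B x y := by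
    intro x y
    rw [hg, one_add_apply', one_add_apply']
    exact hiso x y
  have hAmem : A ∈ Matrix.symplecticGroup (Fin d) F := by
    rw [Cfsg.Agent.Helper13.mem_symplecticGroup_iff_preserves]
    intro u v
    rw [hAv, hAv, ← Bn_apply, ← Bn_apply, hg', hg', hφ, hgiso, ← hφ,
      LinearEquiv.apply_symm_apply, LinearEquiv.apply_symm_apply]
  have hsub : Matrix.toLin' (A - 1) = φ.conj N := by
    rw [map_sub, hAlin, Matrix.toLin'_one, hg'def, hg, map_add]
    have h1 : φ.conj (1 : Module.End F V) = 1 := by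
      apply LinearMap.ext
      intro u
      rw [LinearEquiv.conj_apply_apply, Module.End.one_apply, LinearEquiv.apply_symm_apply]
      rfl
    rw [h1]
    apply LinearMap.ext
    intro u
    simp
  have hxk : ∀ l, kdim (Matrix.toLin' (A - 1)) l = minSum μ l := by
    intro l
    rw [← hk, hsub]
    symm
    apply kdim_conj φ
    intro x
    rw [LinearEquiv.conj_apply_apply, LinearEquiv.symm_apply_apply]
  have hkp : kdim (Matrix.toLin' (A - 1)) p = Fintype.card (Fin d ⊕ Fin d) := by
    rw [hxk, hcard, minSum_of_le μ p (fun b hb => (hμ b hb).2), hsum]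
  have hdpos : 0 < d := by
    obtain ⟨b, hb, hb2⟩ := hne
    have := Multiset.le_sum_of_mem hb
    omega
  have : Nonempty (Fin d ⊕ Fin d) := ⟨Sum.inl ⟨0, hdpos⟩⟩
  obtain ⟨hNp, hMp⟩ := Cfsg.Agent.Helper99.OrthJT.pow_char_eq_one_of_kdim A hkp
  have hns := Cfsg.Agent.Helper99.OrthJT.not_scalar_of_kdim A p hNp (by
    rw [hxk, hcard, ← hsum]
    exact Cfsg.Agent.Helper99.JordanElt.minSum_one_lt μ (fun b hb => (hμ b hb).1) hne)
  refine ⟨⟨A, hAmem⟩, ?_, hNp, hns, hxk⟩
  apply Subtype.ext
  rw [SubmonoidClass.coe_pow]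
  exact hMp

end Cfsg.Agent.Helper99.SpNd
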