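import Mathlib
import Cfsg.Agent.Helper99.SpNdH
import Cfsg.Agent.Helper5.SpCard

set_option autoImplicit false
set_option linter.unusedSectionVars false
set_option linter.style.haveILetI false

/-!
# The arithmetic consequence of the count of nondegenerate subspaces
-/

namespace Cfsg.Agent.Helper99.SpNdT

open Module Matrix Pointwise
open Cfsg Cfsg.Geo
open Cfsg.Agent.Helper99.SpStruct

universe u

variable {F : Type u} [Field F] [Fintype F] {d : ℕ}

/-- a prime `r ≠ p` dividing the number of nondegenerate `m`-spaces: some multiple of the block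
size lies in `(2d - m, 2d]`. -/
theorem mod_lt_of_dvd_card {p : ℕ} [Fact p.Prime] [CharP F p] {a b m : ℕ} (h : a + b = d)
    (hm : m = 2 * a) (r : ℕ) [Fact r.Prime] (hrp : r ≠ p)
    (W₁ : {W : Submodule F (Fin d ⊕ Fin d → F) // NdSub d F m W})
    (hΩ : r ∣ Nat.card {W : Submodule F (Fin d ⊕ Fin d → F) // NdSub d F m W}) :
    (2 * d) % blockSize (orderOf ((Fintype.card F : ℕ) : ZMod r)) < m := by
  have hr : r.Prime := Fact.out
  have h1 := card_mul_dvd h hm W₁
  rw [Cfsg.Agent.Helper5.card_sp, Cfsg.Agent.Helper5.card_sp, Cfsg.Agent.Helper5.card_sp] at h1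
  set q := Fintype.card F with hq
  set N := Nat.card {W : Submodule F (Fin d ⊕ Fin d → F) // NdSub d F m W} with hN
  set P : ℕ → ℕ := fun k => ∏ i ∈ Finset.range k, (q ^ (2 * (i + 1)) - 1) with hP
  have hq2 : 2 ≤ q := by
    have := Fintype.one_lt_card (α := F)
    omega
  have hrq : ¬ r ∣ q := by
    obtain ⟨k, hp, hk⟩ := FiniteField.card F p
    intro hdvd
    rw [hq, hk] at hdvd
    have := (Nat.prime_dvd_prime_iff_eq hr hp).mp (hr.dvd_of_dvd_pow hdvd)
    exact hrp this
  have hfac : ∀ i, 0 < q ^ (2 * (i + 1)) - 1 := by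
    intro i
    have : 2 ≤ q ^ (2 * (i + 1)) := by
      calc 2 ≤ q := hq2
        _ = q ^ 1 := (pow_one q).symm
        _ ≤ q ^ (2 * (i + 1)) := Nat.pow_le_pow_right (by omega) (by omega)
    omega
  have hPpos : ∀ k, 0 < P k := fun k => Finset.prod_pos (fun i _ => hfac i)
  have hPd : P d = P b * ∏ i ∈ Finset.range a, (q ^ (2 * (b + i + 1)) - 1) := by
    simp only [hP]
    rw [← h, add_comm a b, Finset.prod_range_add]
  set R := ∏ i ∈ Finset.range a, (q ^ (2 * (b + i + 1)) - 1) with hR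
  have h2 : P b * (N * (q ^ (a ^ 2) * P a * q ^ (b ^ 2))) ∣ P b * (q ^ (d ^ 2) * R) := by
    have e1 : P b * (N * (q ^ (a ^ 2) * P a * q ^ (b ^ 2))) =
        N * (q ^ (a ^ 2) * P a * (q ^ (b ^ 2) * P b)) := by ring
    have e2 : P b * (q ^ (d ^ 2) * R) = q ^ (d ^ 2) * P d := by rw [hPd]; ring
    rw [e1, e2]
    exact h1
  have h3 := Nat.dvd_of_mul_dvd_mul_left (hPpos b) h2
  have h4 : r ∣ q ^ (d ^ 2) * R := (hΩ.trans (dvd_mul_right _ _)).trans h3
  have h5 : r ∣ R := by
    rcases (Nat.Prime.dvd_mul hr).mp h4 with h | h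
    · exact absurd (hr.dvd_of_dvd_pow h) hrq
    · exact h
  obtain ⟨i, hi, hri⟩ := (Prime.dvd_finsetProd_iff hr.prime _).mp h5
  rw [Finset.mem_range] at hi
  set j := b + i + 1 with hj
  have hqpos : 1 ≤ q ^ (2 * j) := Nat.one_le_pow _ _ (by omega)
  have h6 : ((q : ℕ) : ZMod r) ^ (2 * j) = 1 := by
    have := (ZMod.natCast_eq_zero_iff _ _).mpr hri
    rw [Nat.cast_sub hqpos, Nat.cast_one, sub_eq_zero, Nat.cast_pow] at this
    exact this
  have h7 := orderOf_dvd_of_pow_eq_one h6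
  have hc : blockSize (orderOf ((q : ℕ) : ZMod r)) ∣ 2 * j := by
    by_cases hie : Even (orderOf ((q : ℕ) : ZMod r))
    · rw [blockSize_even hie]
      exact h7
    · rw [blockSize_odd hie]
      have hcop : Nat.Coprime (orderOf ((q : ℕ) : ZMod r)) 2 := by
        rw [Nat.coprime_two_right]
        exact Nat.not_even_iff_odd.mp hie
      exact Nat.mul_dvd_mul_left 2 (hcop.dvd_of_dvd_mul_left h7)
  obtain ⟨t, ht⟩ := hc
  have h8 : 2 * d = blockSize (orderOf ((q : ℕ) : ZMod r)) * t + (2 * d - 2 * j) := by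
    rw [← ht]
    omega
  rw [h8, Nat.mul_add_mod]
  have := Nat.mod_le (2 * d - 2 * j) (blockSize (orderOf ((q : ℕ) : ZMod r)))
  omega

end Cfsg.Agent.Helper99.SpNdT
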