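import Mathlib
import Cfsg.Agent.Helper99.SpNdG
import Cfsg.Agent.Helper99.SpNdI
import Cfsg.Agent.Helper99.SpNdJ
import Cfsg.Agent.Helper99.SympBilin
import Cfsg.Agent.Helper43.SpInvB

set_option autoImplicit false
set_option linter.unusedSectionVars false
set_option linter.style.haveILetI false

/-!
# `Sp_{2d}(q)` on nondegenerate `m`-spaces: the four cases at the level of matrices
-/

namespace Cfsg.Agent.Helper99.SpNdM

open Module Matrix
open Cfsg Cfsg.Geo
open Cfsg.Agent.Helper13 Cfsg.Agent.S0776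
open Cfsg.Agent.Helper99.SpStruct Cfsg.Agent.Helper99.SpMain
open Cfsg.Agent.Helper43.JT Cfsg.Agent.Helper99.KdimSplit

universe u

variable {F : Type u} [Field F] [Fintype F] {d : ℕ}

/-- the conclusion: an invariant nondegenerate `m`-space -/
def Fixes (d : ℕ) (F : Type u) [Field F] (m : ℕ) (x : ↥(Matrix.symplecticGroup (Fin d) F)) : Prop :=
  ∃ W : Submodule F (Fin d ⊕ Fin d → F), Module.finrank F ↥W = m ∧
    (∀ u ∈ W, u ≠ 0 → ∃ v ∈ W, Cfsg.sympForm d F u v ≠ 0) ∧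
    W.map (Matrix.toLin' (x : Matrix (Fin d ⊕ Fin d) (Fin d ⊕ Fin d) F)) ≤ W

/-- a scalar power of a symplectic matrix is `±1` -/
theorem symp_pow_scalar (hd : 1 ≤ d) (x : ↥(Matrix.symplecticGroup (Fin d) F)) (n : ℕ) (z : F)
    (hz : ((x ^ n : ↥(Matrix.symplecticGroup (Fin d) F)) :
      Matrix (Fin d ⊕ Fin d) (Fin d ⊕ Fin d) F) =
      z • (1 : Matrix (Fin d ⊕ Fin d) (Fin d ⊕ Fin d) F)) : z = 1 ∨ z = -1 := by
  have hne : (Pi.single (Sum.inl ⟨0, hd⟩) 1 : Fin d ⊕ Fin d → F) ≠ 0 := by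
    intro h
    have := congrFun h (Sum.inl ⟨0, hd⟩)
    simp at this
  obtain ⟨w, hw⟩ := Cfsg.Agent.Helper13.sympForm_nondeg_left hne
  have h1 := toLin_isom (x ^ n) w (Pi.single (Sum.inl ⟨0, hd⟩) 1)
  rw [hz] at h1
  simp only [map_smul, Matrix.toLin'_one, LinearMap.smul_apply, LinearMap.id_apply,
    sympForm_smul_left, sympForm_smul_right] at h1
  have h3 : (z * z - 1) * Cfsg.sympForm d F w (Pi.single (Sum.inl ⟨0, hd⟩) 1) = 0 := by
    rw [sub_mul, one_mul, mul_assoc, h1, sub_self]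
  rcases mul_eq_zero.mp h3 with h | h
  · have : (z - 1) * (z + 1) = 0 := by rw [← h]; ring
    rcases mul_eq_zero.mp this with h' | h'
    · left; exact sub_eq_zero.mp h'
    · right; exact eq_neg_of_add_eq_zero_left h'
  · exact absurd h hw

theorem sq_eq_one_of {z : F} (hz : z = 1 ∨ z = -1) : z * z = 1 := by
  rcases hz with rfl | rfl <;> ring

/-- invariance under `z • Y` gives invariance under `Y` -/
theorem map_le_of_smul {V : Type*} [AddCommGroup V] [Module F V] (z : F) (hzz : z * z = 1)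
    (Y : Module.End F V) (W : Submodule F V) (h : ∀ v ∈ W, (z • Y) v ∈ W) : W.map Y ≤ W := by
  rintro _ ⟨v, hv, rfl⟩
  have h1 := W.smul_mem z (h v hv)
  rw [LinearMap.smul_apply, smul_smul, hzz, one_smul] at h1
  exact h1

theorem smul_isom (x : ↥(Matrix.symplecticGroup (Fin d) F)) (z : F) (hzz : z * z = 1)
    (u v : Fin d ⊕ Fin d → F) :
    omega d F ((z • Matrix.toLin' (x : Matrix (Fin d ⊕ Fin d) (Fin d ⊕ Fin d) F)) u)
      ((z • Matrix.toLin' (x : Matrix (Fin d ⊕ Fin d) (Fin d ⊕ Fin d) F)) v) = omega d F u v := by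
  rw [LinearMap.smul_apply, LinearMap.smul_apply, map_smul, map_smul, LinearMap.smul_apply,
    smul_smul, hzz, one_smul, omega_apply, omega_apply]
  exact toLin_isom x u v

theorem coe_pow_eq (x : ↥(Matrix.symplecticGroup (Fin d) F)) (n : ℕ) :
    ((x ^ n : ↥(Matrix.symplecticGroup (Fin d) F)) : Matrix (Fin d ⊕ Fin d) (Fin d ⊕ Fin d) F) =
      (x : Matrix (Fin d ⊕ Fin d) (Fin d ⊕ Fin d) F) ^ n :=
  SubmonoidClass.coe_pow x n

theorem finrank_std : finrank F (Fin d ⊕ Fin d → F) = 2 * d := by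
  rw [Module.finrank_fintype_fun_eq_card, Fintype.card_sum, Fintype.card_fin]
  ring

theorem nd_top' : Nd (omega d F) (⊤ : Submodule F (Fin d ⊕ Fin d → F)) := by
  rw [nd_iff]
  intro u _ hu
  exact (omega_nondegenerate (F := F) d).2 u (fun w => hu w trivial)

/-! ### Case (iii): involutions in odd characteristic -/

theorem fixes_of_sq (h2 : (2 : F) ≠ 0) (hd : 1 ≤ d) (m : ℕ) (hme : Even m) (hm : m ≤ 2 * d)
    (x : ↥(Matrix.symplecticGroup (Fin d) F)) (z : F)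
    (hz : ((x ^ 2 : ↥(Matrix.symplecticGroup (Fin d) F)) :
      Matrix (Fin d ⊕ Fin d) (Fin d ⊕ Fin d) F) =
      z • (1 : Matrix (Fin d ⊕ Fin d) (Fin d ⊕ Fin d) F)) : Fixes d F m x := by
  obtain ⟨hX, hzz⟩ := Cfsg.Agent.Helper99.symp_sq_scalar hd x z hz
  obtain ⟨k, hk⟩ := hme
  obtain ⟨W, hWinv, hWnd, hWdim⟩ := Cfsg.Agent.Helper99.SpNd.exists_inv_nd_of_sq
    (omega_isAlt (F := F) d) h2
    (X := Matrix.toLin' (x : Matrix (Fin d ⊕ Fin d) (Fin d ⊕ Fin d) F))
    (fun u v => by rw [omega_apply, omega_apply]; exact toLin_isom x u v) z hzz hX k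
    (by rw [finrank_std]; omega) nd_top'
  refine ⟨W, by rw [hWdim]; omega, nd_iff_stmt.mp hWnd, ?_⟩
  rintro _ ⟨v, hv, rfl⟩
  exact hWinv v hv

/-! ### Case (i): unipotent elements, odd characteristic -/

section unip

variable {p : ℕ} [Fact p.Prime] [CharP F p]

theorem fixes_of_unip (hp2 : p ≠ 2) (hd : 1 ≤ d) (m : ℕ)
    (H : ∀ μ : Multiset ℕ, (∀ a ∈ μ, 0 < a ∧ a ≤ p) → (∀ a : ℕ, Odd a → Even (μ.count a)) →
      μ.sum = 2 * d →
      ∃ ν : Multiset ℕ, ν ≤ μ ∧ ν.sum = m ∧ ∀ a : ℕ, Odd a → Even (ν.count a))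
    (x : ↥(Matrix.symplecticGroup (Fin d) F)) (z : F)
    (hz : ((x ^ p : ↥(Matrix.symplecticGroup (Fin d) F)) :
      Matrix (Fin d ⊕ Fin d) (Fin d ⊕ Fin d) F) =
      z • (1 : Matrix (Fin d ⊕ Fin d) (Fin d ⊕ Fin d) F)) : Fixes d F m x := by
  classical
  have hp : p.Prime := Fact.out
  have hpodd : Odd p := hp.odd_of_ne_two hp2
  have h2 : (2 : F) ≠ 0 := by
    intro h
    have h1 : ((2 : ℕ) : F) = 0 := by exact_mod_cast h
    rw [CharP.cast_eq_zero_iff F p] at h1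
    have := (Nat.prime_dvd_prime_iff_eq hp Nat.prime_two).mp h1
    exact hp2 this
  have hzz' := symp_pow_scalar hd x p z hz
  have hzz := sq_eq_one_of hzz'
  have : Nonempty (Fin d ⊕ Fin d) := ⟨Sum.inl ⟨0, hd⟩⟩
  rw [coe_pow_eq] at hz
  set M : Matrix (Fin d ⊕ Fin d) (Fin d ⊕ Fin d) F :=
    z • (x : Matrix (Fin d ⊕ Fin d) (Fin d ⊕ Fin d) F) with hM
  have hzp : z ^ (p + 1) = 1 := by
    obtain ⟨t, ht⟩ := hpodd
    have : p + 1 = 2 * (t + 1) := by omega
    rw [this, pow_mul, pow_two, hzz, one_pow]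
  have hMp : M ^ p = 1 := by
    rw [hM, smul_pow, hz, smul_smul, ← pow_succ, hzp, one_smul]
  have hM1 : (M - 1) ^ p = 0 := by
    rw [sub_pow_char_of_commute p (Commute.one_right M), hMp, one_pow, sub_self]
  set X : Module.End F (Fin d ⊕ Fin d → F) :=
    z • Matrix.toLin' (x : Matrix (Fin d ⊕ Fin d) (Fin d ⊕ Fin d) F) with hX
  have hXM : X = Matrix.toLin' M := by
    rw [hX, hM, map_smul]
  have hXp : (X - 1) ^ p = 0 := by
    have h1 : X - 1 = Matrix.toLin' (M - 1) := by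
      rw [hXM, map_sub, Matrix.toLin'_one]
      rfl
    rw [h1, ← Matrix.toLin'_pow, hM1, map_zero]
  obtain ⟨W, hWinv, hWnd, hWdim⟩ := Cfsg.Agent.Helper99.SpNd.exists_inv_nd_of_unip h2 (omega d F)
    (omega_isAlt d) (omega_nondegenerate d) X (smul_isom x z hzz) p hXp m
    (fun μ h1 h2 h3 => H μ h1 h2 (by rw [h3, finrank_std]))
  exact ⟨W, hWdim, nd_iff_stmt.mp hWnd, map_le_of_smul z hzz _ W hWinv⟩

theorem partition_of_fixes (m : ℕ) (hme : Even m) (hm : m ≤ 2 * d)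
    (P : ∀ x : ↥(Matrix.symplecticGroup (Fin d) F),
      (∃ z : F, ((x ^ p : ↥(Matrix.symplecticGroup (Fin d) F)) :
        Matrix (Fin d ⊕ Fin d) (Fin d ⊕ Fin d) F) =
        z • (1 : Matrix (Fin d ⊕ Fin d) (Fin d ⊕ Fin d) F)) →
      (∀ z : F, (x : Matrix (Fin d ⊕ Fin d) (Fin d ⊕ Fin d) F) ≠
        z • (1 : Matrix (Fin d ⊕ Fin d) (Fin d ⊕ Fin d) F)) → Fixes d F m x)
    (μ : Multiset ℕ) (hμ : ∀ a ∈ μ, 0 < a ∧ a ≤ p) (hpar : ∀ a : ℕ, Odd a → Even (μ.count a))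
    (hsum : μ.sum = 2 * d) :
    ∃ ν : Multiset ℕ, ν ≤ μ ∧ ν.sum = m ∧ ∀ a : ℕ, Odd a → Even (ν.count a) := by
  classical
  by_cases hne : ∃ b ∈ μ, 2 ≤ b
  · obtain ⟨x, hxp, hNp, hns, hxk⟩ := Cfsg.Agent.Helper99.SpNd.exists_sp_unip (F := F) (p := p)
      d μ hμ hpar hsum hne
    obtain ⟨W, hWdim, hWnd, hWinv⟩ := P x ⟨1, by rw [hxp, one_smul]; rfl⟩ hns
    have hsub : Matrix.toLin' (x : Matrix (Fin d ⊕ Fin d) (Fin d ⊕ Fin d) F) - 1 =
        Matrix.toLin' ((x : Matrix (Fin d ⊕ Fin d) (Fin d ⊕ Fin d) F) - 1) := by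
      rw [map_sub, Matrix.toLin'_one]
      rfl
    obtain ⟨ν, hν1, hν2, hν3⟩ := Cfsg.Agent.Helper99.SpNd.exists_sub_multiset_of_nd_alt
      (omega d F) (omega_isAlt d)
      (Matrix.toLin' (x : Matrix (Fin d ⊕ Fin d) (Fin d ⊕ Fin d) F))
      (fun u v => by rw [omega_apply, omega_apply]; exact toLin_isom x u v)
      ⟨p, by rw [hsub, ← Matrix.toLin'_pow, hNp, map_zero]⟩ μ
      (fun l => by rw [hsub, hxk]) W
      (fun v hv => hWinv (Submodule.mem_map_of_mem hv)) (nd_iff_stmt.mpr hWnd)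
    exact ⟨ν, hν1, by rw [hν2, hWdim], hν3⟩
  · push Not at hne
    have hone : ∀ b ∈ μ, b = 1 := by
      intro b hb
      have h1 := (hμ b hb).1
      have h2 := hne b hb
      omega
    have hrep : μ = Multiset.replicate (Multiset.card μ) 1 := Multiset.eq_replicate_card.mpr hone
    have hcard' : Multiset.card μ = 2 * d := by
      have h1 : μ.sum = Multiset.card μ := by
        conv_lhs => rw [hrep]
        rw [Multiset.sum_replicate, smul_eq_mul, mul_one]
      omega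
    refine ⟨Multiset.replicate m 1, ?_, ?_, ?_⟩
    · rw [hrep, hcard']
      exact Multiset.replicate_le_replicate 1 |>.mpr hm
    · rw [Multiset.sum_replicate, smul_eq_mul, mul_one]
    · intro a _
      rw [Multiset.count_replicate]
      split_ifs
      · exact hme
      · exact Even.zero

end unip

/-! ### Case (ii): involutions in characteristic two -/

section chartwo

variable [CharP F 2]

theorem two_eq_zero' : (2 : F) = 0 := by
  have := CharP.cast_eq_zero F 2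
  exact_mod_cast this

theorem fixes_char_two (hd : 1 ≤ d) (m : ℕ) (hme : Even m) (hm : m ≤ 2 * d)
    (hcond : (2 * d) % 4 = 2 ∨ m % 4 = 0)
    (x : ↥(Matrix.symplecticGroup (Fin d) F)) (z : F)
    (hz : ((x ^ 2 : ↥(Matrix.symplecticGroup (Fin d) F)) :
      Matrix (Fin d ⊕ Fin d) (Fin d ⊕ Fin d) F) =
      z • (1 : Matrix (Fin d ⊕ Fin d) (Fin d ⊕ Fin d) F)) : Fixes d F m x := by
  classical
  have h20 : (2 : F) = 0 := two_eq_zero'
  have hneg : (-1 : F) = 1 := by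
    have : (1 : F) + 1 = 0 := by rw [one_add_one_eq_two]; exact h20
    exact neg_eq_of_add_eq_zero_left this
  have hz1 : z = 1 := by
    rcases symp_pow_scalar hd x 2 z hz with h | h
    · exact h
    · rw [h, hneg]
  rw [coe_pow_eq, hz1, one_smul] at hz
  set M : Matrix (Fin d ⊕ Fin d) (Fin d ⊕ Fin d) F :=
    (x : Matrix (Fin d ⊕ Fin d) (Fin d ⊕ Fin d) F) with hM
  have hM1 : (M - 1) ^ 2 = 0 := by
    have : (M - 1) ^ 2 = M ^ 2 - (2 : F) • M + 1 := by
      rw [two_smul]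
      noncomm_ring
    rw [this, hz, h20, zero_smul, sub_zero]
    rw [← two_smul F (1 : Matrix (Fin d ⊕ Fin d) (Fin d ⊕ Fin d) F), h20, zero_smul]
  set N : Module.End F (Fin d ⊕ Fin d → F) := Matrix.toLin' (M - 1) with hN
  have hN2 : N ^ 2 = 0 := by
    rw [hN, ← Matrix.toLin'_pow, hM1, map_zero]
  have hXN : ∀ u, u + N u = Matrix.toLin' M u := by
    intro u
    rw [hN, map_sub, Matrix.toLin'_one, LinearMap.sub_apply, LinearMap.id_apply]
    abel
  have hiso : ∀ u v, omega d F (u + N u) (v + N v) = omega d F u v := by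
    intro u v
    rw [hXN, hXN, omega_apply, omega_apply]
    exact toLin_isom x u v
  obtain ⟨k, hk⟩ := hme
  obtain ⟨W, -, hWinv, hWnd, hWdim⟩ := Cfsg.Agent.Helper99.SpNd.exists_inv_nd_char_two (omega d F)
    (omega_isAlt d) N hiso hN2 (2 * d) ⊤ (by rw [finrank_top, finrank_std])
    (Cfsg.Agent.Helper99.SpNd.inv_top N) nd_top' k (by omega)
    (by
      rintro ⟨_, h2, h3⟩
      omega)
  refine ⟨W, by rw [hWdim]; omega, nd_iff_stmt.mp hWnd, ?_⟩
  rintro _ ⟨v, hv, rfl⟩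
  rw [← hXN]
  exact W.add_mem hv (hWinv v hv)

open Cfsg.Agent.Helper43.SpInv in
theorem cond_char_two (hd : 1 ≤ d) (m : ℕ)
    (P : ∀ x : ↥(Matrix.symplecticGroup (Fin d) F),
      (∃ z : F, ((x ^ 2 : ↥(Matrix.symplecticGroup (Fin d) F)) :
        Matrix (Fin d ⊕ Fin d) (Fin d ⊕ Fin d) F) =
        z • (1 : Matrix (Fin d ⊕ Fin d) (Fin d ⊕ Fin d) F)) →
      (∀ z : F, (x : Matrix (Fin d ⊕ Fin d) (Fin d ⊕ Fin d) F) ≠
        z • (1 : Matrix (Fin d ⊕ Fin d) (Fin d ⊕ Fin d) F)) → Fixes d F m x) :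
    (2 * d) % 4 = 2 ∨ m % 4 = 0 := by
  classical
  by_contra hcon
  push Not at hcon
  obtain ⟨h2d, hm4⟩ := hcon
  have hdeven : Even d := by
    rw [Nat.even_iff]
    omega
  have : Nonempty (Fin d ⊕ Fin d) := ⟨Sum.inl ⟨0, hd⟩⟩
  set S : Matrix (Fin d) (Fin d) F := Sm F d d true with hS
  set M : Matrix (Fin d ⊕ Fin d) (Fin d ⊕ Fin d) F := tS S with hM
  have hMmem : M ∈ Matrix.symplecticGroup (Fin d) F := tS_mem (Sm_transpose d true)
  set x : ↥(Matrix.symplecticGroup (Fin d) F) := ⟨M, hMmem⟩ with hx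
  have hMM : M * M = 1 := tS_mul_self S
  have hM1 : (M - 1) ^ 2 = 0 := by
    have h1 : (M - 1) ^ 2 = M * M - (M + M) + 1 := by noncomm_ring
    rw [h1, hMM, mat_add_self, sub_zero, mat_add_self]
  have hrank : (M - 1).rank = d := by
    rw [hM, rank_tS_sub_one, hS]
    exact rank_Sm (le_refl d) true (fun _ => hdeven)
  have hcard : Fintype.card (Fin d ⊕ Fin d) = 2 * d := by
    rw [Fintype.card_sum, Fintype.card_fin, two_mul]
  have hk1 : kdim (Matrix.toLin' (M - 1)) 1 = d := by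
    have := kdim_toLin'_add_rank (M - 1) 1
    rw [pow_one, hrank, hcard] at this
    omega
  have hns := Cfsg.Agent.Helper99.OrthJT.not_scalar_of_kdim M 2 hM1 (by rw [hk1, hcard]; omega)
  have hx2 : ((x ^ 2 : ↥(Matrix.symplecticGroup (Fin d) F)) :
      Matrix (Fin d ⊕ Fin d) (Fin d ⊕ Fin d) F) =
      (1 : F) • (1 : Matrix (Fin d ⊕ Fin d) (Fin d ⊕ Fin d) F) := by
    rw [coe_pow_eq, one_smul, pow_two]
    exact hMM
  obtain ⟨W, hWdim, hWnd, hWinv⟩ := P x ⟨1, hx2⟩ hns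
  set N : Module.End F (Fin d ⊕ Fin d → F) := Matrix.toLin' (M - 1) with hN
  have hN2 : N ^ 2 = 0 := by
    rw [hN, ← Matrix.toLin'_pow, hM1, map_zero]
  have hXN : ∀ u, u + N u = Matrix.toLin' M u := by
    intro u
    rw [hN, map_sub, Matrix.toLin'_one, LinearMap.sub_apply, LinearMap.id_apply]
    abel
  have hiso : ∀ u v, omega d F (u + N u) (v + N v) = omega d F u v := by
    intro u v
    rw [hXN, hXN, omega_apply, omega_apply]
    exact toLin_isom x u v
  have htau : ∀ v, omega d F v (N v) = 0 := by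
    intro v
    have h1 : tau M := (tau_tS_Sm (F := F) (m := d) hd (le_refl d) true).mpr rfl
    have h3 : N v = M *ᵥ v - v := by
      rw [hN, map_sub, Matrix.toLin'_one, LinearMap.sub_apply, LinearMap.id_apply,
        Matrix.toLin'_apply]
    rw [omega_apply, h3, sympForm_sub_right, h1 v, sympForm_self, sub_zero]
  have hWN : Cfsg.Agent.Helper99.SpNd.Inv N W := by
    intro v hv
    have h1 : Matrix.toLin' M v ∈ W := hWinv (Submodule.mem_map_of_mem hv)
    rw [← hXN] at h1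
    have h3 := W.sub_mem h1 hv
    rwa [add_sub_cancel_left] at h3
  have h4 := Cfsg.Agent.Helper99.SpNd.four_dvd_of_a_type (omega d F) (omega_isAlt d) N hiso hN2
    htau (by rw [hk1, finrank_std]) W hWN (nd_iff_stmt.mpr hWnd)
  rw [hWdim] at h4
  omega

end chartwo

end Cfsg.Agent.Helper99.SpNdM
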