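import Mathlib
import Cfsg.Agent.Helper99.SpNdK

set_option autoImplicit false
set_option linter.unusedSectionVars false
set_option linter.style.haveILetI false

/-!
# `Sp_{2d}(q)` on nondegenerate `m`-spaces: semisimple elements of odd prime order
-/

namespace Cfsg.Agent.Helper99.SpNdM

open Module Matrix
open Cfsg Cfsg.Geo
open Cfsg.Agent.Helper13 Cfsg.Agent.S0776
open Cfsg.Agent.Helper99.SpStruct Cfsg.Agent.Helper99.SpMain

universe u

variable {F : Type u} [Field F] [Fintype F] {d : ℕ} {p : ℕ} [Fact p.Prime] [CharP F p]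

theorem fixes_of_semisimple (hd : 1 ≤ d) (r : ℕ) [Fact r.Prime] (hrp : r ≠ p) (hr2 : r ≠ 2)
    (m : ℕ) (hme : Even m) (hm : m ≤ 2 * d)
    (hcond : m % blockSize (orderOf ((Fintype.card F : ℕ) : ZMod r)) ≤
      (2 * d) % blockSize (orderOf ((Fintype.card F : ℕ) : ZMod r)))
    (x : ↥(Matrix.symplecticGroup (Fin d) F)) (z : F)
    (hz : ((x ^ r : ↥(Matrix.symplecticGroup (Fin d) F)) :
      Matrix (Fin d ⊕ Fin d) (Fin d ⊕ Fin d) F) =
      z • (1 : Matrix (Fin d ⊕ Fin d) (Fin d ⊕ Fin d) F)) : Fixes d F m x := by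
  have hr : r.Prime := Fact.out
  have hrodd : Odd r := hr.odd_of_ne_two hr2
  have hzz' := symp_pow_scalar hd x r z hz
  have hzz := sq_eq_one_of hzz'
  rw [coe_pow_eq] at hz
  have hzr : z ^ (r + 1) = 1 := by
    obtain ⟨t, ht⟩ := hrodd
    have : r + 1 = 2 * (t + 1) := by omega
    rw [this, pow_mul, pow_two, hzz, one_pow]
  set Y : Module.End F (Fin d ⊕ Fin d → F) :=
    Matrix.toLin' (x : Matrix (Fin d ⊕ Fin d) (Fin d ⊕ Fin d) F) with hY
  have hYr : Y ^ r = z • (1 : Module.End F (Fin d ⊕ Fin d → F)) := by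
    rw [hY, ← Matrix.toLin'_pow, hz, map_smul, Matrix.toLin'_one]
    rfl
  have hy : (z • Y) ^ r = 1 := by
    rw [smul_pow, hYr, smul_smul, ← pow_succ, hzr, one_smul]
  obtain ⟨W, hWinv, hWnd, hWdim⟩ := Cfsg.Agent.Helper99.SpNdS.exists_inv_nd_of_semisimple r hrp hr2
    (z • Y) (fun u v => by
      have := smul_isom x z hzz u v
      rwa [omega_apply, omega_apply] at this) hy m hme hm hcond
  refine ⟨W, hWdim, nd_iff_stmt.mp hWnd, map_le_of_smul z hzz Y W ?_⟩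
  intro v hv
  exact hWinv (Submodule.mem_map_of_mem hv)

theorem cond_of_semisimple (hd : 1 ≤ d) (r : ℕ) [Fact r.Prime] (hrp : r ≠ p) (hr2 : r ≠ 2)
    (m : ℕ) (hme : Even m) (hm : m ≤ 2 * d)
    (hΩ : r ∣ Nat.card {W : Submodule F (Fin d ⊕ Fin d → F) //
      Module.finrank F ↥W = m ∧ (∀ u ∈ W, u ≠ 0 → ∃ v ∈ W, Cfsg.sympForm d F u v ≠ 0)})
    (P : ∀ x : ↥(Matrix.symplecticGroup (Fin d) F),
      (∃ z : F, ((x ^ r : ↥(Matrix.symplecticGroup (Fin d) F)) :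
        Matrix (Fin d ⊕ Fin d) (Fin d ⊕ Fin d) F) =
        z • (1 : Matrix (Fin d ⊕ Fin d) (Fin d ⊕ Fin d) F)) →
      (∀ z : F, (x : Matrix (Fin d ⊕ Fin d) (Fin d ⊕ Fin d) F) ≠
        z • (1 : Matrix (Fin d ⊕ Fin d) (Fin d ⊕ Fin d) F)) → Fixes d F m x) :
    blockSize (orderOf ((Fintype.card F : ℕ) : ZMod r)) ≤ m ∧
      m % blockSize (orderOf ((Fintype.card F : ℕ) : ZMod r)) ≤
        (2 * d) % blockSize (orderOf ((Fintype.card F : ℕ) : ZMod r)) := by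
  classical
  have hr : r.Prime := Fact.out
  have hrodd : Odd r := hr.odd_of_ne_two hr2
  have hH : ∀ x : ↥(Matrix.symplecticGroup (Fin d) F), x ^ r = 1 → x ≠ 1 →
      ∃ W : Submodule F (Fin d ⊕ Fin d → F), finrank F ↥W = m ∧ Nd (omega d F) W ∧
        Cfsg.Agent.Helper59.InvChain.Inv
          (Matrix.toLin' (x : Matrix (Fin d ⊕ Fin d) (Fin d ⊕ Fin d) F)) W := by
    intro x hxr hx1
    have hns : ∀ z : F, (x : Matrix (Fin d ⊕ Fin d) (Fin d ⊕ Fin d) F) ≠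
        z • (1 : Matrix (Fin d ⊕ Fin d) (Fin d ⊕ Fin d) F) := by
      intro z hxz
      have hzz := sq_eq_one_of (symp_pow_scalar hd x 1 z (by rw [pow_one]; exact hxz))
      have h1 : (x : Matrix (Fin d ⊕ Fin d) (Fin d ⊕ Fin d) F) ^ r = 1 := by
        rw [← coe_pow_eq, hxr]
        rfl
      rw [hxz, smul_pow, one_pow] at h1
      have h3 : z ^ r = 1 := by
        have := congrFun (congrFun h1 (Sum.inl ⟨0, hd⟩)) (Sum.inl ⟨0, hd⟩)
        simpa using this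
      obtain ⟨t, ht⟩ := hrodd
      rw [ht, pow_succ, pow_mul, pow_two, hzz, one_pow, one_mul] at h3
      apply hx1
      apply Subtype.ext
      rw [hxz, h3, one_smul]
      rfl
    obtain ⟨W, hWdim, hWnd, hWinv⟩ := P x ⟨1, by rw [hxr, one_smul]; rfl⟩ hns
    exact ⟨W, hWdim, nd_iff_stmt.mpr hWnd, hWinv⟩
  have hmod := Cfsg.Agent.Helper99.SpNdS.mod_le_of_fixes (F := F) (p := p) r hrp m hm hH
  refine ⟨?_, hmod⟩
  by_contra hlt
  push Not at hlt
  rw [Nat.mod_eq_of_lt hlt] at hmod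
  obtain ⟨k, hk⟩ := hme
  obtain ⟨W₁, -, hW₁nd, hW₁dim⟩ := exists_nd_sub (omega_isAlt (F := F) d) k ⊤ nd_top'
    (by rw [finrank_top, finrank_std]; omega)
  have hW₁ : Cfsg.Agent.Helper99.SpNdT.NdSub d F m W₁ :=
    ⟨by rw [hW₁dim]; omega, nd_iff_stmt.mp hW₁nd⟩
  have h3 := Cfsg.Agent.Helper99.SpNdT.mod_lt_of_dvd_card (F := F) (p := p) (a := k)
    (b := d - k) (m := m) (by omega) (by omega) r hrp ⟨W₁, hW₁⟩ hΩ
  omega

end Cfsg.Agent.Helper99.SpNdM
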