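import Mathlib
import Cfsg.Agent.Helper99.UNdDefs

set_option autoImplicit false

/-!
# (M1c) for S5954: the partition condition in characteristic two
-/

namespace Cfsg.Agent.Helper99.UNdM1c

open Cfsg.Agent.Helper99.UNd

theorem eq_replicate_add (μ : Multiset ℕ) (hμ : ∀ a ∈ μ, 0 < a ∧ a ≤ 2) :
    μ = Multiset.replicate (μ.count 2) 2 + Multiset.replicate (μ.count 1) 1 := by
  ext x
  rw [Multiset.count_add, Multiset.count_replicate, Multiset.count_replicate]
  by_cases h2 : x = 2
  · subst h2
    simp
  · by_cases h1 : x = 1
    · subst h1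
      simp
    · rw [if_neg (Ne.symm h2), if_neg (Ne.symm h1)]
      rw [Multiset.count_eq_zero]
      intro hx
      have := hμ x hx
      omega

theorem partCond_two_iff {n m : ℕ} (hmn : m ≤ n) : PartCond 2 n m ↔ (Odd n ∨ Even m) := by
  constructor
  · intro h
    by_contra hcon
    push Not at hcon
    obtain ⟨hn, hm⟩ := hcon
    have hne : Even n := Nat.not_odd_iff_even.mp hn
    obtain ⟨k, hk⟩ := hne
    obtain ⟨ν, hν, hνs⟩ := h (Multiset.replicate k 2)
      (by
        intro a ha
        rw [Multiset.eq_of_mem_replicate ha]
        omega)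
      (by rw [Multiset.sum_replicate, smul_eq_mul]; omega)
    have h1 : ν = Multiset.replicate (Multiset.card ν) 2 := by
      rw [Multiset.eq_replicate]
      refine ⟨rfl, ?_⟩
      intro b hb
      exact Multiset.eq_of_mem_replicate (Multiset.mem_of_le hν hb)
    rw [h1, Multiset.sum_replicate, smul_eq_mul] at hνs
    apply hm
    rw [← hνs, mul_comm]
    exact even_two_mul _
  · intro h μ hμ hμs
    have hdec := eq_replicate_add μ hμ
    set s := μ.count 2 with hs
    set t := μ.count 1 with ht
    have hn : n = 2 * s + t := by
      rw [← hμs, hdec, Multiset.sum_add, Multiset.sum_replicate, Multiset.sum_replicate,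
        smul_eq_mul, smul_eq_mul]
      ring
    set a := min s (m / 2) with ha
    have ha1 : a ≤ s := min_le_left _ _
    have ha2 : a ≤ m / 2 := min_le_right _ _
    have hb : m - 2 * a ≤ t := by
      rcases le_total s (m / 2) with hle | hle
      · have : a = s := min_eq_left hle
        omega
      · have : a = m / 2 := min_eq_right hle
        rcases h with hodd | hev
        · obtain ⟨k, hk⟩ := hodd
          omega
        · obtain ⟨k, hk⟩ := hev
          omega
    refine ⟨Multiset.replicate a 2 + Multiset.replicate (m - 2 * a) 1, ?_, ?_⟩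
    · rw [hdec]
      exact add_le_add (Multiset.replicate_mono 2 ha1) (Multiset.replicate_mono 1 hb)
    · rw [Multiset.sum_add, Multiset.sum_replicate, Multiset.sum_replicate, smul_eq_mul,
        smul_eq_mul]
      omega

end Cfsg.Agent.Helper99.UNdM1c
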