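import Mathlib
import Cfsg.Agent.Helper99.UNdDefs
import Cfsg.Agent.Helper43.SUClsC

set_option autoImplicit false

/-!
# (PU) for S5954: unitary matrices with prescribed characteristic polynomial
-/

namespace Cfsg.Agent.Helper99.UNdPU

open Matrix Polynomial
open Cfsg.Agent.Helper99.UNd
open Cfsg.Agent.Helper43.GUPrime (utilde)
open Cfsg.Agent.Helper43

variable {F : Type*} [Field F]

theorem exists_unitary_of_poly [Fintype F] (p : ℕ) [Fact p.Prime] [CharP F p] {q : ℕ}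
    (hF : Fintype.card F = q ^ 2) (bar : F →+* F) (hbar : ∀ x, bar x = x ^ q) (n r : ℕ)
    (z : F) (hz : z ≠ 0) (hrF : (r : F) ≠ 0) (f : F[X]) (hfm : f.Monic) (hfd : f.natDegree = n)
    (hfu : utilde bar f = f)
    (hfac : ∀ P : F[X], P.Monic → Irreducible P → P ∣ f → P ∣ (X ^ r - C z : F[X])) :
    ∃ B : Matrix (Fin n) (Fin n) F, IsUM n q B ∧ B.charpoly = f ∧
      B ^ r = z • (1 : Matrix (Fin n) (Fin n) F) := by
  have hp : p.Prime := Fact.out
  have hr0 : r ≠ 0 := by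
    rintro rfl
    exact hrF Nat.cast_zero
  have hf0 : f.coeff 0 ≠ 0 := by
    intro h0
    have hXf : (X : F[X]) ∣ f := Polynomial.X_dvd_iff.mpr h0
    have hX := hfac X monic_X irreducible_X hXf
    have h2 := Polynomial.X_dvd_iff.mp hX
    rw [coeff_sub, coeff_X_pow, coeff_C_zero, if_neg (Ne.symm hr0), zero_sub, neg_eq_zero] at h2
    exact hz h2
  obtain ⟨B, k, hk0, hkp, hBk, hBc⟩ := SUCls.exists_GU_of_utilde p hF bar hbar n f hfm hfd hf0 hfu
  refine ⟨((B : GL (Fin n) F) : Matrix (Fin n) (Fin n) F), B.2, hBc, ?_⟩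
  have hkF : (k : F) ≠ 0 := by
    intro h0
    rw [CharP.cast_eq_zero_iff F p k] at h0
    have : p ∣ Nat.gcd k p := Nat.dvd_gcd h0 dvd_rfl
    rw [hkp] at this
    exact hp.one_lt.ne' (Nat.dvd_one.mp this)
  have hBk' : ((B : GL (Fin n) F) : Matrix (Fin n) (Fin n) F) ^ k = 1 := by
    have h1 : ((B : GL (Fin n) F)) ^ k = 1 := by
      rw [← Subgroup.coe_pow, hBk, Subgroup.coe_one]
    rw [← Units.val_pow_eq_pow_val, h1, Units.val_one]
  have hh0 : (X ^ r - C z : F[X]) ≠ 0 := (monic_X_pow_sub_C z hr0).ne_zero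
  have h1 := SS.aeval_eq_zero_of_factors _ k hkF hBk' (X ^ r - C z : F[X]) hh0
    (by rw [hBc]; exact hfac)
  rw [map_sub, map_pow, aeval_X, aeval_C, sub_eq_zero] at h1
  rw [h1, Algebra.algebraMap_eq_smul_one]

end Cfsg.Agent.Helper99.UNdPU
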