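import Mathlib
import Cfsg.Agent.Helper99.UNdDefs
import Cfsg.Agent.Helper11.UNdD
import Cfsg.Agent.Helper11.UNdG6
import Cfsg.Agent.Helper11.UNdR
import Cfsg.Agent.Helper12.UNdN1
import Cfsg.Agent.Helper37.UNdG1
import Cfsg.Agent.Helper38.UNdPB
import Cfsg.Agent.Helper38.UNdPS
import Cfsg.Agent.Helper41.UNdEP
import Cfsg.Agent.Helper41.UNdPF
import Cfsg.Agent.Helper47.UNdG2
import Cfsg.Agent.Helper47.UNdG345
import Cfsg.Agent.Helper48.UNdRP
import Cfsg.Agent.Helper48.UNdT9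
import Cfsg.Agent.Helper49.UNdT6
import Cfsg.Agent.Helper49.UNdV3
import Cfsg.Agent.Helper49.UNdV5
import Cfsg.Agent.Helper53.UNdJ1
import Cfsg.Agent.Helper55.UNdN2
import Cfsg.Agent.Helper55.UNdV1
import Cfsg.Agent.Helper55.UNdW
import Cfsg.Agent.Helper65.UNdV2
import Cfsg.Agent.Helper65.UNdV6
import Cfsg.Agent.Helper97.UNdT2
import Cfsg.Agent.Helper97.UNdT3
import Cfsg.Agent.Helper97.UNdT4
import Cfsg.Agent.Helper97.UNdT8
import Cfsg.Agent.Helper99.UNdJP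
import Cfsg.Agent.Helper99.UNdM1c
import Cfsg.Agent.Helper99.UNdPU

set_option autoImplicit false

/-!
# Glue for S5954: the pieces of WANTED #7815, restated under uniform names
-/

namespace Cfsg.Agent.Helper99.UNdGlue

open Matrix Polynomial
open Cfsg.Agent.Helper99.UNd
open Cfsg.Agent.Helper43.GUPrime (utilde)

variable {F : Type*} [Field F]

/-! ### (R) basic facts about unitary matrices and scalars -/

/-- (R0) unitary matrices are invertible -/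
theorem exists_GL_of_isUM [Fintype F] {q n : ℕ} (hF : Fintype.card F = q ^ 2)
    {A : Matrix (Fin n) (Fin n) F} (hA : IsUM n q A) :
    ∃ g : GL (Fin n) F, (g : Matrix (Fin n) (Fin n) F) = A :=
  Cfsg.Agent.Helper11.UNdR.exists_GL_of_isUM hF hA

/-- (R1) a unitary scalar has norm one -/
theorem norm_of_scalar_isUM {q n : ℕ} (hn : 1 ≤ n) (z : F)
    (h : IsUM n q (z • (1 : Matrix (Fin n) (Fin n) F))) : z ^ (q + 1) = 1 :=
  Cfsg.Agent.Helper11.UNdR.norm_of_scalar_isUM hn z h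

/-- (R2) scaling does not change the invariant subspaces -/
theorem fixesNd_smul_iff {q n m : ℕ} (c : F) (hc : c ≠ 0) (A : Matrix (Fin n) (Fin n) F) :
    FixesNd n q m (c • A) ↔ FixesNd n q m A :=
  Cfsg.Agent.Helper11.UNdR.fixesNd_smul_iff c hc A

/-- (R3) a norm-one multiple of a unitary matrix is unitary -/
theorem isUM_smul {q n : ℕ} (c : F) (hc : c ^ (q + 1) = 1) {A : Matrix (Fin n) (Fin n) F}
    (hA : IsUM n q A) : IsUM n q (c • A) :=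
  Cfsg.Agent.Helper11.UNdR.isUM_smul c hc hA

/-- (D1) the determinant of a unitary matrix has norm one -/
theorem det_norm_of_isUM [Fintype F] {q n : ℕ} (hF : Fintype.card F = q ^ 2)
    {A : Matrix (Fin n) (Fin n) F} (hA : IsUM n q A) : A.det ^ (q + 1) = 1 :=
  Cfsg.Agent.Helper11.UNdD.det_norm_of_isUM hF hA

/-- (D2) the determinant from the characteristic polynomial -/
theorem det_eq_of_charpoly {n : ℕ} (A : Matrix (Fin n) (Fin n) F) :
    A.det = (-1) ^ n * A.charpoly.coeff 0 :=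
  Cfsg.Agent.Helper11.UNdD.det_eq_of_charpoly A

/-- (D3) the characteristic polynomial of a scalar matrix -/
theorem charpoly_scalar {n : ℕ} (a : F) :
    (a • (1 : Matrix (Fin n) (Fin n) F)).charpoly = (X - C a) ^ n :=
  Cfsg.Agent.Helper11.UNdD.charpoly_scalar a

/-! ### (G) geometry: fixing a nondegenerate `m`-space = unitarily conjugate to a block matrix -/

/-- (G1) -/
theorem exists_blk_of_fixesNd [Fintype F] {q : ℕ} (hF : Fintype.card F = q ^ 2) {n m k : ℕ}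
    (hmk : m + k = n) (A : Matrix (Fin n) (Fin n) F) (hA : IsUM n q A) (hfix : FixesNd n q m A) :
    ∃ (g : Matrix (Fin n) (Fin n) F) (B₁ : Matrix (Fin m) (Fin m) F)
      (B₂ : Matrix (Fin k) (Fin k) F),
      IsUM n q g ∧ IsUM m q B₁ ∧ IsUM k q B₂ ∧ A * g = g * blk hmk B₁ B₂ :=
  Cfsg.Agent.Helper37.UNdG1.exists_blk_of_fixesNd hF hmk A hA hfix

/-- (G2) -/
theorem fixesNd_of_blk [Fintype F] {q : ℕ} (hF : Fintype.card F = q ^ 2) {n m k : ℕ}
    (hmk : m + k = n) (A g : Matrix (Fin n) (Fin n) F) (B₁ : Matrix (Fin m) (Fin m) F)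
    (B₂ : Matrix (Fin k) (Fin k) F) (hg : IsUM n q g) (h : A * g = g * blk hmk B₁ B₂) :
    FixesNd n q m A :=
  Cfsg.Agent.Helper47.UNdG2.fixesNd_of_blk hF hmk A g B₁ B₂ hg h

/-- (G3) -/
theorem isUM_blk {q : ℕ} {n m k : ℕ} (hmk : m + k = n) (B₁ : Matrix (Fin m) (Fin m) F)
    (B₂ : Matrix (Fin k) (Fin k) F) (h₁ : IsUM m q B₁) (h₂ : IsUM k q B₂) :
    IsUM n q (blk hmk B₁ B₂) :=
  Cfsg.Agent.Helper47.UNdG345.isUM_blk hmk B₁ B₂ h₁ h₂

/-- (G4) the characteristic polynomial of a block matrix -/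
theorem charpoly_blk {n m k : ℕ} (hmk : m + k = n) (B₁ : Matrix (Fin m) (Fin m) F)
    (B₂ : Matrix (Fin k) (Fin k) F) : (blk hmk B₁ B₂).charpoly = B₁.charpoly * B₂.charpoly :=
  Cfsg.Agent.Helper47.UNdG345.charpoly_blk hmk B₁ B₂

/-- (G5) powers of a block matrix -/
theorem blk_pow {n m k : ℕ} (hmk : m + k = n) (B₁ : Matrix (Fin m) (Fin m) F)
    (B₂ : Matrix (Fin k) (Fin k) F) (j : ℕ) : (blk hmk B₁ B₂) ^ j = blk hmk (B₁ ^ j) (B₂ ^ j) :=
  Cfsg.Agent.Helper47.UNdG345.blk_pow hmk B₁ B₂ j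

/-- (G6) the characteristic polynomial of a unitary matrix is `utilde`-invariant -/
theorem utilde_charpoly_of_isUM [Fintype F] {q : ℕ} (hF : Fintype.card F = q ^ 2)
    (bar : F →+* F) (hbar : ∀ x, bar x = x ^ q) {n : ℕ} {A : Matrix (Fin n) (Fin n) F}
    (hA : IsUM n q A) : utilde bar A.charpoly = A.charpoly :=
  Cfsg.Agent.Helper11.UNdG6.utilde_charpoly_of_isUM hF bar hbar hA

/-! ### (A) the two algebraic criteria -/

/-- (J1) the Jordan type of a block matrix -/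
theorem jtype_blk {n a b : ℕ} (hab : a + b = n) (B₁ : GL (Fin a) F) (B₂ : GL (Fin b) F)
    (y : GL (Fin n) F)
    (hy : (y : Matrix (Fin n) (Fin n) F) =
      blk hab (B₁ : Matrix (Fin a) (Fin a) F) (B₂ : Matrix (Fin b) (Fin b) F)) :
    (Cfsg.Agent.Helper43.SS.IsUnip y ↔
      Cfsg.Agent.Helper43.SS.IsUnip B₁ ∧ Cfsg.Agent.Helper43.SS.IsUnip B₂) ∧
    (Cfsg.Agent.Helper43.SS.IsUnip y →
      ((Cfsg.Agent.Helper43.SS.jtype y : List ℕ) : Multiset ℕ) =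
        ((Cfsg.Agent.Helper43.SS.jtype B₁ : List ℕ) : Multiset ℕ) +
        ((Cfsg.Agent.Helper43.SS.jtype B₂ : List ℕ) : Multiset ℕ)) :=
  Cfsg.Agent.Helper53.UNdJ1.jtype_blk hab B₁ B₂ y hy

/-! ### (U) unipotent bookkeeping, `r = p` -/

/-- (RP) elements with `x ^ p` scalar are scalar multiples of unipotent elements -/
theorem exists_unip_smul [Fintype F] (p : ℕ) [Fact p.Prime] [CharP F p] {q n : ℕ}
    (hF : Fintype.card F = q ^ 2) (hn : 1 ≤ n) (x : Matrix (Fin n) (Fin n) F)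
    (hx : IsElt n q p x) :
    ∃ lam : F, lam ≠ 0 ∧ lam ^ (q + 1) = 1 ∧
      (lam⁻¹ • x) ^ p = 1 ∧ lam⁻¹ • x ≠ 1 :=
  Cfsg.Agent.Helper48.UNdRP.exists_unip_smul p hF hn x hx

/-- (JP) Jordan type of an element with `g ^ p = 1` -/
theorem jtype_of_pow_p_eq_one (p : ℕ) [Fact p.Prime] [CharP F p] {n : ℕ} (g : GL (Fin n) F)
    (hg : (g : Matrix (Fin n) (Fin n) F) ^ p = 1) :
    Cfsg.Agent.Helper43.SS.IsUnip g ∧
      (∀ a ∈ Cfsg.Agent.Helper43.SS.jtype g, 0 < a ∧ a ≤ p) ∧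
      (Cfsg.Agent.Helper43.SS.jtype g).sum = n ∧
      ((g : Matrix (Fin n) (Fin n) F) ≠ 1 → ∃ a ∈ Cfsg.Agent.Helper43.SS.jtype g, 1 < a) :=
  Cfsg.Agent.Helper99.UNdJP.jtype_of_pow_p_eq_one p g hg

/-- (EP) unipotent unitary elements with small Jordan blocks are elements of "order `p`" -/
theorem isElt_of_unip (p : ℕ) [Fact p.Prime] [CharP F p] {q n : ℕ} (g : GL (Fin n) F)
    (hg : IsUM n q (g : Matrix (Fin n) (Fin n) F)) (hu : Cfsg.Agent.Helper43.SS.IsUnip g)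
    (hle : ∀ a ∈ Cfsg.Agent.Helper43.SS.jtype g, a ≤ p)
    (hne : ∃ a ∈ Cfsg.Agent.Helper43.SS.jtype g, 1 < a) :
    IsElt n q p (g : Matrix (Fin n) (Fin n) F) :=
  Cfsg.Agent.Helper41.UNdEP.isElt_of_unip p g hg hu hle hne

/-- (M1c) the partition condition in characteristic two -/
theorem partCond_two_iff {n m : ℕ} (hmn : m ≤ n) : PartCond 2 n m ↔ (Odd n ∨ Even m) :=
  Cfsg.Agent.Helper99.UNdM1c.partCond_two_iff hmn

/-! ### (P) polynomial combinatorics, `r` odd, `r ≠ p` -/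

/-- (PU) unitary matrices with prescribed characteristic polynomial -/
theorem exists_unitary_of_poly [Fintype F] (p : ℕ) [Fact p.Prime] [CharP F p] {q : ℕ}
    (hF : Fintype.card F = q ^ 2) (bar : F →+* F) (hbar : ∀ x, bar x = x ^ q) (n r : ℕ)
    (z : F) (hz : z ≠ 0) (hrF : (r : F) ≠ 0) (f : F[X]) (hfm : f.Monic) (hfd : f.natDegree = n)
    (hfu : utilde bar f = f)
    (hfac : ∀ P : F[X], P.Monic → Irreducible P → P ∣ f → P ∣ (X ^ r - C z : F[X])) :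
    ∃ B : Matrix (Fin n) (Fin n) F, IsUM n q B ∧ B.charpoly = f ∧
      B ^ r = z • (1 : Matrix (Fin n) (Fin n) F) :=
  Cfsg.Agent.Helper99.UNdPU.exists_unitary_of_poly p hF bar hbar n r z hz hrF f hfm hfd hfu hfac

/-- (PF) irreducible factors of the characteristic polynomial of a matrix with `A ^ r = z` -/
theorem dvd_of_dvd_charpoly_of_pow {n r : ℕ} (z : F) (hz : z ≠ 0) (hrF : (r : F) ≠ 0)
    (A : Matrix (Fin n) (Fin n) F) (hA : A ^ r = z • (1 : Matrix (Fin n) (Fin n) F))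
    (P : F[X]) (hPm : P.Monic) (hPi : Irreducible P) (hP : P ∣ A.charpoly) :
    P ∣ (X ^ r - C z : F[X]) :=
  Cfsg.Agent.Helper41.UNdPF.dvd_of_dvd_charpoly_of_pow z hz hrF A hA P hPm hPi hP

/-- (PS) splitting off a `utilde`-invariant factor of degree `m` -/
theorem usplit_of_mod_le [Fintype F] (p : ℕ) [Fact p.Prime] [CharP F p] {q : ℕ}
    (hF : Fintype.card F = q ^ 2) (bar : F →+* F) (hbar : ∀ x, bar x = x ^ q) (r : ℕ)
    (hr : r.Prime) (hr2 : r ≠ 2) (hrp : r ≠ p) (i : ℕ) (hi : i = orderOf (q : ZMod r))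
    (n : ℕ) (f : F[X]) (hfm : f.Monic) (hfd : f.natDegree = n) (hfu : utilde bar f = f)
    (hfac : ∀ P : F[X], P.Monic → Irreducible P → P ∣ f → P ∣ (X ^ r - 1 : F[X]))
    (m : ℕ) (hmn : m ≤ n) (hmod : m % cOf i ≤ n % cOf i) : USplit bar m f :=
  Cfsg.Agent.Helper38.UNdPS.usplit_of_mod_le p hF bar hbar r hr hr2 hrp i hi n f hfm hfd hfu hfac m hmn hmod

/-- (PB) the bad polynomial -/
theorem exists_bad_poly [Fintype F] (p : ℕ) [Fact p.Prime] [CharP F p] {q : ℕ}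
    (hF : Fintype.card F = q ^ 2) (bar : F →+* F) (hbar : ∀ x, bar x = x ^ q) (r : ℕ)
    (hr : r.Prime) (hr2 : r ≠ 2) (hrp : r ≠ p) (i : ℕ) (hi : i = orderOf (q : ZMod r))
    (hi2 : i ≠ 2) (n : ℕ) (hcn : cOf i ≤ n) :
    ∃ f : F[X], f.Monic ∧ f.natDegree = n ∧ utilde bar f = f ∧
      (∀ P : F[X], P.Monic → Irreducible P → P ∣ f → P ∣ (X ^ r - 1 : F[X])) ∧
      (∀ a : F, f ≠ (X - C a) ^ n) ∧
      ∀ m : ℕ, USplit bar m f → m % cOf i ≤ n % cOf i :=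
  Cfsg.Agent.Helper38.UNdPB.exists_bad_poly p hF bar hbar r hr hr2 hrp i hi hi2 n hcn

/-- (W1) roots in the norm-one group, coprime case -/
theorem exists_root_coprime {q r : ℕ} (hcop : Nat.Coprime r (q + 1)) (z : F)
    (hz : z ^ (q + 1) = 1) : ∃ lam : F, lam ^ (q + 1) = 1 ∧ lam ^ r = z :=
  Cfsg.Agent.Helper55.UNdW.exists_root_coprime hcop z hz

/-- (W2) `r ∣ q + 1` iff the order of `q` modulo `r` is two -/
theorem dvd_succ_iff_orderOf {q r : ℕ} (hr : r.Prime) (hr2 : r ≠ 2) :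
    r ∣ q + 1 ↔ orderOf (q : ZMod r) = 2 :=
  Cfsg.Agent.Helper55.UNdW.dvd_succ_iff_orderOf hr hr2

/-! ### (T) `r = 2`, `p` odd -/

/-- (T2) norm-one elements are squares -/
theorem exists_sq_root [Fintype F] {q : ℕ} (hF : Fintype.card F = q ^ 2) (h2 : (2 : F) ≠ 0)
    (z : F) (hz : z ^ (q + 1) = 1) :
    ∃ lam : F, lam * lam = z ∧ (lam ^ (q + 1) = 1 ∨ lam ^ (q + 1) = -1) :=
  Cfsg.Agent.Helper97.UNdT2.exists_sq_root hF h2 z hz

/-- (T3) involutions split in every degree -/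
theorem usplit_of_sq_eq_one (bar : F →+* F) (h2 : (2 : F) ≠ 0) {n m : ℕ} (hmn : m ≤ n)
    (A : Matrix (Fin n) (Fin n) F) (hA : A ^ 2 = 1) : USplit bar m A.charpoly :=
  Cfsg.Agent.Helper97.UNdT3.usplit_of_sq_eq_one bar h2 hmn A hA

/-- (T4) the non-square case -/
theorem usplit_of_sq_nonsquare [Fintype F] {q : ℕ} (hF : Fintype.card F = q ^ 2)
    (bar : F →+* F) (hbar : ∀ x, bar x = x ^ q) (h2 : (2 : F) ≠ 0) {n m : ℕ} (hmn : m ≤ n)
    (A : Matrix (Fin n) (Fin n) F) (hu : utilde bar A.charpoly = A.charpoly) (hdet : A.det = 1)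
    (lam : F) (hlam : lam ^ (q + 1) = -1)
    (hAsq : A ^ 2 = (lam * lam) • (1 : Matrix (Fin n) (Fin n) F))
    (hcond : Odd n ∨ Even m ∨ (padicValNat 2 n ≤ padicValNat 2 (q + 1) ∧ q % 4 = 3)) :
    USplit bar m A.charpoly :=
  Cfsg.Agent.Helper97.UNdT4.usplit_of_sq_nonsquare hF bar hbar h2 hmn A hu hdet lam hlam hAsq hcond

/-- (T6) the bad scalar for `r = 2` -/
theorem exists_bad_z_two [Fintype F] {q : ℕ} (hF : Fintype.card F = q ^ 2) (h2 : (2 : F) ≠ 0)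
    {n : ℕ} (hn : Even n)
    (hcond : ¬ (padicValNat 2 n ≤ padicValNat 2 (q + 1) ∧ q % 4 = 3)) :
    ∃ lam : F, lam ^ (q + 1) = -1 ∧ (-(lam * lam)) ^ (n / 2) = 1 :=
  Cfsg.Agent.Helper49.UNdT6.exists_bad_z_two hF h2 hn hcond

/-- (T8) no odd-degree `utilde`-invariant factor in the non-square case -/
theorem not_usplit_sq [Fintype F] {q : ℕ} (hF : Fintype.card F = q ^ 2)
    (bar : F →+* F) (hbar : ∀ x, bar x = x ^ q) (h2 : (2 : F) ≠ 0) (lam : F)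
    (hlam : lam ^ (q + 1) = -1) (k m : ℕ) (hm : Odd m) :
    ¬ USplit bar m ((X ^ 2 - C (lam * lam) : F[X]) ^ k) :=
  Cfsg.Agent.Helper97.UNdT8.not_usplit_sq hF bar hbar h2 lam hlam k m hm

/-- (T9) `X ^ r - z` is `utilde`-invariant for `z` of norm one -/
theorem utilde_X_pow_sub_C [Fintype F] {q : ℕ} (hF : Fintype.card F = q ^ 2)
    (bar : F →+* F) (hbar : ∀ x, bar x = x ^ q) (r : ℕ) (hr : 0 < r) (z : F)
    (hz : z ^ (q + 1) = 1) : utilde bar (X ^ r - C z : F[X]) = X ^ r - C z :=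
  Cfsg.Agent.Helper48.UNdT9.utilde_X_pow_sub_C hF bar hbar r hr z hz

/-! ### (V) `r` odd, `r ∣ q + 1` -/

/-- (V1) -/
theorem not_pow_of_not_unitary_pow [Fintype F] {q : ℕ} (hF : Fintype.card F = q ^ 2) (r : ℕ)
    (hr : r.Prime) (hr2 : r ≠ 2) (hrq : r ∣ q + 1) (z : F) (hz : z ^ (q + 1) = 1)
    (hno : ¬ ∃ lam : F, lam ^ (q + 1) = 1 ∧ lam ^ r = z) : ∀ b : F, b ^ r ≠ z :=
  Cfsg.Agent.Helper55.UNdV1.not_pow_of_not_unitary_pow hF r hr hr2 hrq z hz hno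

/-- (V2) -/
theorem charpoly_of_irreducible {n r : ℕ} (z : F) (hz : z ≠ 0) (hrF : (r : F) ≠ 0)
    (hirr : Irreducible (X ^ r - C z : F[X])) (A : Matrix (Fin n) (Fin n) F)
    (hA : A ^ r = z • (1 : Matrix (Fin n) (Fin n) F)) :
    ∃ k : ℕ, n = r * k ∧ A.charpoly = (X ^ r - C z : F[X]) ^ k :=
  Cfsg.Agent.Helper65.UNdV2.charpoly_of_irreducible z hz hrF hirr A hA

/-- (V3) -/
theorem exists_unitary_root [Fintype F] {q : ℕ} (hF : Fintype.card F = q ^ 2) (r : ℕ)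
    (hr : r.Prime) (n : ℕ) (hn : 1 ≤ n) (hrn : r ∣ n) (z : F) (hz : z ^ (q + 1) = 1)
    (hzn : z ^ (n / r) = 1) (hv : padicValNat r n ≤ padicValNat r (q + 1)) :
    ∃ lam : F, lam ^ (q + 1) = 1 ∧ lam ^ r = z :=
  Cfsg.Agent.Helper49.UNdV3.exists_unitary_root hF r hr n hn hrn z hz hzn hv

/-- (V5) the bad scalar for `r ∣ q + 1` -/
theorem exists_bad_z_r [Fintype F] {q : ℕ} (hF : Fintype.card F = q ^ 2) (r : ℕ) (hr : r.Prime)
    (hrq : r ∣ q + 1) (n : ℕ) (hn : 1 ≤ n) (hv : padicValNat r (q + 1) < padicValNat r n) :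
    ∃ z : F, z ^ (q + 1) = 1 ∧ (¬ ∃ lam : F, lam ^ (q + 1) = 1 ∧ lam ^ r = z) ∧
      z ^ (n / r) = 1 :=
  Cfsg.Agent.Helper49.UNdV5.exists_bad_z_r hF r hr hrq n hn hv

/-- (V6) monic factors of a power of an irreducible polynomial -/
theorem natDegree_dvd_of_usplit_pow (bar : F →+* F) (g : F[X]) (hg : Irreducible g)
    (hgm : g.Monic) (k m : ℕ) (h : USplit bar m (g ^ k)) : g.natDegree ∣ m :=
  Cfsg.Agent.Helper65.UNdV6.natDegree_dvd_of_usplit_pow bar g hg hgm k m h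

/-! ### (N) the number of nondegenerate `m`-spaces -/

/-- (N1) -/
theorem exists_dvd_of_dvd_card [Fintype F] (p : ℕ) [Fact p.Prime] [CharP F p] {q : ℕ}
    (hF : Fintype.card F = q ^ 2) {n m : ℕ} (hmn : m ≤ n) (r : ℕ) (hr : r.Prime) (hrp : r ≠ p)
    (h : r ∣ Nat.card {W : Submodule F (Fin n → F) //
      Module.finrank F ↥W = m ∧ (∀ u ∈ W, u ≠ 0 → ∃ v ∈ W, Cfsg.hermForm n F q u v ≠ 0)}) :
    ∃ j : ℕ, n - m < j ∧ j ≤ n ∧ (r : ℤ) ∣ (q : ℤ) ^ j - (-1) ^ j :=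
  Cfsg.Agent.Helper12.UNdN1.exists_dvd_of_dvd_card p hF hmn r hr hrp h

/-- (N2) -/
theorem cOf_dvd_of_dvd {q r : ℕ} (hr : r.Prime) (hr2 : r ≠ 2) (hrq : ¬ r ∣ q) (j : ℕ)
    (h : (r : ℤ) ∣ (q : ℤ) ^ j - (-1) ^ j) : cOf (orderOf (q : ZMod r)) ∣ j :=
  Cfsg.Agent.Helper55.UNdN2.cOf_dvd_of_dvd hr hr2 hrq j h

end Cfsg.Agent.Helper99.UNdGlue
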