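import Mathlib
import Cfsg.Agent.Helper99.UNdGlue
import Cfsg.Agent.S2587
import Cfsg.Agent.Helper43.SUClsC
import Cfsg.Agent.Helper73.GUJordan

set_option autoImplicit false

/-!
# S5954: the two algebraic criteria (A1a, A1b, A2a, A2b) from the geometric pieces
-/

namespace Cfsg.Agent.Helper99.UNdA

open Matrix Polynomial
open Cfsg.Agent.Helper99.UNd
open Cfsg.Agent.Helper99.UNdGlue
open Cfsg.Agent.Helper43.GUPrime (utilde)
open Cfsg.Agent.Helper43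

variable {F : Type*} [Field F]

theorem blk_one {n m k : ℕ} (hmk : m + k = n) :
    blk hmk (1 : Matrix (Fin m) (Fin m) F) (1 : Matrix (Fin k) (Fin k) F) = 1 := by
  have := blk_pow hmk (1 : Matrix (Fin m) (Fin m) F) (1 : Matrix (Fin k) (Fin k) F) 0
  rw [pow_zero, pow_zero, pow_zero] at this
  exact this.symm

/-- the coefficient zero of the characteristic polynomial of an invertible matrix -/
theorem charpoly_coeff_zero_ne {n : ℕ} (g : GL (Fin n) F) :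
    (g : Matrix (Fin n) (Fin n) F).charpoly.coeff 0 ≠ 0 := by
  intro h0
  have h1 := det_eq_of_charpoly (g : Matrix (Fin n) (Fin n) F)
  rw [h0, mul_zero] at h1
  have h2 : IsUnit (g : Matrix (Fin n) (Fin n) F).det :=
    (Matrix.isUnit_iff_isUnit_det _).mp g.isUnit
  rw [h1] at h2
  exact not_isUnit_zero h2

/-- (A1a) -/
theorem usplit_of_fixesNd [Fintype F] {q : ℕ} (hF : Fintype.card F = q ^ 2)
    (bar : F →+* F) (hbar : ∀ x, bar x = x ^ q) {n m : ℕ} (hmn : m ≤ n)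
    (A : Matrix (Fin n) (Fin n) F) (hA : IsUM n q A) (hfix : FixesNd n q m A) :
    USplit bar m A.charpoly := by
  obtain ⟨k, hk⟩ : ∃ k, m + k = n := ⟨n - m, by omega⟩
  obtain ⟨g, B₁, B₂, hg, h₁, h₂, hconj⟩ := exists_blk_of_fixesNd hF hk A hA hfix
  obtain ⟨gg, hgg⟩ := exists_GL_of_isUM hF hg
  have hch : A.charpoly = (blk hk B₁ B₂).charpoly := by
    have h1 : A = (gg : Matrix (Fin n) (Fin n) F) * blk hk B₁ B₂ *
        ((gg⁻¹ : GL (Fin n) F) : Matrix (Fin n) (Fin n) F) := by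
      rw [hgg, ← hconj, mul_assoc, ← hgg, ← Units.val_mul, mul_inv_cancel, Units.val_one, mul_one]
    rw [h1]
    have h2 := Matrix.charpoly_units_conj gg (blk hk B₁ B₂)
    rw [← h2, Matrix.coe_units_inv]
  refine ⟨B₁.charpoly, B₂.charpoly, Matrix.charpoly_monic _, Matrix.charpoly_monic _, ?_,
    utilde_charpoly_of_isUM hF bar hbar h₁, utilde_charpoly_of_isUM hF bar hbar h₂, ?_⟩
  · rw [Matrix.charpoly_natDegree_eq_dim, Fintype.card_fin]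
  · rw [hch, charpoly_blk]

/-- (A1b) -/
theorem fixesNd_of_usplit [Fintype F] (p : ℕ) [Fact p.Prime] [CharP F p] {q : ℕ}
    (hF : Fintype.card F = q ^ 2) (bar : F →+* F) (hbar : ∀ x, bar x = x ^ q) {n m : ℕ}
    (hmn : m ≤ n) (A : Matrix (Fin n) (Fin n) F) (hA : IsUM n q A) (k : ℕ) (hk0 : 0 < k)
    (hkp : k.Coprime p) (hAk : A ^ k = 1) (hs : USplit bar m A.charpoly) :
    FixesNd n q m A := by
  have hp : p.Prime := Fact.out
  obtain ⟨f₁, f₂, hm₁, hm₂, hd₁, hu₁, hu₂, hf⟩ := hs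
  obtain ⟨k', hk'⟩ : ∃ k', m + k' = n := ⟨n - m, by omega⟩
  have hd₂ : f₂.natDegree = k' := by
    have h1 := congrArg natDegree hf
    rw [Matrix.charpoly_natDegree_eq_dim, Fintype.card_fin, hm₁.natDegree_mul hm₂, hd₁] at h1
    omega
  obtain ⟨gA, hgA⟩ := exists_GL_of_isUM hF hA
  have hA0 : A.charpoly.coeff 0 ≠ 0 := by
    rw [← hgA]; exact charpoly_coeff_zero_ne gA
  have h10 : f₁.coeff 0 ≠ 0 ∧ f₂.coeff 0 ≠ 0 := by
    rw [hf, mul_coeff_zero] at hA0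
    exact ⟨left_ne_zero_of_mul hA0, right_ne_zero_of_mul hA0⟩
  obtain ⟨B₁, k₁, hk₁0, hk₁p, hB₁k, hB₁c⟩ :=
    SUCls.exists_GU_of_utilde p hF bar hbar m f₁ hm₁ hd₁ h10.1 hu₁
  obtain ⟨B₂, k₂, hk₂0, hk₂p, hB₂k, hB₂c⟩ :=
    SUCls.exists_GU_of_utilde p hF bar hbar k' f₂ hm₂ hd₂ h10.2 hu₂
  have hcoe : ∀ (d : ℕ) (B : ↥(Cfsg.GU d F q)) (j : ℕ), B ^ j = 1 →
      ((B : GL (Fin d) F) : Matrix (Fin d) (Fin d) F) ^ j = 1 := by
    intro d B j hB
    have h1 : ((B : GL (Fin d) F)) ^ j = 1 := by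
      rw [← Subgroup.coe_pow, hB, Subgroup.coe_one]
    rw [← Units.val_pow_eq_pow_val, h1, Units.val_one]
  set M : Matrix (Fin n) (Fin n) F := blk hk' ((B₁ : GL (Fin m) F) : Matrix (Fin m) (Fin m) F)
    ((B₂ : GL (Fin k') F) : Matrix (Fin k') (Fin k') F) with hM
  have hMU : IsUM n q M := isUM_blk hk' _ _ B₁.2 B₂.2
  obtain ⟨gM, hgM⟩ := exists_GL_of_isUM hF hMU
  have hMpow : M ^ (k₁ * k₂) = 1 := by
    rw [hM, blk_pow, pow_mul, hcoe m B₁ k₁ hB₁k, one_pow, mul_comm k₁ k₂, pow_mul,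
      hcoe k' B₂ k₂ hB₂k, one_pow, blk_one]
  have hcast : ∀ j : ℕ, j.Coprime p → ((j : ℕ) : F) ≠ 0 := by
    intro j hj h0
    rw [CharP.cast_eq_zero_iff F p j] at h0
    have : p ∣ Nat.gcd j p := Nat.dvd_gcd h0 dvd_rfl
    rw [hj] at this
    exact hp.one_lt.ne' (Nat.dvd_one.mp this)
  have hpowGL : ∀ (g : GL (Fin n) F) (j : ℕ), (g : Matrix (Fin n) (Fin n) F) ^ j = 1 → g ^ j = 1 := by
    intro g j hg
    apply Units.ext
    rw [Units.val_pow_eq_pow_val, hg, Units.val_one]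
  have hconjGL : IsConj gA gM := by
    apply SS.isConj_GL_of_charpoly_eq gA gM k (k₁ * k₂) (hcast k hkp)
      (hcast (k₁ * k₂) (Nat.Coprime.mul_left hk₁p hk₂p))
      (hpowGL gA k (by rw [hgA]; exact hAk)) (hpowGL gM _ (by rw [hgM]; exact hMpow))
    rw [hgA, hgM, hf, hM, charpoly_blk, hB₁c, hB₂c]
  let uA : ↥(Cfsg.GU n F q) := ⟨gA, by show IsUM n q (gA : Matrix (Fin n) (Fin n) F); rw [hgA]; exact hA⟩
  let uM : ↥(Cfsg.GU n F q) := ⟨gM, by show IsUM n q (gM : Matrix (Fin n) (Fin n) F); rw [hgM]; exact hMU⟩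
  have hconjGU : IsConj uA uM := (Cfsg.Agent.S2587.result hF uA uM).mpr hconjGL
  obtain ⟨c, hc⟩ := isConj_iff.1 hconjGU
  -- `A * c⁻¹ = c⁻¹ * M`
  have hc' : uA * c⁻¹ = c⁻¹ * uM := by rw [← hc]; group
  have hc'' : A * (((c⁻¹ : ↥(Cfsg.GU n F q)) : GL (Fin n) F) : Matrix (Fin n) (Fin n) F) =
      (((c⁻¹ : ↥(Cfsg.GU n F q)) : GL (Fin n) F) : Matrix (Fin n) (Fin n) F) * M := by
    have h1 := congrArg (fun u : ↥(Cfsg.GU n F q) => ((u : GL (Fin n) F) : Matrix (Fin n) (Fin n) F)) hc'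
    simp only [Subgroup.coe_mul, Units.val_mul] at h1
    rw [← hgA, ← hgM]
    exact h1
  exact fixesNd_of_blk hF hk' A _ _ _ (c⁻¹).2 hc''

/-- (A2a) -/
theorem sub_jtype_of_fixesNd [Fintype F] {q : ℕ} (hF : Fintype.card F = q ^ 2) {n m : ℕ}
    (hmn : m ≤ n) (x : GL (Fin n) F) (hx : IsUM n q (x : Matrix (Fin n) (Fin n) F))
    (hu : SS.IsUnip x) (hfix : FixesNd n q m (x : Matrix (Fin n) (Fin n) F)) :
    ∃ ν : Multiset ℕ, ν ≤ ((SS.jtype x : List ℕ) : Multiset ℕ) ∧ ν.sum = m := by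
  obtain ⟨k, hk⟩ : ∃ k, m + k = n := ⟨n - m, by omega⟩
  obtain ⟨g, B₁, B₂, hg, h₁, h₂, hconj⟩ := exists_blk_of_fixesNd hF hk _ hx hfix
  obtain ⟨gg, hgg⟩ := exists_GL_of_isUM hF hg
  obtain ⟨b₁, hb₁⟩ := exists_GL_of_isUM hF h₁
  obtain ⟨b₂, hb₂⟩ := exists_GL_of_isUM hF h₂
  -- `y = gg⁻¹ * x * gg` has matrix `blk B₁ B₂`
  set y : GL (Fin n) F := gg⁻¹ * x * gg with hy
  have hyM : (y : Matrix (Fin n) (Fin n) F) = blk hk (b₁ : Matrix (Fin m) (Fin m) F)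
      (b₂ : Matrix (Fin k) (Fin k) F) := by
    rw [hb₁, hb₂, hy, Units.val_mul, Units.val_mul, mul_assoc, hgg, hconj, ← hgg, ← mul_assoc,
      ← Units.val_mul, inv_mul_cancel, Units.val_one, one_mul]
  have hyu : SS.IsUnip y := by
    have := hu.conj gg⁻¹
    rwa [inv_inv] at this
  have hyj : SS.jtype y = SS.jtype x := by
    have := SS.jtype_conj x gg⁻¹ hu
    rwa [inv_inv] at this
  obtain ⟨hiff, hsum⟩ := jtype_blk hk b₁ b₂ y hyM
  have hb := hiff.mp hyu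
  refine ⟨((SS.jtype b₁ : List ℕ) : Multiset ℕ), ?_, ?_⟩
  · rw [← hyj, hsum hyu]
    exact Multiset.le_add_right _ _
  · rw [Multiset.sum_coe]
    exact (SS.jtype_spec b₁ hb.1).sum_eq

/-- (A2b) -/
theorem fixesNd_of_sub_jtype [Fintype F] {q : ℕ} (hF : Fintype.card F = q ^ 2) {n m : ℕ}
    (hmn : m ≤ n) (x : GL (Fin n) F) (hx : IsUM n q (x : Matrix (Fin n) (Fin n) F))
    (hu : SS.IsUnip x)
    (h : ∃ ν : Multiset ℕ, ν ≤ ((SS.jtype x : List ℕ) : Multiset ℕ) ∧ ν.sum = m) :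
    FixesNd n q m (x : Matrix (Fin n) (Fin n) F) := by
  classical
  obtain ⟨ν, hν, hνs⟩ := h
  obtain ⟨k, hk⟩ : ∃ k, m + k = n := ⟨n - m, by omega⟩
  have hJ := SS.jtype_spec x hu
  have hsumx : (SS.jtype x).sum = n := hJ.sum_eq
  obtain ⟨hsorted, hpos, -⟩ := hJ
  set μ : Multiset ℕ := ((SS.jtype x : List ℕ) : Multiset ℕ) with hμ
  set ν' : Multiset ℕ := μ - ν with hν'
  have hadd : ν + ν' = μ := by rw [hν', add_comm]; exact Multiset.sub_add_cancel hν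
  have hμs : μ.sum = n := by rw [hμ, Multiset.sum_coe]; exact hsumx
  have hν's : ν'.sum = k := by
    have := congrArg Multiset.sum hadd
    rw [Multiset.sum_add, hνs, hμs] at this
    omega
  -- sorted lists
  set l₁ : List ℕ := ν.sort (· ≥ ·) with hl₁
  set l₂ : List ℕ := ν'.sort (· ≥ ·) with hl₂
  have hl₁c : (l₁ : Multiset ℕ) = ν := Multiset.sort_eq _ _
  have hl₂c : (l₂ : Multiset ℕ) = ν' := Multiset.sort_eq _ _
  have hmemμ : ∀ a ∈ μ, 0 < a := by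
    intro a ha
    rw [hμ, Multiset.mem_coe] at ha
    exact hpos a ha
  have hl₁pos : ∀ a ∈ l₁, 0 < a := by
    intro a ha
    have : a ∈ ν := by rw [← hl₁c]; exact ha
    exact hmemμ a (Multiset.mem_of_le hν this)
  have hl₂pos : ∀ a ∈ l₂, 0 < a := by
    intro a ha
    have : a ∈ ν' := by rw [← hl₂c]; exact ha
    exact hmemμ a (Multiset.mem_of_le (Multiset.sub_le_self _ _) this)
  have hl₁s : l₁.Pairwise (· ≥ ·) := Multiset.pairwise_sort _ _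
  have hl₂s : l₂.Pairwise (· ≥ ·) := Multiset.pairwise_sort _ _
  have hl₁sum : l₁.sum = m := by rw [← Multiset.sum_coe, hl₁c, hνs]
  have hl₂sum : l₂.sum = k := by rw [← Multiset.sum_coe, hl₂c, hν's]
  obtain ⟨B₁, hB₁U, hB₁u, hB₁j⟩ :=
    Cfsg.Agent.Helper73.GUJordan.exists_unip_GU_of_list (K := F) (q := q) hF l₁ hl₁s hl₁pos hl₁sum
  obtain ⟨B₂, hB₂U, hB₂u, hB₂j⟩ :=
    Cfsg.Agent.Helper73.GUJordan.exists_unip_GU_of_list (K := F) (q := q) hF l₂ hl₂s hl₂pos hl₂sum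
  set M : Matrix (Fin n) (Fin n) F := blk hk (B₁ : Matrix (Fin m) (Fin m) F)
    (B₂ : Matrix (Fin k) (Fin k) F) with hM
  have hMU : IsUM n q M := isUM_blk hk _ _ hB₁U hB₂U
  obtain ⟨gM, hgM⟩ := exists_GL_of_isUM hF hMU
  obtain ⟨hiff, hsum⟩ := jtype_blk hk B₁ B₂ gM hgM
  have hgMu : SS.IsUnip gM := hiff.mpr ⟨hB₁u, hB₂u⟩
  have hjM : SS.jtype gM = SS.jtype x := by
    have h1 := hsum hgMu
    rw [hB₁j, hB₂j, hl₁c, hl₂c, hadd, hμ] at h1
    have h2 : (SS.jtype gM).Perm (SS.jtype x) := Quotient.exact h1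
    have hs2 := (SS.jtype_spec gM hgMu).1
    exact List.Perm.eq_of_pairwise (fun a b _ _ hab hba => le_antisymm hba hab) hs2 hsorted h2
  have hconjGL : IsConj x gM := SS.isConj_of_jtype_eq x gM hu hgMu hjM.symm
  let uA : ↥(Cfsg.GU n F q) := ⟨x, hx⟩
  let uM : ↥(Cfsg.GU n F q) :=
    ⟨gM, by show IsUM n q (gM : Matrix (Fin n) (Fin n) F); rw [hgM]; exact hMU⟩
  have hconjGU : IsConj uA uM := (Cfsg.Agent.S2587.result hF uA uM).mpr hconjGL
  obtain ⟨c, hc⟩ := isConj_iff.1 hconjGU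
  have hc' : uA * c⁻¹ = c⁻¹ * uM := by rw [← hc]; group
  have hc'' : (x : Matrix (Fin n) (Fin n) F) *
      (((c⁻¹ : ↥(Cfsg.GU n F q)) : GL (Fin n) F) : Matrix (Fin n) (Fin n) F) =
      (((c⁻¹ : ↥(Cfsg.GU n F q)) : GL (Fin n) F) : Matrix (Fin n) (Fin n) F) * M := by
    have h1 := congrArg (fun u : ↥(Cfsg.GU n F q) => ((u : GL (Fin n) F) : Matrix (Fin n) (Fin n) F)) hc'
    simp only [Subgroup.coe_mul, Units.val_mul] at h1
    rw [← hgM]
    exact h1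
  exact fixesNd_of_blk hF hk _ _ _ _ (c⁻¹).2 hc''

end Cfsg.Agent.Helper99.UNdA
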