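import Mathlib
import Cfsg.Agent.Helper99.UNdA
import Cfsg.Agent.Helper13.Herm

set_option autoImplicit false

/-!
# S5954: the four equivalences `AllFix ↔ criterion`
-/

namespace Cfsg.Agent.Helper99.UNdB

open Matrix Polynomial
open Cfsg.Agent.Helper99.UNd
open Cfsg.Agent.Helper99.UNdGlue
open Cfsg.Agent.Helper99.UNdA
open Cfsg.Agent.Helper43.GUPrime (utilde)
open Cfsg.Agent.Helper43

variable {F : Type*} [Field F]

/-! ### small local facts -/

theorem isUM_one' {n q : ℕ} : IsUM n q (1 : Matrix (Fin n) (Fin n) F) := by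
  intro u v
  rw [Matrix.one_mulVec, Matrix.one_mulVec]

theorem isUM_mul' {n q : ℕ} {A B : Matrix (Fin n) (Fin n) F} (hA : IsUM n q A) (hB : IsUM n q B) :
    IsUM n q (A * B) := by
  intro u v
  rw [← Matrix.mulVec_mulVec, ← Matrix.mulVec_mulVec, hA, hB]

theorem isUM_pow' {n q : ℕ} {A : Matrix (Fin n) (Fin n) F} (hA : IsUM n q A) (j : ℕ) :
    IsUM n q (A ^ j) := by
  induction j with
  | zero => rw [pow_zero]; exact isUM_one'
  | succ j ih => rw [pow_succ]; exact isUM_mul' ih hA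

theorem smul_one_inj {n : ℕ} (hn : 1 ≤ n) {a b : F}
    (h : a • (1 : Matrix (Fin n) (Fin n) F) = b • (1 : Matrix (Fin n) (Fin n) F)) : a = b := by
  have := congrFun (congrFun h ⟨0, hn⟩) ⟨0, hn⟩
  simpa using this

theorem natCast_ne_zero' (p : ℕ) [Fact p.Prime] [CharP F p] {r : ℕ} (hr : r.Prime) (hrp : r ≠ p) :
    (r : F) ≠ 0 := by
  have hp : p.Prime := Fact.out
  intro h0
  rw [CharP.cast_eq_zero_iff F p r] at h0
  exact hrp ((Nat.prime_dvd_prime_iff_eq hp hr).mp h0).symm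

theorem char_dvd_q [Fintype F] (p : ℕ) [Fact p.Prime] [CharP F p] {q : ℕ}
    (hF : Fintype.card F = q ^ 2) : p ∣ q := by
  have hp : p.Prime := Fact.out
  obtain ⟨k, hk⟩ := FiniteField.card F p
  have h1 : p ∣ q ^ 2 := by
    rw [← hF, hk.2]
    exact dvd_pow_self p k.ne_zero
  exact hp.dvd_of_dvd_pow h1

theorem coprime_succ_char [Fintype F] (p : ℕ) [Fact p.Prime] [CharP F p] {q : ℕ}
    (hF : Fintype.card F = q ^ 2) : Nat.Coprime (q + 1) p := by
  have hp : p.Prime := Fact.out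
  rw [Nat.coprime_comm, hp.coprime_iff_not_dvd]
  intro h
  have h1 := char_dvd_q p hF
  have : p ∣ 1 := (Nat.dvd_add_right h1).mp h
  exact hp.one_lt.ne' (Nat.dvd_one.mp this)

theorem scalar_norm [Fintype F] {q n : ℕ} (hn : 1 ≤ n) {x : Matrix (Fin n) (Fin n) F}
    (hx : IsUM n q x) {r : ℕ} {z : F} (hz : x ^ r = z • (1 : Matrix (Fin n) (Fin n) F)) :
    z ^ (q + 1) = 1 := by
  apply norm_of_scalar_isUM hn z
  rw [← hz]
  exact isUM_pow' hx r

theorem ne_zero_of_norm {q : ℕ} {z : F} (hz : z ^ (q + 1) = 1) : z ≠ 0 := by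
  rintro rfl
  rw [zero_pow (Nat.succ_ne_zero q)] at hz
  exact zero_ne_one hz

/-! ### `r = p` -/

/-- (M1a) -/
theorem allFix_of_partCond [Fintype F] (p : ℕ) [Fact p.Prime] [CharP F p] {q n m : ℕ}
    (hF : Fintype.card F = q ^ 2) (hn : 1 ≤ n) (hmn : m ≤ n) (h : PartCond p n m) :
    AllFix F n q m p := by
  intro x hx
  obtain ⟨lam, hlam0, hlamN, hpow, -⟩ := exists_unip_smul p hF hn x hx
  have hx'U : IsUM n q (lam⁻¹ • x) :=
    isUM_smul lam⁻¹ (by rw [inv_pow, hlamN, inv_one]) hx.1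
  obtain ⟨g, hg⟩ := exists_GL_of_isUM hF hx'U
  obtain ⟨hu, hparts, hsum, -⟩ := jtype_of_pow_p_eq_one p g (by rw [hg]; exact hpow)
  obtain ⟨ν, hν, hνs⟩ := h ((SS.jtype g : List ℕ) : Multiset ℕ)
    (fun a ha => hparts a (Multiset.mem_coe.mp ha)) (by rw [Multiset.sum_coe]; exact hsum)
  have h1 := fixesNd_of_sub_jtype hF hmn g (by rw [hg]; exact hx'U) hu ⟨ν, hν, hνs⟩
  rw [hg] at h1
  exact (fixesNd_smul_iff lam⁻¹ (inv_ne_zero hlam0) x).mp h1

/-- (M1b) -/
theorem partCond_of_allFix [Fintype F] (p : ℕ) [Fact p.Prime] [CharP F p] {q n m : ℕ}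
    (hF : Fintype.card F = q ^ 2) (hmn : m ≤ n) (h : AllFix F n q m p) :
    PartCond p n m := by
  classical
  intro μ hμ hμs
  by_cases hall : ∀ a ∈ μ, a = 1
  · have h1 : μ = Multiset.replicate (Multiset.card μ) 1 := Multiset.eq_replicate.mpr ⟨rfl, hall⟩
    have hc : Multiset.card μ = n := by
      rw [h1, Multiset.sum_replicate, smul_eq_mul, mul_one] at hμs
      exact hμs
    refine ⟨Multiset.replicate m 1, ?_, by rw [Multiset.sum_replicate, smul_eq_mul, mul_one]⟩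
    rw [h1, hc]
    exact Multiset.replicate_mono 1 hmn
  · push Not at hall
    obtain ⟨a₀, ha₀, ha₀1⟩ := hall
    set l : List ℕ := μ.sort (· ≥ ·) with hl
    have hlc : (l : Multiset ℕ) = μ := Multiset.sort_eq _ _
    have hmem : ∀ a, a ∈ l ↔ a ∈ μ := by
      intro a
      rw [← hlc, Multiset.mem_coe]
    obtain ⟨B, hBU, hBu, hBj⟩ :=
      Cfsg.Agent.Helper73.GUJordan.exists_unip_GU_of_list (K := F) (q := q) hF l
        (Multiset.pairwise_sort _ _) (fun a ha => (hμ a ((hmem a).mp ha)).1)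
        (by rw [← Multiset.sum_coe, hlc, hμs])
    have hE : IsElt n q p (B : Matrix (Fin n) (Fin n) F) :=
      isElt_of_unip p B hBU hBu (by rw [hBj]; exact fun a ha => (hμ a ((hmem a).mp ha)).2)
        (by
          rw [hBj]
          refine ⟨a₀, (hmem a₀).mpr ha₀, ?_⟩
          have := (hμ a₀ ha₀).1
          omega)
    obtain ⟨ν, hν, hνs⟩ := sub_jtype_of_fixesNd hF hmn B hBU hBu (h _ hE)
    rw [hBj, hlc] at hν
    exact ⟨ν, hν, hνs⟩

/-! ### `r` odd, `r ≠ p`, `r ∤ q + 1` -/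

/-- the case where the scalar has a unitary `r`-th root -/
theorem fixesNd_of_unitary_root [Fintype F] (p : ℕ) [Fact p.Prime] [CharP F p] {q : ℕ}
    (hF : Fintype.card F = q ^ 2) (bar : F →+* F) (hbar : ∀ x, bar x = x ^ q) (r : ℕ)
    (hr : r.Prime) (hr2 : r ≠ 2) (hrp : r ≠ p) (i : ℕ) (hi : i = orderOf (q : ZMod r))
    {n m : ℕ} (hmn : m ≤ n)
    (hmod : m % cOf i ≤ n % cOf i) (x : Matrix (Fin n) (Fin n) F) (hxU : IsUM n q x)
    (z : F) (hz : x ^ r = z • (1 : Matrix (Fin n) (Fin n) F))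
    (hex : ∃ lam : F, lam ^ (q + 1) = 1 ∧ lam ^ r = z) : FixesNd n q m x := by
  have hp : p.Prime := Fact.out
  obtain ⟨lam, hlamN, hlamr⟩ := hex
  have hlam0 : lam ≠ 0 := ne_zero_of_norm hlamN
  have hx'U : IsUM n q (lam⁻¹ • x) :=
    isUM_smul lam⁻¹ (by rw [inv_pow, hlamN, inv_one]) hxU
  have hx'r : (lam⁻¹ • x) ^ r = 1 := by
    rw [_root_.smul_pow, hz, inv_pow, hlamr, smul_smul, ← hlamr,
      inv_mul_cancel₀ (pow_ne_zero r hlam0), one_smul]
  have hrF : (r : F) ≠ 0 := natCast_ne_zero' p hr hrp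
  have hfac : ∀ P : F[X], P.Monic → Irreducible P → P ∣ (lam⁻¹ • x).charpoly →
      P ∣ (X ^ r - 1 : F[X]) := by
    intro P hPm hPi hP
    have h1 := dvd_of_dvd_charpoly_of_pow (1 : F) one_ne_zero hrF (lam⁻¹ • x)
      (by rw [hx'r, one_smul]) P hPm hPi hP
    rwa [map_one] at h1
  have hsplit := usplit_of_mod_le p hF bar hbar r hr hr2 hrp i hi n (lam⁻¹ • x).charpoly
    (Matrix.charpoly_monic _) (by rw [Matrix.charpoly_natDegree_eq_dim, Fintype.card_fin])
    (utilde_charpoly_of_isUM hF bar hbar hx'U) hfac m hmn hmod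
  have h1 := fixesNd_of_usplit p hF bar hbar hmn (lam⁻¹ • x) hx'U r hr.pos
    ((Nat.coprime_primes hr hp).mpr hrp) hx'r hsplit
  exact (fixesNd_smul_iff lam⁻¹ (inv_ne_zero hlam0) x).mp h1


/-- (M4a) -/
theorem allFix_of_mod_le [Fintype F] (p : ℕ) [Fact p.Prime] [CharP F p] {q : ℕ}
    (hF : Fintype.card F = q ^ 2) (bar : F →+* F) (hbar : ∀ x, bar x = x ^ q) (r : ℕ)
    (hr : r.Prime) (hr2 : r ≠ 2) (hrp : r ≠ p) (i : ℕ) (hi : i = orderOf (q : ZMod r))
    (hi2 : i ≠ 2) {n m : ℕ} (hn : 1 ≤ n) (hmn : m ≤ n) (hmod : m % cOf i ≤ n % cOf i) :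
    AllFix F n q m r := by
  intro x hx
  obtain ⟨hxU, -, ⟨z, hz⟩, -⟩ := hx
  have hzN := scalar_norm hn hxU hz
  have hcop : Nat.Coprime r (q + 1) := by
    rw [hr.coprime_iff_not_dvd]
    intro hd
    exact hi2 (hi.trans ((dvd_succ_iff_orderOf hr hr2).mp hd))
  exact fixesNd_of_unitary_root p hF bar hbar r hr hr2 hrp i hi hmn hmod x hxU z hz
    (exists_root_coprime hcop z hzN)

/-- (M4b) -/
theorem mod_le_of_allFix [Fintype F] (p : ℕ) [Fact p.Prime] [CharP F p] {q : ℕ}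
    (hF : Fintype.card F = q ^ 2) (bar : F →+* F) (hbar : ∀ x, bar x = x ^ q) (r : ℕ)
    (hr : r.Prime) (hr2 : r ≠ 2) (hrp : r ≠ p) (i : ℕ) (hi : i = orderOf (q : ZMod r))
    (hi2 : i ≠ 2) {n m : ℕ} (hmn : m ≤ n) (hcn : cOf i ≤ n) (h : AllFix F n q m r) :
    m % cOf i ≤ n % cOf i := by
  have hrF : (r : F) ≠ 0 := natCast_ne_zero' p hr hrp
  obtain ⟨f, hfm, hfd, hfu, hfac, hfne, hbad⟩ :=
    exists_bad_poly p hF bar hbar r hr hr2 hrp i hi hi2 n hcn
  obtain ⟨B, hBU, hBc, hBr⟩ := exists_unitary_of_poly p hF bar hbar n r 1 one_ne_zero hrF f hfm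
    hfd hfu (by intro P hPm hPi hP; rw [map_one]; exact hfac P hPm hPi hP)
  rw [one_smul] at hBr
  have hcop : Nat.Coprime r (q + 1) := by
    rw [hr.coprime_iff_not_dvd]
    intro hd
    exact hi2 (hi.trans ((dvd_succ_iff_orderOf hr hr2).mp hd))
  have hdet : B.det = 1 := by
    have h1 := det_norm_of_isUM hF hBU
    have h2 : B.det ^ r = 1 := by rw [← Matrix.det_pow, hBr, Matrix.det_one]
    have h3 := (pow_gcd_eq_one (a := B.det) (m := r) (n := q + 1)).mpr ⟨h2, h1⟩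
    rwa [hcop, pow_one] at h3
  have hE : IsElt n q r B := by
    refine ⟨hBU, hdet, ⟨1, by rw [hBr, one_smul]⟩, ?_⟩
    intro a ha
    apply hfne a
    rw [← hBc, ha, charpoly_scalar]
  have hs := usplit_of_fixesNd hF bar hbar hmn B hBU (h B hE)
  rw [hBc] at hs
  exact hbad m hs

/-! ### `r` odd, `r ∣ q + 1` -/

theorem coeff_zero_pow_sub_C {r : ℕ} (hr : 0 < r) (z : F) (k : ℕ) :
    ((X ^ r - C z : F[X]) ^ k).coeff 0 = (-z) ^ k := by
  rw [coeff_zero_eq_eval_zero, eval_pow, eval_sub, eval_pow, eval_X, eval_C, zero_pow hr.ne',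
    zero_sub]

theorem det_of_charpoly_pow {n r k : ℕ} (hr : r.Prime) (hr2 : r ≠ 2) (hnk : n = r * k) (z : F)
    (A : Matrix (Fin n) (Fin n) F) (hch : A.charpoly = (X ^ r - C z : F[X]) ^ k) :
    A.det = z ^ k := by
  rw [det_eq_of_charpoly, hch, coeff_zero_pow_sub_C hr.pos, hnk, pow_mul, neg_pow z,
    ← mul_assoc, ← mul_pow]
  have hodd : Odd r := hr.odd_of_ne_two hr2
  rw [hodd.neg_one_pow, neg_mul_neg, one_mul, one_pow, one_mul]

theorem irreducible_dvd_of_dvd_pow {g P : F[X]} (hP : Irreducible P) {k : ℕ} (h : P ∣ g ^ k) :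
    P ∣ g :=
  hP.prime.dvd_of_dvd_pow h

/-- (M3a) -/
theorem allFix_of_cond_i2 [Fintype F] (p : ℕ) [Fact p.Prime] [CharP F p] {q : ℕ}
    (hF : Fintype.card F = q ^ 2) (bar : F →+* F) (hbar : ∀ x, bar x = x ^ q) (r : ℕ)
    (hr : r.Prime) (hr2 : r ≠ 2) (hrp : r ≠ p) (hi2 : orderOf (q : ZMod r) = 2)
    {n m : ℕ} (hn : 1 ≤ n) (hmn : m ≤ n)
    (hc : r ∣ m ∨ padicValNat r n ≤ padicValNat r (q + 1)) : AllFix F n q m r := by
  have hp : p.Prime := Fact.out
  intro x hx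
  obtain ⟨hxU, hdet, ⟨z, hz⟩, -⟩ := hx
  have hzN := scalar_norm hn hxU hz
  have hz0 : z ≠ 0 := ne_zero_of_norm hzN
  have hrq : r ∣ q + 1 := (dvd_succ_iff_orderOf hr hr2).mpr hi2
  have hrF : (r : F) ≠ 0 := natCast_ne_zero' p hr hrp
  by_cases hroot : ∃ lam : F, lam ^ (q + 1) = 1 ∧ lam ^ r = z
  · refine fixesNd_of_unitary_root p hF bar hbar r hr hr2 hrp 2 hi2.symm hmn ?_ x hxU z hz hroot
    have : cOf 2 = 1 := by decide
    rw [this, Nat.mod_one, Nat.mod_one]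
  · have hnp := not_pow_of_not_unitary_pow hF r hr hr2 hrq z hzN hroot
    have hirr : Irreducible (X ^ r - C z : F[X]) := X_pow_sub_C_irreducible_of_prime hr hnp
    obtain ⟨k, hnk, hch⟩ := charpoly_of_irreducible z hz0 hrF hirr x hz
    have hzk : z ^ k = 1 := by
      rw [← det_of_charpoly_pow hr hr2 hnk z x hch, hdet]
    have hkn : n / r = k := by rw [hnk, Nat.mul_div_cancel_left k hr.pos]
    have hrm : r ∣ m := by
      rcases hc with h | h
      · exact h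
      · exfalso
        apply hroot
        exact exists_unitary_root hF r hr n hn ⟨k, hnk⟩ z hzN (by rw [hkn]; exact hzk) h
    obtain ⟨j, hj⟩ := hrm
    have hjk : j ≤ k := by
      have h1 : r * j ≤ r * k := by rw [← hj, ← hnk]; exact hmn
      exact Nat.le_of_mul_le_mul_left h1 hr.pos
    have hgm : (X ^ r - C z : F[X]).Monic := monic_X_pow_sub_C z hr.pos.ne'
    have hgu : utilde bar (X ^ r - C z : F[X]) = X ^ r - C z :=
      utilde_X_pow_sub_C hF bar hbar r hr.pos z hzN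
    have hsplit : USplit bar m x.charpoly := by
      refine ⟨(X ^ r - C z) ^ j, (X ^ r - C z) ^ (k - j), hgm.pow j, hgm.pow (k - j), ?_, ?_, ?_, ?_⟩
      · rw [(hgm).natDegree_pow, natDegree_X_pow_sub_C, hj, mul_comm]
      · rw [GUPrime.utilde_pow, hgu]
      · rw [GUPrime.utilde_pow, hgu]
      · rw [hch, ← pow_add, Nat.add_sub_cancel' hjk]
    have hpow : x ^ (r * (q + 1)) = 1 := by
      rw [pow_mul, hz, _root_.smul_pow, one_pow, hzN, one_smul]
    exact fixesNd_of_usplit p hF bar hbar hmn x hxU (r * (q + 1))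
      (Nat.mul_pos hr.pos (Nat.succ_pos q))
      (Nat.Coprime.mul_left ((Nat.coprime_primes hr hp).mpr hrp) (coprime_succ_char p hF)) hpow hsplit

/-- (M3b) -/
theorem cond_i2_of_allFix [Fintype F] (p : ℕ) [Fact p.Prime] [CharP F p] {q : ℕ}
    (hF : Fintype.card F = q ^ 2) (bar : F →+* F) (hbar : ∀ x, bar x = x ^ q) (r : ℕ)
    (hr : r.Prime) (hr2 : r ≠ 2) (hrp : r ≠ p) (hi2 : orderOf (q : ZMod r) = 2)
    {n m : ℕ} (hn : 1 ≤ n) (hmn : m ≤ n) (h : AllFix F n q m r) :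
    r ∣ m ∨ padicValNat r n ≤ padicValNat r (q + 1) := by
  by_contra hcon
  push Not at hcon
  obtain ⟨hrm, hv⟩ := hcon
  have : Fact r.Prime := ⟨hr⟩
  have hrq : r ∣ q + 1 := (dvd_succ_iff_orderOf hr hr2).mpr hi2
  have hrF : (r : F) ≠ 0 := natCast_ne_zero' p hr hrp
  obtain ⟨z, hzN, hroot, hzn⟩ := exists_bad_z_r hF r hr hrq n hn hv
  have hz0 : z ≠ 0 := ne_zero_of_norm hzN
  have hrn : r ∣ n := by
    have h1 : 1 ≤ padicValNat r n := by omega
    exact dvd_of_one_le_padicValNat h1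
  obtain ⟨k, hnk⟩ := hrn
  have hkn : n / r = k := by rw [hnk, Nat.mul_div_cancel_left k hr.pos]
  have hnp := not_pow_of_not_unitary_pow hF r hr hr2 hrq z hzN hroot
  have hirr : Irreducible (X ^ r - C z : F[X]) := X_pow_sub_C_irreducible_of_prime hr hnp
  have hgm : (X ^ r - C z : F[X]).Monic := monic_X_pow_sub_C z hr.pos.ne'
  have hgu : utilde bar (X ^ r - C z : F[X]) = X ^ r - C z :=
    utilde_X_pow_sub_C hF bar hbar r hr.pos z hzN
  obtain ⟨B, hBU, hBc, hBr⟩ := exists_unitary_of_poly p hF bar hbar n r z hz0 hrF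
    ((X ^ r - C z) ^ k) (hgm.pow k)
    (by rw [hgm.natDegree_pow, natDegree_X_pow_sub_C, hnk, mul_comm])
    (by rw [GUPrime.utilde_pow, hgu])
    (fun P _ hPi hP => irreducible_dvd_of_dvd_pow hPi hP)
  have hdet : B.det = 1 := by
    rw [det_of_charpoly_pow hr hr2 hnk z B hBc, ← hkn]
    exact hzn
  have hE : IsElt n q r B := by
    refine ⟨hBU, hdet, ⟨z, hBr⟩, ?_⟩
    intro a ha
    apply hnp a
    rw [ha, _root_.smul_pow, one_pow] at hBr
    exact smul_one_inj hn hBr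
  have hs := usplit_of_fixesNd hF bar hbar hmn B hBU (h B hE)
  rw [hBc] at hs
  have h1 := natDegree_dvd_of_usplit_pow bar _ hirr hgm k m hs
  rw [natDegree_X_pow_sub_C] at h1
  exact hrm h1

/-! ### `r = 2`, `p` odd -/

/-- (M2a) -/
theorem allFix_two_of_cond [Fintype F] (p : ℕ) [Fact p.Prime] [CharP F p] {q : ℕ}
    (hF : Fintype.card F = q ^ 2) (bar : F →+* F) (hbar : ∀ x, bar x = x ^ q) (hp2 : p ≠ 2)
    {n m : ℕ} (hn : 1 ≤ n) (hmn : m ≤ n)
    (hc : Odd n ∨ Even m ∨ (padicValNat 2 n ≤ padicValNat 2 (q + 1) ∧ q % 4 = 3)) :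
    AllFix F n q m 2 := by
  have hp : p.Prime := Fact.out
  have h2 : (2 : F) ≠ 0 := by
    have := natCast_ne_zero' (F := F) p Nat.prime_two (Ne.symm hp2)
    exact_mod_cast this
  have hcop2 : Nat.Coprime 2 p := (Nat.coprime_primes Nat.prime_two hp).mpr (Ne.symm hp2)
  intro x hx
  obtain ⟨hxU, hdet, ⟨z, hz⟩, -⟩ := hx
  have hzN := scalar_norm hn hxU hz
  obtain ⟨lam, hlam2, hlamN⟩ := exists_sq_root hF h2 z hzN
  have hlam0 : lam ≠ 0 := by
    rintro rfl
    rw [mul_zero] at hlam2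
    exact ne_zero_of_norm hzN hlam2.symm
  rcases hlamN with h1 | h1
  · have hx'U : IsUM n q (lam⁻¹ • x) :=
      isUM_smul lam⁻¹ (by rw [inv_pow, h1, inv_one]) hxU
    have hx'2 : (lam⁻¹ • x) ^ 2 = 1 := by
      rw [_root_.smul_pow, hz, smul_smul, ← hlam2, inv_pow, sq,
        inv_mul_cancel₀ (mul_ne_zero hlam0 hlam0), one_smul]
    have hs := usplit_of_sq_eq_one bar h2 hmn (lam⁻¹ • x) hx'2
    have h3 := fixesNd_of_usplit p hF bar hbar hmn (lam⁻¹ • x) hx'U 2 two_pos hcop2 hx'2 hs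
    exact (fixesNd_smul_iff lam⁻¹ (inv_ne_zero hlam0) x).mp h3
  · have hs := usplit_of_sq_nonsquare hF bar hbar h2 hmn x
      (utilde_charpoly_of_isUM hF bar hbar hxU) hdet lam h1 (by rw [hz, hlam2]) hc
    have hpow : x ^ (2 * (q + 1)) = 1 := by
      rw [pow_mul, hz, _root_.smul_pow, one_pow, hzN, one_smul]
    exact fixesNd_of_usplit p hF bar hbar hmn x hxU (2 * (q + 1))
      (Nat.mul_pos two_pos (Nat.succ_pos q))
      (Nat.Coprime.mul_left hcop2 (coprime_succ_char p hF)) hpow hs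

/-- (M2b) -/
theorem cond_of_allFix_two [Fintype F] (p : ℕ) [Fact p.Prime] [CharP F p] {q : ℕ}
    (hF : Fintype.card F = q ^ 2) (bar : F →+* F) (hbar : ∀ x, bar x = x ^ q) (hp2 : p ≠ 2)
    {n m : ℕ} (hn : 1 ≤ n) (hmn : m ≤ n) (h : AllFix F n q m 2) :
    Odd n ∨ Even m ∨ (padicValNat 2 n ≤ padicValNat 2 (q + 1) ∧ q % 4 = 3) := by
  have hp : p.Prime := Fact.out
  have h2 : (2 : F) ≠ 0 := by
    have := natCast_ne_zero' (F := F) p Nat.prime_two (Ne.symm hp2)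
    exact_mod_cast this
  by_contra hcon
  push Not at hcon
  obtain ⟨hnodd, hmeven, hc⟩ := hcon
  have hne : Even n := Nat.not_odd_iff_even.mp hnodd
  have hmo : Odd m := Nat.not_even_iff_odd.mp hmeven
  obtain ⟨lam, hlamN, hlamn⟩ := exists_bad_z_two hF h2 hne (by
    intro hh
    exact hc hh.1 hh.2)
  obtain ⟨k, hk⟩ := hne
  have hnk : n = 2 * k := by omega
  have hkn : n / 2 = k := by omega
  have hzN : (lam * lam) ^ (q + 1) = 1 := by
    rw [mul_pow, hlamN, neg_mul_neg, one_mul]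
  have hz0 : lam * lam ≠ 0 := ne_zero_of_norm hzN
  have hgm : (X ^ 2 - C (lam * lam) : F[X]).Monic := monic_X_pow_sub_C _ two_ne_zero
  have hgu : utilde bar (X ^ 2 - C (lam * lam) : F[X]) = X ^ 2 - C (lam * lam) :=
    utilde_X_pow_sub_C hF bar hbar 2 two_pos _ hzN
  obtain ⟨B, hBU, hBc, hBr⟩ := exists_unitary_of_poly p hF bar hbar n 2 (lam * lam) hz0
    (by exact_mod_cast h2)
    ((X ^ 2 - C (lam * lam)) ^ k) (hgm.pow k)
    (by rw [hgm.natDegree_pow, natDegree_X_pow_sub_C, hnk, mul_comm])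
    (by rw [GUPrime.utilde_pow, hgu])
    (fun P _ hPi hP => irreducible_dvd_of_dvd_pow hPi hP)
  have hdet : B.det = 1 := by
    rw [det_eq_of_charpoly, hBc, coeff_zero_pow_sub_C two_pos, hnk, pow_mul, neg_one_sq, one_pow,
      one_mul, ← hkn]
    exact hlamn
  have hqodd : Odd q := by
    obtain ⟨p', j, hp', hch', hq'⟩ := Cfsg.Agent.Helper13.exists_char_pow_of_card_eq_sq hF
    have hpp : p' = p := by
      have hch : CharP F p := ‹CharP F p›
      exact CharP.eq F hch' hch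
    rw [hq', hpp]
    exact (hp.odd_of_ne_two hp2).pow
  have hE : IsElt n q 2 B := by
    refine ⟨hBU, hdet, ⟨lam * lam, hBr⟩, ?_⟩
    intro a ha
    have haN : a ^ (q + 1) = 1 := by
      apply norm_of_scalar_isUM hn a
      rw [← ha]
      exact hBU
    rw [ha, _root_.smul_pow, one_pow] at hBr
    have h3 : a ^ 2 = lam * lam := smul_one_inj hn hBr
    have h4 : (a - lam) * (a + lam) = 0 := by ring_nf; rw [h3]; ring
    have h5 : Even (q + 1) := by
      rw [Nat.even_add_one]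
      exact Nat.not_even_iff_odd.mpr hqodd
    rcases mul_eq_zero.mp h4 with h6 | h6
    · have : a = lam := sub_eq_zero.mp h6
      rw [this, hlamN] at haN
      have : (2 : F) = 0 := by linear_combination (-1 : F) * haN
      exact h2 this
    · have : a = -lam := eq_neg_of_add_eq_zero_left h6
      rw [this, h5.neg_pow, hlamN] at haN
      have : (2 : F) = 0 := by linear_combination (-1 : F) * haN
      exact h2 this
  have hs := usplit_of_fixesNd hF bar hbar hmn B hBU (h B hE)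
  rw [hBc] at hs
  exact not_usplit_sq hF bar hbar h2 lam hlamN k m hmo hs


/-! ### the bridge to the statement -/

theorem allFix_iff (n q m r : ℕ) :
    (∀ x : Matrix.SpecialLinearGroup (Fin n) F, x ∈ Cfsg.SU n F q →
      (∃ z : F, ((x ^ r : Matrix.SpecialLinearGroup (Fin n) F) : Matrix (Fin n) (Fin n) F) =
        z • (1 : Matrix (Fin n) (Fin n) F)) →
      (∀ z : F, (x : Matrix (Fin n) (Fin n) F) ≠ z • (1 : Matrix (Fin n) (Fin n) F)) →
      ∃ W : Submodule F (Fin n → F), Module.finrank F ↥W = m ∧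
        (∀ u ∈ W, u ≠ 0 → ∃ v ∈ W, Cfsg.hermForm n F q u v ≠ 0) ∧
        W.map (Matrix.toLin' (x : Matrix (Fin n) (Fin n) F)) ≤ W) ↔ AllFix F n q m r := by
  constructor
  · intro H A hA
    obtain ⟨hAU, hdet, ⟨z, hz⟩, hns⟩ := hA
    let x : Matrix.SpecialLinearGroup (Fin n) F := ⟨A, hdet⟩
    have hxA : (x : Matrix (Fin n) (Fin n) F) = A := rfl
    have := H x hAU ⟨z, by rw [Matrix.SpecialLinearGroup.coe_pow, hxA]; exact hz⟩ (by rw [hxA]; exact hns)
    rwa [hxA] at this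
  · intro H x hx hxr hxns
    obtain ⟨z, hz⟩ := hxr
    rw [Matrix.SpecialLinearGroup.coe_pow] at hz
    exact H (x : Matrix (Fin n) (Fin n) F) ⟨hx, x.2, ⟨z, hz⟩, hxns⟩

end Cfsg.Agent.Helper99.UNdB
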