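import Mathlib
import Cfsg.Agent.Helper99.UNdDefs

set_option autoImplicit false

/-!
# (JP) for S5954: the Jordan type of an element with `g ^ p = 1`
-/

namespace Cfsg.Agent.Helper99.UNdJP

open Matrix Polynomial
open Cfsg.Agent.Helper43

variable {F : Type*} [Field F]

theorem sub_one_pow_char (p : ℕ) [Fact p.Prime] [CharP F p] {n : ℕ}
    (A : Matrix (Fin n) (Fin n) F) : (A - 1) ^ p = A ^ p - 1 := by
  have h1 : ((X : F[X]) - 1) ^ p = X ^ p - 1 := by
    rw [sub_pow_char, one_pow]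
  have h2 := congrArg (aeval A) h1
  rwa [map_pow, map_sub, aeval_X, map_one, map_sub, map_pow, aeval_X, map_one] at h2

theorem jtype_of_pow_p_eq_one (p : ℕ) [Fact p.Prime] [CharP F p] {n : ℕ} (g : GL (Fin n) F)
    (hg : (g : Matrix (Fin n) (Fin n) F) ^ p = 1) :
    Cfsg.Agent.Helper43.SS.IsUnip g ∧
      (∀ a ∈ Cfsg.Agent.Helper43.SS.jtype g, 0 < a ∧ a ≤ p) ∧
      (Cfsg.Agent.Helper43.SS.jtype g).sum = n ∧
      ((g : Matrix (Fin n) (Fin n) F) ≠ 1 → ∃ a ∈ Cfsg.Agent.Helper43.SS.jtype g, 1 < a) := by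
  have hN : SS.nilPart g ^ p = 0 := by
    unfold SS.nilPart
    rw [sub_one_pow_char, hg, sub_self]
  have hu : SS.IsUnip g := ⟨p, hN⟩
  have hJ := SS.jtype_spec g hu
  refine ⟨hu, ?_, hJ.sum_eq, ?_⟩
  · intro a ha
    exact ⟨hJ.2.1 a ha, (hJ.pow_eq_zero_iff p).mp hN a ha⟩
  · intro hne
    by_contra hcon
    push Not at hcon
    have h1 : SS.nilPart g ^ 1 = 0 := (hJ.pow_eq_zero_iff 1).mpr hcon
    rw [pow_one] at h1
    apply hne
    unfold SS.nilPart at h1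
    exact sub_eq_zero.mp h1

end Cfsg.Agent.Helper99.UNdJP
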