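import Mathlib
import Cfsg.Agent.Helper99.USpL
import Cfsg.Agent.Helper57.USpN5
import Cfsg.Agent.Helper31.N6Index

/-!
# Realization of the invariants on the standard symplectic space
-/

set_option autoImplicit false

namespace Cfsg.Agent.Helper99.USp

open Module Matrix
open Cfsg.Agent.Helper99.SpStruct Cfsg.Agent.Helper43.SpSS Cfsg.Agent.Helper76.USpCay

universe u v

section gen

variable {F : Type u} [Field F] {V : Type v} [AddCommGroup V] [Module F V]
variable {B : LinearMap.BilinForm F V} {Y : Module.End F V}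

theorem HasData.pow_eq_zero {μ : Multiset ℕ} {D : Finset ℕ} (h : HasData B Y μ D) {n : ℕ}
    (hn : ∀ a ∈ μ, a ≤ n) : Y ^ n = 0 := by
  obtain ⟨E, P, _, _, lenE, coefE, gE, lenP, gv, gw, hd, hs, hD⟩ := h
  apply hd.sys.pow_eq_zero_top
  intro s
  apply hn
  rw [← hs]
  unfold decSizes
  rcases s with e | ⟨q, b⟩
  · rw [Multiset.mem_add]
    left
    rw [Multiset.mem_map]
    exact ⟨e, Finset.mem_univ_val e, rfl⟩
  · rw [Multiset.mem_add]
    right
    rw [Multiset.mem_add]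
    left
    rw [Multiset.mem_map]
    exact ⟨q, Finset.mem_univ_val q, rfl⟩

theorem nondegenerate_of_nd_top (hB : B.IsAlt) (hnd : Nd B ⊤) : B.Nondegenerate := by
  refine (LinearMap.IsRefl.nondegenerate_iff_separatingLeft hB.isRefl).mpr ?_
  intro x hx
  apply (nd_iff.mp hnd) x Submodule.mem_top
  intro w _
  exact hB.isRefl _ _ (hx w)

end gen

variable {F : Type u} [Field F]

/-- abstract realization of the invariants -/
theorem exists_hasData_abstract {ν : F} (h2 : (2 : F) ≠ 0) (hν : ¬ IsSquare ν) (μ : Multiset ℕ)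
    (D : Finset ℕ) (hpos : ∀ a ∈ μ, 0 < a) (hodd : ∀ j, Odd j → Even (μ.count j))
    (hD : ∀ j ∈ D, Even j ∧ j ∈ μ) :
    ∃ (V : Type u) (_ : AddCommGroup V) (_ : Module F V) (_ : FiniteDimensional F V)
      (B : LinearMap.BilinForm F V) (Y : Module.End F V),
      B.IsAlt ∧ Nd B ⊤ ∧ Skew B Y ∧ HasData B Y μ D := by
  classical
  obtain ⟨E, P, _, _, lenE, coefE, lenP, hev, hpE, hoddP, hcE, hsz, hDD⟩ :=
    Cfsg.Agent.Helper31.S2676.exists_index_data hν μ D hpos hodd hD
  have hlen : ∀ s : E ⊕ P × Bool, 0 < aLen lenE lenP s := by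
    rintro (e | ⟨q, b⟩)
    · exact hpE e
    · exact (hoddP q).pos
  have hpp : ∀ s : E ⊕ P × Bool, aPar (aPar s) = s := by
    rintro (e | ⟨q, b⟩)
    · rfl
    · simp [aPar]
  have hlp : ∀ s : E ⊕ P × Bool, aLen lenE lenP (aPar s) = aLen lenE lenP s := by
    rintro (e | ⟨q, b⟩) <;> rfl
  have hc : ∀ s : E ⊕ P × Bool, aCoef coefE s ≠ 0 := by
    rintro (e | ⟨q, b⟩)
    · exact hcE e
    · cases b <;> simp [aCoef]
  have hcp : ∀ s : E ⊕ P × Bool,
      aCoef coefE (aPar s) = (-1) ^ aLen lenE lenP s * aCoef coefE s := by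
    rintro (e | ⟨q, b⟩)
    · show coefE e = (-1) ^ lenE e * coefE e
      rw [(hev e).neg_one_pow, one_mul]
    · show aCoef coefE (Sum.inr (q, !b)) = (-1) ^ lenP q * aCoef coefE (Sum.inr (q, b))
      rw [(hoddP q).neg_one_pow]
      cases b <;> simp [aCoef]
  obtain ⟨B, Y, g, hB, hnd, hY, hsys⟩ := Cfsg.Agent.Helper57.USp.exists_model h2
    (aLen lenE lenP) aPar (aCoef coefE) hlen hpp hlp hc hcp
  refine ⟨_, inferInstance, inferInstance, inferInstance, B, Y, hB, hnd, hY, ?_⟩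
  refine ⟨E, P, inferInstance, inferInstance, lenE, coefE, fun e => g (Sum.inl e), lenP,
    fun q => g (Sum.inr (q, true)), fun q => g (Sum.inr (q, false)), ?_, hsz, hDD⟩
  refine ⟨?_, hev, hoddP⟩
  refine hsys.congr rfl rfl rfl ?_
  funext s
  rcases s with e | ⟨q, b⟩
  · rfl
  · cases b <;> rfl

/-- **realization of the invariants on the standard symplectic space** -/
theorem exists_hasData_model [Fintype F] (h2 : (2 : F) ≠ 0) (μ : Multiset ℕ)
    (D : Finset ℕ) (hpos : ∀ a ∈ μ, 0 < a) (hodd : ∀ j, Odd j → Even (μ.count j))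
    (hD : ∀ j ∈ D, Even j ∧ j ∈ μ) {m : ℕ} (hsum : μ.sum = 2 * m) :
    ∃ Y : Module.End F (Fin m ⊕ Fin m → F), Skew (Bn m F) Y ∧ HasData (Bn m F) Y μ D := by
  classical
  have hF : ringChar F ≠ 2 := by
    intro hh
    apply h2
    have := ringChar.Nat.cast_ringChar (R := F)
    rw [hh] at this
    exact_mod_cast this
  obtain ⟨ν, hν⟩ := FiniteField.exists_nonsquare hF
  obtain ⟨V, _, _, _, B, Y, hB, hnd, hY, hdata⟩ :=
    exists_hasData_abstract h2 hν μ D hpos hodd hD
  have hdim : finrank F V = finrank F (Fin m ⊕ Fin m → F) := by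
    rw [← hdata.sum_eq hY, hsum, Module.finrank_fintype_fun_eq_card, Fintype.card_sum,
      Fintype.card_fin, two_mul]
  obtain ⟨φ, hφ⟩ := Cfsg.Agent.Helper43.SpCount.exists_isometry_alt hB
    (nondegenerate_of_nd_top hB hnd) (Bn_alt (n := m) (F := F)) (Bn_nondeg (n := m) (F := F)) hdim
  have hconj : ∀ x, φ (Y x) = (φ.conj Y) (φ x) := by
    intro x
    rw [LinearEquiv.conj_apply_apply, LinearEquiv.symm_apply_apply]
  refine ⟨φ.conj Y, ?_, hdata.map φ hφ hconj⟩
  intro a b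
  obtain ⟨a', rfl⟩ := φ.surjective a
  obtain ⟨b', rfl⟩ := φ.surjective b
  rw [← hconj, ← hconj, hφ, hφ, hY]

end Cfsg.Agent.Helper99.USp
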