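import Mathlib
import Cfsg.Agent.Helper99.USpM
import Cfsg.Agent.Helper31.N7Count

/-!
# Counting the classes of elements of order `p` of the symplectic group
-/

set_option autoImplicit false

namespace Cfsg.Agent.Helper99.USp

open Module Matrix
open Cfsg.Agent.Helper99.SpStruct Cfsg.Agent.Helper43.SpSS Cfsg.Agent.Helper76.USpCay

universe u

theorem card_eq_of_rel {α β : Type*} (R : α → β → Prop) (h1 : ∀ a, ∃ b, R a b)
    (h2 : ∀ b, ∃ a, R a b) (h3 : ∀ a b b', R a b → R a b' → b = b')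
    (h4 : ∀ a a' b, R a b → R a' b → a = a') : Nat.card α = Nat.card β := by
  choose f hf using h1
  apply Nat.card_eq_of_bijective f
  constructor
  · intro a a' h
    exact h4 a a' (f a) (hf a) (h ▸ hf a')
  · intro b
    obtain ⟨a, ha⟩ := h2 b
    exact ⟨a, h3 a _ _ (hf a) ha⟩

variable {F : Type u} [Field F] [Fintype F] {m : ℕ}

/-- the admissible partitions -/
def Adm (p m : ℕ) (μ : Nat.Partition (2 * m)) : Prop :=
  (∀ a ∈ μ.parts, a ≤ p) ∧ ∀ j : ℕ, Odd j → Even (μ.parts.count j)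

section main

variable (p : ℕ) [Fact p.Prime] [CharP F p] (hp : p ≠ 2)

include hp

/-- the classes of elements of order dividing `p` correspond to the signed partitions -/
theorem card_classes_pow_eq_one :
    Nat.card {C : ConjClasses ↥(Matrix.symplecticGroup (Fin m) F) //
      ∃ g : ↥(Matrix.symplecticGroup (Fin m) F), ConjClasses.mk g = C ∧ g ^ p = 1} =
    Nat.card (Σ μ : {μ : Nat.Partition (2 * m) // Adm p m μ},
      {T : Finset ℕ // T ⊆ μ.1.parts.toFinset.filter (fun j => Even j)}) := by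
  have h2 : (2 : F) ≠ 0 := two_ne_zero_of_char F p hp
  apply card_eq_of_rel (fun C d => ∃ g : ↥(Matrix.symplecticGroup (Fin m) F),
    ConjClasses.mk g = C.1 ∧ g ^ p = 1 ∧ HasData (Bn m F) (yG p g) d.1.1.parts d.2.1)
  · -- total
    rintro ⟨C, g, rfl, hg⟩
    obtain ⟨μ, D, hd⟩ := exists_data p hp hg
    have hsum : μ.sum = 2 * m := by
      rw [hd.sum_eq (skew_yG p hp hg), Module.finrank_fintype_fun_eq_card, Fintype.card_sum,
        Fintype.card_fin, two_mul]
    refine ⟨⟨⟨⟨μ, fun {i} hi => hd.pos i hi, hsum⟩, ?_, ?_⟩, ⟨D, ?_⟩⟩, g, rfl, hg, hd⟩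
    · exact hd.le_of_pow (yG_pow p hp hg)
    · exact hd.even_count
    · intro j hj
      rw [Finset.mem_filter, Multiset.mem_toFinset]
      exact ⟨(hd.subset j hj).2, (hd.subset j hj).1⟩
  · -- surjective
    rintro ⟨⟨μ, hμ1, hμ2⟩, ⟨D, hD⟩⟩
    have hD' : ∀ j ∈ D, Even j ∧ j ∈ μ.parts := by
      intro j hj
      have := hD hj
      rw [Finset.mem_filter, Multiset.mem_toFinset] at this
      exact ⟨this.2, this.1⟩
    obtain ⟨Y, hYs, hYd⟩ := exists_hasData_model h2 μ.parts D (fun a ha => μ.parts_pos ha) hμ2 hD'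
      μ.parts_sum
    obtain ⟨g, hg, hgY⟩ := exists_elt_of_skew p hp Y (hYd.pow_eq_zero hμ1) hYs
    refine ⟨⟨ConjClasses.mk g, g, rfl, hg⟩, g, rfl, hg, ?_⟩
    rw [hgY]
    exact hYd
  · -- functional
    rintro ⟨C, hC⟩ ⟨⟨μ, hμ⟩, ⟨D, hD⟩⟩ ⟨⟨μ', hμ'⟩, ⟨D', hD'⟩⟩ ⟨g, hgC, hg, hd⟩ ⟨g', hgC', hg', hd'⟩
    have hc : IsConj g g' := by
      rw [← ConjClasses.mk_eq_mk_iff_isConj, hgC, hgC']
    obtain ⟨e1, e2⟩ := data_eq_of_isConj p hp hg hg' hc hd hd'
    have e3 : μ = μ' := Nat.Partition.ext e1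
    subst e3
    simp only at e2
    subst e2
    rfl
  · -- injective
    rintro ⟨C, hC⟩ ⟨C', hC'⟩ ⟨⟨μ, hμ⟩, ⟨D, hD⟩⟩ ⟨g, hgC, hg, hd⟩ ⟨g', hgC', hg', hd'⟩
    have hc : IsConj g g' := isConj_of_data p hp hg hg' hd hd'
    apply Subtype.ext
    show C = C'
    have e1 : ConjClasses.mk g = C := hgC
    have e2 : ConjClasses.mk g' = C' := hgC'
    rw [← e1, ← e2]
    exact ConjClasses.mk_eq_mk_iff_isConj.2 hc

omit [CharP F p] hp in
/-- removing the identity class -/
theorem card_classes_order_eq :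
    Nat.card {C : ConjClasses ↥(Matrix.symplecticGroup (Fin m) F) //
      ∃ g : ↥(Matrix.symplecticGroup (Fin m) F), ConjClasses.mk g = C ∧ g ^ p = 1} =
    Nat.card {C : ConjClasses ↥(Matrix.symplecticGroup (Fin m) F) //
      ∃ g : ↥(Matrix.symplecticGroup (Fin m) F), ConjClasses.mk g = C ∧ orderOf g = p} + 1 := by
  have hpr : p.Prime := Fact.out
  set S : Set (ConjClasses ↥(Matrix.symplecticGroup (Fin m) F)) :=
    {C | ∃ g : ↥(Matrix.symplecticGroup (Fin m) F), ConjClasses.mk g = C ∧ g ^ p = 1} with hS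
  set S' : Set (ConjClasses ↥(Matrix.symplecticGroup (Fin m) F)) :=
    {C | ∃ g : ↥(Matrix.symplecticGroup (Fin m) F), ConjClasses.mk g = C ∧ orderOf g = p} with hS'
  have e : S = insert (ConjClasses.mk 1) S' := by
    ext C
    rw [Set.mem_insert_iff]
    constructor
    · rintro ⟨g, rfl, hg⟩
      by_cases h1 : g = 1
      · left
        rw [h1]
      · right
        exact ⟨g, rfl, orderOf_eq_prime_iff.2 ⟨hg, h1⟩⟩
    · rintro (rfl | ⟨g, rfl, hg⟩)
      · exact ⟨1, rfl, one_pow p⟩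
      · exact ⟨g, rfl, (orderOf_eq_prime_iff.1 hg).1⟩
  have hnot : ConjClasses.mk (1 : ↥(Matrix.symplecticGroup (Fin m) F)) ∉ S' := by
    rintro ⟨g, hg1, hg⟩
    have : g = 1 := by
      have hc := ConjClasses.mk_eq_mk_iff_isConj.1 hg1
      exact isConj_one_left.1 hc
    rw [this, orderOf_one] at hg
    exact hpr.one_lt.ne hg
  have hfin : S'.Finite := Set.toFinite _
  show Nat.card ↥S = Nat.card ↥S' + 1
  rw [Nat.card_coe_set_eq, Nat.card_coe_set_eq, e, Set.ncard_insert_of_notMem hnot hfin]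

end main

end Cfsg.Agent.Helper99.USp
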