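import Mathlib
import Cfsg.Prelude.Def_TwoFusion
import Cfsg.Agent.Lib.Cores

set_option autoImplicit false

/-!
The statement of Glauberman's Z*-theorem (S0215) as a hypothesis, and first consequences.
-/

namespace Cfsg.Agent.Helper99

universe u

/-- the statement of S0215 for all groups in the universe `u` -/
def ZStarStmt : Prop :=
  ∀ (G : Type u) [Group G] [Finite G] (P : Sylow 2 G) (t : G), orderOf t = 2 → t ∈ P →
    (∀ g : G, g * t * g⁻¹ ∈ P → g * t * g⁻¹ = t) →
    ∃ N : Subgroup G, N.Normal ∧ Odd (Nat.card N) ∧ ∀ g : G, (t * g * t⁻¹ * g⁻¹) ∈ N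

variable {G : Type u} [Group G] [Finite G]

/-- Z* in the form: commutators with a weakly closed central involution lie in the odd core -/
theorem ZStarStmt.comm_mem_oddCore (ZS : ZStarStmt.{u}) (P : Sylow 2 G) (t : G) (ht : orderOf t = 2)
    (htP : t ∈ P) (hiso : ∀ g : G, g * t * g⁻¹ ∈ P → g * t * g⁻¹ = t) (g : G) :
    t * g * t⁻¹ * g⁻¹ ∈ Cfsg.oddCore G := by
  obtain ⟨N, hN, hodd, h⟩ := ZS G P t ht htP hiso
  exact Cfsg.Agent.Lib.le_oddCore hN hodd (h g)

end Cfsg.Agent.Helper99
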