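import Mathlib
import Cfsg.Prelude.Def_TwoFusion
import Cfsg.Prelude.Def_IsolatedElements
import Cfsg.Prelude.Def_CaseTheorems
import Cfsg.Agent.Lib.Cores
import Cfsg.Agent.Helper99.ZStarDef
import Cfsg.Agent.Helper49.Isolated
import Cfsg.Agent.Helper20.Isolated

set_option autoImplicit false

/-!
Consequences of the Z*-theorem (as a hypothesis `ZStarStmt`) for isolated involutions.
-/

namespace Cfsg.Agent.Helper99

universe u

section general

variable {G : Type*} [Group G]

/-- if `[A, G] ≤ N` with `N` normal then `N ⊔ A` is normal -/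
theorem sup_normal_of_comm_mem (N A : Subgroup G) [hN : N.Normal]
    (h : ∀ a ∈ A, ∀ g : G, a * g * a⁻¹ * g⁻¹ ∈ N) : (N ⊔ A).Normal := by
  have h1 : N ≤ (N ⊔ A).normalCore := Subgroup.normal_le_normalCore.mpr le_sup_left
  have h2 : A ≤ (N ⊔ A).normalCore := by
    intro a ha g
    have e : g * a * g⁻¹ = (a * g * a⁻¹ * g⁻¹)⁻¹ * a := by group
    rw [e]
    exact (N ⊔ A).mul_mem ((N ⊔ A).inv_mem (le_sup_left (a := N) (b := A) (h a ha g)))
      (le_sup_right (a := N) (b := A) ha)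
  have h3 : (N ⊔ A).normalCore = N ⊔ A :=
    le_antisymm (Subgroup.normalCore_le _) (sup_le h1 h2)
  rw [← h3]
  exact Subgroup.normalCore_normal _

end general

variable {G : Type u} [Group G] [Finite G]

/-- Z* for an isolated involution: commutators with `z` lie in the odd core. -/
theorem zstar_isolated (ZS : ZStarStmt.{u}) {z : G} (hz : Cfsg.IsIsolatedInvolution z) (g : G) :
    z * g * z⁻¹ * g⁻¹ ∈ Cfsg.oddCore G := by
  haveI : Fact (Nat.Prime 2) := ⟨Nat.prime_two⟩
  have hzp : IsPGroup 2 (Subgroup.zpowers z) :=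
    Helper49.isPGroup_zpowers_of_orderOf ⟨1, by rw [hz.1, pow_one]⟩
  obtain ⟨P, hP⟩ := hzp.exists_le_sylow
  have hzP : z ∈ P := hP (Subgroup.mem_zpowers z)
  exact ZS.comm_mem_oddCore P z hz.1 hzP
    (fun g hg => Helper49.isolated_conj_eq_of_mem hz.2 P.isPGroup' hzP hg) g

/-- Z* for an isolated involution: `G = O(G) C_G(z)`. -/
theorem zstar_isolated_decomp (ZS : ZStarStmt.{u}) {z : G} (hz : Cfsg.IsIsolatedInvolution z)
    (g : G) : ∃ o ∈ Cfsg.oddCore G, ∃ c ∈ Subgroup.centralizer ({z} : Set G), g = o * c := by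
  obtain ⟨k, hk⟩ := Helper20.isolated_conj_by_pow hz g
  have hinv : z⁻¹ = z := Helper20.isolated_inv hz
  have ha : z * (g * z * g⁻¹) ∈ Cfsg.oddCore G := by
    have := zstar_isolated ZS hz g
    rw [hinv] at this
    have e : z * (g * z * g⁻¹) = z * g * z * g⁻¹ := by group
    rw [e]; exact this
  set b : G := (z * (g * z * g⁻¹)) ^ k with hb
  have hbO : b ∈ Cfsg.oddCore G := (Cfsg.oddCore G).pow_mem ha k
  refine ⟨b, hbO, b⁻¹ * g, ?_, by group⟩
  rw [Subgroup.mem_centralizer_iff]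
  intro y hy
  rw [Set.mem_singleton_iff] at hy
  subst hy
  -- b y b⁻¹ = g y g⁻¹  ⇒  (b⁻¹ g) y = y (b⁻¹ g)
  have e1 : y * (b⁻¹ * g) = b⁻¹ * (b * y * b⁻¹) * g := by group
  rw [e1, hk]; group

/-- Z* for an isolated involution: `O(G)⟨z⟩` is normal. -/
theorem zstar_isolated_normal (ZS : ZStarStmt.{u}) {z : G} (hz : Cfsg.IsIsolatedInvolution z) :
    (Cfsg.oddCore G ⊔ Subgroup.zpowers z).Normal := by
  haveI : (Cfsg.oddCore G).Normal := by
    unfold Cfsg.oddCore
    haveI := Cfsg.Agent.Lib.pPrimeCore_characteristic 2 (G := G)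
    infer_instance
  apply sup_normal_of_comm_mem
  intro a ha g
  rw [Subgroup.mem_zpowers_iff] at ha
  obtain ⟨n, rfl⟩ := ha
  have hz2 : z ^ (2 : ℤ) = 1 := by
    have := pow_orderOf_eq_one z
    rw [hz.1] at this
    exact_mod_cast this
  rcases Int.emod_two_eq_zero_or_one n with h | h
  · have : z ^ n = 1 := by
      rw [← Int.emod_add_mul_ediv n 2, h, zero_add, zpow_mul, hz2, one_zpow]
    rw [this]; simp
  · have : z ^ n = z := by
      rw [← Int.emod_add_mul_ediv n 2, h, zpow_add, zpow_mul, hz2, one_zpow, zpow_one, mul_one]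
    rw [this]; exact zstar_isolated ZS hz g

end Cfsg.Agent.Helper99
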