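import Mathlib
import Cfsg.Agent.Helper99.ZStarIsolated
import Cfsg.Agent.Helper79.InvSylow

set_option autoImplicit false

/-!
S1187 modulo the Z*-theorem: a maximal `z`-invariant `p`-subgroup (z an isolated involution) is
a Sylow `p`-subgroup.
-/

namespace Cfsg.Agent.Helper99

universe u

section general
variable {G : Type*} [Group G] [Finite G]

omit [Finite G] in
/-- an isolated involution of `G` lying in `H` is an isolated involution of `H` -/
theorem isolated_subtype {z : G} (hz : Cfsg.IsIsolatedInvolution z) (H : Subgroup G) (hzH : z ∈ H) :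
    Cfsg.IsIsolatedInvolution (⟨z, hzH⟩ : H) := by
  refine ⟨by rw [Subgroup.orderOf_mk]; exact hz.1, ?_⟩
  intro g hg
  have h1 : Commute z ((g : G) * z * (g : G)⁻¹) := by
    have := congrArg Subtype.val hg.eq
    simpa [Commute, SemiconjBy] using this
  exact Subtype.ext (by simpa using hz.2 _ h1)

omit [Finite G] in
/-- order of `N ⊔ P` for `N` normal of odd order, `P` of odd order -/
theorem odd_card_sup_of_normal (N P : Subgroup G) [N.Normal] (hN : Odd (Nat.card N))
    (hP : Odd (Nat.card P)) : Odd (Nat.card (N ⊔ P : Subgroup G)) := by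
  have h1 := Subgroup.card_mul_index (N.subgroupOf (N ⊔ P))
  have h2 : Nat.card (N.subgroupOf (N ⊔ P)) = Nat.card N :=
    Nat.card_congr (Subgroup.subgroupOfEquivOfLe le_sup_left).toEquiv
  have h3 : (N.subgroupOf (N ⊔ P)).index = N.relIndex P := by
    have := Subgroup.relIndex_sup_left (H := P) (K := N)
    rw [← this]; rfl
  have h4 : N.relIndex P ∣ Nat.card P := Subgroup.relIndex_dvd_card _ _
  rw [← h1, h2, h3]
  exact hN.mul (Odd.of_dvd_nat hP h4)

end general

variable {G : Type u} [Group G] [Finite G]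

/-- Z* consequence: an isolated involution normalizes a Sylow `p`-subgroup for each odd `p`. -/
theorem exists_sylow_normalized_of_isolated (ZS : ZStarStmt.{u}) {z : G}
    (hz : Cfsg.IsIsolatedInvolution z) (p : ℕ) [hp : Fact p.Prime] (hp2 : p ≠ 2) :
    ∃ R : Sylow p G, ∀ r ∈ R, z * r * z⁻¹ ∈ R := by
  classical
  haveI hOn : (Cfsg.oddCore G).Normal := by
    unfold Cfsg.oddCore
    haveI := Cfsg.Agent.Lib.pPrimeCore_characteristic 2 (G := G)
    infer_instance
  obtain P : Sylow p G := default
  set M : Subgroup G := Cfsg.oddCore G ⊔ (P : Subgroup G) with hM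
  have hpodd : Odd p := hp.out.odd_of_ne_two hp2
  have hPodd : Odd (Nat.card (P : Subgroup G)) := by
    obtain ⟨n, hn⟩ := P.isPGroup'.exists_card_eq
    rw [hn]; exact hpodd.pow
  have hModd : Odd (Nat.card M) :=
    odd_card_sup_of_normal _ _ (Cfsg.Agent.Lib.odd_card_oddCore (G := G)) hPodd
  have hinv : z⁻¹ = z := Helper20.isolated_inv hz
  have hMz : ∀ c ∈ M, z * c * z⁻¹ ∈ M := by
    intro c hc
    have e : z * c * z⁻¹ = (z * c * z⁻¹ * c⁻¹) * c := by group
    rw [e]
    exact M.mul_mem (le_sup_left (a := Cfsg.oddCore G) (zstar_isolated ZS hz c)) hc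
  obtain ⟨R, hR⟩ := Helper79.exists_invariant_sylow_of_odd p M hModd z
    (Helper20.isolated_sq hz) hMz
  -- `R` mapped to `G` is a Sylow subgroup of `G`
  have hPM : (P : Subgroup G) ≤ M := le_sup_right
  have hcardR : Nat.card ((R : Subgroup M).map M.subtype) = Nat.card (P : Subgroup G) := by
    rw [Nat.card_congr ((R : Subgroup M).equivMapOfInjective M.subtype
      M.subtype_injective).symm.toEquiv]
    -- compare with `P.subtype hPM : Sylow p M`
    have h1 : Nat.card (R : Subgroup M) = Nat.card ((P.subtype hPM : Sylow p M) : Subgroup M) :=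
      Nat.card_congr (Sylow.equiv R (P.subtype hPM)).toEquiv
    rw [h1]
    exact Nat.card_congr (Subgroup.subgroupOfEquivOfLe hPM).toEquiv
  have hRsyl : Nat.card ((R : Subgroup M).map M.subtype) = p ^ (Nat.card G).factorization p := by
    rw [hcardR]; exact P.card_eq_multiplicity
  refine ⟨Sylow.ofCard _ hRsyl, ?_⟩
  intro r hr
  have hr2 : r ∈ (R : Subgroup M).map M.subtype := hr
  obtain ⟨r', hr', rfl⟩ := hr2
  exact (show _ ∈ (R : Subgroup M).map M.subtype from ⟨_, hR r' hr', rfl⟩)

/-- S1187 modulo Z*. -/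
theorem s1187_of_zstar (ZS : ZStarStmt.{u}) (z : G) (hz : Cfsg.IsIsolatedInvolution z) {p : ℕ}
    [hp : Fact p.Prime] (Q : Subgroup G) (hQ : IsPGroup p Q)
    (hzQ : z ∈ Subgroup.normalizer (Q : Set G))
    (hmax : ∀ R : Subgroup G, IsPGroup p R → z ∈ Subgroup.normalizer (R : Set G) → Q ≤ R → R = Q) :
    ∃ P : Sylow p G, (P : Subgroup G) = Q := by
  classical
  by_cases hp2 : p = 2
  · subst hp2
    -- `z ∈ Q`
    have hzp : IsPGroup 2 (Subgroup.zpowers z) :=
      Helper49.isPGroup_zpowers_of_orderOf ⟨1, by rw [hz.1, pow_one]⟩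
    have h1 : IsPGroup 2 (Subgroup.zpowers z ⊔ Q : Subgroup G) :=
      hzp.to_sup_of_normal_right' hQ (by rw [Subgroup.zpowers_le]; exact hzQ)
    have hzR : z ∈ (Subgroup.zpowers z ⊔ Q : Subgroup G) :=
      le_sup_left (a := Subgroup.zpowers z) (Subgroup.mem_zpowers z)
    have h2 := hmax _ h1 (Subgroup.le_normalizer hzR) le_sup_right
    have hzQ' : z ∈ Q := h2 ▸ hzR
    obtain ⟨P, hQP⟩ := hQ.exists_le_sylow
    exact ⟨P, hmax _ P.isPGroup' (Subgroup.le_normalizer (hQP hzQ')) hQP⟩
  · set N : Subgroup G := Subgroup.normalizer (Q : Set G) with hN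
    have hzN := isolated_subtype hz N hzQ
    obtain ⟨R, hR⟩ := exists_sylow_normalized_of_isolated ZS hzN p hp2
    set R' : Subgroup G := (R : Subgroup N).map N.subtype with hR'
    have hR'p : IsPGroup p R' := R.isPGroup'.map _
    have hzz : z * z = 1 := Helper20.isolated_sq hz
    have hinv : z⁻¹ = z := Helper20.isolated_inv hz
    have hfwd : ∀ h ∈ R', z * h * z⁻¹ ∈ R' := by
      rintro h ⟨r, hr, rfl⟩
      exact ⟨_, hR r hr, by simp⟩
    have hzR' : z ∈ Subgroup.normalizer (R' : Set G) := by
      rw [Subgroup.mem_normalizer_iff]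
      intro h
      refine ⟨hfwd h, fun hh => ?_⟩
      have := hfwd _ hh
      have e : z * (z * h * z⁻¹) * z⁻¹ = (z * z) * h * (z * z)⁻¹ := by group
      rw [e, hzz] at this
      simpa using this
    have hQR' : Q ≤ R' := by
      haveI : (Q.subgroupOf N).Normal := Subgroup.normal_in_normalizer
      have hQ' : IsPGroup p (Q.subgroupOf N) := hQ.comap_subtype
      have h1 : Q.subgroupOf N ≤ R := IsPGroup.le_sylow_of_normal hQ' R
      intro q hq
      exact ⟨⟨q, Subgroup.le_normalizer hq⟩, h1 (Subgroup.mem_subgroupOf.2 hq), rfl⟩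
    have hRQ : R' = Q := hmax R' hR'p hzR' hQR'
    obtain ⟨n, hn⟩ := hQ.exists_card_eq
    have hcardR : Nat.card (R : Subgroup N) = p ^ n := by
      rw [← hn, ← hRQ]
      exact Nat.card_congr ((R : Subgroup N).equivMapOfInjective N.subtype
        N.subtype_injective).toEquiv
    have hp1 : 1 < p := hp.out.one_lt
    by_cases hdvd : p ^ (n + 1) ∣ Nat.card G
    · exfalso
      have h1 : Nat.card N ≡ Nat.card G [MOD p ^ (n + 1)] := Sylow.card_normalizer_modEq_card hn
      have h2 : p ^ (n + 1) ∣ Nat.card N := (Nat.ModEq.dvd_iff h1 dvd_rfl).2 hdvd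
      have h3 : Nat.card (R : Subgroup N) = p ^ (Nat.card N).factorization p :=
        R.card_eq_multiplicity
      have h4 : n + 1 ≤ (Nat.card N).factorization p :=
        (hp.out.pow_dvd_iff_le_factorization Nat.card_pos.ne').1 h2
      rw [hcardR] at h3
      have := Nat.pow_right_injective hp1 h3
      omega
    · have h1 : p ^ n ∣ Nat.card G := hn ▸ Subgroup.card_subgroup_dvd_card Q
      have h2 : n ≤ (Nat.card G).factorization p :=
        (hp.out.pow_dvd_iff_le_factorization Nat.card_pos.ne').1 h1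
      have h3 : ¬ n + 1 ≤ (Nat.card G).factorization p := fun h =>
        hdvd ((hp.out.pow_dvd_iff_le_factorization Nat.card_pos.ne').2 h)
      have h4 : (Nat.card G).factorization p = n := by omega
      exact ⟨Sylow.ofCard Q (by rw [hn, h4]), rfl⟩

end Cfsg.Agent.Helper99
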