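import Mathlib
import Cfsg.Prelude.Def_Transfer
import Cfsg.Agent.Helper23.ZStarGen

set_option autoImplicit false

/-!
S1215 modulo the Z*-theorem: if every subgroup of `Z(S)` is weakly closed in the Sylow `2`-subgroup
`S` of `H`, then `H = O(H) C_H(Z(S))`.
-/

namespace Cfsg.Agent.Helper99

open Cfsg.Agent.Helper23.ZStarCons

universe u

variable {H : Type u} [Group H] [Finite H]

/-- for `c ∈ Z(S)`, `S` Sylow `2`: `N_H(⟨c⟩) = C_H(⟨c⟩)` -/
theorem normalizer_zpowers_le_centralizer (S : Sylow 2 H) {c : H}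
    (hc : c ∈ (Subgroup.center (S : Subgroup H)).map (S : Subgroup H).subtype) :
    Subgroup.normalizer ((Subgroup.zpowers c : Subgroup H) : Set H) ≤
      Subgroup.centralizer ((Subgroup.zpowers c : Subgroup H) : Set H) := by
  have : Fact (Nat.Prime 2) := ⟨Nat.prime_two⟩
  set D : Subgroup H := Subgroup.zpowers c with hD
  obtain ⟨c', hc', rfl⟩ := hc
  -- `S ≤ C(D)`
  have hSC : (S : Subgroup H) ≤ Subgroup.centralizer (D : Set H) := by
    intro s hs
    rw [Subgroup.mem_centralizer_iff]
    intro y hy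
    obtain ⟨n, rfl⟩ := Subgroup.mem_zpowers_iff.1 hy
    have h1 : (⟨s, hs⟩ : (S : Subgroup H)) * c' = c' * ⟨s, hs⟩ :=
      Subgroup.mem_center_iff.1 hc' ⟨s, hs⟩
    have h2 : s * ((S : Subgroup H).subtype c') = (S : Subgroup H).subtype c' * s :=
      congrArg Subtype.val h1
    have h3 : Commute ((S : Subgroup H).subtype c') s := h2.symm
    exact (h3.zpow_left n).eq
  have hCN : Subgroup.centralizer (D : Set H) ≤ Subgroup.normalizer (D : Set H) :=
    Subgroup.centralizer_le_normalizer _
  -- the relative index is odd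
  have hodd : ¬ 2 ∣ (Subgroup.centralizer (D : Set H)).relIndex (Subgroup.normalizer (D : Set H)) := by
    intro h2
    have h3 := dvd_trans h2 (Subgroup.relIndex_dvd_index_of_le hCN)
    have h4 := dvd_trans h3 (Subgroup.index_dvd_of_le hSC)
    exact S.not_dvd_index h4
  -- the relative index is a power of two
  have hpow : ∃ i : ℕ, (Subgroup.centralizer (D : Set H)).relIndex (Subgroup.normalizer (D : Set H))
      = 2 ^ i := by
    have hker : D.normalizerMonoidHom.ker.index =
        (Subgroup.centralizer (D : Set H)).relIndex (Subgroup.normalizer (D : Set H)) := by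
      rw [Subgroup.normalizerMonoidHom_ker]; rfl
    rw [← hker, Subgroup.index_ker]
    have h1 : Nat.card D.normalizerMonoidHom.range ∣ Nat.card (MulAut D) :=
      Subgroup.card_subgroup_dvd_card _
    haveI : IsCyclic D := by rw [hD]; infer_instance
    rw [IsCyclic.card_mulAut] at h1
    have hDp : IsPGroup 2 D := S.isPGroup'.to_le (by
      rw [hD, Subgroup.zpowers_le]; exact c'.2)
    obtain ⟨k, hk⟩ := hDp.exists_card_eq
    rw [hk] at h1
    have h2 : Nat.totient (2 ^ k) ∣ 2 ^ k := by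
      rcases Nat.eq_zero_or_pos k with rfl | hk0
      · simp
      · rw [Nat.totient_prime_pow Nat.prime_two hk0]
        simp only [Nat.add_one_sub_one, mul_one]
        exact pow_dvd_pow 2 (Nat.sub_le k 1)
    obtain ⟨i, -, hi⟩ := (Nat.dvd_prime_pow Nat.prime_two).1 (dvd_trans h1 h2)
    exact ⟨i, hi⟩
  obtain ⟨i, hi⟩ := hpow
  have hi0 : i = 0 := by
    by_contra h0
    exact hodd (hi ▸ dvd_pow_self 2 h0)
  rw [hi0, pow_zero] at hi
  exact Subgroup.relIndex_eq_one.1 hi

/-- if every subgroup of `Z(S)` is weakly closed in `S`, every element of `Z(S)` is isolated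
in `S` -/
theorem isoIn_of_weaklyClosed (S : Sylow 2 H)
    (hwc : ∀ Z₀ : Subgroup H,
      Z₀ ≤ ((Subgroup.center (S : Subgroup H)).map (S : Subgroup H).subtype) →
      Cfsg.IsWeaklyClosed Z₀ (S : Subgroup H)) {c : H}
    (hc : c ∈ (Subgroup.center (S : Subgroup H)).map (S : Subgroup H).subtype) :
    IsoIn (S : Subgroup H) c := by
  intro g hg
  set D : Subgroup H := Subgroup.zpowers c with hD
  have hDZ : D ≤ (Subgroup.center (S : Subgroup H)).map (S : Subgroup H).subtype := by
    rw [hD, Subgroup.zpowers_le]; exact hc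
  have hmapS : D.map (MulAut.conj g).toMonoidHom ≤ (S : Subgroup H) := by
    rw [hD, MonoidHom.map_zpowers, Subgroup.zpowers_le]
    exact hg
  have hmap := (hwc D hDZ).2 g hmapS
  -- `g ∈ N(D)`
  have hgN : g ∈ Subgroup.normalizer (D : Set H) := by
    rw [Subgroup.mem_normalizer_iff]
    intro h
    constructor
    · intro hh
      rw [← hmap]
      exact ⟨h, hh, rfl⟩
    · intro hh
      rw [← hmap] at hh
      obtain ⟨d, hd, hdh⟩ := hh
      have : d = h := by
        have h1 : g * d * g⁻¹ = g * h * g⁻¹ := hdh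
        exact mul_left_cancel (mul_right_cancel h1)
      rw [← this]; exact hd
  have hgC := normalizer_zpowers_le_centralizer S hc hgN
  rw [Subgroup.mem_centralizer_iff] at hgC
  have := hgC c (Subgroup.mem_zpowers c)
  rw [← this]; group

/-- S1215 modulo Z*. -/
theorem s1215_of_zstar (hZ : ZStarStatement.{u}) (S : Sylow 2 H)
    (hwc : ∀ Z₀ : Subgroup H,
      Z₀ ≤ ((Subgroup.center (S : Subgroup H)).map (S : Subgroup H).subtype) →
      Cfsg.IsWeaklyClosed Z₀ (S : Subgroup H)) (h : H) :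
    ∃ o ∈ Cfsg.oddCore H, ∃ c ∈ Subgroup.centralizer
      (((Subgroup.center (S : Subgroup H)).map (S : Subgroup H).subtype : Subgroup H) : Set H),
      h = o * c := by
  have : Fact (Nat.Prime 2) := ⟨Nat.prime_two⟩
  set Z : Subgroup H := (Subgroup.center (S : Subgroup H)).map (S : Subgroup H).subtype with hZdef
  set O : Subgroup H := Cfsg.oddCore H with hOdef
  have hOchar : O.Characteristic := Cfsg.Agent.Lib.pPrimeCore_characteristic 2
  haveI hOn : O.Normal := inferInstance
  have hZS : Z ≤ (S : Subgroup H) := by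
    rintro _ ⟨z, -, rfl⟩
    exact z.2
  have hiso : ∀ c ∈ Z, IsoIn (S : Subgroup H) c := fun c hc => isoIn_of_weaklyClosed S hwc hc
  have hcomm : ∀ c ∈ Z, ∀ g : H, c * g * c⁻¹ * g⁻¹ ∈ O := by
    intro c hc
    exact gz hZ S c (hZS hc) (fun j => hiso _ (Z.pow_mem hc j))
  -- `h Z h⁻¹ ≤ S ⊔ O`
  set T : Subgroup H := Z.map (MulAut.conj h).toMonoidHom with hT
  have hT2 : IsPGroup 2 T := (S.isPGroup'.to_le hZS).map _
  have hTle : T ≤ (S : Subgroup H) ⊔ O := by
    rintro _ ⟨c, hc, rfl⟩
    have e : (MulAut.conj h).toMonoidHom c = (c * h * c⁻¹ * h⁻¹)⁻¹ * c := by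
      simp [MulAut.conj_apply]; group
    rw [e]
    exact ((S : Subgroup H) ⊔ O).mul_mem
      (le_sup_right (a := (S : Subgroup H)) (O.inv_mem (hcomm c hc h)))
      (le_sup_left (b := O) (hZS hc))
  obtain ⟨n, hn, hnT⟩ := conj_into_sylow S O T hT2 hTle
  refine ⟨n⁻¹, O.inv_mem hn, n * h, ?_, by group⟩
  rw [Subgroup.mem_centralizer_iff]
  intro c hc
  have h1 := hnT _ ⟨c, hc, rfl⟩
  have h2 : n * ((MulAut.conj h).toMonoidHom c) * n⁻¹ = (n * h) * c * (n * h)⁻¹ := by
    simp [MulAut.conj_apply]; group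
  rw [h2] at h1
  have h3 := hiso c hc (n * h) h1
  calc c * (n * h) = ((n * h) * c * (n * h)⁻¹) * (n * h) := by rw [h3]
    _ = (n * h) * c := by group

end Cfsg.Agent.Helper99
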