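import Mathlib
import Cfsg.Agent.Helper99.ZStarIsolated
import Cfsg.Agent.Helper99.ZS1215
import Cfsg.Agent.Helper99.WreathedEmb
import Cfsg.Agent.Helper99.OddKlein
import Cfsg.Agent.Helper20.InvCentWr0
import Cfsg.Agent.Helper20.QD5
import Cfsg.Agent.S1208
import Cfsg.Agent.S1210
import Cfsg.Agent.S1212

set_option autoImplicit false

/-!
S1239 modulo the Z*-theorem: if the quasi-dihedral or wreathed Sylow `2`-subgroup `S` of `X`
contains an isolated involution, then `O(X) Z(S)` is normal in `X`.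
-/

namespace Cfsg.Agent.Helper99

open Subgroup

universe u

section wreathed
variable {G : Type*} [Group G]

/-- central elements of a wreathed Sylow `2`-subgroup lie in the abelian subgroup of index two -/
theorem wreathed_central_mem_abel [Finite G] (S : Sylow 2 G)
    (hS : Cfsg.IsWreathed (S : Subgroup G)) (n : ℕ)
    (hn : Nat.card (S : Subgroup G) = 2 ^ (2 * n + 1))
    (U : Subgroup G) (hUS : U ≤ S) (hUab : IsMulCommutative U) (hUcard : Nat.card U = 2 ^ (2 * n))
    (z : G) (hzS : z ∈ (S : Subgroup G)) (hzc : ∀ s ∈ (S : Subgroup G), s * z = z * s) : z ∈ U := by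
  obtain ⟨m, ι, hnm, hinj, hrange, hU⟩ := exists_wreathed_embedding S hS n hn U hUS hUab hUcard
  have : Fact (1 < 2 ^ (m + 2)) := ⟨Nat.one_lt_two_pow (by omega)⟩
  rw [← hrange] at hzS
  obtain ⟨v, rfl⟩ := hzS
  have hv : ∀ s : Wr (2 ^ (m + 2)), v * s = s * v := by
    intro s
    apply hinj
    rw [map_mul, map_mul]
    exact (hzc (ι s) (by rw [← hrange]; exact ⟨s, rfl⟩)).symm
  have hc : v.c = false := ((Wr.central_iff v).mp hv).1
  rw [← hU]
  exact ⟨v, hc, rfl⟩

/-- an isolated involution in a wreathed Sylow `2`-subgroup excludes `|N(U) : C(U)| = 6` -/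
theorem wreathed_not_six_of_isolated [Finite G] (S : Sylow 2 G)
    (hS : Cfsg.IsWreathed (S : Subgroup G)) (n : ℕ)
    (hn : Nat.card (S : Subgroup G) = 2 ^ (2 * n + 1))
    (U : Subgroup G) (hUS : U ≤ S) (hUab : IsMulCommutative U) (hUcard : Nat.card U = 2 ^ (2 * n))
    (z : G) (hzS : z ∈ (S : Subgroup G)) (hz : Cfsg.IsIsolatedInvolution z)
    (h₁ : (centralizer (U : Set G)).relIndex (normalizer (U : Set G)) = 6) : False := by
  have : Fact (Nat.Prime 2) := ⟨Nat.prime_two⟩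
  have hzc : ∀ s ∈ (S : Subgroup G), s * z = z * s :=
    Helper49.isolated_commute_of_mem_pgroup hz.2 S.isPGroup' hzS
  have hzU : z ∈ U := wreathed_central_mem_abel S hS n hn U hUS hUab hUcard z hzS hzc
  obtain ⟨-, hKlein, -⟩ := wreathed_involutions S hS n hn U hUS hUab hUcard
  have h6 : Nat.card U.normalizerMonoidHom.range = 6 := by
    rw [← Subgroup.index_ker, normalizerMonoidHom_ker]; exact h₁
  have h3 : 3 ∣ Nat.card U.normalizerMonoidHom.range := by rw [h6]; norm_num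
  haveI : Fact (Nat.Prime 3) := ⟨Nat.prime_three⟩
  obtain ⟨φ', hφ'⟩ := exists_prime_orderOf_dvd_card' 3 h3
  obtain ⟨kk, hkk⟩ := MonoidHom.mem_range.mp φ'.2
  obtain ⟨φ, hφ⟩ : ∃ φ : MulAut U, φ = (φ' : MulAut U) := ⟨_, rfl⟩
  have hφo : orderOf φ = 3 := by rw [hφ, Subgroup.orderOf_coe]; exact hφ'
  have hφ3 : φ ^ 3 = 1 := by rw [← hφo]; exact pow_orderOf_eq_one φ
  have hφne : φ ≠ 1 := by
    intro h
    rw [h, orderOf_one] at hφo
    omega
  have hφapp : ∀ x : U, ((φ x : U) : G) = (kk : G) * x * (kk : G)⁻¹ := by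
    intro x
    rw [hφ, ← hkk, normalizerMonoidHom_apply_apply_coe]
  have hcommU : ∀ a b : U, a * b = b * a := fun a b => hUab.is_comm.comm a b
  have h2U : ∀ u : U, ∃ e : ℕ, u ^ (2 ^ e) = 1 := fun u =>
    ⟨2 * n, by rw [← hUcard]; exact pow_card_eq_one'⟩
  have hKleinU : ∀ x y w : U, x * x = 1 → y * y = 1 → w * w = 1 → x ≠ 1 → y ≠ 1 → x ≠ y →
      w ≠ 1 → w ≠ x → w ≠ y → w = x * y := by
    intro x y w hx hy hw hx1 hy1 hxy hw1 hwx hwy
    apply Subtype.ext
    rw [Subgroup.coe_mul]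
    exact hKlein x x.2 y y.2 w w.2 (congrArg Subtype.val hx) (congrArg Subtype.val hy)
      (congrArg Subtype.val hw) (fun h => hx1 (Subtype.ext h)) (fun h => hy1 (Subtype.ext h))
      (fun h => hxy (Subtype.ext h)) (fun h => hw1 (Subtype.ext h)) (fun h => hwx (Subtype.ext h))
      (fun h => hwy (Subtype.ext h))
  have hzz : z * z = 1 := Helper20.isolated_sq hz
  have hfix : φ ⟨z, hzU⟩ = ⟨z, hzU⟩ := by
    apply Subtype.ext
    rw [hφapp]
    apply hz.2
    have hc := congrArg Subtype.val (hcommU ⟨z, hzU⟩ (φ ⟨z, hzU⟩))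
    rw [Subgroup.coe_mul, Subgroup.coe_mul, hφapp] at hc
    exact hc
  apply hφne
  exact odd_aut_trivial_of_fix_one hcommU h2U hKleinU φ (by decide : Odd 3) hφ3 ⟨z, hzU⟩
    (Subtype.ext hzz) (fun h => Helper20.isolated_ne_one hz (congrArg Subtype.val h)) hfix

end wreathed

variable {X : Type u} [Group X] [Finite X]

/-- if every subgroup of `Z(S)` is weakly closed then `[Z(S), X] ≤ O(X)` (modulo Z*) -/
theorem comm_mem_oddCore_of_weaklyClosed (hZ : Helper23.ZStarCons.ZStarStatement.{u})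
    (S : Sylow 2 X)
    (hwc : ∀ Z₀ : Subgroup X,
      Z₀ ≤ ((Subgroup.center (S : Subgroup X)).map (S : Subgroup X).subtype) →
      Cfsg.IsWeaklyClosed Z₀ (S : Subgroup X)) :
    ∀ c ∈ (Subgroup.center (S : Subgroup X)).map (S : Subgroup X).subtype, ∀ g : X,
      c * g * c⁻¹ * g⁻¹ ∈ Cfsg.oddCore X := by
  intro c hc
  have hZS : (Subgroup.center (S : Subgroup X)).map (S : Subgroup X).subtype ≤ (S : Subgroup X) := by
    rintro _ ⟨z, -, rfl⟩
    exact z.2
  exact Helper23.ZStarCons.gz hZ S c (hZS hc)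
    (fun j => isoIn_of_weaklyClosed S hwc (Subgroup.pow_mem _ hc j))

/-- if `X` has a normal `2`-complement then `[Z(S), X] ≤ O(X)` -/
theorem comm_mem_oddCore_of_hasNormalPComplement (S : Sylow 2 X)
    (hc : Cfsg.HasNormalPComplement 2 X) :
    ∀ c ∈ (Subgroup.center (S : Subgroup X)).map (S : Subgroup X).subtype, ∀ g : X,
      c * g * c⁻¹ * g⁻¹ ∈ Cfsg.oddCore X := by
  have : Fact (Nat.Prime 2) := ⟨Nat.prime_two⟩
  obtain ⟨P, N, hN, hNP⟩ := hc
  have hNodd : Odd (Nat.card N) := by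
    rw [← hNP.index_eq_card]
    exact Nat.odd_iff.mpr (Nat.two_dvd_ne_zero.mp P.not_dvd_index)
  have hNO : N ≤ Cfsg.oddCore X := Cfsg.Agent.Lib.le_oddCore hN hNodd
  have hcardS : Nat.card (S : Subgroup X) = Nat.card (P : Subgroup X) := by
    rw [S.card_eq_multiplicity, P.card_eq_multiplicity]
  have hNS : N.IsComplement' (S : Subgroup X) := by
    apply Subgroup.isComplement'_of_coprime
    · rw [hcardS]; exact hNP.card_mul_card
    · rw [S.card_eq_multiplicity]
      exact (Nat.coprime_two_right.mpr hNodd).pow_right _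
  have htop := hNS.sup_eq_top
  rintro _ ⟨c, hcc, rfl⟩ g
  have hg : g ∈ N ⊔ (S : Subgroup X) := htop ▸ Subgroup.mem_top g
  obtain ⟨a, ha, s, hs, rfl⟩ := (Subgroup.mem_sup_of_normal_left (hs := hN)).mp hg
  have h1 : (⟨s, hs⟩ : (S : Subgroup X)) * c = c * ⟨s, hs⟩ := Subgroup.mem_center_iff.1 hcc ⟨s, hs⟩
  have h2 : s * ((S : Subgroup X).subtype c) = (S : Subgroup X).subtype c * s :=
    congrArg Subtype.val h1
  set c' : X := (S : Subgroup X).subtype c with hc'
  have e : c' * (a * s) * c'⁻¹ * (a * s)⁻¹ = (c' * a * c'⁻¹) * a⁻¹ := by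
    have h3 : s * c'⁻¹ = c'⁻¹ * s := by
      calc s * c'⁻¹ = c'⁻¹ * (c' * s) * c'⁻¹ := by group
        _ = c'⁻¹ * (s * c') * c'⁻¹ := by rw [h2]
        _ = c'⁻¹ * s := by group
    calc c' * (a * s) * c'⁻¹ * (a * s)⁻¹ = c' * a * (s * c'⁻¹) * s⁻¹ * a⁻¹ := by group
      _ = c' * a * (c'⁻¹ * s) * s⁻¹ * a⁻¹ := by rw [h3]
      _ = (c' * a * c'⁻¹) * a⁻¹ := by group
  rw [e]
  exact hNO (N.mul_mem (hN.conj_mem a ha c') (N.inv_mem ha))

/-- S1239 modulo Z*. -/
theorem s1239_of_zstar (ZS : ZStarStmt.{u}) (S : Sylow 2 X)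
    (hS : Cfsg.IsQuasiDihedral (S : Subgroup X) ∨ Cfsg.IsWreathed (S : Subgroup X)) (z : X)
    (hzS : z ∈ S) (hz : Cfsg.IsIsolatedInvolution z) :
    (Cfsg.oddCore X ⊔ (Subgroup.center (S : Subgroup X)).map (S : Subgroup X).subtype).Normal := by
  have : Fact (Nat.Prime 2) := ⟨Nat.prime_two⟩
  have hZ23 : Helper23.ZStarCons.ZStarStatement.{u} := fun P u hu huP hiso => ZS _ P u hu huP hiso
  haveI hOn : (Cfsg.oddCore X).Normal := by
    unfold Cfsg.oddCore
    haveI := Cfsg.Agent.Lib.pPrimeCore_characteristic 2 (G := X)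
    infer_instance
  have hzc : ∀ s ∈ (S : Subgroup X), s * z = z * s :=
    Helper49.isolated_commute_of_mem_pgroup hz.2 S.isPGroup' hzS
  rcases hS with hQD | hW
  · obtain ⟨k, x, y, h⟩ := Helper20.exists_qdData hQD
    have hzcen : (⟨z, hzS⟩ : (S : Subgroup X)) ∈ Subgroup.center (S : Subgroup X) := by
      rw [Subgroup.mem_center_iff]
      intro s
      exact Subtype.ext (hzc s s.2)
    have hz0 : (⟨z, hzS⟩ : (S : Subgroup X)) = x ^ (4 * 2 ^ k : ℤ) := by
      rcases h.center_cases _ hzcen with h1 | h1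
      · exact absurd (congrArg Subtype.val h1) (Helper20.isolated_ne_one hz)
      · exact h1
    have hcen : (Subgroup.center (S : Subgroup X)).map (S : Subgroup X).subtype =
        Subgroup.zpowers z := by
      apply le_antisymm
      · rintro _ ⟨c, hc, rfl⟩
        rcases h.center_cases c hc with rfl | hc'
        · simp
        · rw [hc', ← hz0]
          exact Subgroup.mem_zpowers z
      · rw [Subgroup.zpowers_le]
        exact ⟨⟨z, hzS⟩, hzcen, rfl⟩
    rw [hcen]
    exact zstar_isolated_normal ZS hz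
  · obtain ⟨n, x, y, w, h⟩ := Helper20.exists_wrData hW
    obtain ⟨U, Q, hUS, hUab, hUcard, hQS, ⟨eQ⟩⟩ := Helper20.exists_abel_quat_wr S h
    have key : ∀ c ∈ (Subgroup.center (S : Subgroup X)).map (S : Subgroup X).subtype, ∀ g : X,
        c * g * c⁻¹ * g⁻¹ ∈ Cfsg.oddCore X := by
      obtain ⟨h₁ | h₁, h₂ | h₂⟩ :=
        Cfsg.Agent.S1208.result S hW n h.card U hUS hUab hUcard Q hQS eQ
      · exact comm_mem_oddCore_of_hasNormalPComplement S
          (Cfsg.Agent.S1212.result S hW n h.card U hUS hUab hUcard Q hQS eQ h₁ h₂).1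
      · exact comm_mem_oddCore_of_weaklyClosed hZ23 S
          (Cfsg.Agent.S1210.result S hW n h.card U hUS hUab hUcard Q hQS eQ h₁ h₂).2.1
      · exact (wreathed_not_six_of_isolated S hW n h.card U hUS hUab hUcard z hzS hz h₁).elim
      · exact (wreathed_not_six_of_isolated S hW n h.card U hUS hUab hUcard z hzS hz h₁).elim
    exact sup_normal_of_comm_mem _ _ key

end Cfsg.Agent.Helper99
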