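import Mathlib
import Cfsg.Agent.Helper99.ZS1187

set_option autoImplicit false

/-!
S1253 modulo the Z*-theorem: for an isolated involution `z` normalizing the Sylow `p`-subgroup `P`
(`p` odd), `C_P(z)` is a Sylow `p`-subgroup of `C_G(z)` and `|P : C_P(z)|` is the number of elements
of `P` inverted by `z`.
-/

namespace Cfsg.Agent.Helper99

universe u

section inverted
variable {G : Type*} [Group G]

/-- For an element `z` with `z * z = 1` normalizing a finite subgroup `P` of odd order, the index of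
`C_P(z)` in `P` is the number of elements of `P` inverted by `z`. -/
theorem relIndex_centralizer_eq_card_inverted (P : Subgroup G) [Finite P] (hP : Odd (Nat.card P))
    (z : G) (hzz : z * z = 1) (hzP : ∀ x ∈ P, z * x * z⁻¹ ∈ P) :
    (P ⊓ Subgroup.centralizer ({z} : Set G)).relIndex P =
      Nat.card {x : G // x ∈ P ∧ z * x * z⁻¹ = x⁻¹} := by
  classical
  have hinv : z⁻¹ = z := inv_eq_of_mul_eq_one_left hzz
  set K : Subgroup P := (P ⊓ Subgroup.centralizer ({z} : Set G)).subgroupOf P with hK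
  have hmemK : ∀ a : P, a ∈ K ↔ (a : G) * z = z * (a : G) := by
    intro a
    rw [hK, Subgroup.mem_subgroupOf, Subgroup.mem_inf, Subgroup.mem_centralizer_iff]
    constructor
    · rintro ⟨-, h⟩
      exact (h z rfl).symm
    · intro h
      refine ⟨a.2, ?_⟩
      intro y hy
      rw [Set.mem_singleton_iff] at hy
      subst hy
      exact h.symm
  -- the map `x ↦ x z x⁻¹ z⁻¹`
  have hmem : ∀ x : P, (x : G) * z * (x : G)⁻¹ * z⁻¹ ∈ P ∧
      z * ((x : G) * z * (x : G)⁻¹ * z⁻¹) * z⁻¹ = ((x : G) * z * (x : G)⁻¹ * z⁻¹)⁻¹ := by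
    intro x
    constructor
    · have e : (x : G) * z * (x : G)⁻¹ * z⁻¹ = (x : G) * (z * (x : G)⁻¹ * z⁻¹) := by group
      rw [e]
      exact P.mul_mem x.2 (hzP _ (P.inv_mem x.2))
    · rw [hinv]
      have e1 : z * ((x : G) * z * (x : G)⁻¹ * z) * z = z * (x : G) * z * (x : G)⁻¹ * (z * z) := by
        group
      have e2 : ((x : G) * z * (x : G)⁻¹ * z)⁻¹ = z⁻¹ * (x : G) * z⁻¹ * (x : G)⁻¹ := by group
      rw [e1, e2, hzz, hinv, mul_one]
  let f : P → {x : G // x ∈ P ∧ z * x * z⁻¹ = x⁻¹} := fun x =>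
    ⟨(x : G) * z * (x : G)⁻¹ * z⁻¹, hmem x⟩
  have hf : ∀ a b : P, f a = f b ↔ a⁻¹ * b ∈ K := by
    intro a b
    rw [hmemK]
    constructor
    · intro h
      have h1 : (a : G) * z * (a : G)⁻¹ * z⁻¹ = (b : G) * z * (b : G)⁻¹ * z⁻¹ :=
        congrArg Subtype.val h
      have h2 : (a : G) * z * (a : G)⁻¹ = (b : G) * z * (b : G)⁻¹ := mul_right_cancel h1
      have e1 : ((a⁻¹ * b : P) : G) * z = (a : G)⁻¹ * ((b : G) * z * (b : G)⁻¹) * (b : G) := by
        push_cast; group
      rw [e1, ← h2]; push_cast; group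
    · intro h
      apply Subtype.ext
      show (a : G) * z * (a : G)⁻¹ * z⁻¹ = (b : G) * z * (b : G)⁻¹ * z⁻¹
      have h' : (a : G)⁻¹ * (b : G) * z = z * ((a : G)⁻¹ * (b : G)) := by
        simpa using h
      have e : (b : G) * z * (b : G)⁻¹ = (a : G) * ((a : G)⁻¹ * (b : G) * z) * (b : G)⁻¹ := by group
      rw [e, h']; group
  let F : P ⧸ K → {x : G // x ∈ P ∧ z * x * z⁻¹ = x⁻¹} :=
    Quotient.lift (s := QuotientGroup.leftRel K) f (fun a b hab => by
      rw [hf]; exact QuotientGroup.leftRel_apply.1 hab)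
  have hFinj : Function.Injective F := by
    intro a b
    refine Quotient.inductionOn₂' a b (fun a b h => ?_)
    have h1 : f a = f b := h
    rw [hf] at h1
    exact Quotient.sound' (QuotientGroup.leftRel_apply.2 h1)
  have hFsurj : Function.Surjective F := by
    rintro ⟨v, hvP, hv⟩
    -- `v` has odd order `2k+1`; `w = v^(k+1)`
    have hvodd : Odd (orderOf v) := by
      have h1 : orderOf (⟨v, hvP⟩ : P) ∣ Nat.card P := orderOf_dvd_natCard _
      rw [Subgroup.orderOf_mk] at h1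
      exact Odd.of_dvd_nat hP h1
    obtain ⟨k, hk⟩ := hvodd
    have hw2 : v ^ (k + 1) * v ^ (k + 1) = v := by
      rw [← pow_add]
      have : k + 1 + (k + 1) = orderOf v + 1 := by omega
      rw [this, pow_succ, pow_orderOf_eq_one, one_mul]
    have hwz : z * v ^ (k + 1) * z⁻¹ = (v ^ (k + 1))⁻¹ := by
      have : z * v ^ (k + 1) * z⁻¹ = (z * v * z⁻¹) ^ (k + 1) := by
        rw [conj_pow]
      rw [this, hv, inv_pow]
    refine ⟨QuotientGroup.mk (⟨v ^ (k + 1), P.pow_mem hvP _⟩ : P), ?_⟩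
    apply Subtype.ext
    show v ^ (k + 1) * z * (v ^ (k + 1))⁻¹ * z⁻¹ = v
    have e : v ^ (k + 1) * z * (v ^ (k + 1))⁻¹ * z⁻¹
        = v ^ (k + 1) * (z * v ^ (k + 1) * z⁻¹)⁻¹ := by group
    rw [e, hwz, inv_inv, hw2]
  show K.index = _
  rw [Subgroup.index]
  exact Nat.card_congr (Equiv.ofBijective F ⟨hFinj, hFsurj⟩)

/-- a subgroup centralized by `z` is normalized by `z` -/
theorem mem_normalizer_of_le_centralizer_singleton {A : Subgroup G} {z : G}
    (h : A ≤ Subgroup.centralizer ({z} : Set G)) : z ∈ Subgroup.normalizer (A : Set G) := by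
  apply Subgroup.centralizer_le_normalizer
  rw [Subgroup.mem_centralizer_iff]
  intro a ha
  have := Subgroup.mem_centralizer_iff.1 (h ha) z rfl
  exact this.symm

end inverted

section conj
open scoped Pointwise
variable {G : Type*} [Group G] [Finite G]

/-- two Sylow subgroups normalized by the isolated involution `z` are conjugate under `C(z)` -/
theorem isolated_sylow_conj {z : G} (hz : Cfsg.IsIsolatedInvolution z) {p : ℕ} [Fact p.Prime]
    (P Q : Sylow p G) (hzP : z ∈ Subgroup.normalizer ((P : Subgroup G) : Set G))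
    (hzQ : z ∈ Subgroup.normalizer ((Q : Subgroup G) : Set G)) :
    ∃ h ∈ Subgroup.centralizer ({z} : Set G), ∀ x : G, x ∈ Q ↔ h⁻¹ * x * h ∈ P := by
  haveI : Fact (Nat.Prime 2) := ⟨Nat.prime_two⟩
  obtain ⟨g, hg⟩ := MulAction.exists_smul_eq G P Q
  have hmemQ : ∀ x : G, x ∈ Q ↔ g⁻¹ * x * g ∈ P := by
    intro x
    rw [← hg]
    change x ∈ (MulAut.conj g • (P : Subgroup G)) ↔ _
    rw [Subgroup.mem_pointwise_smul_iff_inv_smul_mem]
    simp only [MulAut.smul_def, ← map_inv, MulAut.conj_apply, inv_inv]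
    exact Iff.rfl
  have hgz : g * z * g⁻¹ ∈ Subgroup.normalizer ((Q : Subgroup G) : Set G) := by
    rw [Subgroup.mem_normalizer_iff]
    intro x
    have h1 := (Subgroup.mem_normalizer_iff.1 hzP) (g⁻¹ * x * g)
    have e : g⁻¹ * (g * z * g⁻¹ * x * (g * z * g⁻¹)⁻¹) * g = z * (g⁻¹ * x * g) * z⁻¹ := by group
    change x ∈ Q ↔ g * z * g⁻¹ * x * (g * z * g⁻¹)⁻¹ ∈ Q
    rw [hmemQ, hmemQ, e]
    exact h1
  obtain ⟨c, hc, hcz⟩ := Helper49.isolated_exists_conj_mem (p := 2) hz.2
    ⟨1, by rw [hz.1, pow_one]⟩ hzQ hgz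
  refine ⟨c⁻¹ * g, ?_, ?_⟩
  · rw [Subgroup.mem_centralizer_iff]
    intro y hy
    rw [Set.mem_singleton_iff] at hy
    subst hy
    have e : c⁻¹ * g * y = c⁻¹ * (g * y * g⁻¹) * g := by group
    rw [e, hcz]; group
  · intro x
    have h1 := (Subgroup.mem_normalizer_iff.1 hc) x
    change x ∈ Q ↔ c * x * c⁻¹ ∈ Q at h1
    rw [h1, hmemQ]
    have e : (c⁻¹ * g)⁻¹ * x * (c⁻¹ * g) = g⁻¹ * (c * x * c⁻¹) * g := by group
    rw [e]

end conj

variable {G : Type u} [Group G] [Finite G]

/-- S1253 modulo Z*. -/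
theorem s1253_of_zstar (ZS : ZStarStmt.{u}) (z : G) (hz : Cfsg.IsIsolatedInvolution z) {p : ℕ}
    [hp : Fact p.Prime] (hp2 : p ≠ 2) (P : Sylow p G)
    (hzP : z ∈ Subgroup.normalizer ((P : Subgroup G) : Set G)) :
    ¬ p ∣ ((P : Subgroup G) ⊓ Subgroup.centralizer ({z} : Set G)).relIndex
        (Subgroup.centralizer ({z} : Set G)) ∧
    ((P : Subgroup G) ⊓ Subgroup.centralizer ({z} : Set G)).relIndex (P : Subgroup G) =
      Nat.card {x : G // x ∈ P ∧ z * x * z⁻¹ = x⁻¹} := by
  classical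
  have hzz : z * z = 1 := Helper20.isolated_sq hz
  have hinv : z⁻¹ = z := Helper20.isolated_inv hz
  constructor
  · set C : Subgroup G := Subgroup.centralizer ({z} : Set G) with hC
    obtain D : Sylow p C := default
    set D' : Subgroup G := (D : Subgroup C).map C.subtype with hD'
    have hD'C : D' ≤ C := by
      rintro _ ⟨d, -, rfl⟩
      exact d.2
    let 𝒮 : Set (Subgroup G) :=
      {R | IsPGroup p R ∧ z ∈ Subgroup.normalizer (R : Set G) ∧ D' ≤ R}
    have hne : 𝒮.Nonempty :=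
      ⟨D', D.isPGroup'.map _, mem_normalizer_of_le_centralizer_singleton hD'C, le_rfl⟩
    obtain ⟨Q, hQS, hQmax⟩ := (wellFounded_gt (α := Subgroup G)).has_min 𝒮 hne
    obtain ⟨Q₀, hQ₀⟩ := s1187_of_zstar ZS z hz Q hQS.1 hQS.2.1 (fun R hR hzR hQR =>
      (eq_of_le_of_not_lt hQR (hQmax R ⟨hR, hzR, hQS.2.2.trans hQR⟩)).symm)
    -- `Q ⊓ C` is the Sylow subgroup `D` of `C`
    have hQC : (Q ⊓ C).subgroupOf C = D := by
      apply D.is_maximal' ((hQS.1.to_le inf_le_left).comap_subtype)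
      intro d hd
      show (d : G) ∈ Q ⊓ C
      exact ⟨hQS.2.2 ⟨d, hd, rfl⟩, d.2⟩
    have hcardQ : Nat.card (Q ⊓ C : Subgroup G) = p ^ (Nat.card C).factorization p := by
      rw [← D.card_eq_multiplicity, ← hQC]
      exact (Nat.card_congr (Subgroup.subgroupOfEquivOfLe inf_le_right).toEquiv).symm
    -- conjugate to `P`
    have hzQ₀ : z ∈ Subgroup.normalizer ((Q₀ : Subgroup G) : Set G) := by
      rw [hQ₀]; exact hQS.2.1
    obtain ⟨h, hhC, hh⟩ := isolated_sylow_conj hz P Q₀ hzP hzQ₀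
    have hmap : ((P : Subgroup G) ⊓ C).map (MulAut.conj h).toMonoidHom = Q ⊓ C := by
      ext x
      rw [Subgroup.mem_map_equiv, Subgroup.mem_inf, Subgroup.mem_inf]
      have e : (MulAut.conj h).symm x = h⁻¹ * x * h := by simp [MulAut.conj_symm_apply]
      rw [e]
      have h1 : x ∈ Q ↔ h⁻¹ * x * h ∈ (P : Subgroup G) := by
        rw [← hQ₀]; exact hh x
      have h2 : h⁻¹ * x * h ∈ C ↔ x ∈ C := by
        constructor
        · intro hx
          have := C.mul_mem (C.mul_mem hhC hx) (C.inv_mem hhC)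
          have e2 : h * (h⁻¹ * x * h) * h⁻¹ = x := by group
          rwa [e2] at this
        · intro hx
          exact C.mul_mem (C.mul_mem (C.inv_mem hhC) hx) hhC
      rw [h1, h2]
    have hcardP : Nat.card ((P : Subgroup G) ⊓ C : Subgroup G) = p ^ (Nat.card C).factorization p := by
      rw [← hcardQ, ← hmap]
      exact Nat.card_congr (((P : Subgroup G) ⊓ C).equivMapOfInjective _
        (MulAut.conj h).injective).toEquiv
    -- index computation
    intro hdvd
    have hnd := Nat.pow_succ_factorization_not_dvd (Nat.card_pos (α := C)).ne' hp.out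
    generalize (Nat.card C).factorization p = f at hcardP hnd
    have h1 := Subgroup.card_mul_index (((P : Subgroup G) ⊓ C).subgroupOf C)
    have h2 : Nat.card (((P : Subgroup G) ⊓ C).subgroupOf C) = p ^ f := by
      rw [← hcardP]
      exact Nat.card_congr (Subgroup.subgroupOfEquivOfLe inf_le_right).toEquiv
    apply hnd
    obtain ⟨m, hm⟩ := hdvd
    have hm' : (((P : Subgroup G) ⊓ C).subgroupOf C).index = p * m := hm
    rw [h2, hm'] at h1
    exact ⟨m, by rw [← h1, pow_succ, mul_assoc]⟩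
  · have hPodd : Odd (Nat.card (P : Subgroup G)) := by
      obtain ⟨n, hn⟩ := P.isPGroup'.exists_card_eq
      rw [hn]; exact (hp.out.odd_of_ne_two hp2).pow
    refine relIndex_centralizer_eq_card_inverted (P : Subgroup G) hPodd z hzz ?_
    intro x hx
    exact (Subgroup.mem_normalizer_iff.1 hzP x).1 hx

end Cfsg.Agent.Helper99
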