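import Mathlib
import Cfsg.Agent.Helper99.ZStarDef
import Cfsg.Agent.Helper99.AlperinFix
import Cfsg.Agent.Helper53.Conj

set_option autoImplicit false

/-!
S3184 modulo the Z*-theorem: central Sylow intersections and a cyclic characteristic subgroup.
-/

namespace Cfsg.Agent.Helper99

open Cfsg.Agent.Helper34

universe u

/-- a cyclic group has at most one element of order two -/
theorem eq_of_orderOf_two_of_isCyclic {C : Type*} [Group C] [IsCyclic C] [Finite C] {a b : C}
    (ha : orderOf a = 2) (hb : orderOf b = 2) : a = b := by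
  classical
  have := Fintype.ofFinite C
  have hd : 2 ∣ Fintype.card C := by rw [← ha]; exact orderOf_dvd_card
  have h := IsCyclic.card_orderOf_eq_totient hd
  rw [Nat.totient_two] at h
  exact Finset.card_le_one.mp (le_of_eq h) a (by simp [ha]) b (by simp [hb])

variable {G : Type u} [Group G]

/-- if the centralizer of `D` contains a subgroup of odd index, every `2`-element normalizing `D`
centralizes `D` -/
theorem mem_centralizer_of_two_element [Finite G] (D U : Subgroup G) (hU : ¬ 2 ∣ U.index)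
    (hUD : U ≤ Subgroup.centralizer (D : Set G)) (x : G)
    (hx : x ∈ Subgroup.normalizer (D : Set G)) (k : ℕ) (hk : orderOf x = 2 ^ k) :
    x ∈ Subgroup.centralizer (D : Set G) := by
  set N := Subgroup.normalizer (D : Set G) with hN
  set K := Subgroup.centralizer (D : Set G) with hK
  have hKN : K ≤ N := Subgroup.centralizer_le_normalizer _
  have hnorm : (K.subgroupOf N).Normal := by
    constructor
    intro n hn g
    rw [Subgroup.mem_subgroupOf] at hn ⊢
    rw [hK, Subgroup.mem_centralizer_iff] at hn ⊢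
    intro d hd
    have hg : (g : G) ∈ N := g.2
    have hd' : (g : G)⁻¹ * d * ((g : G)⁻¹)⁻¹ ∈ D :=
      (Subgroup.mem_normalizer_iff.mp (inv_mem hg) d).mp hd
    have h1 := hn _ hd'
    simp only [Subgroup.coe_mul, Subgroup.coe_inv]
    have h2 : d * ((g : G) * (n : G) * (g : G)⁻¹) =
        (g : G) * (((g : G)⁻¹ * d * ((g : G)⁻¹)⁻¹) * (n : G)) * (g : G)⁻¹ := by group
    rw [h2, h1]
    group
  have hodd : ¬ 2 ∣ K.relIndex N := by
    intro h2
    apply hU
    have h3 : U.relIndex K * K.relIndex N = U.relIndex N :=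
      Subgroup.relIndex_mul_relIndex U K N hUD hKN
    have h4 : U.relIndex N ∣ U.index := Subgroup.relIndex_dvd_index_of_le (hUD.trans hKN)
    exact dvd_trans (dvd_trans h2 (Dvd.intro_left _ h3)) h4
  have hpow : (⟨x, hx⟩ : ↥N) ^ (K.relIndex N) ∈ K.subgroupOf N := by
    have := Subgroup.pow_index_mem (K.subgroupOf N) (⟨x, hx⟩ : ↥N)
    exact this
  rw [Subgroup.mem_subgroupOf] at hpow
  simp only [Subgroup.coe_pow] at hpow
  have hcop : (K.relIndex N).Coprime (orderOf x) := by
    rw [hk]
    apply Nat.Coprime.pow_right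
    rw [Nat.coprime_comm]
    exact (Nat.Prime.coprime_iff_not_dvd Nat.prime_two).mpr hodd
  obtain ⟨m, hm⟩ := exists_pow_eq_self_of_coprime hcop
  rw [← hm]
  exact pow_mem hpow m

variable [Finite G]

theorem s3184_isolated
    (hCI : ∀ S T : Sylow 2 G, S ≠ T → ∃ U : Sylow 2 G,
      (S : Subgroup G) ⊓ (T : Subgroup G) ≤
        (Subgroup.center ↥(U : Subgroup G)).map (U : Subgroup G).subtype)
    (S : Sylow 2 G) (C : Subgroup ↥(S : Subgroup G)) (hCc : IsCyclic ↥C) (hCh : C.Characteristic)
    (c : ↥(S : Subgroup G)) (hc : c ∈ C) (hc2 : orderOf c = 2) (g : G)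
    (hg : g⁻¹ * (c : G) * g ∈ (S : Subgroup G)) : g⁻¹ * (c : G) * g = (c : G) := by
  have : Fact (Nat.Prime 2) := ⟨Nat.prime_two⟩
  apply alperin_fixed_of_steps S (c : G) c.2 _ g hg
  intro Q x hstep hcQ
  obtain ⟨hxN, -, -, hor⟩ := hstep
  by_cases hQS : Q = S
  · -- x normalizes S
    have hxS : x⁻¹ ∈ Subgroup.normalizer ((S : Subgroup G) : Set G) := by
      apply inv_mem
      rw [hQS, inf_idem] at hxN
      exact hxN
    have h1 := Cfsg.Agent.Helper53.char_conj_mem (S : Subgroup G) C hCh x⁻¹ hxS c hc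
    have h2 : orderOf (Cfsg.Agent.Helper53.conjEquiv (S : Subgroup G) x⁻¹ hxS c) = 2 := by
      rw [MulEquiv.orderOf_eq]
      exact hc2
    have h3 : (⟨_, h1⟩ : ↥C) = ⟨c, hc⟩ := by
      apply eq_of_orderOf_two_of_isCyclic
      · exact (Subgroup.orderOf_mk _ _).trans h2
      · exact (Subgroup.orderOf_mk _ _).trans hc2
    have h4 := congrArg (fun y : ↥C => ((y : ↥(S : Subgroup G)) : G)) h3
    simp only [Cfsg.Agent.Helper53.conjEquiv_coe, inv_inv] at h4
    exact h4
  · rcases hor with hQP | ⟨k, hk⟩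
    · exact absurd (Sylow.ext hQP) hQS
    · obtain ⟨U, hU⟩ := hCI S Q (Ne.symm hQS)
      have hUD : (U : Subgroup G) ≤ Subgroup.centralizer
          ((((S : Subgroup G) ⊓ (Q : Subgroup G)) : Subgroup G) : Set G) := by
        intro u hu
        rw [Subgroup.mem_centralizer_iff]
        intro d hd
        obtain ⟨w, hw, rfl⟩ := hU hd
        have hw' : w ∈ Subgroup.center ↥(U : Subgroup G) := hw
        rw [Subgroup.mem_center_iff] at hw'
        have := hw' ⟨u, hu⟩
        have h5 := congrArg (fun y : ↥(U : Subgroup G) => (y : G)) this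
        simp only [Subgroup.coe_mul] at h5
        simp only [Subgroup.coe_subtype]
        exact h5.symm
      have hxc := mem_centralizer_of_two_element _ (U : Subgroup G) (Sylow.not_dvd_index U) hUD x hxN k hk
      rw [Subgroup.mem_centralizer_iff] at hxc
      have := hxc (c : G) hcQ
      calc x⁻¹ * (c : G) * x = x⁻¹ * ((c : G) * x) := by group
        _ = x⁻¹ * (x * (c : G)) := by rw [this]
        _ = (c : G) := by group

theorem s3184_of_zstar (ZS : ZStarStmt.{u})
    (hCI : ∀ S T : Sylow 2 G, S ≠ T → ∃ U : Sylow 2 G,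
      (S : Subgroup G) ⊓ (T : Subgroup G) ≤
        (Subgroup.center ↥(U : Subgroup G)).map (U : Subgroup G).subtype)
    (S : Sylow 2 G) (C : Subgroup ↥(S : Subgroup G)) (hCc : IsCyclic ↥C) (hCh : C.Characteristic)
    (c : ↥(S : Subgroup G)) (hc : c ∈ C) (hc2 : orderOf c = 2) :
    ∀ g : G, (QuotientGroup.mk (s := Cfsg.oddCore G) (g * (c : G) * g⁻¹)) =
      QuotientGroup.mk (s := Cfsg.oddCore G) (c : G) := by
  have hcG : orderOf (c : G) = 2 := (Subgroup.orderOf_coe c).trans hc2
  have hiso : ∀ g : G, g * (c : G) * g⁻¹ ∈ (S : Subgroup G) → g * (c : G) * g⁻¹ = (c : G) := by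
    intro g hg
    have := s3184_isolated hCI S C hCc hCh c hc hc2 g⁻¹ (by rw [inv_inv]; exact hg)
    rw [inv_inv] at this
    exact this
  intro g
  have h := ZS.comm_mem_oddCore S (c : G) hcG c.2 hiso g
  rw [QuotientGroup.eq]
  have hcc : (c : G) * (c : G) = 1 := by
    have := pow_orderOf_eq_one (c : G)
    rw [hcG, pow_two] at this
    exact this
  have hinv : (c : G)⁻¹ = (c : G) := inv_eq_of_mul_eq_one_right hcc
  have e : (g * (c : G) * g⁻¹)⁻¹ * (c : G) = ((c : G) * g * (c : G)⁻¹ * g⁻¹)⁻¹ := by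
    rw [hinv]
    simp only [mul_inv_rev, inv_inv, hinv]
    group
  rw [e]
  exact inv_mem h

end Cfsg.Agent.Helper99
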